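import Groth.Agent.Misc9.KrullAkizuki

/-!
# One-dimensional Noetherian domains and their overrings
-/

open IsDedekindDomain

universe u

namespace Misc9.DimOne

section general

variable (B : Type*) [CommRing B] [IsDomain B] [IsNoetherianRing B] [Ring.KrullDimLE 1 B]
variable {C : Type*} [CommRing C] [IsDomain C] [Algebra B C]
variable (K L : Type*) [Field K] [Algebra B K] [IsFractionRing B K] [Field L] [Algebra K L]
    [FiniteDimensional K L] [Algebra B L] [IsScalarTower B K L] [Algebra C L]
    [IsScalarTower B C L] [FaithfulSMul C L]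

omit [IsNoetherianRing B] [Ring.KrullDimLE 1 B] in
include B K L in
theorem exists_ne_zero_dvd {x : C} (hx : x ≠ 0) : ∃ f : B, f ≠ 0 ∧ x ∣ algebraMap B C f := by
  have h1 : IsAlgebraic K (algebraMap C L x) := IsAlgebraic.of_finite K _
  have h2 : IsAlgebraic B (algebraMap C L x) := (IsFractionRing.isAlgebraic_iff B K L).2 h1
  have h3 : IsAlgebraic B x :=
    (isAlgebraic_algebraMap_iff (FaithfulSMul.algebraMap_injective C L)).1 h2
  exact h3.exists_nonzero_dvd (mem_nonZeroDivisors_of_ne_zero hx)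

omit [IsNoetherianRing B] [Ring.KrullDimLE 1 B] in
include B K L in
theorem algebraMap_injective : Function.Injective (algebraMap B C) := by
  have hBL : Function.Injective (algebraMap B L) := by
    rw [IsScalarTower.algebraMap_eq B K L]
    exact (algebraMap K L).injective.comp (IsFractionRing.injective B K)
  rw [IsScalarTower.algebraMap_eq B C L] at hBL
  exact Function.Injective.of_comp hBL

include B K L in
theorem isNoetherianRing : IsNoetherianRing C := by
  refine isNoetherianRing_iff_ideal_fg C |>.2 fun J => ?_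
  by_cases hJ : J = ⊥
  · exact hJ ▸ Submodule.fg_bot
  obtain ⟨x, hxJ, hx⟩ := Submodule.exists_mem_ne_zero_of_ne_bot hJ
  obtain ⟨f, hf, hdvd⟩ := exists_ne_zero_dvd B K L hx
  let T : Ideal C := Ideal.span {algebraMap B C f}
  have hT : IsFiniteLength B (C ⧸ T) := KA.isFiniteLength_quotient_span K L hf
  have := (isFiniteLength_iff_isNoetherian_isArtinian.1 hT).1
  have : IsNoetherian C (C ⧸ T) := isNoetherian_of_tower B this
  have hle : T ≤ J := (Ideal.span_singleton_le_iff_mem J).2 (Ideal.mem_of_dvd J hdvd hxJ)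
  refine Submodule.fg_of_fg_map_of_fg_inf_ker T.mkQ (IsNoetherian.noetherian _) ?_
  rw [Submodule.ker_mkQ, inf_eq_right.2 hle]
  exact ⟨{algebraMap B C f}, by simp [T]⟩

omit [IsNoetherianRing B] [Ring.KrullDimLE 1 B] in
include B K L in
theorem comap_ne_bot {q : Ideal C} (hq : q ≠ ⊥) : q.comap (algebraMap B C) ≠ ⊥ := by
  obtain ⟨x, hxq, hx⟩ := Submodule.exists_mem_ne_zero_of_ne_bot hq
  obtain ⟨f, hf, hdvd⟩ := exists_ne_zero_dvd B K L hx
  exact fun h => hf (Ideal.mem_bot.1 (h ▸ Ideal.mem_comap.2 (Ideal.mem_of_dvd q hdvd hxq)))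

include B K L in
theorem isArtinianRing_quotient {q : Ideal C} (hq : q ≠ ⊥) : IsArtinianRing (C ⧸ q) := by
  obtain ⟨f, hfq, hf⟩ := Submodule.exists_mem_ne_zero_of_ne_bot (comap_ne_bot B K L hq)
  have hT := KA.isFiniteLength_quotient_span (C := C) K L hf
  have := (isFiniteLength_iff_isNoetherian_isArtinian.1 hT).2
  have : IsArtinianRing (C ⧸ Ideal.span {algebraMap B C f}) := isArtinian_of_tower B this
  exact (Ideal.Quotient.factor_surjective
    ((Ideal.span_singleton_le_iff_mem q).2 (Ideal.mem_comap.1 hfq))).isArtinianRing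

include B K L in
theorem dimensionLEOne : Ring.DimensionLEOne C := by
  refine ⟨fun {q} hq hqp => ?_⟩
  have := isArtinianRing_quotient B K L hq
  exact Ideal.Quotient.maximal_of_isField q (IsArtinianRing.isField_of_isDomain (C ⧸ q))

include B K L in
theorem finite_quotient_over {q : Ideal C} (hq : q ≠ ⊥) : Module.Finite B (C ⧸ q) := by
  obtain ⟨f, hfq, hf⟩ := Submodule.exists_mem_ne_zero_of_ne_bot (comap_ne_bot B K L hq)
  have hT := KA.isFiniteLength_quotient_span (C := C) K L hf
  have := (isFiniteLength_iff_isNoetherian_isArtinian.1 hT).1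
  let g : (C ⧸ Ideal.span {algebraMap B C f}) →ₐ[B] C ⧸ q :=
    Ideal.Quotient.factorₐ B ((Ideal.span_singleton_le_iff_mem q).2 (Ideal.mem_comap.1 hfq))
  exact Module.Finite.of_surjective g.toLinearMap fun x => by
      obtain ⟨y, rfl⟩ := Ideal.Quotient.mk_surjective x
      exact ⟨Ideal.Quotient.mk _ y, rfl⟩

include B K L in
theorem finite_primes_over {f : B} (hf : f ≠ 0) :
    {q : PrimeSpectrum C | algebraMap B C f ∈ q.asIdeal}.Finite := by
  let T : Ideal C := Ideal.span {algebraMap B C f}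
  have hT : T ≠ ⊥ := by
    simp only [ne_eq, T, Ideal.span_singleton_eq_bot]
    exact fun h => hf (algebraMap_injective (C := C) B K L (by rw [h, map_zero]))
  have := isArtinianRing_quotient B K L hT
  refine (Set.finite_range (PrimeSpectrum.comap (Ideal.Quotient.mk T))).subset fun q hq => ?_
  rw [range_comap_of_surjective _ _ Ideal.Quotient.mk_surjective, Ideal.mk_ker]
  exact fun x hx => (Ideal.span_singleton_le_iff_mem q.asIdeal).2 hq hx

end general

section semilocal

variable {B : Type*} [CommRing B] [IsDomain B]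

/-- In a one-dimensional domain with `f ≠ 0` in the Jacobson radical, `f` inverts everything. -/
theorem exists_pow_mul_mem [Ring.KrullDimLE 1 B] {K : Type*} [Field K] [Algebra B K]
    [IsFractionRing B K] {f : B} (hf : f ∈ (⊥ : Ideal B).jacobson) (z : K) :
    ∃ n : ℕ, algebraMap B K f ^ n * z ∈ (algebraMap B K).range := by
  obtain ⟨⟨y, g⟩, hz⟩ := IsLocalization.surj (nonZeroDivisors B) z
  have hfg : f ∈ (Ideal.span {(g : B)}).radical := by
    rw [Ideal.radical_eq_sInf, Ideal.mem_sInf]
    rintro q ⟨hgq, hq⟩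
    have hqb : q ≠ ⊥ := fun h =>
      nonZeroDivisors.ne_zero g.2 (Ideal.mem_bot.1 (h ▸ hgq (Ideal.mem_span_singleton_self _)))
    have hmax := Ring.krullDimLE_one_iff_of_noZeroDivisors.1 inferInstance q hqb hq
    exact (Ideal.mem_sInf.1 hf) ⟨bot_le, hmax⟩
  obtain ⟨n, hn⟩ := hfg
  obtain ⟨c, hc⟩ := Ideal.mem_span_singleton.1 hn
  refine ⟨n, c * y, ?_⟩
  rw [map_mul, ← hz, ← map_pow, hc, map_mul]
  ring

/-- A semilocal domain which is not a field has a nonzero element in its Jacobson radical. -/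
theorem exists_ne_zero_mem_jacobson (hfin : Finite (MaximalSpectrum B)) (hB : ¬ IsField B) :
    ∃ f : B, f ≠ 0 ∧ f ∈ (⊥ : Ideal B).jacobson := by
  have := Fintype.ofFinite (MaximalSpectrum B)
  choose t ht ht0 using fun m : MaximalSpectrum B =>
    Submodule.exists_mem_ne_zero_of_ne_bot (Ring.ne_bot_of_isMaximal_of_not_isField m.isMaximal hB)
  refine ⟨∏ m, t m, Finset.prod_ne_zero_iff.2 fun m _ => ht0 m, Ideal.mem_sInf.2 fun m hm => ?_⟩
  exact Ideal.mem_of_dvd m (Finset.dvd_prod_of_mem t (Finset.mem_univ ⟨m, hm.2⟩)) (ht ⟨m, hm.2⟩)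

theorem not_isField {B : Type*} [CommRing B] (hdim : ringKrullDim B = 1) : ¬ IsField B := fun h => by
  rw [ringKrullDim_eq_zero_of_isField h] at hdim
  exact zero_ne_one hdim

theorem krullDimLE {B : Type*} [CommRing B] (hdim : ringKrullDim B = 1) : Ring.KrullDimLE 1 B :=
  Ring.krullDimLE_iff.2 hdim.le

end semilocal

section integralClosure

variable (B K : Type*) [CommRing B] [IsDomain B] [Field K] [Algebra B K] [IsFractionRing B K]

theorem isFractionRing_intClosure : IsFractionRing (integralClosure B K) K :=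
  integralClosure.isFractionRing_of_finite_extension K K

theorem isDedekindDomain_intClosure [IsNoetherianRing B] [Ring.KrullDimLE 1 B] :
    IsDedekindDomain (integralClosure B K) := by
  have := isFractionRing_intClosure B K
  have h1 : IsNoetherianRing (integralClosure B K) := isNoetherianRing B K K
  have h2 := dimensionLEOne (C := integralClosure B K) B K K
  have h3 : IsIntegrallyClosed (integralClosure B K) :=
    integralClosure.isIntegrallyClosedOfFiniteExtension K
  exact (isDedekindDomain_iff _ K).2 ⟨inferInstance, h1, h2, fun {x} hx =>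
    (isIntegrallyClosed_iff K).1 h3 hx⟩

theorem finite_maximalSpectrum_intClosure [IsNoetherianRing B] [Ring.KrullDimLE 1 B]
    (hfin : Finite (MaximalSpectrum B)) (hB : ¬ IsField B) :
    Finite (MaximalSpectrum (integralClosure B K)) := by
  obtain ⟨f, hf0, hf⟩ := exists_ne_zero_mem_jacobson hfin hB
  have hS := finite_primes_over (C := integralClosure B K) B K K hf0
  have := hS.to_subtype
  refine Finite.of_injective (fun m : MaximalSpectrum (integralClosure B K) =>
    (⟨m.toPrimeSpectrum, ?_⟩ : {q : PrimeSpectrum (integralClosure B K) |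
      algebraMap B (integralClosure B K) f ∈ q.asIdeal}))
    (fun x y h => MaximalSpectrum.toPrimeSpectrum_injective (congrArg Subtype.val h))
  have := m.isMaximal
  exact Ideal.mem_comap.1 ((Ideal.mem_sInf.1 hf) ⟨bot_le,
    Ideal.isMaximal_comap_of_isIntegral_of_isMaximal (R := B) m.asIdeal⟩)

/-- If `x` lies in the Jacobson radical of the integral closure, then high powers of `x` carry any
integral element into `B`. -/
theorem exists_pow_mul_mem_range [IsNoetherianRing B] [Ring.KrullDimLE 1 B]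
    (x y : integralClosure B K) (hx : x ∈ (⊥ : Ideal (integralClosure B K)).jacobson) :
    ∃ n : ℕ, (x ^ n * y : integralClosure B K).1 ∈ (algebraMap B K).range := by
  classical
  let C' : Subalgebra B K := Algebra.adjoin B {x.1, y.1}
  have hle : C' ≤ integralClosure B K := Algebra.adjoin_le (by
    rintro z (rfl | rfl)
    exacts [x.2, y.2])
  have hfg : C'.toSubmodule.FG :=
    fg_adjoin_of_finite (Set.toFinite _) (by rintro z (rfl | rfl); exacts [x.2, y.2])
  have : IsFractionRing C' K := by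
    refine IsFractionRing.of_field C' K fun z => ?_
    obtain ⟨a, b, -, rfl⟩ := IsFractionRing.div_surjective (A := B) z
    exact ⟨algebraMap B C' a, algebraMap B C' b, rfl⟩
  have := dimensionLEOne (C := C') B K K
  let x' : C' := ⟨x.1, Algebra.subset_adjoin (by simp)⟩
  have hx' : x' ∈ (⊥ : Ideal C').jacobson := Ideal.mem_sInf.2 fun m ⟨_, hm⟩ => by
    let _ : Algebra C' (integralClosure B K) := (Subalgebra.inclusion hle).toRingHom.toAlgebra
    have : IsScalarTower B C' (integralClosure B K) := IsScalarTower.of_algebraMap_eq fun _ => rfl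
    have : Algebra.IsIntegral C' (integralClosure B K) := Algebra.IsIntegral.tower_top B
    have : FaithfulSMul C' (integralClosure B K) :=
      (faithfulSMul_iff_algebraMap_injective _ _).2 (Subalgebra.inclusion_injective hle)
    obtain ⟨Q, hQ, hlies⟩ := Ideal.exists_maximal_ideal_liesOver_of_isIntegral (S := integralClosure B K) m
    rw [hlies.over]
    exact (Ideal.mem_sInf.1 hx) ⟨bot_le, hQ⟩
  obtain ⟨s, hs⟩ := hfg
  obtain ⟨⟨g, hg⟩, hgs⟩ := IsLocalization.exist_integer_multiples_of_finset (nonZeroDivisors B) s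
  have hcond : ∀ z ∈ C', algebraMap B K g * z ∈ (algebraMap B K).range := by
    intro z hz
    have hle' : Submodule.span B (s : Set K) ≤
        (LinearMap.range (Algebra.linearMap B K)).comap (LinearMap.mulLeft B (algebraMap B K g)) := by
      rw [Submodule.span_le]
      intro a ha
      obtain ⟨b, hb⟩ := hgs a ha
      exact ⟨b, hb.trans (Algebra.smul_def (g : B) a)⟩
    obtain ⟨b, hb⟩ := hle' (hs ▸ hz : z ∈ Submodule.span B (s : Set K))
    exact ⟨b, hb⟩
  obtain ⟨n, c, hc⟩ := exists_pow_mul_mem (K := K) hx' ((algebraMap B K g)⁻¹)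
  refine ⟨n, ?_⟩
  have hg0 : algebraMap B K g ≠ 0 := fun h =>
    nonZeroDivisors.ne_zero hg (IsFractionRing.injective B K (by rw [h, map_zero]))
  have := hcond _ (C'.mul_mem c.2 (Algebra.subset_adjoin (show y.1 ∈ ({x.1, y.1} : Set K) by simp)))
  convert this using 1
  rw [show (c : K) = x.1 ^ n * (algebraMap B K g)⁻¹ from hc]
  rw [Subalgebra.coe_mul, Subalgebra.coe_pow]
  field_simp

end integralClosure

section valuations

variable {K : Type u} [Field K]

/-- The non-trivial valuations of a one-dimensional semilocal Noetherian ring with fraction field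
`K`: finitely many, and they detect a Jacobson radical. -/
theorem exists_valuations (B : Subring K) [IsNoetherianRing B] [IsFractionRing B K]
    (hdim : ringKrullDim B = 1) (hfin : Finite (MaximalSpectrum B)) :
    ∃ (ι : Type u) (_ : Finite ι) (v : ι → Valuation K (WithZero (Multiplicative ℤ))),
      (∀ i, ∀ b ∈ B, v i b ≤ 1) ∧ (∀ i, ∃ z, 1 < v i z) ∧
      ∀ z : K, (∀ i, v i z < 1) → ∃ (n : ℕ) (h : z ^ (n + 1) ∈ B),
        (⟨z ^ (n + 1), h⟩ : B) ∈ (⊥ : Ideal B).jacobson := by
  have := krullDimLE hdim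
  have hB := not_isField hdim
  let C := integralClosure B K
  have := isFractionRing_intClosure B K
  have := isDedekindDomain_intClosure B K
  have := finite_maximalSpectrum_intClosure B K hfin hB
  have : Algebra.IsIntegral B C := IsIntegralClosure.isIntegral_algebra B K
  have hinjBC : Function.Injective (algebraMap B C) := algebraMap_injective (C := C) B K K
  have hC : ¬ IsField C := fun h => hB (isField_of_isIntegral_of_isField hinjBC h)
  refine ⟨HeightOneSpectrum C, Finite.of_injective (fun P : HeightOneSpectrum C =>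
      (⟨P.asIdeal, P.isMaximal⟩ : MaximalSpectrum C)) fun P Q h =>
        HeightOneSpectrum.ext (congrArg MaximalSpectrum.asIdeal h),
    fun P => P.valuation K, fun P b hb => P.valuation_le_one (algebraMap B C ⟨b, hb⟩), fun P => ?_, ?_⟩
  · obtain ⟨r, hr, hr0⟩ := Submodule.exists_mem_ne_zero_of_ne_bot P.ne_bot
    refine ⟨(algebraMap C K r)⁻¹, ?_⟩
    rw [map_inv₀, one_lt_inv₀ ((Valuation.pos_iff _).2 (fun h => hr0 (IsFractionRing.injective C K (by rw [h, map_zero]))))]
    exact (P.valuation_lt_one_iff_mem r).2 hr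
  · intro z hz
    obtain ⟨c, rfl⟩ := HeightOneSpectrum.mem_integers_of_valuation_le_one K z fun P => (hz P).le
    have hc : c ∈ (⊥ : Ideal C).jacobson := Ideal.mem_sInf.2 fun m ⟨_, hm⟩ =>
      let P : HeightOneSpectrum C :=
        ⟨m, hm.isPrime, Ring.ne_bot_of_isMaximal_of_not_isField hm hC⟩
      (P.valuation_lt_one_iff_mem c).1 (hz P)
    obtain ⟨n, ⟨b, hb⟩⟩ := exists_pow_mul_mem_range B K c c hc
    have hb' : (b : K) = (c : K) ^ (n + 1) := by rw [pow_succ]; exact hb
    have hmem : algebraMap C K c ^ (n + 1) ∈ B := (hb' ▸ b.2 : (c : K) ^ (n + 1) ∈ B)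
    refine ⟨n, hmem, Ideal.mem_sInf.2 fun m ⟨_, hm⟩ => ?_⟩
    have : FaithfulSMul B C := (faithfulSMul_iff_algebraMap_injective _ _).2 hinjBC
    obtain ⟨Q, hQ, hlies⟩ := Ideal.exists_maximal_ideal_liesOver_of_isIntegral (S := C) m
    rw [hlies.over, Ideal.mem_comap]
    have : algebraMap B C ⟨algebraMap C K c ^ (n + 1), hmem⟩ = c ^ (n + 1) := Subtype.ext rfl
    rw [this]
    exact Ideal.pow_mem_of_mem _ ((Ideal.mem_sInf.1 hc) ⟨bot_le, hQ⟩) _ n.succ_pos

/-- A common element with poles at finitely many discrete valuations. -/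
theorem exists_one_lt {ι : Type*} [Finite ι] (A : Subring K)
    (v : ι → Valuation K (WithZero (Multiplicative ℤ))) (h : ∀ i, ∃ a ∈ A, 1 < v i a) :
    ∃ x ∈ A, x ≠ 0 ∧ ∀ i, 1 < v i x := by
  classical
  have := Fintype.ofFinite ι
  suffices ∀ S : Finset ι, ∃ x ∈ A, x ≠ 0 ∧ ∀ i ∈ S, 1 < v i x by
    obtain ⟨x, h1, h2, h3⟩ := this Finset.univ
    exact ⟨x, h1, h2, fun i => h3 i (Finset.mem_univ i)⟩
  intro S
  induction S using Finset.induction with
  | empty => exact ⟨1, A.one_mem, one_ne_zero, by simp⟩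
  | insert k S hk ih =>
    obtain ⟨x, hx, hx0, hxS⟩ := ih
    by_cases hxk : 1 < v k x
    · exact ⟨x, hx, hx0, fun i hi => (Finset.mem_insert.1 hi).elim (fun e => e ▸ hxk) (hxS i)⟩
    obtain ⟨a, ha, hak⟩ := h k
    have : ∀ i, ∃ N : ℕ, ∀ M, N ≤ M → i ∈ S → v i a < v i (x ^ M) := fun i => by
      by_cases hi : i ∈ S
      · obtain ⟨N, hN⟩ := MulArchimedean.arch (v i a) (hxS i hi)
        refine ⟨N + 1, fun M hM _ => ?_⟩
        rw [map_pow]
        exact hN.trans_lt (pow_lt_pow_right₀ (hxS i hi) hM)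
      · exact ⟨0, fun M _ h => absurd h hi⟩
    choose N hN using this
    let M := ∑ i, N i + 1
    have key : ∀ i ∈ insert k S, 1 < v i (x ^ M + a) := by
      intro i hi
      rcases Finset.mem_insert.1 hi with rfl | hi
      · have : v i (x ^ M) < v i a := lt_of_le_of_lt
          (by rw [map_pow]; exact pow_le_one₀ zero_le (not_lt.1 hxk)) hak
        rw [(v i).map_add_eq_of_lt_right this]
        exact hak
      · have h1 := hN i M ((Finset.single_le_sum (fun j _ => Nat.zero_le (N j)) (Finset.mem_univ i)).trans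
          (Nat.le_succ _)) hi
        rw [(v i).map_add_eq_of_lt_left h1, map_pow]
        exact one_lt_pow₀ (hxS i hi) (Nat.succ_ne_zero _)
    refine ⟨x ^ M + a, A.add_mem (A.pow_mem hx _) ha, fun h0 => ?_, key⟩
    have := key k (Finset.mem_insert_self k S)
    rw [h0, map_zero] at this
    exact not_lt_zero this

/-- `A ⊔ B = ⊤` gives an element of `A` with a pole at every valuation of `B`. -/
theorem exists_mem_one_lt {A B : Subring K} (hgen : A ⊔ B = ⊤)
    (v : Valuation K (WithZero (Multiplicative ℤ))) (hB : ∀ b ∈ B, v b ≤ 1) (hv : ∃ z, 1 < v z) :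
    ∃ a ∈ A, 1 < v a := by
  by_contra! h
  obtain ⟨z, hz⟩ := hv
  have : A ⊔ B ≤ v.integer := sup_le (fun a ha => h a ha) (fun b hb => hB b hb)
  rw [hgen] at this
  exact not_le.2 hz (this (Subring.mem_top z))

/-- Some element of `A` has inverse in the Jacobson radical of all the `B i`. -/
theorem exists_inv_mem_jacobson {ι : Type*} [Finite ι] (A : Subring K) (B : ι → Subring K)
    [∀ i, IsNoetherianRing (B i)] [∀ i, IsFractionRing (B i) K]
    (hdim : ∀ i, ringKrullDim (B i) = 1) (hfin : ∀ i, Finite (MaximalSpectrum (B i)))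
    (hgen : ∀ i, A ⊔ B i = ⊤) :
    ∃ x : K, x ∈ A ∧ x ≠ 0 ∧
      ∀ i, ∃ hx : x⁻¹ ∈ B i, (⟨x⁻¹, hx⟩ : B i) ∈ (⊥ : Ideal (B i)).jacobson := by
  choose κ hκ v hv1 hv2 hv3 using fun i => exists_valuations (B i) (hdim i) (hfin i)
  obtain ⟨x, hxA, hx0, hx⟩ := exists_one_lt A (fun p : Σ i, κ i => v p.1 p.2)
    fun p => exists_mem_one_lt (hgen p.1) _ (hv1 p.1 p.2) (hv2 p.1 p.2)
  choose n hn hnj using fun i => hv3 i x⁻¹ fun j => by
    rw [map_inv₀]
    exact inv_lt_one_of_one_lt₀ (hx ⟨i, j⟩)
  have := Fintype.ofFinite ι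
  let N := ∏ i, (n i + 1)
  refine ⟨x ^ N, A.pow_mem hxA _, pow_ne_zero _ hx0, fun i => ?_⟩
  obtain ⟨k, hk⟩ : (n i + 1) ∣ N := Finset.dvd_prod_of_mem _ (Finset.mem_univ i)
  have hk0 : 0 < k := by
    rcases Nat.eq_zero_or_pos k with rfl | h
    · simp [N, Finset.prod_eq_zero_iff] at hk
    · exact h
  have he : (x ^ N)⁻¹ = (x⁻¹ ^ (n i + 1)) ^ k := by rw [← pow_mul, ← hk, inv_pow]
  refine ⟨he ▸ (B i).pow_mem (hn i) k, ?_⟩
  have : (⟨(x ^ N)⁻¹, he ▸ (B i).pow_mem (hn i) k⟩ : B i) = ⟨_, hn i⟩ ^ k := Subtype.ext he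
  rw [this]
  exact Ideal.pow_mem_of_mem _ (hnj i) _ hk0

end valuations

end Misc9.DimOne
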