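import Groth.Agent.Misc9.DimOne

/-!
# Gluing semilocal one-dimensional subrings of a field
-/

open CategoryTheory AlgebraicGeometry IsDedekindDomain

universe u

namespace Misc9.DimOne

variable {K : Type u} [Field K]

/-- A unit of `A` in the Jacobson radicals of the `B i`. -/
theorem exists_unit_mem_jacobson {ι : Type*} [Finite ι] (A : Subring K) [IsNoetherianRing A]
    [IsFractionRing A K] (hdimA : ringKrullDim A = 1) (hfinA : Finite (MaximalSpectrum A))
    (B : ι → Subring K) [∀ i, IsNoetherianRing (B i)] [∀ i, IsFractionRing (B i) K]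
    (hdim : ∀ i, ringKrullDim (B i) = 1) (hfin : ∀ i, Finite (MaximalSpectrum (B i)))
    (hgen : ∀ i, A ⊔ B i = ⊤) :
    ∃ w : K, w ≠ 0 ∧ w ∈ A ∧ w⁻¹ ∈ A ∧
      ∀ i, ∃ h : w ∈ B i, (⟨w, h⟩ : B i) ∈ (⊥ : Ideal (B i)).jacobson := by
  have := Fintype.ofFinite ι
  obtain ⟨x, hxA, hx0, hx⟩ := exists_inv_mem_jacobson A B hdim hfin hgen
  choose hxB hxJ using hx
  obtain ⟨g, hg0, hgJ⟩ := exists_ne_zero_mem_jacobson hfinA (not_isField hdimA)
  have key : ∀ i, ∃ n : ℕ, (x⁻¹) ^ n * (g : K)⁻¹ ∈ B i := fun i => by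
    have := krullDimLE (hdim i)
    obtain ⟨n, ⟨b, hb⟩⟩ := exists_pow_mul_mem (K := K) (hxJ i) ((g : K)⁻¹)
    have hb' : (b : K) = x⁻¹ ^ n * (g : K)⁻¹ := hb
    exact ⟨n, hb' ▸ b.2⟩
  choose n hn using key
  let N := ∑ i, n i + 1
  have hgK : (g : K) ≠ 0 := fun h => hg0 (Subtype.ext h)
  have hg' : (⟨(g : K) * x ^ N, A.mul_mem g.2 (A.pow_mem hxA N)⟩ : A) ∈ (⊥ : Ideal A).jacobson := by
    have : (⟨(g : K) * x ^ N, A.mul_mem g.2 (A.pow_mem hxA N)⟩ : A) = g * ⟨x, hxA⟩ ^ N := Subtype.ext rfl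
    rw [this]
    exact Ideal.mul_mem_right _ _ hgJ
  obtain ⟨v, hv⟩ := Ideal.mem_jacobson_bot.1 hg' 1
  have hv' : ((v : A) : K) = (g : K) * x ^ N + 1 := by rw [hv]; simp
  have hvinv : (((v⁻¹ : Aˣ) : A) : K) = ((v : A) : K)⁻¹ := by
    refine eq_inv_of_mul_eq_one_left ?_
    exact congrArg Subtype.val v.inv_mul
  have hv0 : ((v : A) : K) ≠ 0 := fun h => v.ne_zero (Subtype.ext h)
  refine ⟨((v : A) : K)⁻¹, inv_ne_zero hv0, hvinv ▸ (v⁻¹ : Aˣ).1.2, by rw [inv_inv]; exact (v : A).2, fun i => ?_⟩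
  obtain ⟨k, hk⟩ := Nat.exists_eq_add_of_le
    (Finset.single_le_sum (fun j _ => Nat.zero_le (n j)) (Finset.mem_univ i))
  -- `y = (g x ^ N)⁻¹` lies in the Jacobson radical of `B i`
  let y : B i := ⟨x⁻¹, hxB i⟩ ^ (k + 1) * ⟨_, hn i⟩
  have hy : y ∈ (⊥ : Ideal (B i)).jacobson :=
    Ideal.mul_mem_right _ _ (Ideal.pow_mem_of_mem _ (hxJ i) _ k.succ_pos)
  have hyK : (y : K) = ((g : K) * x ^ N)⁻¹ := by
    change x⁻¹ ^ (k + 1) * (x⁻¹ ^ n i * (g : K)⁻¹) = _
    simp only [N]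
    rw [hk, add_assoc, pow_add x (n i), mul_inv, mul_inv, inv_pow, inv_pow]
    ring
  obtain ⟨u, hu⟩ := Ideal.mem_jacobson_bot.1 hy 1
  have hmem : ((v : A) : K)⁻¹ = ((y * (u⁻¹ : (B i)ˣ) : B i) : K) := by
    have h1 : ((u : B i) : K) * (((u⁻¹ : (B i)ˣ) : B i) : K) = 1 := congrArg Subtype.val u.mul_inv
    have h2 : ((u : B i) : K) = (y : K) + 1 := by rw [hu]; simp
    have hgx : (g : K) * x ^ N ≠ 0 := mul_ne_zero hgK (pow_ne_zero _ hx0)
    refine inv_eq_of_mul_eq_one_right ?_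
    rw [Subring.coe_mul, ← h1, h2, hv', hyK]
    field_simp
    ring
  refine ⟨hmem ▸ (y * (u⁻¹ : (B i)ˣ) : B i).2, ?_⟩
  rw [show (⟨((v : A) : K)⁻¹, hmem ▸ (y * (u⁻¹ : (B i)ˣ) : B i).2⟩ : B i) = y * (u⁻¹ : (B i)ˣ) from
    Subtype.ext hmem]
  exact Ideal.mul_mem_right _ _ hy

/-- The data making `A` the localization of `R` at `s`. -/
structure IsAway (R A : Subring K) (s : K) : Prop where
  le : R ≤ A
  mem : s ∈ R
  inv_mem : s⁻¹ ∈ A
  ne_zero : s ≠ 0
  clear : ∀ a ∈ A, ∃ n : ℕ, s ^ n * a ∈ R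

theorem IsAway.isLocalization {R A : Subring K} {s : K} (h : IsAway R A s) :
    letI := (Subring.inclusion h.le).toAlgebra
    IsLocalization.Away (⟨s, h.mem⟩ : R) A := by
  let _ := (Subring.inclusion h.le).toAlgebra
  refine IsLocalization.Away.mk _ ?_ ?_ ?_
  · exact .of_mul_eq_one (a := (⟨s, h.le h.mem⟩ : A)) ⟨s⁻¹, h.inv_mem⟩ (Subtype.ext (mul_inv_cancel₀ h.ne_zero))
  · intro a
    obtain ⟨n, hn⟩ := h.clear a a.2
    exact ⟨n, ⟨_, hn⟩, Subtype.ext (mul_comm _ _)⟩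
  · intro a b hab
    exact ⟨0, by rw [pow_zero, one_mul, one_mul]; exact Subtype.ext (show (a : K) = b from congrArg (fun z : A => (z : K)) hab)⟩

theorem IsAway.isOpenImmersion {R A : Subring K} {s : K} (h : IsAway R A s) (hle : R ≤ A) :
    IsOpenImmersion (Spec.map (CommRingCat.ofHom (Subring.inclusion hle))) := by
  let _ := (Subring.inclusion hle).toAlgebra
  have := h.isLocalization
  exact IsOpenImmersion.of_isLocalization (S := A) (⟨s, h.mem⟩ : R)

theorem IsAway.range_eq {R A : Subring K} {s : K} (h : IsAway R A s) (hle : R ≤ A) :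
    Set.range (Spec.map (CommRingCat.ofHom (Subring.inclusion hle))).base =
      {p : PrimeSpectrum R | (⟨s, h.mem⟩ : R) ∉ p.asIdeal} := by
  let _ := (Subring.inclusion hle).toAlgebra
  have := h.isLocalization
  exact PrimeSpectrum.localization_away_comap_range A (⟨s, h.mem⟩ : R)

theorem IsAway.isPushout {R A B : Subring K} {s : K} [IsFractionRing B K] (hB : ringKrullDim B = 1)
    (h : IsAway R A s) (hA : R ≤ A) (hRB : R ≤ B) (hs : (⟨s, hRB h.mem⟩ : B) ∈ (⊥ : Ideal B).jacobson) :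
    IsPushout (CommRingCat.ofHom (Subring.inclusion hA)) (CommRingCat.ofHom (Subring.inclusion hRB))
      (CommRingCat.ofHom A.subtype) (CommRingCat.ofHom B.subtype) := by
  let _ := (Subring.inclusion hA).toAlgebra
  have := h.isLocalization
  have := krullDimLE hB
  have : IsLocalization ((Submonoid.powers (⟨s, h.mem⟩ : R)).map (Subring.inclusion hRB)) K := by
    rw [Submonoid.map_powers]
    refine IsLocalization.Away.mk _ ?_ ?_ ?_
    · exact isUnit_iff_ne_zero.2 h.ne_zero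
    · intro z
      obtain ⟨n, b, hb⟩ := exists_pow_mul_mem (K := K) hs z
      exact ⟨n, b, by rw [mul_comm]; exact hb.symm⟩
    · intro a b hab
      exact ⟨0, by rw [pow_zero, one_mul, one_mul]; exact IsFractionRing.injective B K hab⟩
  exact (CommRingCat.isPushout_of_isLocalization (Subring.inclusion hRB) A.subtype (RingHom.ext fun _ => rfl)
    (Submonoid.powers (⟨s, h.mem⟩ : R))).flip

/-- Clearing denominators: a unit of `A` in the Jacobson radicals of the `B j` conjugates `A` into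
the intersection. -/
theorem exists_clear {ι : Type*} [Finite ι] (B : ι → Subring K) [∀ i, IsFractionRing (B i) K]
    (hdim : ∀ i, ringKrullDim (B i) = 1) (s : K)
    (hs : ∀ i, ∃ h : s ∈ B i, (⟨s, h⟩ : B i) ∈ (⊥ : Ideal (B i)).jacobson) (a : K) :
    ∃ n : ℕ, ∀ i, s ^ n * a ∈ B i := by
  have := Fintype.ofFinite ι
  choose hsB hsJ using hs
  have key : ∀ i, ∃ n : ℕ, s ^ n * a ∈ B i := fun i => by
    have := krullDimLE (hdim i)
    obtain ⟨n, b, hb⟩ := exists_pow_mul_mem (K := K) (hsJ i) a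
    have hb' : (b : K) = s ^ n * a := hb
    exact ⟨n, hb' ▸ b.2⟩
  choose n hn using key
  refine ⟨∑ i, n i, fun i => ?_⟩
  obtain ⟨k, hk⟩ := Nat.exists_eq_add_of_le
    (Finset.single_le_sum (fun j _ => Nat.zero_le (n j)) (Finset.mem_univ i))
  rw [hk, add_comm, pow_add, mul_assoc]
  exact (B i).mul_mem ((B i).pow_mem (hsB i) k) (hn i)

end Misc9.DimOne
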