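import Groth.Agent.Misc9.DimOneReduced
import Groth.Prelude.Def_Brnch
import Groth.Prelude.Def_Curv2

/-!
# Geometric branches and the delta invariant
-/

universe u

namespace Misc9.Branches

variable {A : Type u} [CommRing A] [IsLocalRing A] {C : Type u} [CommRing C] [Algebra A C] [Module.Finite A C]

theorem algebraMap_mem {a : A} (ha : a ∈ IsLocalRing.maximalIdeal A) (m : MaximalSpectrum C) :
    algebraMap A C a ∈ m.asIdeal := by
  have := m.isMaximal
  exact Ideal.mem_comap.1 ((IsLocalRing.eq_maximalIdeal
    (Ideal.isMaximal_comap_of_isIntegral_of_isMaximal (R := A) m.asIdeal)).symm ▸ ha)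

theorem one_le_length (m : MaximalSpectrum C) : 1 ≤ Module.length A (C ⧸ m.asIdeal) := by
  have := m.isMaximal
  have : Nontrivial (C ⧸ m.asIdeal) := Ideal.Quotient.nontrivial_iff.2 m.isMaximal.ne_top
  exact Order.one_le_iff_pos.2 Module.length_pos

theorem surjective_of_length_eq_one (m : MaximalSpectrum C) (h : Module.length A (C ⧸ m.asIdeal) = 1) :
    Function.Surjective (algebraMap A (C ⧸ m.asIdeal)) := by
  have : IsSimpleModule A (C ⧸ m.asIdeal) := Module.length_eq_one_iff.1 h
  have : Nontrivial (C ⧸ m.asIdeal) := Ideal.Quotient.nontrivial_iff.2 m.isMaximal.ne_top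
  have h1 : LinearMap.range (Algebra.linearMap A (C ⧸ m.asIdeal)) = ⊤ := by
    refine (eq_bot_or_eq_top _).resolve_left fun h0 => ?_
    have : algebraMap A (C ⧸ m.asIdeal) 1 ∈ (⊥ : Submodule A (C ⧸ m.asIdeal)) := h0 ▸ ⟨1, rfl⟩
    rw [map_one, Submodule.mem_bot] at this
    exact one_ne_zero this
  exact LinearMap.range_eq_top.1 h1

variable [Finite (MaximalSpectrum C)]

/-- The natural map to the product of the residue fields. -/
def toResidues : C →ₗ[A] ∀ m : MaximalSpectrum C, C ⧸ m.asIdeal :=
  LinearMap.pi fun m => (Ideal.Quotient.mkₐ A m.asIdeal).toLinearMap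

theorem toResidues_surjective : Function.Surjective (toResidues (A := A) (C := C)) := by
  intro y
  obtain ⟨x, hx⟩ := Ideal.pi_quotient_surjective (I := fun m : MaximalSpectrum C => m.asIdeal)
    (fun i j hij => Ideal.isCoprime_iff_sup_eq.2
      (i.isMaximal.coprime_of_ne j.isMaximal fun e => hij (MaximalSpectrum.ext e))) y
  exact ⟨x, funext hx⟩

/-- The sum of the residue degrees is at most the colength of `A` plus one. -/
theorem length_residues_le :
    Module.length A (∀ m : MaximalSpectrum C, C ⧸ m.asIdeal) ≤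
      Module.length A (C ⧸ LinearMap.range (Algebra.linearMap A C)) + 1 := by
  let T := LinearMap.range (Algebra.linearMap A C)
  let Φ := toResidues (A := A) (C := C)
  rw [Module.length_eq_add_of_exact (T.map Φ).subtype (T.map Φ).mkQ (Submodule.subtype_injective _)
    (Submodule.mkQ_surjective _) (LinearMap.exact_subtype_mkQ _), add_comm]
  refine add_le_add ?_ ?_
  · refine Module.length_le_of_surjective (T.mapQ (T.map Φ) Φ (Submodule.le_comap_map _ _)) fun z => ?_
    obtain ⟨y, rfl⟩ := Submodule.mkQ_surjective _ z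
    obtain ⟨x, rfl⟩ := toResidues_surjective (A := A) y
    exact ⟨Submodule.Quotient.mk x, rfl⟩
  · let g : (A ⧸ IsLocalRing.maximalIdeal A) →ₗ[A] T.map Φ :=
      (IsLocalRing.maximalIdeal A).liftQ
        ((Φ.comp (Algebra.linearMap A C)).codRestrict (T.map Φ) fun a => ⟨_, ⟨a, rfl⟩, rfl⟩) fun a ha => by
          refine Subtype.ext (funext fun m => ?_)
          exact Ideal.Quotient.eq_zero_iff_mem.2 (algebraMap_mem ha m)
    have hg : Function.Surjective g := by
      rintro ⟨_, _, ⟨a, rfl⟩, rfl⟩
      exact ⟨Submodule.Quotient.mk a, rfl⟩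
    refine (Module.length_le_of_surjective g hg).trans (le_of_eq ?_)
    rw [Module.length_eq_one_iff, isSimpleModule_iff_isCoatom]
    exact Ideal.isMaximal_def.1 (IsLocalRing.maximalIdeal.isMaximal A)

/-- If the sum of the residue degrees attains the bound, every element congruent to `A` modulo all
maximal ideals lies in `A`. -/
theorem mem_range_of_length_eq
    (hfin : Module.length A (C ⧸ LinearMap.range (Algebra.linearMap A C)) ≠ ⊤)
    (h : Module.length A (C ⧸ LinearMap.range (Algebra.linearMap A C)) + 1 ≤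
      Module.length A (∀ m : MaximalSpectrum C, C ⧸ m.asIdeal))
    {x : C} (hx : ∀ m : MaximalSpectrum C, x ∈ m.asIdeal) : x ∈ (algebraMap A C).range := by
  let T := LinearMap.range (Algebra.linearMap A C)
  let Φ := toResidues (A := A) (C := C)
  let q := T.mapQ (T.map Φ) Φ (Submodule.le_comap_map _ _)
  have hq : Function.Surjective q := fun z => by
    obtain ⟨y, rfl⟩ := Submodule.mkQ_surjective _ z
    obtain ⟨x, rfl⟩ := toResidues_surjective (A := A) y
    exact ⟨Submodule.Quotient.mk x, rfl⟩
  have hle : Module.length A (T.map Φ) ≤ 1 := by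
    let g : (A ⧸ IsLocalRing.maximalIdeal A) →ₗ[A] T.map Φ :=
      (IsLocalRing.maximalIdeal A).liftQ
        ((Φ.comp (Algebra.linearMap A C)).codRestrict (T.map Φ) fun a => ⟨_, ⟨a, rfl⟩, rfl⟩) fun a ha => by
          refine Subtype.ext (funext fun m => ?_)
          exact Ideal.Quotient.eq_zero_iff_mem.2 (algebraMap_mem ha m)
    refine (Module.length_le_of_surjective g ?_).trans (le_of_eq ?_)
    · rintro ⟨_, _, ⟨a, rfl⟩, rfl⟩
      exact ⟨Submodule.Quotient.mk a, rfl⟩
    · rw [Module.length_eq_one_iff, isSimpleModule_iff_isCoatom]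
      exact Ideal.isMaximal_def.1 (IsLocalRing.maximalIdeal.isMaximal A)
  have hk : Module.length A (LinearMap.ker q) = 0 := by
    have e1 := Module.length_eq_add_of_exact (LinearMap.ker q).subtype q (Submodule.subtype_injective _) hq
      (LinearMap.exact_subtype_ker_map q)
    rw [Module.length_eq_add_of_exact (T.map Φ).subtype (T.map Φ).mkQ (Submodule.subtype_injective _)
      (Submodule.mkQ_surjective _) (LinearMap.exact_subtype_mkQ _)] at h
    have h' := h.trans (add_le_add hle le_rfl)
    rw [add_comm (1 : ℕ∞)] at h'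
    have h'' := (ENat.add_le_add_iff_right ENat.one_ne_top).1 h'
    rw [e1] at h''
    have hQ : Module.length A ((∀ m : MaximalSpectrum C, C ⧸ m.asIdeal) ⧸ T.map Φ) ≠ ⊤ :=
      ne_top_of_le_ne_top hfin (Module.length_le_of_surjective q hq)
    have h3 : Module.length A (LinearMap.ker q) + Module.length A ((∀ m : MaximalSpectrum C, C ⧸ m.asIdeal) ⧸ T.map Φ) ≤
        0 + Module.length A ((∀ m : MaximalSpectrum C, C ⧸ m.asIdeal) ⧸ T.map Φ) := by
      rw [zero_add]; exact h''
    exact nonpos_iff_eq_zero.1 ((ENat.add_le_add_iff_right hQ).1 h3)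
  have := Module.length_eq_zero_iff.1 hk
  have hmem : (Submodule.Quotient.mk x : C ⧸ T) ∈ LinearMap.ker q := by
    refine LinearMap.mem_ker.2 ((Submodule.Quotient.mk_eq_zero _).2 ?_)
    have : Φ x = 0 := funext fun m => Ideal.Quotient.eq_zero_iff_mem.2 (hx m)
    rw [this]
    exact Submodule.zero_mem _
  have h0 : (Submodule.Quotient.mk x : C ⧸ T) = 0 :=
    congrArg Subtype.val (Subsingleton.elim (⟨_, hmem⟩ : LinearMap.ker q) 0)
  exact (Submodule.Quotient.mk_eq_zero _).1 h0

/-- Embeddings of a residue field of `C` are bounded by its length over `A`. -/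
theorem card_embeddings_le (m : MaximalSpectrum C) (L : Type u) [Field L] (ι : IsLocalRing.ResidueField A →+* L) :
    ENat.card {σ : C ⧸ m.asIdeal →+* L // σ.comp (algebraMap A (C ⧸ m.asIdeal)) = ι.comp (IsLocalRing.residue A)} ≤
      Module.length A (C ⧸ m.asIdeal) := by
  have := m.isMaximal
  let _ : Field (C ⧸ m.asIdeal) := Ideal.Quotient.field m.asIdeal
  let f : IsLocalRing.ResidueField A →+* C ⧸ m.asIdeal :=
    Ideal.Quotient.lift _ (algebraMap A (C ⧸ m.asIdeal))
      fun a ha => Ideal.Quotient.eq_zero_iff_mem.2 (algebraMap_mem ha m)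
  let _ : Algebra (IsLocalRing.ResidueField A) (C ⧸ m.asIdeal) := f.toAlgebra
  let _ : Algebra (IsLocalRing.ResidueField A) L := ι.toAlgebra
  have : IsScalarTower A (IsLocalRing.ResidueField A) (C ⧸ m.asIdeal) := IsScalarTower.of_algebraMap_eq fun _ => rfl
  have : Module.Finite (IsLocalRing.ResidueField A) (C ⧸ m.asIdeal) := Module.Finite.of_restrictScalars_finite A _ _
  let e : {σ : C ⧸ m.asIdeal →+* L // σ.comp (algebraMap A (C ⧸ m.asIdeal)) = ι.comp (IsLocalRing.residue A)} →
      (C ⧸ m.asIdeal →ₐ[IsLocalRing.ResidueField A] L) := fun σ =>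
    { σ.1 with
      commutes' := fun r => by
        obtain ⟨r, rfl⟩ := IsLocalRing.residue_surjective r
        exact DFunLike.congr_fun σ.2 r }
  have he : Function.Injective e := fun x y h => Subtype.ext (RingHom.ext fun z => DFunLike.congr_fun h z)
  have hfinite := minpoly.AlgHom.fintype (IsLocalRing.ResidueField A) (C ⧸ m.asIdeal) L
  refine (ENat.card_le_card_of_injective he).trans ?_
  rw [Module.length_eq_of_surjective (S := A) (R := IsLocalRing.ResidueField A) IsLocalRing.residue_surjective,
    Module.length_eq_finrank, ENat.card_eq_coe_natCard]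
  exact_mod_cast card_algHom_le_finrank (IsLocalRing.ResidueField A) (C ⧸ m.asIdeal) L

theorem card_sigma_le {β : MaximalSpectrum C → Type u} (h : ∀ m, ENat.card (β m) ≤ Module.length A (C ⧸ m.asIdeal))
    (hfin : ∀ m : MaximalSpectrum C, Module.length A (C ⧸ m.asIdeal) ≠ ⊤) :
    ENat.card (Σ m, β m) ≤ Module.length A (∀ m : MaximalSpectrum C, C ⧸ m.asIdeal) := by
  have := Fintype.ofFinite (MaximalSpectrum C)
  have : ∀ m, Finite (β m) := fun m => by
    rw [← ENat.card_lt_top]
    exact (h m).trans_lt (lt_top_iff_ne_top.2 (hfin m))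
  rw [Module.length_pi_of_fintype, ENat.card_eq_coe_natCard, Nat.card_sigma]
  push_cast
  exact Finset.sum_le_sum fun m _ => (ENat.card_eq_coe_natCard (β m)).symm.le.trans (h m)

end Misc9.Branches

namespace Misc9.Branches

variable (A : Type u) [CommRing A] [IsReduced A]

theorem red_bijective : Function.Bijective (Ideal.Quotient.mk (nilradical A)) :=
  ⟨fun x y h => by
    rw [Ideal.Quotient.eq, nilradical_eq_zero, Ideal.zero_eq_bot, Ideal.mem_bot, sub_eq_zero] at h
    exact h, Ideal.Quotient.mk_surjective⟩

/-- The normalization of the reduction agrees with the normalization. -/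
theorem exists_algEquiv_normRed :
    Nonempty (↥(integralClosure A (FractionRing A)) ≃ₐ[A] CAlg2.normRed A) := by
  let Q' := FractionRing (CAlg2.red A)
  have hb := red_bijective A
  let h : CAlg2.red A ≃+* A := (RingEquiv.ofBijective _ hb).symm
  have hloc : IsFractionRing A Q' := by
    have := IsLocalization.isLocalization_of_base_ringEquiv (nonZeroDivisors (CAlg2.red A)) Q' h
    have hM : (nonZeroDivisors (CAlg2.red A)).map h = nonZeroDivisors A :=
      MulEquivClass.map_nonZeroDivisors h
    rw [hM] at this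
    convert this using 1
    exact Algebra.algebra_ext _ _ fun _ => rfl
  let e : FractionRing A ≃ₐ[A] Q' := IsLocalization.algEquiv (nonZeroDivisors A) _ _
  have hset : integralClosure A Q' = (integralClosure (CAlg2.red A) Q').restrictScalars A := by
    ext x
    simp only [Subalgebra.mem_restrictScalars, mem_integralClosure_iff]
    exact ⟨fun hx => hx.tower_top, fun hx =>
      have : Algebra.IsIntegral A (CAlg2.red A) := Algebra.IsIntegral.of_surjective (Algebra.ofId A (CAlg2.red A)) Ideal.Quotient.mk_surjective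
      isIntegral_trans x hx⟩
  exact ⟨e.mapIntegralClosure.trans ((Subalgebra.equivOfEq _ _ hset).trans
    { toFun := fun x => ⟨x.1, x.2⟩
      invFun := fun x => ⟨x.1, x.2⟩
      left_inv := fun _ => rfl
      right_inv := fun _ => rfl
      map_mul' := fun _ _ => rfl
      map_add' := fun _ _ => rfl
      commutes' := fun _ => rfl })⟩

theorem toResidue_eq (m' : MaximalSpectrum (CAlg2.normRed A)) :
    Brnch.toResidue A m' = algebraMap A (CAlg2.normRed A ⧸ m'.asIdeal) := rfl

end Misc9.Branches

namespace Misc9.Branches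

variable {A : Type u} [CommRing A] [IsLocalRing A] {C : Type u} [CommRing C] [Algebra A C] [Module.Finite A C]

variable (A) in
include A in
theorem finite_maximalSpectrum : Finite (MaximalSpectrum C) := by
  let J : Ideal C := (IsLocalRing.maximalIdeal A).map (algebraMap A C)
  have hJ : ∀ m : MaximalSpectrum C, J ≤ m.asIdeal := fun m =>
    Ideal.map_le_iff_le_comap.2 fun a ha => algebraMap_mem ha m
  let f : IsLocalRing.ResidueField A →+* C ⧸ J :=
    Ideal.Quotient.lift _ (algebraMap A (C ⧸ J))
      fun a ha => Ideal.Quotient.eq_zero_iff_mem.2 (Ideal.mem_map_of_mem _ ha)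
  let _ : Algebra (IsLocalRing.ResidueField A) (C ⧸ J) := f.toAlgebra
  have : IsScalarTower A (IsLocalRing.ResidueField A) (C ⧸ J) := IsScalarTower.of_algebraMap_eq fun _ => rfl
  have : Module.Finite (IsLocalRing.ResidueField A) (C ⧸ J) := Module.Finite.of_restrictScalars_finite A _ _
  have := IsArtinianRing.of_finite (IsLocalRing.ResidueField A) (C ⧸ J)
  refine Finite.of_injective (fun m : MaximalSpectrum C =>
    (⟨m.asIdeal.map (Ideal.Quotient.mk J), Ideal.map_isPrime_of_surjective Ideal.Quotient.mk_surjective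
      (by rw [Ideal.mk_ker]; exact hJ m) (H := m.isMaximal.isPrime)⟩ : PrimeSpectrum (C ⧸ J))) fun x y h => ?_
  refine MaximalSpectrum.ext ?_
  have h' : x.asIdeal.map (Ideal.Quotient.mk J) = y.asIdeal.map (Ideal.Quotient.mk J) :=
    congrArg PrimeSpectrum.asIdeal h
  have := congrArg (Ideal.comap (Ideal.Quotient.mk J)) h'
  rwa [Ideal.comap_map_mk (hJ x), Ideal.comap_map_mk (hJ y)] at this

theorem length_ne_top (m : MaximalSpectrum C) : Module.length A (C ⧸ m.asIdeal) ≠ ⊤ := by
  let f : IsLocalRing.ResidueField A →+* C ⧸ m.asIdeal :=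
    Ideal.Quotient.lift _ (algebraMap A (C ⧸ m.asIdeal))
      fun a ha => Ideal.Quotient.eq_zero_iff_mem.2 (algebraMap_mem ha m)
  let _ : Algebra (IsLocalRing.ResidueField A) (C ⧸ m.asIdeal) := f.toAlgebra
  have : IsScalarTower A (IsLocalRing.ResidueField A) (C ⧸ m.asIdeal) := IsScalarTower.of_algebraMap_eq fun _ => rfl
  have : Module.Finite (IsLocalRing.ResidueField A) (C ⧸ m.asIdeal) := Module.Finite.of_restrictScalars_finite A _ _
  rw [Module.length_eq_of_surjective (S := A) (R := IsLocalRing.ResidueField A) IsLocalRing.residue_surjective,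
    Module.length_eq_finrank]
  exact ENat.natCast_ne_top _

theorem length_range_eq {D : Type u} [CommRing D] [Algebra A D] (e : C ≃ₐ[A] D) :
    Module.length A (C ⧸ LinearMap.range (Algebra.linearMap A C)) =
      Module.length A (D ⧸ LinearMap.range (Algebra.linearMap A D)) := by
  refine (Submodule.Quotient.equiv _ _ e.toLinearEquiv ?_).length_eq
  ext y
  constructor
  · rintro ⟨_, ⟨a, rfl⟩, rfl⟩
    exact ⟨a, (e.commutes a).symm⟩
  · rintro ⟨a, rfl⟩
    exact ⟨_, ⟨a, rfl⟩, e.commutes a⟩

end Misc9.Branches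

namespace Misc9.Branches

section embeddings

variable {A : Type u} [CommRing A] [IsLocalRing A] {C : Type u} [CommRing C] [Algebra A C] [Module.Finite A C]

theorem subsingleton_embeddings [IsSepClosed (IsLocalRing.ResidueField A)] (m : MaximalSpectrum C)
    (L : Type u) [Field L] (ι : IsLocalRing.ResidueField A →+* L) :
    Subsingleton {σ : C ⧸ m.asIdeal →+* L // σ.comp (algebraMap A (C ⧸ m.asIdeal)) = ι.comp (IsLocalRing.residue A)} := by
  have := m.isMaximal
  let _ : Field (C ⧸ m.asIdeal) := Ideal.Quotient.field m.asIdeal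
  let f : IsLocalRing.ResidueField A →+* C ⧸ m.asIdeal :=
    Ideal.Quotient.lift _ (algebraMap A (C ⧸ m.asIdeal))
      fun a ha => Ideal.Quotient.eq_zero_iff_mem.2 (algebraMap_mem ha m)
  let _ : Algebra (IsLocalRing.ResidueField A) (C ⧸ m.asIdeal) := f.toAlgebra
  let _ : Algebra (IsLocalRing.ResidueField A) L := ι.toAlgebra
  have : IsScalarTower A (IsLocalRing.ResidueField A) (C ⧸ m.asIdeal) := IsScalarTower.of_algebraMap_eq fun _ => rfl
  have : Module.Finite (IsLocalRing.ResidueField A) (C ⧸ m.asIdeal) := Module.Finite.of_restrictScalars_finite A _ _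
  let e : {σ : C ⧸ m.asIdeal →+* L // σ.comp (algebraMap A (C ⧸ m.asIdeal)) = ι.comp (IsLocalRing.residue A)} →
      (C ⧸ m.asIdeal →ₐ[IsLocalRing.ResidueField A] L) := fun σ =>
    { σ.1 with
      commutes' := fun r => by
        obtain ⟨r, rfl⟩ := IsLocalRing.residue_surjective r
        exact DFunLike.congr_fun σ.2 r }
  exact Function.Injective.subsingleton (f := e) fun x y h => Subtype.ext (RingHom.ext fun z => DFunLike.congr_fun h z)

end embeddings

theorem isDiscreteValuationRing_atPrime {C : Type u} [CommRing C] [IsNoetherianRing C] (hdim : ringKrullDim C ≤ 1)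
    (P : Ideal C) [P.IsPrime] [IsDomain (Localization.AtPrime P)] [IsIntegrallyClosed (Localization.AtPrime P)]
    (hnf : ¬ IsField (Localization.AtPrime P)) : IsDiscreteValuationRing (Localization.AtPrime P) := by
  have : IsNoetherianRing (Localization.AtPrime P) := IsLocalization.isNoetherianRing P.primeCompl _ inferInstance
  have hK1 : Ring.KrullDimLE 1 (Localization.AtPrime P) := Ring.krullDimLE_iff.2 <| by
    rw [IsLocalization.AtPrime.ringKrullDim_eq_height P]
    exact (Ideal.height_le_ringKrullDim_of_ne_top (Ideal.IsPrime.ne_top inferInstance)).trans hdim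
  have : Ring.DimensionLEOne (Localization.AtPrime P) :=
    ⟨fun {q} hq hqp => Ring.krullDimLE_one_iff_of_noZeroDivisors.1 inferInstance q hq hqp⟩
  have : IsDedekindDomain (Localization.AtPrime P) :=
    { toIsNoetherian := inferInstance, toDimensionLEOne := inferInstance, toIsIntegralClosure := inferInstance }
  exact ((IsDiscreteValuationRing.TFAE (Localization.AtPrime P) hnf).out 0 2).2 this

end Misc9.Branches
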