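import Groth.Prelude.Def_HTop
import Mathlib.AlgebraicGeometry.ValuativeCriterion
import Mathlib.AlgebraicGeometry.Morphisms.Flat
import Mathlib.AlgebraicGeometry.Morphisms.Proper
import Mathlib.RingTheory.LocalRing.RingHom.Basic

/-! Valuation rings through specializations; standard V coverings. -/

set_option autoImplicit false
set_option backward.isDefEq.respectTransparency false
universe w u
namespace Groth.Agent.Misc9.ValLift
open CategoryTheory CategoryTheory.Limits AlgebraicGeometry IsLocalRing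

theorem exists_valuationSubring {P : Scheme.{u}} (q p : P) (h : q ⤳ p) :
    ∃ (A : ValuationSubring (P.residueField q)) (g : Spec (CommRingCat.of A) ⟶ P),
      g (closedPoint A) = p ∧ Spec.map (CommRingCat.ofHom A.subtype) ≫ g = P.fromSpecResidueField q := by
  let a : P.presheaf.stalk p ⟶ P.residueField q := P.presheaf.stalkSpecializes h ≫ P.residue q
  obtain ⟨A, hA, hA_local⟩ := exists_factor_valuationRing a.hom
  let b : P.presheaf.stalk p ⟶ .of A := CommRingCat.ofHom (a.hom.codRestrict _ hA)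
  refine ⟨A, Spec.map b ≫ P.fromSpecStalk p, ?_, ?_⟩
  · rw [Scheme.Hom.comp_apply]
    have : Spec.map b (closedPoint A) = closedPoint (P.presheaf.stalk p) :=
      comap_closedPoint (S := A) (a.hom.codRestrict A.toSubring hA)
    rw [this, P.fromSpecStalk_closedPoint]
  · rw [← Spec.map_comp_assoc, show b ≫ CommRingCat.ofHom A.subtype = a from rfl, Spec.map_comp, Category.assoc,
      Scheme.SpecMap_stalkSpecializes_fromSpecStalk]
    rfl

/-- an extension of valuation rings from a specialization over (generic ⤳ closed) -/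
theorem exists_extVal (V : CommRingCat.{u}) [IsDomain V] [ValuationRing V] {P : Scheme.{u}} (h : P ⟶ Spec V)
    (q p : P) (hqp : q ⤳ p) (hp : h p = closedPoint V) (hq : (h q).asIdeal = ⊥) :
    ∃ (W : CommRingCat.{u}) (_ : IsDomain W) (_ : ValuationRing W) (φ : V ⟶ W),
      HTop.IsExtVal V W φ ∧ ∃ g : Spec W ⟶ P, g ≫ h = Spec.map φ ∧ g (closedPoint W) = p := by
  obtain ⟨A, g, hgp, hgq⟩ := exists_valuationSubring q p hqp
  haveI : IsDomain (CommRingCat.of A) := inferInstanceAs (IsDomain A)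
  haveI : ValuationRing (CommRingCat.of A) := inferInstanceAs (ValuationRing A)
  refine ⟨CommRingCat.of A, inferInstance, inferInstance, Spec.preimage (g ≫ h), ⟨?_, ?_⟩, g,
    (Spec.map_preimage _).symm, hgp⟩
  · have hgen : g ⟨⊥, Ideal.isPrime_bot⟩ = q := by
      have e : Spec.map (CommRingCat.ofHom A.subtype) (closedPoint (P.residueField q)) = ⟨⊥, Ideal.isPrime_bot⟩ := by
        apply PrimeSpectrum.ext
        change Ideal.comap A.subtype (maximalIdeal (P.residueField q)) = ⊥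
        rw [maximalIdeal_eq_bot (R := P.residueField q)]
        exact Ideal.comap_bot_of_injective _ Subtype.val_injective
      rw [← e, ← Scheme.Hom.comp_apply, hgq]
      exact Scheme.fromSpecResidueField_apply q _
    rw [RingHom.injective_iff_ker_eq_bot, RingHom.ker_eq_comap_bot]
    have e : (Spec.map (Spec.preimage (g ≫ h)) ⟨⊥, Ideal.isPrime_bot⟩).asIdeal = ⊥ := by
      rw [Spec.map_preimage, Scheme.Hom.comp_apply, hgen, hq]
    exact e
  · refine ((local_hom_TFAE (Spec.preimage (g ≫ h)).hom).out 4 0 :).mp ?_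
    have e : (Spec.map (Spec.preimage (g ≫ h)) (closedPoint (CommRingCat.of A))).asIdeal = maximalIdeal V := by
      rw [Spec.map_preimage, Scheme.Hom.comp_apply]
      erw [hgp]
      rw [hp]
      rfl
    exact e

/-- points over (generic ⤳ closed) along a proper surjective or flat morphism -/
theorem lift_proper (V : CommRingCat.{u}) [IsDomain V] [ValuationRing V] {P : Scheme.{u}} (h : P ⟶ Spec V)
    [IsProper h] [Surjective h] : ∃ q p : P, q ⤳ p ∧ h p = closedPoint V ∧ (h q).asIdeal = ⊥ := by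
  obtain ⟨q, hq⟩ := h.surjective ⟨⊥, Ideal.isPrime_bot⟩
  have hs : h q ⤳ closedPoint V := by
    rw [hq]
    exact (PrimeSpectrum.le_iff_specializes _ _).1 (show (⊥ : Ideal V) ≤ _ from bot_le)
  obtain ⟨p, hp1, hp2⟩ := h.isClosedMap.specializingMap hs
  exact ⟨q, p, hp1, hp2, by rw [hq]⟩

theorem lift_flat (V : CommRingCat.{u}) [IsDomain V] [ValuationRing V] {P : Scheme.{u}} (h : P ⟶ Spec V)
    [Flat h] (p : P) (hp : h p = closedPoint V) : ∃ q : P, q ⤳ p ∧ (h q).asIdeal = ⊥ := by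
  have hs : (⟨⊥, Ideal.isPrime_bot⟩ : Spec V) ⤳ h p := by
    rw [hp]
    exact (PrimeSpectrum.le_iff_specializes _ _).1 (show (⊥ : Ideal V) ≤ _ from bot_le)
  obtain ⟨q, hq1, hq2⟩ := Flat.generalizingMap h hs
  exact ⟨q, hq1, by rw [hq2]⟩

variable {T : Scheme.{u}} (E : PreZeroHypercover.{w} T)

theorem hasValLift_of_flat (hflat : ∀ j, Flat (E.f j)) (hsurj : ∀ t : T, ∃ (j : E.I₀) (x : E.X j), E.f j x = t) :
    HTop.HasValLift E := by
  intro V _ _ g
  obtain ⟨j, x, hx⟩ := hsurj (g (closedPoint V))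
  haveI := hflat j
  obtain ⟨p, hp, -⟩ := Scheme.Pullback.exists_preimage_pullback (f := g) (g := E.f j) (closedPoint V) x hx.symm
  obtain ⟨q, hq1, hq2⟩ := lift_flat V (pullback.fst g (E.f j)) p hp
  obtain ⟨W, h1, h2, φ, hφ, g', hg', -⟩ := exists_extVal V _ q p hq1 hp hq2
  exact ⟨W, h1, h2, φ, hφ, j, g' ≫ pullback.snd g (E.f j), by
    rw [Category.assoc, ← pullback.condition, reassoc_of% hg']⟩

theorem hasValLift_of_proper {U : Scheme.{u}} (f : U ⟶ T) [IsProper f] [Surjective f]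
    (ι : ∀ j, E.X j ⟶ U) (hι : ∀ j, IsOpenImmersion (ι j)) (hf : ∀ j, ι j ≫ f = E.f j)
    (hcov : ∀ x : U, ∃ j, x ∈ Set.range (ι j).base) : HTop.HasValLift E := by
  intro V _ _ g
  obtain ⟨q, p, hqp, hp, hq⟩ := lift_proper V (pullback.fst g f)
  obtain ⟨W, h1, h2, φ, hφ, g', hg', hg'p⟩ := exists_extVal V _ q p hqp hp hq
  obtain ⟨j, hj⟩ := hcov (pullback.snd g f p)
  haveI := hι j
  have htop : (g' ≫ pullback.snd g f) ⁻¹ᵁ (ι j).opensRange = ⊤ := (closedPoint_mem_iff _).mp (by
    show (g' ≫ pullback.snd g f) (closedPoint W) ∈ (ι j).opensRange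
    rw [Scheme.Hom.comp_apply, hg'p]
    exact hj)
  have hr : Set.range (g' ≫ pullback.snd g f) ⊆ Set.range (ι j) := by
    rintro _ ⟨z, rfl⟩
    exact htop.ge (Set.mem_univ z)
  refine ⟨W, h1, h2, φ, hφ, j, IsOpenImmersion.lift (ι j) (g' ≫ pullback.snd g f) hr, ?_⟩
  rw [← hf, IsOpenImmersion.lift_fac_assoc, Category.assoc, ← pullback.condition, reassoc_of% hg']

theorem standardV_of_standardPh (hE : HTop.IsStandardPh E) : HTop.IsStandardV E := by
  obtain ⟨U, f, ι, h1, h2, h3, h4, h5⟩ := hE.exists_proper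
  exact ⟨hE.isAffine, hE.finite_index, hE.isAffine_obj, hasValLift_of_proper E f ι h3 h4 h5⟩

theorem standardV_pullback {T' : Scheme.{u}} [IsAffine T'] (g : T' ⟶ T) (hE : HTop.IsStandardV E) :
    HTop.IsStandardV (E.pullback₁ g) := by
  refine ⟨inferInstance, hE.finite_index, fun j => ?_, ?_⟩
  · haveI := hE.isAffine
    haveI := hE.isAffine_obj j
    show IsAffine (pullback g (E.f j))
    infer_instance
  · intro V _ _ g₀
    obtain ⟨W, h1, h2, φ, hφ, j, g', hg'⟩ := hE.lift V (g₀ ≫ g)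
    refine ⟨W, h1, h2, φ, hφ, j, pullback.lift (Spec.map φ ≫ g₀) g' (by rw [hg', Category.assoc]), ?_⟩
    exact pullback.lift_fst _ _ _

theorem standardV_bind (hE : HTop.IsStandardV E) (F : ∀ j, PreZeroHypercover.{w} (E.X j))
    (hF : ∀ j, HTop.IsStandardV (F j)) : HTop.IsStandardV (E.bind F) := by
  refine ⟨hE.isAffine, ?_, fun p => (hF p.1).isAffine_obj p.2, ?_⟩
  · haveI := hE.finite_index
    haveI := fun j => (hF j).finite_index
    exact inferInstanceAs (Finite (Σ j, (F j).I₀))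
  · intro V _ _ g₀
    obtain ⟨R₁, h1, h2, φ, hφ, j, g', hg'⟩ := hE.lift V g₀
    obtain ⟨R₂, h3, h4, ψ, hψ, k, g'', hg''⟩ := (hF j).lift R₁ g'
    refine ⟨R₂, h3, h4, φ ≫ ψ, ⟨hψ.1.comp hφ.1, ?_⟩, ⟨j, k⟩, g'', ?_⟩
    · haveI := hψ.2
      haveI := hφ.2
      exact RingHom.isLocalHom_comp ψ.hom φ.hom
    · show g'' ≫ (F j).f k ≫ E.f j = _
      rw [reassoc_of% hg'', hg', Spec.map_comp, Category.assoc]

theorem standardPh_pullback {T' : Scheme.{u}} [IsAffine T'] (g : T' ⟶ T) (hE : HTop.IsStandardPh E) :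
    HTop.IsStandardPh (E.pullback₁ g) := by
  obtain ⟨U, f, ι, h1, h2, h3, h4, h5⟩ := hE.exists_proper
  refine ⟨inferInstance, hE.finite_index, fun j => ?_, pullback g f, pullback.fst g f,
    fun j => pullback.map g (E.f j) g f (𝟙 _) (ι j) (𝟙 _) (by simp) (by simp [h4 j]), inferInstance, inferInstance,
    fun j => ?_, fun j => ?_, fun x => ?_⟩
  · haveI := hE.isAffine
    haveI := hE.isAffine_obj j
    show IsAffine (pullback g (E.f j))
    infer_instance
  · haveI := h3 j
    infer_instance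
  · show pullback.map g (E.f j) g f (𝟙 _) (ι j) (𝟙 _) _ _ ≫ pullback.fst g f = pullback.fst g (E.f j)
    simp
  · obtain ⟨j, hj⟩ := h5 (pullback.snd g f x)
    haveI := h3 j
    refine ⟨j, ?_⟩
    show x ∈ Set.range (pullback.map g (E.f j) g f (𝟙 _) (ι j) (𝟙 _) _ _)
    rw [Scheme.Pullback.range_map]
    exact ⟨⟨pullback.fst g f x, rfl⟩, hj⟩

end Groth.Agent.Misc9.ValLift
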