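import Groth.Prelude.Def_Magnet3
import Groth.Prelude.Def_Magnet4
import Groth.Prelude.Def_CoactBr

/-!
Ring-valued points of the diagonalizable monoid schemes `A(N)_S` as characters.
-/

universe u

set_option maxHeartbeats 400000
set_option synthInstance.maxHeartbeats 40000

open CategoryTheory CategoryTheory.Limits MonoidalCategory CartesianMonoidalCategory MonObj AlgebraicGeometry Opposite
open Magnet

namespace Groth.Agent.Misc9.MagnetPts

attribute [local instance] ULift.algebra'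

variable {S : Scheme.{u}} {N P : Type} [AddCommMonoid N] [AddCommMonoid P] {K L : CommRingCat.{u}}

/-- the structure map `S ⟶ Spec ℤ` -/
noncomputable abbrev trm (S : Scheme.{u}) : S ⟶ Spec (CommRingCat.of (ULift.{u} ℤ)) :=
  Limits.IsTerminal.from specULiftZIsTerminal S

/-- the ring map of monoid algebras attached to a character -/
noncomputable def ev (χ : Multiplicative N →* K) :
    MonoidAlgebra (ULift.{u} ℤ) (Multiplicative N) →+* K :=
  (MonoidAlgebra.lift (ULift.{u} ℤ) K (Multiplicative N) χ).toRingHom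

lemma ev_single (χ : Multiplicative N →* K) (n : Multiplicative N) :
    ev χ (MonoidAlgebra.single n 1) = χ n := by
  simp [ev]

lemma hom_from_base_ext (f g : ULift.{u} ℤ →+* K) : f = g := by
  apply RingHom.ext
  intro x
  exact RingHom.congr_fun
    ((RingHom.ext_int (f.comp ULift.ringEquiv.symm.toRingHom) (g.comp ULift.ringEquiv.symm.toRingHom)))
    x.down

lemma algebra_hom_ext {φ ψ : MonoidAlgebra (ULift.{u} ℤ) (Multiplicative N) →+* K}
    (h : ∀ n, φ (MonoidAlgebra.single n 1) = ψ (MonoidAlgebra.single n 1)) : φ = ψ :=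
  MonoidAlgebra.ringHom_ext (fun r => RingHom.congr_fun
    (hom_from_base_ext (φ.comp MonoidAlgebra.singleOneRingHom) (ψ.comp MonoidAlgebra.singleOneRingHom)) r) h

/-- the point of `A(N)_ℤ` given by a character -/
noncomputable def pt0 (s : Spec K ⟶ S) (χ : Multiplicative N →* K) :
    (Over.map (trm S)).obj (Over.mk s) ⟶ AMon (ULift.{u} ℤ) N :=
  Over.homMk (Spec.map (CommRingCat.ofHom (ev χ))) (specULiftZIsTerminal.hom_ext _ _)

/-- the point of `A(N)_S` given by a character -/
noncomputable def chiPt (s : Spec K ⟶ S) (χ : Multiplicative N →* K) : Over.mk s ⟶ AMonS S N :=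
  (Over.mapPullbackAdj (trm S)).homEquiv _ _ (pt0 s χ)

lemma chiPt_left_fst (s : Spec K ⟶ S) (χ : Multiplicative N →* K) :
    (chiPt s χ).left ≫ pullback.fst (AMon (ULift.{u} ℤ) N).hom (trm S) = Spec.map (CommRingCat.ofHom (ev χ)) := by
  have h := congrArg Over.Hom.left (((Over.mapPullbackAdj (trm S)).homEquiv _ _).symm_apply_apply (pt0 s χ))
  simpa [chiPt, pt0, Adjunction.homEquiv_counit, Over.mapPullbackAdj] using h

lemma homEquiv_mul (T : Over S) (g h : (Over.map (trm S)).obj T ⟶ AMon (ULift.{u} ℤ) N) :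
    (Over.mapPullbackAdj (trm S)).homEquiv T _ (g * h) =
      (Over.mapPullbackAdj (trm S)).homEquiv T _ g * (Over.mapPullbackAdj (trm S)).homEquiv T _ h := by
  have e := MonAct.lift_homEquiv_bc_act (trm S) (MonAct.regular (AMon (ULift.{u} ℤ) N)) (T' := T) g h
  rw [MonAct.bc_regular, MonAct.lift_regular_act, MonAct.lift_regular_act] at e
  exact e.symm

lemma chiPt_mul (s : Spec K ⟶ S) (χ χ' : Multiplicative N →* K) :
    chiPt s χ * chiPt s χ' = chiPt s (χ * χ') := by
  rw [chiPt, chiPt, chiPt, ← homEquiv_mul]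
  congr 1
  let e : (Over.map (trm S)).obj (Over.mk s) ⟶ CoactBr.sp (ULift.{u} ℤ) K :=
    Over.homMk (𝟙 _) (specULiftZIsTerminal.hom_ext _ _)
  have he : ∀ ψ : Multiplicative N →* K,
      pt0 s ψ = e ≫ CoactBr.pt (MonoidAlgebra.lift (ULift.{u} ℤ) K (Multiplicative N) ψ) := by
    intro ψ
    ext1
    exact (Category.id_comp _).symm
  rw [he, he, he, ← MonObj.comp_mul, CoactBr.pt_mul_pt]
  congr 2
  refine MonoidAlgebra.algHom_ext (fun n => ?_) (Subsingleton.elim _ _)
  simp [MonoidAlgebra.comul_single]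

lemma chiPt_surjective (s : Spec K ⟶ S) (m : Over.mk s ⟶ AMonS S N) : ∃ χ, chiPt s χ = m := by
  let g := ((Over.mapPullbackAdj (trm S)).homEquiv _ _).symm m
  obtain ⟨φ, hφ⟩ : ∃ φ, Spec.map φ = g.left := ⟨_, Spec.map_preimage _⟩
  refine ⟨φ.hom.toMonoidHom.comp (MonoidAlgebra.of (ULift.{u} ℤ) (Multiplicative N)), ?_⟩
  rw [chiPt, ← Equiv.eq_symm_apply]
  ext1
  show Spec.map _ = g.left
  rw [← hφ]
  congr 1
  apply CommRingCat.hom_ext
  refine algebra_hom_ext fun n => ?_
  exact ev_single _ n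

lemma chiPt_one (s : Spec K ⟶ S) : chiPt s (1 : Multiplicative N →* K) = 1 := by
  obtain ⟨χ, hχ⟩ := chiPt_surjective s (1 : Over.mk s ⟶ AMonS S N)
  calc chiPt s 1 = chiPt s 1 * chiPt s χ := by rw [hχ, _root_.mul_one]
    _ = chiPt s χ := by rw [chiPt_mul, _root_.one_mul]
    _ = 1 := hχ

lemma chiPt_pow (s : Spec K ⟶ S) (χ : Multiplicative N →* K) (n : ℕ) : chiPt s χ ^ n = chiPt s (χ ^ n) := by
  induction n with
  | zero => rw [pow_zero, pow_zero, chiPt_one]
  | succ n ih => rw [pow_succ, pow_succ, ih, chiPt_mul]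

lemma comp_chiPt (s : Spec K ⟶ S) (ρ : K ⟶ L) (χ : Multiplicative N →* K) :
    (Over.homMk (Spec.map ρ) rfl : Over.mk (Spec.map ρ ≫ s) ⟶ Over.mk s) ≫ chiPt s χ =
      chiPt (Spec.map ρ ≫ s) (ρ.hom.toMonoidHom.comp χ) := by
  rw [chiPt, chiPt, ← Adjunction.homEquiv_naturality_left]
  congr 1
  ext1
  show Spec.map ρ ≫ Spec.map _ = Spec.map _
  rw [← Spec.map_comp]
  congr 1
  apply CommRingCat.hom_ext
  refine algebra_hom_ext fun n => ?_
  show ρ.hom (ev χ _) = ev (ρ.hom.toMonoidHom.comp χ) (MonoidAlgebra.single n 1)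
  rw [ev_single, ev_single]
  rfl

lemma chiPt_comp_map (s : Spec K ⟶ S) (f : P →+ N) (χ : Multiplicative N →* K) :
    chiPt s χ ≫ AMonS.map S f = chiPt s (χ.comp (AddMonoidHom.toMultiplicative f)) := by
  rw [chiPt, chiPt, AMonS.map, ← Adjunction.homEquiv_naturality_right]
  congr 1
  ext1
  show Spec.map _ ≫ (AMon.map (ULift.{u} ℤ) f).left = Spec.map _
  rw [AMon.map_left]
  refine (Spec.map_comp _ _).symm.trans (congrArg Spec.map ?_)
  apply CommRingCat.hom_ext
  refine algebra_hom_ext fun n => ?_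
  show ev χ (MonoidAlgebra.mapDomainBialgHom _ _ (MonoidAlgebra.single n 1)) =
    ev (χ.comp (AddMonoidHom.toMultiplicative f)) (MonoidAlgebra.single n 1)
  rw [MonoidAlgebra.mapDomainBialgHom_single, ev_single, ev_single]
  rfl

end Groth.Agent.Misc9.MagnetPts
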