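import Groth.Agent.Misc9.SNAux
import Mathlib.FieldTheory.IsPerfectClosure

/-! Universal homeomorphisms and perfect rings. -/

universe u

namespace Groth.Agent.Misc9.PerfUH

open AlgebraicGeometry CategoryTheory
open Groth.Agent.Misc9.Seminormal
open Groth.Agent.UnivHomeo.Basic

theorem bijective_of_perfect {A B : Type u} [CommRing A] [CommRing B] (φ : A →+* B) {p : ℕ}
    (hp : p.Prime) (hA0 : (p : A) = 0) (hA : Function.Bijective fun a : A ↦ a ^ p)
    (hB : Function.Injective fun b : B ↦ b ^ p)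
    (hU : FlatMor.IsUnivHomeo (Spec.map (CommRingCat.ofHom φ))) : Function.Bijective φ := by
  letI := φ.toAlgebra
  constructor
  · rw [injective_iff_map_eq_zero]
    intro a ha
    have hnil : IsNilpotent a := by
      rw [← mem_nilradical, nilradical_eq_sInf, Submodule.mem_sInf]
      intro P hP
      obtain ⟨Q, hQ⟩ := ((isUnivHomeo_spec_iff φ).mp hU).2.1 ⟨P, hP⟩
      have e : Q.asIdeal.comap φ = P := congrArg PrimeSpectrum.asIdeal hQ
      rw [← e, Ideal.mem_comap, ha]
      exact Ideal.zero_mem _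
    obtain ⟨n, hn⟩ := hnil
    have hpn : a ^ p ^ n = 0 := pow_eq_zero_of_le (n.lt_pow_self hp.one_lt).le hn
    clear hn ha
    induction n with
    | zero => simpa using hpn
    | succ m ih =>
      rw [pow_succ, pow_mul] at hpn
      exact ih (hA.1 (by simpa [zero_pow hp.ne_zero] using hpn))
  · by_contra hns
    obtain ⟨x, hx, hstep⟩ := SNAux.exists_step (A := A) (B := B) (step := StepSCP) _ (towers_of_univHomeo hU) hns
    have hroot : x ^ p ∈ φ.range → False := by
      rintro ⟨a, ha⟩
      obtain ⟨b, hb⟩ := hA.2 a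
      refine hx ⟨b, hB ?_⟩
      show φ b ^ p = x ^ p
      rw [← map_pow, show b ^ p = a from hb, ha]
    rcases hstep with ⟨h2, h3⟩ | ⟨q, hq, h1, h2⟩
    · refine hroot ?_
      have h2' : x ^ 2 ∈ φ.range := Algebra.mem_bot.mp h2
      have h3' : x ^ 3 ∈ φ.range := Algebra.mem_bot.mp h3
      rcases hp.eq_two_or_odd with h | h
      · rwa [h]
      · have h2le := hp.two_le
        have : x ^ p = (x ^ 2) ^ ((p - 3) / 2) * x ^ 3 := by
          rw [← pow_mul, ← pow_add]; congr 1; omega
        rw [this]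
        exact mul_mem (pow_mem h2' _) h3'
    · have h1' : (q : B) * x ∈ φ.range := Algebra.mem_bot.mp h1
      by_cases hqp : q = p
      · exact hroot (hqp ▸ Algebra.mem_bot.mp h2)
      · obtain ⟨u, v, huv⟩ : ∃ u v : ℤ, u * q + v * p = 1 :=
          Nat.isCoprime_iff_coprime.mpr ((Nat.coprime_primes hq hp).mpr hqp)
        have hu : (u : A) * q = 1 := by
          have := congrArg (Int.cast : ℤ → A) huv
          push_cast at this
          rwa [hA0, mul_zero, add_zero] at this
        obtain ⟨a, ha⟩ := h1'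
        refine hx ⟨(u : A) * a, ?_⟩
        show φ ((u : A) * a) = x
        rw [map_mul, ha, ← mul_assoc, ← map_natCast φ q, ← map_mul, hu, map_one, one_mul]

theorem univHomeo_iff_bijective (p : ℕ) [Fact p.Prime]
    {A B A' B' : Type u} [CommRing A] [CommRing B] [CommRing A'] [CommRing B']
    [CharP A p] [CharP B p] [CharP A' p] [CharP B' p] [PerfectRing A' p] [PerfectRing B' p]
    (φ : A →+* B) (i : A →+* A') (j : B →+* B') [IsPerfectClosure i p] [IsPerfectClosure j p]
    (φ' : A' →+* B') (hφ : φ'.comp i = j.comp φ) :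
    FlatMor.IsUnivHomeo (Spec.map (CommRingCat.ofHom φ)) ↔ Function.Bijective φ' := by
  have hp : p.Prime := Fact.out
  have props : ∀ {C C' : Type u} [CommRing C] [CommRing C'] [CharP C p] [CharP C' p] [PerfectRing C' p]
      (k : C →+* C') [IsPerfectClosure k p], (∀ c ∈ RingHom.ker k, IsNilpotent c) ∧
      k.IsIntegral ∧ Function.Surjective (PrimeSpectrum.comap k) ∧ InjPoints k := by
    intro C C' _ _ _ _ _ k _
    have hker : ∀ c ∈ RingHom.ker k, IsNilpotent c := fun c hc ↦ by
      obtain ⟨n, hn⟩ := mem_pNilradical.mp (IsPRadical.ker_le k p hc)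
      exact ⟨_, hn⟩
    have hint : k.IsIntegral := fun x ↦ by
      obtain ⟨n, y, hy⟩ := IsPRadical.pow_mem k p x
      letI := k.toAlgebra
      exact IsIntegral.of_pow (pow_pos hp.pos n) (hy ▸ isIntegral_algebraMap)
    refine ⟨hker, hint, ?_, ?_⟩
    · intro P
      letI := k.toAlgebra
      have : Algebra.IsIntegral C C' := ⟨hint⟩
      obtain ⟨Q, -, hQ, hQp⟩ := Ideal.exists_ideal_over_prime_of_isIntegral P.asIdeal (⊥ : Ideal C')
        (fun c hc ↦ nilradical_le_prime P.asIdeal (hker c hc))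
      exact ⟨⟨Q, hQ⟩, PrimeSpectrum.ext hQp⟩
    · intro K _ g₁ g₂ hg
      ext x
      obtain ⟨n, y, hy⟩ := IsPRadical.pow_mem k p x
      have h0 : (p : K) = 0 := by rw [← map_natCast g₁, CharP.cast_eq_zero, map_zero]
      have : CharP K p := (CharP.charP_iff_prime_eq_zero hp).mpr h0
      have e : g₁ x ^ p ^ n = g₂ x ^ p ^ n := by
        rw [← map_pow, ← map_pow, ← hy]; exact DFunLike.congr_fun hg y
      rw [← sub_eq_zero, ← sub_pow_char_pow] at e
      exact sub_eq_zero.mp ((pow_eq_zero_iff (pow_ne_zero n hp.ne_zero)).mp e)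
  obtain ⟨-, iint, isur, iinj⟩ := props i
  obtain ⟨jker, jint, jsur, jinj⟩ := props j
  constructor
  · intro hU
    obtain ⟨h1, h2, h3⟩ := (isUnivHomeo_spec_iff φ).mp hU
    refine bijective_of_perfect φ' hp (CharP.cast_eq_zero A' p) (bijective_frobenius A' p)
      (bijective_frobenius B' p).1 ((isUnivHomeo_spec_iff φ').mpr ⟨?_, ?_, ?_⟩)
    · exact RingHom.IsIntegral.tower_top i φ' (hφ ▸ h1.trans φ j jint)
    · intro P
      obtain ⟨Q, hQ⟩ := h2 (PrimeSpectrum.comap i P)
      obtain ⟨R, hR⟩ := jsur Q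
      refine ⟨R, comap_injective_of_injPoints iinj ?_⟩
      rw [← PrimeSpectrum.comap_comp_apply, hφ, PrimeSpectrum.comap_comp_apply, hR, hQ]
    · intro K _ g₁ g₂ hg
      refine jinj K g₁ g₂ (h3 K _ _ ?_)
      rw [RingHom.comp_assoc, ← hφ, ← RingHom.comp_assoc, hg, RingHom.comp_assoc, hφ, ← RingHom.comp_assoc]
  · intro hb
    let e := RingEquiv.ofBijective φ' hb
    have hc : (φ'.comp i).IsIntegral := RingHom.IsIntegral.trans i φ' iint (RingHom.isIntegral_of_surjective φ' hb.2)
    refine (isUnivHomeo_spec_iff φ).mpr ⟨?_, ?_, ?_⟩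
    · intro b
      obtain ⟨P, hP, hPb⟩ := (hφ ▸ hc : (j.comp φ).IsIntegral) (j b)
      rw [← Polynomial.hom_eval₂] at hPb
      obtain ⟨n, hn⟩ := jker _ hPb
      exact ⟨P ^ n, hP.pow n, by rw [Polynomial.eval₂_pow, hn]⟩
    · intro P
      obtain ⟨Q, hQ⟩ := isur P
      refine ⟨PrimeSpectrum.comap j (PrimeSpectrum.comap e.symm.toRingHom Q), ?_⟩
      rw [← PrimeSpectrum.comap_comp_apply, ← hφ, PrimeSpectrum.comap_comp_apply,
        ← PrimeSpectrum.comap_comp_apply φ' e.symm.toRingHom]
      have : e.symm.toRingHom.comp φ' = RingHom.id A' := RingHom.ext fun a ↦ e.symm_apply_apply a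
      rw [this]
      exact hQ
    · intro K _ g₁ g₂ hg
      have hext : ∀ g : B →+* K, ∃ g' : B' →+* AlgebraicClosure K,
          g'.comp j = (algebraMap K (AlgebraicClosure K)).comp g := by
        intro g
        let gg := (algebraMap K (AlgebraicClosure K)).comp g
        have hP : (RingHom.ker gg).IsPrime := RingHom.ker_isPrime gg
        obtain ⟨R, hR⟩ := jsur ⟨RingHom.ker gg, hP⟩
        obtain ⟨g', hg', -⟩ := exists_extend_of_isIntegral jint gg R.asIdeal (congrArg PrimeSpectrum.asIdeal hR).symm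
        exact ⟨g', hg'⟩
      obtain ⟨e₁, he₁⟩ := hext g₁
      obtain ⟨e₂, he₂⟩ := hext g₂
      have he : e₁.comp φ' = e₂.comp φ' := iinj _ _ _ (by
        rw [RingHom.comp_assoc, RingHom.comp_assoc, hφ, ← RingHom.comp_assoc, ← RingHom.comp_assoc, he₁, he₂,
          RingHom.comp_assoc, RingHom.comp_assoc, hg])
      ext b
      refine (algebraMap K (AlgebraicClosure K)).injective ?_
      obtain ⟨a, ha⟩ := hb.2 (j b)
      refine (DFunLike.congr_fun he₁ b).symm.trans (Eq.trans ?_ (DFunLike.congr_fun he₂ b))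
      simp only [RingHom.comp_apply, ← ha]
      exact DFunLike.congr_fun he a

end Groth.Agent.Misc9.PerfUH
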