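import Groth.Prelude.Def_HTop2
import Mathlib.RingTheory.Localization.Away.Basic
import Mathlib.RingTheory.LocalProperties.Reduced
import Mathlib.AlgebraicGeometry.Properties
import Mathlib.RingTheory.IntegralClosure.IntegrallyClosed

/-! Seminormal rings. -/

universe u

namespace Groth.Agent.Misc9.SNRing

open AlgebraicGeometry CategoryTheory

theorem eq_of_sq_cube {A : Type u} [CommRing A] [IsReduced A] {a b : A} (h2 : a ^ 2 = b ^ 2)
    (h3 : a ^ 3 = b ^ 3) : a = b := by
  have : (a - b) ^ 3 = 0 := by linear_combination 4 * h3 - 3 * (b + a) * h2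
  exact sub_eq_zero.mp (eq_zero_of_pow_eq_zero this)

theorem isReduced {A : Type u} [CommRing A] (h : HTop.IsSeminormalRing A) : IsReduced A := by
  refine (isReduced_iff_pow_one_lt 2 (by norm_num)).mpr fun x hx ↦ ?_
  obtain ⟨a, -, hu⟩ := h 0 0 (by simp)
  exact (hu x ⟨hx.symm, by rw [pow_succ, hx, zero_mul]⟩).trans (hu 0 ⟨by simp, by simp⟩).symm

theorem of_exists {A : Type u} [CommRing A] [IsReduced A]
    (h : ∀ x y : A, x ^ 3 = y ^ 2 → ∃ a : A, x = a ^ 2 ∧ y = a ^ 3) : HTop.IsSeminormalRing A := by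
  intro x y hxy
  obtain ⟨a, ha, ha'⟩ := h x y hxy
  exact ⟨a, ⟨ha, ha'⟩, fun b hb ↦ eq_of_sq_cube (hb.1.symm.trans ha) (hb.2.symm.trans ha')⟩

theorem away {A : Type u} [CommRing A] (f : A) (h : HTop.IsSeminormalRing A) :
    HTop.IsSeminormalRing (Localization.Away f) := by
  have := isReduced h
  have : IsReduced (Localization.Away f) := isReduced_localizationPreserves (Submonoid.powers f) (Localization.Away f) ‹_›
  refine of_exists fun x y hxy ↦ ?_
  obtain ⟨⟨a, ⟨_, n, rfl⟩⟩, ha⟩ := IsLocalization.surj (Submonoid.powers f) x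
  obtain ⟨⟨b, ⟨_, m, rfl⟩⟩, hb⟩ := IsLocalization.surj (Submonoid.powers f) y
  simp only [map_pow] at ha hb
  let φ := algebraMap A (Localization.Away f)
  -- clear denominators
  have e : φ (a * f ^ n * f ^ (2 * m)) ^ 3 = φ (b * f ^ (3 * n) * f ^ (2 * m)) ^ 2 := by
    simp only [φ, map_mul, map_pow, ← ha, ← hb]
    linear_combination (algebraMap A (Localization.Away f) f) ^ (6 * n + 6 * m) * hxy
  obtain ⟨⟨_, k, rfl⟩, hk⟩ := (IsLocalization.eq_iff_exists (Submonoid.powers f) (Localization.Away f)).mp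
    (show algebraMap A (Localization.Away f) ((a * f ^ n * f ^ (2 * m)) ^ 3) =
      algebraMap A (Localization.Away f) ((b * f ^ (3 * n) * f ^ (2 * m)) ^ 2) by
        rw [map_pow, map_pow]; exact e)
  simp only at hk
  obtain ⟨c, ⟨hc2, hc3⟩, -⟩ := h (a * f ^ n * f ^ (2 * m) * f ^ (2 * k)) (b * f ^ (3 * n) * f ^ (2 * m) * f ^ (3 * k)) (by
    linear_combination (f ^ k) ^ 5 * hk)
  have hu : IsUnit (φ f ^ (n + m + k)) := (IsLocalization.Away.algebraMap_isUnit f).pow _
  obtain ⟨v, hv⟩ := hu.exists_right_inv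
  have hcx : φ c ^ 2 = x * (φ f ^ (n + m + k)) ^ 2 := by
    rw [← map_pow, ← hc2]
    simp only [φ, map_mul, map_pow, ← ha]
    ring
  have hcy : φ c ^ 3 = y * (φ f ^ (n + m + k)) ^ 3 := by
    rw [← map_pow, ← hc3]
    simp only [φ, map_mul, map_pow, ← hb]
    ring
  exact ⟨φ c * v, by rw [mul_pow, hcx, mul_assoc, ← mul_pow, hv, one_pow, mul_one],
    by rw [mul_pow, hcy, mul_assoc, ← mul_pow, hv, one_pow, mul_one]⟩

theorem of_away {A : Type u} [CommRing A] (s : Finset A) (hs : Ideal.span (s : Set A) = ⊤)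
    (h : ∀ f ∈ s, HTop.IsSeminormalRing (Localization.Away f)) : HTop.IsSeminormalRing A := by
  have : IsReduced A := by
    refine ⟨fun z hz ↦ ?_⟩
    let I : Ideal A := (Submodule.span A {z}).annihilator
    suffices I = ⊤ by simpa [I, Submodule.mem_annihilator_span_singleton] using (this ▸ Submodule.mem_top : (1 : A) ∈ I)
    rw [← Ideal.radical_eq_top, eq_top_iff, ← hs, Ideal.span_le]
    intro f hf
    have := isReduced (h f hf)
    have hz' : algebraMap A (Localization.Away f) z = 0 := (hz.map _).eq_zero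
    obtain ⟨⟨_, k, rfl⟩, hk⟩ := (IsLocalization.map_eq_zero_iff (Submonoid.powers f) _ _).mp hz'
    exact ⟨k, (Submodule.mem_annihilator_span_singleton _ _).mpr hk⟩
  refine of_exists fun x y hxy ↦ ?_
  have mul_eq : ∀ {t t' a a' : A}, a ^ 2 = t ^ 2 * x → a ^ 3 = t ^ 3 * y → a' ^ 2 = t' ^ 2 * x →
      a' ^ 3 = t' ^ 3 * y → a * a' = t * t' * x ∧ a ^ 2 * a' = t ^ 2 * t' * y := by
    intro t t' a a' h2 h3 h2' h3'
    refine ⟨eq_of_sq_cube ?_ ?_, eq_of_sq_cube ?_ ?_⟩
    · linear_combination a' ^ 2 * h2 + t ^ 2 * x * h2'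
    · linear_combination a' ^ 3 * h3 + t ^ 3 * y * h3' - t ^ 3 * t' ^ 3 * hxy
    · linear_combination a' ^ 2 * (a ^ 2 + t ^ 2 * x) * h2 + t ^ 4 * x ^ 2 * h2' + t ^ 4 * t' ^ 2 * hxy
    · linear_combination a' ^ 3 * (a ^ 3 + t ^ 3 * y) * h3 + t ^ 6 * y ^ 2 * h3'
  let I : Ideal A :=
    { carrier := {t | ∃ a, a ^ 2 = t ^ 2 * x ∧ a ^ 3 = t ^ 3 * y}
      zero_mem' := ⟨0, by simp, by simp⟩
      add_mem' := by
        rintro t t' ⟨a, h2, h3⟩ ⟨a', h2', h3'⟩
        obtain ⟨e1, e2⟩ := mul_eq h2 h3 h2' h3'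
        obtain ⟨-, e3⟩ := mul_eq h2' h3' h2 h3
        refine ⟨a + a', ?_, ?_⟩
        · linear_combination h2 + h2' + 2 * e1
        · linear_combination h3 + h3' + 3 * e2 + 3 * e3
      smul_mem' := by
        rintro r t ⟨a, h2, h3⟩
        refine ⟨r * a, ?_, ?_⟩
        · simp only [smul_eq_mul]; linear_combination r ^ 2 * h2
        · simp only [smul_eq_mul]; linear_combination r ^ 3 * h3 }
  suffices I = ⊤ by
    obtain ⟨a, h2, h3⟩ := (this ▸ Submodule.mem_top : (1 : A) ∈ I)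
    exact ⟨a, by rw [h2]; ring, by rw [h3]; ring⟩
  rw [← Ideal.radical_eq_top, eq_top_iff, ← hs, Ideal.span_le]
  intro f hf
  obtain ⟨a, ⟨ha2, ha3⟩, -⟩ := h f hf (algebraMap A _ x) (algebraMap A _ y) (by rw [← map_pow, hxy, map_pow])
  obtain ⟨⟨c, ⟨_, n, rfl⟩⟩, hc⟩ := IsLocalization.surj (Submonoid.powers f) a
  simp only [map_pow] at hc
  have e2 : algebraMap A (Localization.Away f) (c ^ 2) = algebraMap A (Localization.Away f) ((f ^ n) ^ 2 * x) := by
    simp only [map_pow, map_mul, ← hc, ha2]; ring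
  have e3 : algebraMap A (Localization.Away f) (c ^ 3) = algebraMap A (Localization.Away f) ((f ^ n) ^ 3 * y) := by
    simp only [map_pow, map_mul, ← hc, ha3]; ring
  obtain ⟨⟨_, k, rfl⟩, hk⟩ := (IsLocalization.eq_iff_exists (Submonoid.powers f) _).mp e2
  obtain ⟨⟨_, l, rfl⟩, hl⟩ := (IsLocalization.eq_iff_exists (Submonoid.powers f) _).mp e3
  simp only at hk hl
  refine ⟨n + k + l, c * f ^ (k + l), ?_, ?_⟩
  · linear_combination f ^ k * f ^ (2 * l) * hk
  · linear_combination f ^ (3 * k) * f ^ (2 * l) * hl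

theorem isReduced_scheme {X : Scheme.{u}} (hX : HTop.IsSeminormal X) : AlgebraicGeometry.IsReduced X := by
  refine @isReduced_of_isReduced_stalk X ?_
  intro x
  obtain ⟨⟨U, hU⟩, hxU, hsn⟩ := hX x
  have := isReduced hsn
  letI := TopCat.Presheaf.algebra_section_stalk X.presheaf ⟨x, hxU⟩
  have := hU.isLocalization_stalk ⟨x, hxU⟩
  exact isReduced_localizationPreserves (hU.primeIdealOf ⟨x, hxU⟩).asIdeal.primeCompl
    (X.presheaf.stalk x) ‹_›

theorem of_isIntegrallyClosed {A : Type u} [CommRing A] [IsDomain A] [IsIntegrallyClosed A] :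
    HTop.IsSeminormalRing A := by
  refine of_exists fun x y hxy ↦ ?_
  by_cases hx : x = 0
  · exact ⟨0, by simp [hx], by
      rw [hx, zero_pow three_ne_zero] at hxy
      rw [zero_pow three_ne_zero]
      exact (pow_eq_zero_iff two_ne_zero).mp hxy.symm⟩
  let K := FractionRing A
  have hx' : algebraMap A K x ≠ 0 := (map_ne_zero_iff _ (IsFractionRing.injective A K)).mpr hx
  have hxy' : algebraMap A K x ^ 3 = algebraMap A K y ^ 2 := by rw [← map_pow, hxy, map_pow]
  have h2 : (algebraMap A K y / algebraMap A K x) ^ 2 = algebraMap A K x := by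
    rw [div_pow, div_eq_iff (pow_ne_zero _ hx'), ← hxy']; ring
  have h3 : (algebraMap A K y / algebraMap A K x) ^ 3 = algebraMap A K y := by
    rw [div_pow, div_eq_iff (pow_ne_zero _ hx'), hxy']; ring
  obtain ⟨a, ha⟩ : ∃ a, algebraMap A K a = algebraMap A K y / algebraMap A K x :=
    IsIntegrallyClosed.algebraMap_eq_of_integral
      (IsIntegral.of_pow (by norm_num : 0 < 2) (h2.symm ▸ isIntegral_algebraMap))
  refine ⟨a, IsFractionRing.injective A K ?_, IsFractionRing.injective A K ?_⟩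
  · rw [map_pow, ha, h2]
  · rw [map_pow, ha, h3]

end Groth.Agent.Misc9.SNRing
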