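import Groth.Agent.Misc9.Seminormal
import Mathlib.CategoryTheory.Limits.Constructions.Over.Connected
import Mathlib.Algebra.Category.Ring.FilteredColimits
import Mathlib.CategoryTheory.Limits.ConcreteCategory.Basic
import Mathlib.FieldTheory.IsAlgClosed.AlgebraicClosure
import Mathlib.AlgebraicGeometry.Morphisms.UniversallyInjective

/-! Consequences of the tower description of universal homeomorphisms. -/

universe u

namespace Groth.Agent.Misc9.SNAux

open AlgebraicGeometry CategoryTheory CategoryTheory.Limits Polynomial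
open Groth.Agent.Misc9.Seminormal
open Groth.Agent.UnivHomeo.Basic (InjPoints)

variable {A B : Type u} [CommRing A] [CommRing B] [Algebra A B]

theorem exists_step {step : Subalgebra A B → B → Prop}
    (hmono : ∀ (S T : Subalgebra A B) (b : B), step S b → S ≤ T → step T b)
    (htop : towerAlg hmono = ⊤) (hns : ¬ Function.Surjective (algebraMap A B)) :
    ∃ x, x ∉ (algebraMap A B).range ∧ step ⊥ x := by
  by_contra! hn
  refine hns fun b ↦ ?_
  obtain ⟨l, hl, hb⟩ : b ∈ towerAlg hmono := htop ▸ Algebra.mem_top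
  exact Algebra.mem_bot.mp (tower_le hl ⊥ (fun x hx ↦ Algebra.mem_bot.mpr
    (by_contra fun h ↦ hn x h hx)) hmono hb)

theorem single_tower {I : Ideal A[X]} {step : Subalgebra A (A[X] ⧸ I) → (A[X] ⧸ I) → Prop}
    (hmono : ∀ (S T : Subalgebra A (A[X] ⧸ I)) b, step S b → S ≤ T → step T b)
    (h : step ⊥ (Ideal.Quotient.mk I X)) (b : A[X] ⧸ I) :
    ∃ l : List (A[X] ⧸ I), Tower step l ∧ b ∈ Algebra.adjoin A {x | x ∈ l} := by
  refine ⟨[Ideal.Quotient.mk I X], fun i ↦ ?_, ?_⟩
  · have : [Ideal.Quotient.mk I X].get i = Ideal.Quotient.mk I X := by simp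
    rw [this]
    exact hmono _ _ _ h bot_le
  · obtain ⟨p, rfl⟩ := Ideal.Quotient.mk_surjective b
    have hset : Ideal.Quotient.mk I p = aeval (Ideal.Quotient.mk I X) p :=
      (DFunLike.congr_fun (Polynomial.aeval_algHom (Ideal.Quotient.mkₐ A I) X) p).trans (by simp) |>.symm
    rw [hset]
    exact Algebra.adjoin_mono (by simp) (Polynomial.aeval_mem_adjoin_singleton A _)

theorem comap_surjective_of_points {A B : Type u} [CommRing A] [CommRing B] (φ : A →+* B)
    (h : ∀ (K : Type u) [Field K] [IsAlgClosed K] (g : A →+* K), ∃ g' : B →+* K, g'.comp φ = g) :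
    Function.Surjective (PrimeSpectrum.comap φ) := by
  intro p
  let g : A →+* AlgebraicClosure p.asIdeal.ResidueField :=
    (algebraMap p.asIdeal.ResidueField _).comp (algebraMap A p.asIdeal.ResidueField)
  obtain ⟨g', hg'⟩ := h _ g
  refine ⟨⟨RingHom.ker g', RingHom.ker_isPrime g'⟩, PrimeSpectrum.ext ?_⟩
  show (RingHom.ker g').comap φ = _
  rw [RingHom.comap_ker, hg']
  ext a
  simp [g, RingHom.mem_ker]

theorem injPoints_subalgebra (B' : Subalgebra A B) (hint : (algebraMap A B).IsIntegral)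
    (h : InjPoints (algebraMap A B)) : InjPoints (algebraMap A B') := by
  intro K _ g₁ g₂ hg
  have hcomp : algebraMap A B = (algebraMap B' B).comp (algebraMap A B') := IsScalarTower.algebraMap_eq A B' B
  have hint' : (algebraMap B' B).IsIntegral := RingHom.IsIntegral.tower_top _ _ (hcomp ▸ hint)
  have : Algebra.IsIntegral B' B := ⟨hint'⟩
  have hext : ∀ g : B' →+* K, ∃ g' : B →+* AlgebraicClosure K,
      g'.comp (algebraMap B' B) = (algebraMap K (AlgebraicClosure K)).comp g := by
    intro g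
    let gg := (algebraMap K (AlgebraicClosure K)).comp g
    have hP : (RingHom.ker gg).IsPrime := RingHom.ker_isPrime gg
    obtain ⟨Q, -, hQ, hQp⟩ := Ideal.exists_ideal_over_prime_of_isIntegral (RingHom.ker gg) (⊥ : Ideal B)
      (by rw [show Ideal.comap (algebraMap B' B) ⊥ = RingHom.ker (algebraMap B' B) from rfl,
        (RingHom.injective_iff_ker_eq_bot _).mp Subtype.val_injective]; exact bot_le)
    obtain ⟨g', hg', -⟩ := Groth.Agent.UnivHomeo.Basic.exists_extend_of_isIntegral hint' gg Q hQp.symm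
    exact ⟨g', hg'⟩
  obtain ⟨e₁, he₁⟩ := hext g₁
  obtain ⟨e₂, he₂⟩ := hext g₂
  have he : e₁ = e₂ := h _ e₁ e₂ (by
    rw [hcomp, ← RingHom.comp_assoc, ← RingHom.comp_assoc, he₁, he₂, RingHom.comp_assoc,
      RingHom.comp_assoc, hg])
  ext x
  refine (algebraMap K (AlgebraicClosure K)).injective ?_
  exact (DFunLike.congr_fun he₁ x).symm.trans ((congr($he (algebraMap B' B x))).trans
    (DFunLike.congr_fun he₂ x))

theorem isIntegral_subalgebra (B' : Subalgebra A B) (hint : (algebraMap A B).IsIntegral) :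
    (algebraMap A B').IsIntegral := fun x ↦
  (isIntegral_algHom_iff (A := B') B'.val Subtype.val_injective).mp (hint (x : B))

theorem comap_surjective_subalgebra (B' : Subalgebra A B)
    (h : Function.Surjective (PrimeSpectrum.comap (algebraMap A B))) :
    Function.Surjective (PrimeSpectrum.comap (algebraMap A B')) := fun p ↦ by
  obtain ⟨q, rfl⟩ := h p
  exact ⟨PrimeSpectrum.comap (algebraMap B' B) q, rfl⟩

theorem resTriv_subalgebra (B' : Subalgebra A B) (hint : (algebraMap A B).IsIntegral)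
    (h : ResTriv (algebraMap A B)) : ResTriv (algebraMap A B') := by
  have hint' : (algebraMap B' B).IsIntegral :=
    RingHom.IsIntegral.tower_top _ _ ((IsScalarTower.algebraMap_eq A B' B) ▸ hint)
  have : Algebra.IsIntegral B' B := ⟨hint'⟩
  intro q hq b
  obtain ⟨Q, -, hQ, hQp⟩ := Ideal.exists_ideal_over_prime_of_isIntegral q (⊥ : Ideal B)
    (by rw [show Ideal.comap (algebraMap B' B) ⊥ = RingHom.ker (algebraMap B' B) from rfl,
      (RingHom.injective_iff_ker_eq_bot _).mp Subtype.val_injective]; exact bot_le)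
  obtain ⟨s, a, hs, ha⟩ := h Q hQ (b : B)
  subst hQp
  exact ⟨s, a, hs, ha⟩

theorem spec_universallyClosed_iff {A B : Type u} [CommRing A] [CommRing B] (φ : A →+* B) :
    UniversallyClosed (Spec.map (CommRingCat.ofHom φ)) ↔ φ.IsIntegral := by
  constructor
  · intro h
    exact IsIntegralHom.SpecMap_iff.mp
      (IsIntegralHom.iff_universallyClosed_and_isAffineHom.mpr ⟨h, inferInstance⟩)
  · intro h
    exact (IsIntegralHom.iff_universallyClosed_and_isAffineHom.mp (IsIntegralHom.SpecMap_iff.mpr h)).1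

/-- the seminormalisation -/
theorem relative_seminormalization (hker : RingHom.ker (algebraMap A B) ≤ nilradical A) :
    let B' := towerAlg (step := StepSC (A := A) (B := B)) (fun _ _ _ h hle ↦ h.mono hle)
    (FlatMor.IsUnivHomeo (Spec.map (CommRingCat.ofHom (algebraMap A B'))) ∧
      ResTriv (algebraMap A B')) ∧
    ∀ (C : Type u) [CommRing C] [Algebra A C] (g : C →ₐ[A] B),
      FlatMor.IsUnivHomeo (Spec.map (CommRingCat.ofHom (algebraMap A C))) →
      ResTriv (algebraMap A C) → g.range ≤ B' := by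
  intro B'
  classical
  have hB : ∀ b : B', ∃ l : List B', Tower (StepSC (A := A)) l ∧ b ∈ Algebra.adjoin A {x | x ∈ l} := by
    intro b
    obtain ⟨l, hl, hb⟩ := b.2
    have hlB : ∀ x ∈ l, x ∈ B' := fun x hx ↦ ⟨l, hl, Algebra.subset_adjoin hx⟩
    let l' : List B' := l.attach.map fun x ↦ ⟨x.1, hlB x.1 x.2⟩
    have hl' : l'.map Subtype.val = l := by simp [l', List.map_map, Function.comp_def]
    have key : ∀ (S : Set B') (x : B'), (x : B) ∈ Algebra.adjoin A (B'.val '' S) → x ∈ Algebra.adjoin A S := by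
      intro S x hx
      rw [← AlgHom.map_adjoin] at hx
      obtain ⟨y, hy, hyx⟩ := hx
      rwa [← Subtype.ext hyx]
    refine ⟨l', fun i ↦ ?_, key _ b ?_⟩
    · have hlen : l'.length = l.length := by simp [l']
      have hget : ∀ j : Fin l'.length, ((l'.get j : B') : B) = l.get (Fin.cast hlen j) := fun j ↦ by
        simp [l']
      have hset : B'.val '' {x | ∃ j : Fin l'.length, j < i ∧ x = l'.get j} =
          {x | ∃ j : Fin l.length, j < Fin.cast hlen i ∧ x = l.get j} := by
        ext x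
        constructor
        · rintro ⟨_, ⟨j, hj, rfl⟩, rfl⟩
          exact ⟨Fin.cast hlen j, hj, hget j⟩
        · rintro ⟨j, hj, rfl⟩
          exact ⟨_, ⟨Fin.cast hlen.symm j, hj, rfl⟩, hget _⟩
      obtain ⟨h2, h3⟩ := hl (Fin.cast hlen i)
      rw [← hget i, ← hset] at h2 h3
      exact ⟨key _ _ h2, key _ _ h3⟩
    · convert hb using 2
      congr 1
      ext x
      simp only [Set.mem_image, Set.mem_ofPred_eq]
      constructor
      · rintro ⟨y, hy, rfl⟩
        rw [← hl']
        exact List.mem_map.mpr ⟨y, hy, rfl⟩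
      · intro hx
        rw [← hl'] at hx
        obtain ⟨y, hy, rfl⟩ := List.mem_map.mp hx
        exact ⟨y, hy, rfl⟩
  have hint : (algebraMap A B').IsIntegral := fun b ↦ by
    obtain ⟨l, hl, hb⟩ := hB b
    exact tower_le (step := fun S x ↦ StepSC S x ∧ S ≤ S) (fun i ↦ ⟨hl i, le_rfl⟩) (integralClosure A B')
      (fun x hx ↦ stepSC_integral hx.1 le_rfl) (fun S T x hx hle ↦ ⟨hx.1.mono hle, le_rfl⟩) hb
  have : Algebra.IsIntegral A B' := ⟨hint⟩
  have hsurj : Function.Surjective (PrimeSpectrum.comap (algebraMap A B')) := by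
    intro p
    obtain ⟨Q, -, hQ, hQp⟩ := Ideal.exists_ideal_over_prime_of_isIntegral p.asIdeal (⊥ : Ideal B') (by
      intro a ha
      refine nilradical_le_prime p.asIdeal (hker ?_)
      rw [RingHom.mem_ker, IsScalarTower.algebraMap_apply A B' B, (show algebraMap A B' a = 0 from ha), map_zero])
    exact ⟨⟨Q, hQ⟩, PrimeSpectrum.ext hQp⟩
  refine ⟨⟨univHomeo_of_towers' hsurj fun b ↦ (hB b).imp fun l hl ↦ ⟨fun i ↦ Or.inl (hl.1 i), hl.2⟩,
    resTriv_of_towers hB⟩, ?_⟩
  rintro C _ _ g hU hR _ ⟨c, rfl⟩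
  obtain ⟨l, hl, hc⟩ : c ∈ towerAlg (step := StepSC (A := A) (B := C)) (fun _ _ _ h hle ↦ h.mono hle) :=
    towers_of_univHomeo_resTriv hU hR ▸ Algebra.mem_top
  refine ⟨l.map g, fun i ↦ ?_, ?_⟩
  · have hlen : (l.map g).length = l.length := by simp
    have hget : ∀ j : Fin (l.map g).length, (l.map g).get j = g (l.get (Fin.cast hlen j)) := fun j ↦ by simp
    have hset : g '' {x | ∃ j : Fin l.length, j < Fin.cast hlen i ∧ x = l.get j} =
        {x | ∃ j : Fin (l.map g).length, j < i ∧ x = (l.map g).get j} := by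
      ext x
      constructor
      · rintro ⟨_, ⟨j, hj, rfl⟩, rfl⟩
        exact ⟨Fin.cast hlen.symm j, hj, by simp⟩
      · rintro ⟨j, hj, rfl⟩
        exact ⟨_, ⟨Fin.cast hlen j, hj, rfl⟩, (hget j).symm⟩
    obtain ⟨h2, h3⟩ := hl (Fin.cast hlen i)
    rw [hget i, StepSC, ← map_pow, ← map_pow, ← hset, ← AlgHom.map_adjoin]
    exact ⟨⟨_, h2, rfl⟩, ⟨_, h3, rfl⟩⟩
  · have : {x | x ∈ l.map g} = g '' {x | x ∈ l} := by ext; simp
    rw [this, ← AlgHom.map_adjoin]
    exact ⟨c, hc, rfl⟩

section Colim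

variable {R : CommRingCat.{u}} {J : Type u} [SmallCategory J] [IsFiltered J] {F : J ⥤ Under R}
  {c : Cocone F} (hc : IsColimit c)

include hc in
theorem exists_rep (b : c.pt.right) : ∃ (j : J) (x : (F.obj j).right), (c.ι.app j).right x = b := by
  have : IsConnected J := IsFiltered.isConnected J
  exact Concrete.isColimit_exists_rep (F ⋙ Under.forget R) (isColimitOfPreserves (Under.forget R) hc) b

include hc in
theorem exists_eq {j : J} (x y : (F.obj j).right) (h : (c.ι.app j).right x = (c.ι.app j).right y) :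
    ∃ (k : J) (f : j ⟶ k), (F.map f).right x = (F.map f).right y := by
  have : IsConnected J := IsFiltered.isConnected J
  obtain ⟨k, f, g, hk⟩ := Concrete.isColimit_exists_of_rep_eq (F ⋙ Under.forget R)
    (isColimitOfPreserves (Under.forget R) hc) x y h
  obtain ⟨l, e, he⟩ : ∃ (l : J) (e : k ⟶ l), f ≫ e = g ≫ e :=
    ⟨_, IsFiltered.coeqHom f g, IsFiltered.coeq_condition f g⟩
  refine ⟨l, f ≫ e, ?_⟩
  have hx : ∀ {i m : J} (u : j ⟶ i) (v : i ⟶ m) z,
      (F.map (u ≫ v)).right z = (F.map v).right ((F.map u).right z) := fun u v z ↦ by simp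
  calc (F.map (f ≫ e)).right x = (F.map e).right ((F.map f).right x) := hx f e x
    _ = (F.map e).right ((F.map g).right y) := by exact congrArg _ hk
    _ = (F.map (g ≫ e)).right y := (hx g e y).symm
    _ = _ := by rw [he]

theorem app_hom (j : J) (a : R) : (c.ι.app j).right ((F.obj j).hom a) = c.pt.hom a :=
  DFunLike.congr_fun (congrArg CommRingCat.Hom.hom (Under.w (c.ι.app j))) a

include hc in
theorem colim_isIntegral (h : ∀ j, (F.obj j).hom.hom.IsIntegral) : c.pt.hom.hom.IsIntegral := fun b ↦ by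
  obtain ⟨j, x, rfl⟩ := exists_rep hc b
  obtain ⟨p, hp, hpx⟩ := h j x
  refine ⟨p, hp, ?_⟩
  have : c.pt.hom.hom = (c.ι.app j).right.hom.comp (F.obj j).hom.hom :=
    RingHom.ext fun a ↦ (app_hom j a).symm
  rw [this, ← Polynomial.hom_eval₂, hpx, map_zero]

include hc in
theorem colim_injPoints (h : ∀ j, InjPoints (F.obj j).hom.hom) : InjPoints c.pt.hom.hom := by
  intro K _ g₁ g₂ hg
  ext b
  obtain ⟨j, x, rfl⟩ := exists_rep hc b
  refine DFunLike.congr_fun (h j K (g₁.comp (c.ι.app j).right.hom) (g₂.comp (c.ι.app j).right.hom) ?_) x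
  ext a
  simp only [RingHom.comp_apply]
  rw [app_hom]
  exact DFunLike.congr_fun hg a

include hc in
theorem colim_resTriv (h : ∀ j, ResTriv (F.obj j).hom.hom) : ResTriv c.pt.hom.hom := by
  intro q hq b
  obtain ⟨j, x, rfl⟩ := exists_rep hc b
  obtain ⟨s, a, hs, ha⟩ := h j (q.comap (c.ι.app j).right.hom) inferInstance x
  rw [Ideal.mem_comap, Ideal.mem_comap, app_hom] at hs
  rw [Ideal.mem_comap, map_sub, map_mul, app_hom, app_hom] at ha
  exact ⟨s, a, hs, ha⟩

include hc in
theorem colim_comap_surjective (h : ∀ j, Function.Surjective (PrimeSpectrum.comap (F.obj j).hom.hom)) :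
    Function.Surjective (PrimeSpectrum.comap c.pt.hom.hom) := by
  intro p
  apply (PrimeSpectrum.mem_range_comap_iff (f := c.pt.hom.hom)).mpr
  refine le_antisymm ?_ Ideal.le_comap_map
  intro a ha
  have key : ∀ b ∈ p.asIdeal.map c.pt.hom.hom, ∃ (j : J) (x : (F.obj j).right),
      x ∈ p.asIdeal.map (F.obj j).hom.hom ∧ (c.ι.app j).right x = b := by
    intro b hb
    induction hb using Submodule.span_induction with
    | mem b hb =>
      obtain ⟨y, hy, rfl⟩ := hb
      obtain ⟨j⟩ := IsFiltered.nonempty (C := J)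
      exact ⟨j, _, Ideal.mem_map_of_mem _ hy, app_hom j y⟩
    | zero =>
      obtain ⟨j⟩ := IsFiltered.nonempty (C := J)
      exact ⟨j, 0, zero_mem _, map_zero (c.ι.app j).right.hom⟩
    | add x y _ _ hx hy =>
      obtain ⟨i, x, hxm, rfl⟩ := hx
      obtain ⟨j, y, hym, rfl⟩ := hy
      have hmap : ∀ {i k : J} (f : i ⟶ k) (z : (F.obj i).right), z ∈ p.asIdeal.map (F.obj i).hom.hom →
          (F.map f).right z ∈ p.asIdeal.map (F.obj k).hom.hom := fun {i k} f z hz ↦ by
        have := Ideal.mem_map_of_mem (F.map f).right.hom hz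
        rw [Ideal.map_map, show (F.map f).right.hom.comp (F.obj i).hom.hom = (F.obj k).hom.hom from
          congrArg CommRingCat.Hom.hom (Under.w (F.map f))] at this
        exact this
      have hw : ∀ {i k : J} (f : i ⟶ k) (z : (F.obj i).right),
          (c.ι.app k).right ((F.map f).right z) = (c.ι.app i).right z := fun {i k} f z ↦
        DFunLike.congr_fun (congrArg (fun t : F.obj i ⟶ c.pt => CommRingCat.Hom.hom t.right) (c.w f)) z
      refine ⟨IsFiltered.max i j, _, add_mem (hmap (IsFiltered.leftToMax i j) x hxm)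
        (hmap (IsFiltered.rightToMax i j) y hym), ?_⟩
      exact (map_add (c.ι.app _).right.hom _ _).trans (congrArg₂ (· + ·) (hw _ x) (hw _ y))
    | smul r x _ hx =>
      obtain ⟨i, x, hxm, rfl⟩ := hx
      obtain ⟨j, r, rfl⟩ := exists_rep hc r
      have hmap : ∀ {i k : J} (f : i ⟶ k) (z : (F.obj i).right), z ∈ p.asIdeal.map (F.obj i).hom.hom →
          (F.map f).right z ∈ p.asIdeal.map (F.obj k).hom.hom := fun {i k} f z hz ↦ by
        have := Ideal.mem_map_of_mem (F.map f).right.hom hz
        rw [Ideal.map_map, show (F.map f).right.hom.comp (F.obj i).hom.hom = (F.obj k).hom.hom from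
          congrArg CommRingCat.Hom.hom (Under.w (F.map f))] at this
        exact this
      have hw : ∀ {i k : J} (f : i ⟶ k) (z : (F.obj i).right),
          (c.ι.app k).right ((F.map f).right z) = (c.ι.app i).right z := fun {i k} f z ↦
        DFunLike.congr_fun (congrArg (fun t : F.obj i ⟶ c.pt => CommRingCat.Hom.hom t.right) (c.w f)) z
      refine ⟨IsFiltered.max i j, _, Ideal.mul_mem_left _ ((F.map (IsFiltered.rightToMax i j)).right r)
        (hmap (IsFiltered.leftToMax i j) x hxm), ?_⟩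
      exact (map_mul (c.ι.app _).right.hom _ _).trans (congrArg₂ (· * ·) (hw _ r) (hw _ x))
  obtain ⟨j, x, hx, hxa⟩ := key _ ha
  obtain ⟨k, f, hk⟩ := exists_eq hc x ((F.obj j).hom a) (hxa.trans (app_hom j a).symm)
  have hfa : (F.map f).right ((F.obj j).hom a) = (F.obj k).hom a :=
    DFunLike.congr_fun (congrArg CommRingCat.Hom.hom (Under.w (F.map f))) a
  have hmem : (F.obj k).hom a ∈ p.asIdeal.map (F.obj k).hom.hom := by
    rw [← hfa, ← hk]
    have := Ideal.mem_map_of_mem (F.map f).right.hom hx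
    rw [Ideal.map_map, show (F.map f).right.hom.comp (F.obj j).hom.hom = (F.obj k).hom.hom from
      congrArg CommRingCat.Hom.hom (Under.w (F.map f))] at this
    exact this
  exact ((PrimeSpectrum.mem_range_comap_iff (f := (F.obj k).hom.hom)).mp (h k p)).le hmem

end Colim

end Groth.Agent.Misc9.SNAux
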