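import Groth.Agent.Misc9.SNAux
import Groth.Agent.Misc9.SNRing
import Groth.Agent.Misc9.PerfUH
import Groth.Agent.HTopAWN.Exists
import Groth.Agent.S7402
import Groth.Agent.S7403
import Mathlib.FieldTheory.PerfectClosure

/-! Absolutely weakly normal rings. -/

universe u

namespace Groth.Agent.Misc9.AWNRing

open AlgebraicGeometry CategoryTheory
open Groth.Agent.Misc9.Seminormal
open Groth.Agent.UnivHomeo.Basic

section

variable {A B C : Type u} [CommRing A] [CommRing B] [CommRing C]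

theorem injPoints_comp {φ : A →+* B} {ψ : B →+* C} (h : InjPoints φ) (h' : InjPoints ψ) :
    InjPoints (ψ.comp φ) := fun K _ g₁ g₂ hg ↦ h' K g₁ g₂ (h K _ _ (by
      rw [RingHom.comp_assoc, RingHom.comp_assoc]; exact hg))

theorem univHomeo_comp {φ : A →+* B} {ψ : B →+* C}
    (h : FlatMor.IsUnivHomeo (Spec.map (CommRingCat.ofHom φ)))
    (h' : FlatMor.IsUnivHomeo (Spec.map (CommRingCat.ofHom ψ))) :
    FlatMor.IsUnivHomeo (Spec.map (CommRingCat.ofHom (ψ.comp φ))) := by
  obtain ⟨a, b, c⟩ := (isUnivHomeo_spec_iff φ).mp h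
  obtain ⟨a', b', c'⟩ := (isUnivHomeo_spec_iff ψ).mp h'
  refine (isUnivHomeo_spec_iff _).mpr ⟨RingHom.IsIntegral.trans φ ψ a a', ?_, injPoints_comp c c'⟩
  rw [PrimeSpectrum.comap_comp]
  exact b.comp b'

theorem univHomeo_of_bijective {φ : A →+* B} (h : Function.Bijective φ) :
    FlatMor.IsUnivHomeo (Spec.map (CommRingCat.ofHom φ)) := by
  refine (isUnivHomeo_spec_iff _).mpr ⟨RingHom.isIntegral_of_surjective φ h.2, ?_, ?_⟩
  · intro P
    let e := RingEquiv.ofBijective φ h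
    refine ⟨PrimeSpectrum.comap e.symm.toRingHom P, ?_⟩
    rw [← PrimeSpectrum.comap_comp_apply, show e.symm.toRingHom.comp φ = RingHom.id A from
      RingHom.ext fun a ↦ e.symm_apply_apply a]
    rfl
  · intro K _ g₁ g₂ hg
    ext b
    obtain ⟨a, rfl⟩ := h.2 b
    exact DFunLike.congr_fun hg a

theorem univHomeo_red : FlatMor.IsUnivHomeo
    (Spec.map (CommRingCat.ofHom (Ideal.Quotient.mk (nilradical B)))) := by
  refine (isUnivHomeo_spec_iff _).mpr ⟨RingHom.isIntegral_of_surjective _ Ideal.Quotient.mk_surjective, ?_, ?_⟩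
  · intro P
    have hle : RingHom.ker (Ideal.Quotient.mk (nilradical B)) ≤ P.asIdeal := by
      rw [Ideal.mk_ker]; exact nilradical_le_prime P.asIdeal
    refine ⟨⟨P.asIdeal.map (Ideal.Quotient.mk (nilradical B)),
      Ideal.map_isPrime_of_surjective Ideal.Quotient.mk_surjective hle⟩, PrimeSpectrum.ext ?_⟩
    show (P.asIdeal.map _).comap _ = _
    rw [Ideal.comap_map_of_surjective _ Ideal.Quotient.mk_surjective, sup_eq_left]
    exact hle
  · intro K _ g₁ g₂ hg
    exact Ideal.Quotient.ringHom_ext hg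

theorem isReduced_of_isRingAWN {φ : A →+* B} (h : HTop.IsRingAWN φ) : IsReduced B := by
  obtain ⟨χ, hχ, -⟩ := h.2 _ _ (univHomeo_comp h.1 (univHomeo_red (B := B)))
  have hid := (h.2 B φ h.1).unique (y₁ := χ.comp (Ideal.Quotient.mk (nilradical B))) (y₂ := RingHom.id B)
    (by rw [RingHom.comp_assoc]; exact hχ) (RingHom.id_comp φ)
  refine ⟨fun b hb ↦ ?_⟩
  have := DFunLike.congr_fun hid b
  rw [RingHom.comp_apply, Ideal.Quotient.eq_zero_iff_mem.mpr (mem_nilradical.mpr hb), map_zero] at this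
  exact this.symm

theorem eq_of_pow_mul {p : ℕ} (hp : p.Prime) [IsReduced A] {c d : A} (h1 : c ^ p = d ^ p)
    (h2 : (p : A) * c = (p : A) * d) : c = d := by
  obtain ⟨r, hr⟩ := exists_add_pow_prime_eq hp d (c - d)
  rw [add_sub_cancel, h1, show (p : A) * d * (c - d) * r = d * ((p : A) * c - p * d) * r by ring, h2,
    sub_self, mul_zero, zero_mul, add_zero] at hr
  exact sub_eq_zero.mp (eq_zero_of_pow_eq_zero (by linear_combination -hr : (c - d) ^ p = 0))

theorem of_exists_awn [IsReduced A] (h : HTop.IsSeminormalRing A)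
    (h' : ∀ p : ℕ, p.Prime → ∀ x y : A, (p : A) ^ p * x = y ^ p → ∃ a : A, x = a ^ p ∧ y = (p : A) * a) :
    HTop.IsAWNRing A := by
  refine ⟨h, fun p hp x y hxy ↦ ?_⟩
  obtain ⟨a, ha, ha'⟩ := h' p hp x y hxy
  exact ⟨a, ⟨ha, ha'⟩, fun b hb ↦ eq_of_pow_mul hp (hb.1.symm.trans ha) (hb.2.symm.trans ha')⟩

theorem isAWNRing_of_isRingAWN {φ : A →+* B} (h : HTop.IsRingAWN φ) : HTop.IsAWNRing B := by
  have := isReduced_of_isRingAWN h
  have key : ∀ {I : Ideal (Polynomial B)},
      FlatMor.IsUnivHomeo (Spec.map (CommRingCat.ofHom (algebraMap B (Polynomial B ⧸ I)))) →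
      ∃ a : B, ∀ f ∈ I, f.eval a = 0 := by
    intro I hI
    obtain ⟨χ, hχ, -⟩ := h.2 _ _ (univHomeo_comp h.1 hI)
    have hid := (h.2 B φ h.1).unique (y₁ := χ.comp (algebraMap B _)) (y₂ := RingHom.id B)
      (by rw [RingHom.comp_assoc]; exact hχ) (RingHom.id_comp φ)
    refine ⟨χ (Ideal.Quotient.mk I Polynomial.X), fun f hf ↦ ?_⟩
    have e : χ.comp (Ideal.Quotient.mk I) = Polynomial.evalRingHom (χ (Ideal.Quotient.mk I Polynomial.X)) := by
      refine Polynomial.ringHom_ext (fun b ↦ ?_) (by simp)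
      simp only [Polynomial.coe_evalRingHom, Polynomial.eval_C]
      exact DFunLike.congr_fun hid b
    have := DFunLike.congr_fun e f
    rw [RingHom.comp_apply, Ideal.Quotient.eq_zero_iff_mem.mpr hf, map_zero] at this
    exact this.symm
  refine of_exists_awn (SNRing.of_exists fun x y hxy ↦ ?_) fun p hp x y hxy ↦ ?_
  · obtain ⟨a, ha⟩ := key (Groth.Agent.S7402.result B x y hxy).1
    have h2 := ha _ (Ideal.subset_span (Set.mem_insert _ _))
    have h3 := ha _ (Ideal.subset_span (Set.mem_insert_of_mem _ rfl))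
    simp only [Polynomial.eval_sub, Polynomial.eval_pow, Polynomial.eval_X, Polynomial.eval_C, sub_eq_zero] at h2 h3
    exact ⟨a, h2.symm, h3.symm⟩
  · obtain ⟨a, ha⟩ := key (Groth.Agent.S7403.result B p hp x y hxy)
    have h2 := ha _ (Ideal.subset_span (Set.mem_insert _ _))
    have h3 := ha _ (Ideal.subset_span (Set.mem_insert_of_mem _ rfl))
    simp only [Polynomial.eval_sub, Polynomial.eval_pow, Polynomial.eval_mul, Polynomial.eval_X,
      Polynomial.eval_C, sub_eq_zero] at h2 h3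
    exact ⟨a, h2.symm, h3.symm⟩

theorem bijective_of_isAWN (φ : A →+* B) (hA : HTop.IsAWNRing A) [IsReduced B]
    (hU : FlatMor.IsUnivHomeo (Spec.map (CommRingCat.ofHom φ))) : Function.Bijective φ := by
  letI := φ.toAlgebra
  have := SNRing.isReduced hA.1
  constructor
  · rw [injective_iff_map_eq_zero]
    intro a ha
    refine IsNilpotent.eq_zero ?_
    rw [← mem_nilradical, nilradical_eq_sInf, Submodule.mem_sInf]
    intro P hP
    obtain ⟨Q, hQ⟩ := ((isUnivHomeo_spec_iff φ).mp hU).2.1 ⟨P, hP⟩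
    have e : Q.asIdeal.comap φ = P := congrArg PrimeSpectrum.asIdeal hQ
    rw [← e, Ideal.mem_comap, ha]
    exact Ideal.zero_mem _
  · have hinj : Function.Injective φ := by
      rw [injective_iff_map_eq_zero]
      intro a ha
      refine IsNilpotent.eq_zero ?_
      rw [← mem_nilradical, nilradical_eq_sInf, Submodule.mem_sInf]
      intro P hP
      obtain ⟨Q, hQ⟩ := ((isUnivHomeo_spec_iff φ).mp hU).2.1 ⟨P, hP⟩
      have e : Q.asIdeal.comap φ = P := congrArg PrimeSpectrum.asIdeal hQ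
      rw [← e, Ideal.mem_comap, ha]
      exact Ideal.zero_mem _
    by_contra hns
    obtain ⟨x, hx, ⟨h2, h3⟩ | ⟨p, hp, h1, h2⟩⟩ :=
      SNAux.exists_step (A := A) (B := B) (step := StepSCP) _ (towers_of_univHomeo hU) hns
    · obtain ⟨a, ha : φ a = x ^ 2⟩ := Algebra.mem_bot.mp h2
      obtain ⟨b, hb : φ b = x ^ 3⟩ := Algebra.mem_bot.mp h3
      obtain ⟨c, ⟨hc, hc'⟩, -⟩ := hA.1 a b (hinj (by rw [map_pow, map_pow, ha, hb]; ring))
      exact hx ⟨c, SNRing.eq_of_sq_cube (show φ c ^ 2 = x ^ 2 by rw [← map_pow, ← hc, ha])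
        (show φ c ^ 3 = x ^ 3 by rw [← map_pow, ← hc', hb])⟩
    · obtain ⟨b, hb : φ b = (p : B) * x⟩ := Algebra.mem_bot.mp h1
      obtain ⟨a, ha : φ a = x ^ p⟩ := Algebra.mem_bot.mp h2
      obtain ⟨c, ⟨hc, hc'⟩, -⟩ := hA.2 p hp a b (hinj (by
        rw [map_mul, map_pow, map_pow, map_natCast, ha, hb]; ring))
      exact hx ⟨c, eq_of_pow_mul hp (show φ c ^ p = x ^ p by rw [← map_pow, ← hc, ha])
        (show (p : B) * φ c = (p : B) * x by rw [← map_natCast φ p, ← map_mul, ← hc', hb, map_natCast])⟩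

theorem bijective_of_isSN (φ : A →+* B) (hA : HTop.IsSeminormalRing A) [IsReduced B]
    (hU : FlatMor.IsUnivHomeo (Spec.map (CommRingCat.ofHom φ))) (hr : ResTriv φ) : Function.Bijective φ := by
  letI := φ.toAlgebra
  have := SNRing.isReduced hA
  have hinj : Function.Injective φ := by
    rw [injective_iff_map_eq_zero]
    intro a ha
    refine IsNilpotent.eq_zero ?_
    rw [← mem_nilradical, nilradical_eq_sInf, Submodule.mem_sInf]
    intro P hP
    obtain ⟨Q, hQ⟩ := ((isUnivHomeo_spec_iff φ).mp hU).2.1 ⟨P, hP⟩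
    have e : Q.asIdeal.comap φ = P := congrArg PrimeSpectrum.asIdeal hQ
    rw [← e, Ideal.mem_comap, ha]
    exact Ideal.zero_mem _
  refine ⟨hinj, ?_⟩
  by_contra hns
  obtain ⟨x, hx, h2, h3⟩ :=
    SNAux.exists_step (A := A) (B := B) (step := StepSC) _ (towers_of_univHomeo_resTriv hU hr) hns
  obtain ⟨a, ha : φ a = x ^ 2⟩ := Algebra.mem_bot.mp h2
  obtain ⟨b, hb : φ b = x ^ 3⟩ := Algebra.mem_bot.mp h3
  obtain ⟨c, ⟨hc, hc'⟩, -⟩ := hA a b (hinj (by rw [map_pow, map_pow, ha, hb]; ring))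
  exact hx ⟨c, SNRing.eq_of_sq_cube (show φ c ^ 2 = x ^ 2 by rw [← map_pow, ← hc, ha])
    (show φ c ^ 3 = x ^ 3 by rw [← map_pow, ← hc', hb])⟩

theorem sn_of_equiv (e : A ≃+* B) (h : HTop.IsSeminormalRing A) : HTop.IsSeminormalRing B := by
  have := SNRing.isReduced h
  have : IsReduced B := isReduced_of_injective e.symm.toRingHom e.symm.injective
  refine SNRing.of_exists fun x y hxy ↦ ?_
  obtain ⟨a, ⟨h1, h2⟩, -⟩ := h (e.symm x) (e.symm y) (by rw [← map_pow, hxy, map_pow])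
  exact ⟨e a, by rw [← map_pow, ← h1, e.apply_symm_apply], by rw [← map_pow, ← h2, e.apply_symm_apply]⟩

theorem awn_of_equiv (e : A ≃+* B) (h : HTop.IsAWNRing A) : HTop.IsAWNRing B := by
  have := SNRing.isReduced h.1
  have : IsReduced B := isReduced_of_injective e.symm.toRingHom e.symm.injective
  refine of_exists_awn (sn_of_equiv e h.1) fun p hp x y hxy ↦ ?_
  obtain ⟨a, ⟨h1, h2⟩, -⟩ := h.2 p hp (e.symm x) (e.symm y) (by
    rw [← map_natCast e.symm p, ← map_pow, ← map_mul, hxy, map_pow])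
  exact ⟨e a, by rw [← map_pow, ← h1, e.apply_symm_apply],
    by rw [← map_natCast e p, ← map_mul, ← h2, e.apply_symm_apply]⟩

theorem comparison_iff {W : Type u} [CommRing W] (φ : A →+* W) (hφ : HTop.IsRingAWN φ) (ψ : A →+* B)
    (hψ : FlatMor.IsUnivHomeo (Spec.map (CommRingCat.ofHom ψ))) (χ : B →+* W) (hχ : χ.comp ψ = φ) :
    Function.Bijective χ ↔ HTop.IsAWNRing B := by
  refine ⟨fun h ↦ awn_of_equiv (RingEquiv.ofBijective χ h).symm (isAWNRing_of_isRingAWN hφ), fun h ↦ ?_⟩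
  have := isReduced_of_isRingAWN hφ
  obtain ⟨a, b, c⟩ := (isUnivHomeo_spec_iff φ).mp hφ.1
  obtain ⟨a', b', c'⟩ := (isUnivHomeo_spec_iff ψ).mp hψ
  refine bijective_of_isAWN χ h ((isUnivHomeo_spec_iff χ).mpr ⟨RingHom.IsIntegral.tower_top ψ χ (hχ ▸ a), ?_, ?_⟩)
  · intro P
    obtain ⟨Q, hQ⟩ := b (PrimeSpectrum.comap ψ P)
    refine ⟨Q, comap_injective_of_injPoints c' ?_⟩
    rw [← PrimeSpectrum.comap_comp_apply, hχ, hQ]
  · intro K _ g₁ g₂ hg
    exact c K g₁ g₂ (by rw [← hχ, ← RingHom.comp_assoc, ← RingHom.comp_assoc, hg])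

theorem isRingAWN_of (φ : A →+* B) (hB : HTop.IsAWNRing B)
    (hφ : FlatMor.IsUnivHomeo (Spec.map (CommRingCat.ofHom φ))) : HTop.IsRingAWN φ := by
  refine ⟨hφ, fun C _ ψ hψ ↦ ?_⟩
  have hW := Groth.Agent.HTopAWN.W_isRingAWN A
  obtain ⟨χ, hχ, -⟩ := hW.2 B φ hφ
  have hb := (comparison_iff _ hW φ hφ χ hχ).mpr hB
  let e := RingEquiv.ofBijective χ hb
  obtain ⟨χ', hχ', hu⟩ := hW.2 C ψ hψ
  refine ⟨e.symm.toRingHom.comp χ', ?_, fun g hg ↦ ?_⟩
  · ext a
    refine hb.1 ?_
    show χ (e.symm (χ' (ψ a))) = χ (φ a)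
    rw [show χ (e.symm (χ' (ψ a))) = χ' (ψ a) from e.apply_symm_apply _]
    exact (DFunLike.congr_fun hχ' a).trans (DFunLike.congr_fun hχ a).symm
  · ext c
    refine hb.1 ?_
    show χ (g c) = χ (e.symm (χ' c))
    rw [show χ (e.symm (χ' c)) = χ' c from e.apply_symm_apply _,
      ← hu (χ.comp g) (show (χ.comp g).comp ψ = _ by rw [RingHom.comp_assoc, hg, hχ])]
    rfl

theorem away (f : A) (h : HTop.IsAWNRing A) : HTop.IsAWNRing (Localization.Away f) := by
  have := SNRing.isReduced h.1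
  have : IsReduced (Localization.Away f) := isReduced_localizationPreserves (Submonoid.powers f) (Localization.Away f) ‹_›
  refine of_exists_awn (SNRing.away f h.1) fun p hp x y hxy ↦ ?_
  obtain ⟨⟨a, ⟨_, n, rfl⟩⟩, ha⟩ := IsLocalization.surj (Submonoid.powers f) x
  obtain ⟨⟨b, ⟨_, m, rfl⟩⟩, hb⟩ := IsLocalization.surj (Submonoid.powers f) y
  simp only [map_pow] at ha hb
  let φ := algebraMap A (Localization.Away f)
  obtain ⟨q, hq⟩ := Nat.exists_eq_add_of_le hp.one_le
  have e : algebraMap A (Localization.Away f) ((p : A) ^ p * (a * f ^ (n * q) * f ^ (m * p))) =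
      algebraMap A (Localization.Away f) ((b * f ^ n) ^ p) := by
    simp only [map_mul, map_pow, map_natCast, ← ha, ← hb]
    have hf : φ f ^ n * φ f ^ (n * q) = (φ f ^ n) ^ p := by rw [← pow_add, ← pow_mul, hq]; ring
    linear_combination (φ f ^ n * φ f ^ (n * q) * φ f ^ (m * p)) * hxy + (y ^ p * φ f ^ (m * p)) * hf
  obtain ⟨⟨_, k, rfl⟩, hk⟩ := (IsLocalization.eq_iff_exists (Submonoid.powers f) _).mp e
  simp only at hk
  obtain ⟨c, ⟨hc2, hc3⟩, -⟩ := h.2 p hp (a * f ^ (n * q) * f ^ (m * p) * f ^ (k * p)) (b * f ^ n * f ^ k) (by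
    have hkp : f ^ k * f ^ (k * q) = (f ^ k) ^ p := by rw [← pow_add, ← pow_mul, hq]; ring
    have hkp' : f ^ (k * p) = (f ^ k) ^ p := pow_mul f k p
    linear_combination f ^ (k * q) * hk + ((p : A) ^ p * a * f ^ (n * q) * f ^ (m * p)) * (hkp' - hkp)
      + (b * f ^ n) ^ p * hkp)
  have hu : IsUnit (φ f ^ (n + m + k)) := (IsLocalization.Away.algebraMap_isUnit f).pow _
  obtain ⟨v, hv⟩ := hu.exists_right_inv
  have hcx : φ c ^ p = x * (φ f ^ (n + m + k)) ^ p := by
    rw [← map_pow, ← hc2]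
    simp only [φ, map_mul, map_pow, ← ha]
    rw [hq]; ring
  have hcy : (p : Localization.Away f) * φ c = y * φ f ^ (n + m + k) := by
    rw [← map_natCast φ p, ← map_mul, ← hc3]
    simp only [φ, map_mul, map_pow, ← hb]
    ring
  exact ⟨φ c * v, by rw [mul_pow, hcx, mul_assoc, ← mul_pow, hv, one_pow, mul_one],
    by rw [← mul_assoc, hcy, mul_assoc, hv, mul_one]⟩

theorem of_away (s : Finset A) (hs : Ideal.span (s : Set A) = ⊤)
    (h : ∀ f ∈ s, HTop.IsAWNRing (Localization.Away f)) : HTop.IsAWNRing A := by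
  have hsn := SNRing.of_away s hs fun f hf ↦ (h f hf).1
  have := SNRing.isReduced hsn
  refine of_exists_awn hsn fun p hp x y hxy ↦ ?_
  let I : Ideal A :=
    { carrier := {t | ∃ a, a ^ p = t ^ p * x ∧ (p : A) * a = t * y}
      zero_mem' := ⟨0, by simp [hp.ne_zero], by simp⟩
      add_mem' := by
        rintro t t' ⟨a, h2, h3⟩ ⟨a', h2', h3'⟩
        refine ⟨a + a', ?_, by linear_combination h3 + h3'⟩
        obtain ⟨r, hr⟩ := exists_add_pow_prime_eq hp a a'
        obtain ⟨r', hr'⟩ := exists_add_pow_prime_eq hp t t'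
        let R := a * a' * r - t * t' * x * r'
        have hD : (a + a') ^ p - (t + t') ^ p * x = (p : A) * R := by
          rw [hr, hr']; simp only [R]; linear_combination h2 + h2'
        have hpp : (p : A) ^ p * ((a + a') ^ p - (t + t') ^ p * x) = 0 := by
          rw [mul_sub, ← mul_pow, mul_add, h3, h3', ← mul_assoc, mul_comm ((p : A) ^ p) ((t + t') ^ p),
            mul_assoc, hxy, ← mul_pow]
          ring
        have h0 : ((p : A) * R) ^ (p + 1) = 0 := by
          calc ((p : A) * R) ^ (p + 1) = (p : A) ^ p * ((p : A) * R) * R ^ p := by ring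
            _ = 0 := by rw [← hD, hpp, zero_mul]
        rw [eq_zero_of_pow_eq_zero h0, sub_eq_zero] at hD
        exact hD
      smul_mem' := by
        rintro r t ⟨a, h2, h3⟩
        refine ⟨r * a, ?_, ?_⟩
        · simp only [smul_eq_mul, mul_pow]; linear_combination r ^ p * h2
        · simp only [smul_eq_mul]; linear_combination r * h3 }
  suffices I = ⊤ by
    obtain ⟨a, h2, h3⟩ := (this ▸ Submodule.mem_top : (1 : A) ∈ I)
    exact ⟨a, by rw [h2, one_pow, one_mul], by rw [h3, one_mul]⟩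
  rw [← Ideal.radical_eq_top, eq_top_iff, ← hs, Ideal.span_le]
  intro f hf
  obtain ⟨a, ⟨ha2, ha3⟩, -⟩ := (h f hf).2 p hp (algebraMap A _ x) (algebraMap A _ y)
    (by rw [← map_natCast (algebraMap A (Localization.Away f)) p, ← map_pow, ← map_mul, hxy, map_pow])
  obtain ⟨⟨c, ⟨_, n, rfl⟩⟩, hc⟩ := IsLocalization.surj (Submonoid.powers f) a
  simp only [map_pow] at hc
  have e2 : algebraMap A (Localization.Away f) (c ^ p) = algebraMap A (Localization.Away f) ((f ^ n) ^ p * x) := by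
    simp only [map_pow, map_mul, ← hc, ha2, mul_pow]; ring
  have e3 : algebraMap A (Localization.Away f) ((p : A) * c) = algebraMap A (Localization.Away f) (f ^ n * y) := by
    simp only [map_pow, map_mul, map_natCast, ← hc, ha3]; ring
  obtain ⟨⟨_, k, rfl⟩, hk⟩ := (IsLocalization.eq_iff_exists (Submonoid.powers f) _).mp e2
  obtain ⟨⟨_, l, rfl⟩, hl⟩ := (IsLocalization.eq_iff_exists (Submonoid.powers f) _).mp e3
  simp only at hk hl
  obtain ⟨q, hq⟩ := Nat.exists_eq_add_of_le hp.one_le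
  have hkq : f ^ k * f ^ (k * q) = (f ^ k) ^ p := by rw [← pow_add, ← pow_mul, hq]; ring
  refine ⟨n + k + l, c * f ^ k * f ^ l, ?_, ?_⟩
  · linear_combination (f ^ (k * q) * f ^ (l * p)) * hk - (c ^ p - (f ^ n) ^ p * x) * f ^ (l * p) * hkq
  · linear_combination f ^ k * hl

end

section CharP

variable {A : Type u} [CommRing A] {p : ℕ} [Fact p.Prime]

theorem isAWN_iff_perfect (h0 : (p : A) = 0) : HTop.IsAWNRing A ↔ PerfectRing A p := by
  have hp : p.Prime := Fact.out
  constructor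
  · intro h
    refine ⟨⟨fun a b hab ↦ ?_, fun x ↦ ?_⟩⟩
    · have := SNRing.isReduced h.1
      exact eq_of_pow_mul hp hab (by rw [h0, zero_mul, zero_mul])
    · obtain ⟨a, ⟨ha, -⟩, -⟩ := h.2 p hp x 0 (by rw [h0, zero_pow hp.ne_zero, zero_mul])
      exact ⟨a, ha.symm⟩
  · intro h
    obtain ⟨hinj, hsurj⟩ := h.bijective_frobenius
    have : IsReduced A := by
      refine ⟨fun a ⟨n, hn⟩ ↦ ?_⟩
      have hpn : a ^ p ^ n = 0 := pow_eq_zero_of_le (n.lt_pow_self hp.one_lt).le hn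
      clear hn
      induction n with
      | zero => simpa using hpn
      | succ m ih =>
        rw [pow_succ, pow_mul] at hpn
        exact ih (hinj (by simpa [zero_pow hp.ne_zero] using hpn))
    refine of_exists_awn (SNRing.of_exists fun x y hxy ↦ ?_) fun q hq x y hxy ↦ ?_
    · rcases hp.eq_two_or_odd with h2 | h2
      · obtain ⟨a, ha : a ^ p = x⟩ := hsurj x
        subst h2
        refine ⟨a, ha.symm, hinj ?_⟩
        show y ^ 2 = (a ^ 3) ^ 2
        rw [← hxy, ← ha]; ring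
      · obtain ⟨k, hk⟩ : ∃ k, p = 2 * k + 3 := ⟨(p - 3) / 2, by have := hp.two_le; omega⟩
        obtain ⟨a, ha : a ^ p = x ^ k * y⟩ := hsurj (x ^ k * y)
        refine ⟨a, hinj ?_, hinj ?_⟩
        · show x ^ p = (a ^ 2) ^ p
          rw [← pow_mul, mul_comm, pow_mul, ha, hk, mul_pow, ← hxy]; ring
        · show y ^ p = (a ^ 3) ^ p
          have e : (a ^ 3) ^ p = (a ^ p) ^ 3 := by ring
          have e2 : y ^ p = (y ^ 2) ^ k * y ^ 3 := by rw [← pow_mul, ← pow_add, hk]
          rw [e, ha, e2, ← hxy]; ring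
    · by_cases hqp : q = p
      · subst hqp
        obtain ⟨a, ha : a ^ q = x⟩ := hsurj x
        refine ⟨a, ha.symm, ?_⟩
        rw [h0, zero_pow hp.ne_zero, zero_mul] at hxy
        rw [h0, zero_mul]
        exact eq_zero_of_pow_eq_zero hxy.symm
      · obtain ⟨u, v, huv⟩ : ∃ u v : ℤ, u * q + v * p = 1 :=
          Nat.isCoprime_iff_coprime.mpr ((Nat.coprime_primes hq hp).mpr hqp)
        have hu : (u : A) * q = 1 := by
          have := congrArg (Int.cast : ℤ → A) huv
          push_cast at this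
          rwa [h0, mul_zero, add_zero] at this
        refine ⟨(u : A) * y, ?_, by rw [← mul_assoc, mul_comm (q : A), hu, one_mul]⟩
        rw [mul_pow, ← hxy, ← mul_assoc, ← mul_pow, hu, one_pow, one_mul]

end CharP

theorem isRingAWN_perfectClosure (p : ℕ) [Fact p.Prime] (A : Type u) [CommRing A] [CharP A p] :
    HTop.IsRingAWN (PerfectClosure.of A p) := by
  refine isRingAWN_of _ ((isAWN_iff_perfect (CharP.cast_eq_zero _ p)).mpr inferInstance) ?_
  exact (PerfUH.univHomeo_iff_bijective p (B' := PerfectClosure A p) (PerfectClosure.of A p)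
    (PerfectClosure.of A p) (RingHom.id _) (RingHom.id _) rfl).mpr Function.bijective_id

end Groth.Agent.Misc9.AWNRing
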