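import Groth.Agent.Misc9.AWNRing
import Groth.Agent.UnivHomeo.Affine
import Groth.Agent.HTopAWN.Glue

/-! Absolutely weakly normal schemes and seminormal schemes. -/

set_option backward.isDefEq.respectTransparency false

universe u

namespace Groth.Agent.Misc9.AWNScheme

open AlgebraicGeometry CategoryTheory CategoryTheory.Limits
open Groth.Agent.Misc9.Seminormal
open Groth.Agent.UnivHomeo.Basic
open Groth.Agent.Misc9

variable {X Y : Scheme.{u}}

/-- local property of rings gives all affine opens -/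
theorem forall_affine {P : ∀ (A : Type u) [CommRing A], Prop}
    (equiv : ∀ {A B : Type u} [CommRing A] [CommRing B], (A ≃+* B) → P A → P B)
    (away : ∀ (A : Type u) [CommRing A] (f : A), P A → P (Localization.Away f))
    (of_away : ∀ (A : Type u) [CommRing A] (s : Finset A), Ideal.span (s : Set A) = ⊤ →
      (∀ f ∈ s, P (Localization.Away f)) → P A)
    (h : ∀ x : X, ∃ U : X.affineOpens, x ∈ (U : X.Opens) ∧ P Γ(X, U)) (V : X.affineOpens) :
    P Γ(X, V) := by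
  choose U hxU hU using h
  have key : ∀ (W : X.affineOpens) (f : Γ(X, W)),
      Nonempty (Localization.Away f ≃+* Γ(X, X.affineBasicOpen f)) := fun W f ↦ by
    letI : Algebra Γ(X, W.1) Γ(X, X.basicOpen f) :=
      (X.presheaf.map (homOfLE (X.basicOpen_le f)).op).hom.toAlgebra
    have : IsLocalization.Away f Γ(X, X.basicOpen f) := W.2.isLocalization_basicOpen f
    exact ⟨(IsLocalization.algEquiv (Submonoid.powers f) (Localization.Away f) Γ(X, X.basicOpen f)).toRingEquiv⟩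
  refine of_affine_open_cover (P := fun W : X.affineOpens ↦ P Γ(X, W)) U
    (top_le_iff.mp fun x _ ↦ TopologicalSpace.Opens.mem_iSup.mpr ⟨x, hxU x⟩) V
    (fun W f hW ↦ ?_) (fun W s hs hsW ↦ ?_) hU
  · obtain ⟨e⟩ := key W f
    exact equiv e (away _ f hW)
  · refine of_away _ s hs fun f hf ↦ ?_
    obtain ⟨e⟩ := key W f
    exact equiv e.symm (hsW ⟨f, hf⟩)

theorem isSeminormal_iff : HTop.IsSeminormal X ↔ ∀ U : X.affineOpens, HTop.IsSeminormalRing Γ(X, U) :=
  ⟨fun h U ↦ forall_affine (P := fun A _ ↦ HTop.IsSeminormalRing A) (fun e h ↦ AWNRing.sn_of_equiv e h)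
    (fun _ _ f h ↦ SNRing.away f h) (fun _ _ s hs h ↦ SNRing.of_away s hs h) h U,
  fun h x ↦ by
    obtain ⟨U, hU, hxU, -⟩ := TopologicalSpace.Opens.isBasis_iff_nbhd.mp X.isBasis_affineOpens
      (TopologicalSpace.Opens.mem_top x)
    exact ⟨⟨U, hU⟩, hxU, h _⟩⟩

theorem isAWN_iff : HTop.IsAWN X ↔ ∀ U : X.affineOpens, HTop.IsAWNRing Γ(X, U) :=
  ⟨fun h U ↦ forall_affine (P := fun A _ ↦ HTop.IsAWNRing A) (fun e h ↦ AWNRing.awn_of_equiv e h)
    (fun _ _ f h ↦ AWNRing.away f h) (fun _ _ s hs h ↦ AWNRing.of_away s hs h) h U,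
  fun h x ↦ by
    obtain ⟨U, hU, hxU, -⟩ := TopologicalSpace.Opens.isBasis_iff_nbhd.mp X.isBasis_affineOpens
      (TopologicalSpace.Opens.mem_top x)
    exact ⟨⟨U, hU⟩, hxU, h _⟩⟩

theorem isReduced_of_isAWN (h : HTop.IsAWN X) : IsReduced X :=
  SNRing.isReduced_scheme fun x ↦ (h x).imp fun _ hU ↦ ⟨hU.1, hU.2.1⟩

/-- sections of a univ homeo exist if they exist on the ring level -/
theorem exists_section [IsReduced X] (π : Y ⟶ X) (hπ : FlatMor.IsUnivHomeo π)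
    (hloc : ∀ U : X.affineOpens, ∃ r : Γ((π ⁻¹ᵁ U.1 : Y.Opens), ⊤) →+* Γ((U.1 : Scheme.{u}), ⊤),
      r.comp (π ∣_ U.1).appTop.hom = RingHom.id _) :
    ∃ σ : X ⟶ Y, σ ≫ π = 𝟙 X := by
  have := Groth.Agent.UnivHomeo.isIntegralHom_of_univHomeo hπ
  have := universallyInjective_of_isUnivHomeo hπ
  let 𝒰 := X.openCoverOfIsOpenCover (fun U : X.affineOpens ↦ U.1) (iSup_affineOpens_eq_top X)
  have hex : ∀ U : X.affineOpens, ∃ g : (U.1 : Scheme.{u}) ⟶ Y, g ≫ π = U.1.ι := fun U ↦ by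
    obtain ⟨r, hr⟩ := hloc U
    have : IsAffine (U.1 : Scheme.{u}) := U.2
    have : IsAffine ((π ⁻¹ᵁ U.1 : Y.Opens) : Scheme.{u}) := U.2.preimage π
    refine ⟨(U.1 : Scheme.{u}).isoSpec.hom ≫ Spec.map (CommRingCat.ofHom r) ≫
      ((π ⁻¹ᵁ U.1 : Y.Opens) : Scheme.{u}).isoSpec.inv ≫ (π ⁻¹ᵁ U.1).ι, ?_⟩
    simp only [Category.assoc]
    rw [← morphismRestrict_ι, ← Category.assoc ((π ⁻¹ᵁ U.1 : Y.Opens) : Scheme.{u}).isoSpec.inv,
      ← Scheme.isoSpec_inv_naturality, Category.assoc, ← Spec.map_comp_assoc,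
      show (π ∣_ U.1).appTop ≫ CommRingCat.ofHom r = 𝟙 _ from CommRingCat.hom_ext hr, Spec.map_id,
      Category.id_comp, Iso.hom_inv_id_assoc]
  choose g hg using hex
  have hsep : IsSeparated π := inferInstance
  refine ⟨𝒰.glueMorphisms g fun U V ↦ ?_, 𝒰.hom_ext _ _ fun U ↦ ?_⟩
  · have : IsReduced (𝒰.X U) := isReduced_of_isOpenImmersion (𝒰.f U)
    have : IsReduced (pullback (𝒰.f U) (𝒰.f V)) :=
      isReduced_of_isOpenImmersion (pullback.fst (𝒰.f U) (𝒰.f V))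
    refine Groth.Agent.HTopAWN.ext_of_radicial π _ _ ?_
    rw [Category.assoc, Category.assoc, hg, hg]
    exact pullback.condition
  · rw [← Category.assoc, Scheme.Cover.ι_glueMorphisms, hg, Category.comp_id]
    rfl

theorem univHomeo_restrict (π : Y ⟶ X) (hπ : FlatMor.IsUnivHomeo π) (U : X.affineOpens) :
    FlatMor.IsUnivHomeo (Spec.map (π ∣_ U.1).appTop) := by
  have := Groth.Agent.UnivHomeo.isIntegralHom_of_univHomeo hπ
  have : IsAffine (U.1 : Scheme.{u}) := U.2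
  have : IsAffine ((π ⁻¹ᵁ U.1 : Y.Opens) : Scheme.{u}) := U.2.preimage π
  exact ((MorphismProperty.universally (topologically fun f => IsHomeomorph f)).arrow_mk_iso_iff
    (arrowIsoSpecΓOfIsAffine (π ∣_ U.1))).mp
    (MorphismProperty.of_isPullback (P := MorphismProperty.universally (topologically fun f => IsHomeomorph f))
      (isPullback_morphismRestrict π U.1).flip hπ)

theorem resTriv_restrict (π : Y ⟶ X) (hπ : FlatMor.IsUnivHomeo π) (hr : HTop.ResidueFieldsIso π)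
    (U : X.affineOpens) : ResTriv (π ∣_ U.1).appTop.hom := by
  have := Groth.Agent.UnivHomeo.isIntegralHom_of_univHomeo hπ
  have : IsAffine (U.1 : Scheme.{u}) := U.2
  have : IsAffine ((π ⁻¹ᵁ U.1 : Y.Opens) : Scheme.{u}) := U.2.preimage π
  have h1 : HTop.ResidueFieldsIso (π ∣_ U.1) := fun y ↦ by
    have e := (Scheme.residueFieldMap_comp (π ∣_ U.1) U.1.ι y)
    have : IsIso (Scheme.Hom.residueFieldMap ((π ⁻¹ᵁ U.1).ι ≫ π) y) := by
      rw [Scheme.residueFieldMap_comp]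
      have := hr ((π ⁻¹ᵁ U.1).ι y)
      infer_instance
    have h2 : IsIso (Scheme.Hom.residueFieldMap (π ∣_ U.1 ≫ U.1.ι) y) := by
      have key : ∀ (g : ((π ⁻¹ᵁ U.1 : Y.Opens) : Scheme.{u}) ⟶ X), (π ⁻¹ᵁ U.1).ι ≫ π = g → IsIso (Scheme.Hom.residueFieldMap g y) := by
        rintro g rfl; exact this
      exact key _ (morphismRestrict_ι π U.1).symm
    rw [e] at h2
    exact IsIso.of_isIso_comp_left (U.1.ι.residueFieldMap ((π ∣_ U.1) y)) _
  letI := (π ∣_ U.1).appTop.hom.toAlgebra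
  refine (resTriv_iff_surjective _).mp fun q ↦ ?_
  have h2 : HTop.ResidueFieldsIso (((π ⁻¹ᵁ U.1 : Y.Opens) : Scheme.{u}).isoSpec.inv ≫ π ∣_ U.1 ≫ (U.1 : Scheme.{u}).isoSpec.hom) := fun q ↦ by
    rw [Scheme.residueFieldMap_comp, Scheme.residueFieldMap_comp]
    have := h1 (((π ⁻¹ᵁ U.1 : Y.Opens) : Scheme.{u}).isoSpec.inv q)
    infer_instance
  have e : Spec.map (π ∣_ U.1).appTop =
      ((π ⁻¹ᵁ U.1 : Y.Opens) : Scheme.{u}).isoSpec.inv ≫ π ∣_ U.1 ≫ (U.1 : Scheme.{u}).isoSpec.hom := by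
    rw [← Category.assoc, ← Scheme.isoSpec_inv_naturality, Category.assoc, Iso.inv_hom_id, Category.comp_id]
  rw [← e] at h2
  have := h2 q
  exact (ConcreteCategory.bijective_of_isIso ((Spec.map (π ∣_ U.1).appTop).residueFieldMap q)).2

theorem ring_retraction {A B : Type u} [CommRing A] [CommRing B] (φ : A →+* B)
    (hU : FlatMor.IsUnivHomeo (Spec.map (CommRingCat.ofHom φ)))
    (h : HTop.IsAWNRing A ∨ (HTop.IsSeminormalRing A ∧ ResTriv φ)) :
    ∃ r : B →+* A, r.comp φ = RingHom.id A := by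
  let q := Ideal.Quotient.mk (nilradical B)
  have hred : IsReduced (B ⧸ nilradical B) :=
    (Ideal.isRadical_iff_quotient_reduced _).mp (Ideal.radical_isRadical _)
  have hU' := AWNRing.univHomeo_comp hU (AWNRing.univHomeo_red (B := B))
  have hb : Function.Bijective (q.comp φ) := by
    rcases h with h | ⟨h, hr⟩
    · exact AWNRing.bijective_of_isAWN _ h hU'
    · refine AWNRing.bijective_of_isSN _ h hU' fun Q hQ b ↦ ?_
      obtain ⟨b, rfl⟩ := Ideal.Quotient.mk_surjective b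
      obtain ⟨s, a, hs, ha⟩ := hr (Q.comap q) inferInstance b
      refine ⟨s, a, hs, ?_⟩
      rw [Ideal.mem_comap, map_sub, map_mul] at ha
      exact ha
  exact ⟨(RingEquiv.ofBijective _ hb).symm.toRingHom.comp q, RingHom.ext fun a ↦
    (RingEquiv.ofBijective _ hb).symm_apply_apply a⟩

theorem section_of_isAWN (hX : HTop.IsAWN X) (π : Y ⟶ X) (hπ : FlatMor.IsUnivHomeo π) :
    ∃ σ : X ⟶ Y, σ ≫ π = 𝟙 X := by
  have := isReduced_of_isAWN hX
  refine exists_section π hπ fun U ↦ ring_retraction _ (univHomeo_restrict π hπ U) (Or.inl ?_)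
  exact AWNRing.awn_of_equiv U.1.topIso.commRingCatIsoToRingEquiv.symm (isAWN_iff.mp hX U)

theorem isAWNormalization_id (hX : HTop.IsAWN X) : HTop.IsAWNormalization (𝟙 X) := by
  have := isReduced_of_isAWN hX
  refine ⟨isUnivHomeo_of _, fun Z π hπ ↦ ?_⟩
  obtain ⟨σ, hσ⟩ := section_of_isAWN hX π hπ
  have := Groth.Agent.UnivHomeo.isIntegralHom_of_univHomeo hπ
  have := universallyInjective_of_isUnivHomeo hπ
  exact ⟨σ, hσ, fun g hg ↦ Groth.Agent.HTopAWN.ext_of_radicial π _ _ (hg.trans hσ.symm)⟩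

theorem isIso_of_isAWN (hX : HTop.IsAWN X) (π : Y ⟶ X) (hπ : FlatMor.IsUnivHomeo π) [IsReduced Y] :
    IsIso π := by
  obtain ⟨σ, hσ⟩ := section_of_isAWN hX π hπ
  have := Groth.Agent.UnivHomeo.isIntegralHom_of_univHomeo hπ
  have := universallyInjective_of_isUnivHomeo hπ
  refine ⟨σ, ?_, hσ⟩
  exact Groth.Agent.HTopAWN.ext_of_radicial π _ _ (by rw [Category.assoc, hσ, Category.comp_id, Category.id_comp])

theorem isIso_seminormalization {X' : Scheme.{u}} (ν : X' ⟶ X) (hν : HTop.IsSeminormalization ν)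
    (hX : HTop.IsSeminormal X) : IsIso ν := by
  have := SNRing.isReduced_scheme hX
  obtain ⟨σ, hσ⟩ := exists_section ν hν.1.1 fun U ↦ ring_retraction _ (univHomeo_restrict ν hν.1.1 U)
    (Or.inr ⟨AWNRing.sn_of_equiv U.1.topIso.commRingCatIsoToRingEquiv.symm (isSeminormal_iff.mp hX U),
      resTriv_restrict ν hν.1.1 hν.1.2 U⟩)
  refine ⟨σ, (hν.2 X' ν hν.1.1 hν.1.2).unique ?_ (Category.id_comp ν), hσ⟩
  rw [Category.assoc, hσ, Category.comp_id]

theorem isAWN_of_iso {X X' : Scheme.{u}} (e : X ⟶ X') [IsIso e] (h : HTop.IsAWN X) : HTop.IsAWN X' := by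
  intro x
  obtain ⟨U, hxU, hU⟩ := h (inv e x)
  refine ⟨⟨e ''ᵁ U.1, U.2.image_of_isOpenImmersion e⟩, ⟨inv e x, hxU, ?_⟩, ?_⟩
  · show (inv e ≫ e) x = x
    simp
  · exact AWNRing.awn_of_equiv (e.appIso U.1).commRingCatIsoToRingEquiv.symm hU

theorem isAWN_awn : HTop.IsAWN (Groth.Agent.HTopAWN.awn X) := by
  intro x
  let 𝒰 := Groth.Agent.HTopAWN.cover X
  obtain ⟨y, hy⟩ := 𝒰.covers x
  let U : X.affineOpens := 𝒰.idx x
  let f : Spec (CommRingCat.of (Groth.Agent.HTopAWN.W Γ(X, U.1))) ⟶ Groth.Agent.HTopAWN.awn X := 𝒰.f (𝒰.idx x)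
  have : IsOpenImmersion f := inferInstanceAs (IsOpenImmersion (𝒰.f (𝒰.idx x)))
  refine ⟨⟨f ''ᵁ ⊤, (isAffineOpen_top _).image_of_isOpenImmersion f⟩, ⟨y, trivial, hy⟩, ?_⟩
  exact AWNRing.awn_of_equiv
    ((Scheme.ΓSpecIso _).symm ≪≫ (f.appIso ⊤).symm).commRingCatIsoToRingEquiv
    (AWNRing.isAWNRing_of_isRingAWN (Groth.Agent.HTopAWN.W_isRingAWN _))

theorem isAWN_of_normalization {X' : Scheme.{u}} (ν : X' ⟶ X) (hν : HTop.IsAWNormalization ν) :
    HTop.IsAWN X' := by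
  have hN : HTop.IsAWNormalization (Groth.Agent.HTopAWN.nu X) :=
    ⟨Groth.Agent.HTopAWN.isUnivHomeo_nu X, fun _ π hπ ↦ Groth.Agent.HTopAWN.exists_desc X π hπ⟩
  obtain ⟨a, ha, -⟩ := hN.2 X' ν hν.1
  obtain ⟨b, hb, -⟩ := hν.2 _ _ hN.1
  have : IsIso a := ⟨b, (hN.2 _ _ hN.1).unique (by rw [Category.assoc, hb, ha]) (Category.id_comp _),
    (hν.2 _ _ hν.1).unique (by rw [Category.assoc, ha, hb]) (Category.id_comp _)⟩
  exact isAWN_of_iso a isAWN_awn

theorem isAWN_iff_id : HTop.IsAWN X ↔ HTop.IsAWNormalization (𝟙 X) :=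
  ⟨isAWNormalization_id, isAWN_of_normalization (𝟙 X)⟩

theorem isAWN_iff_forall : HTop.IsAWN X ↔
    ∀ (Y : Scheme.{u}) (π : Y ⟶ X), FlatMor.IsUnivHomeo π → IsReduced Y → IsIso π := by
  refine ⟨fun h Y π hπ _ ↦ isIso_of_isAWN h π hπ, fun h ↦ ?_⟩
  have := h _ _ (Groth.Agent.HTopAWN.isUnivHomeo_nu X) (Groth.Agent.HTopAWN.isReduced_awn X)
  exact isAWN_of_iso (Groth.Agent.HTopAWN.nu X) isAWN_awn

theorem comparison {X' : Scheme.{u}} (ν : X' ⟶ X) (hν : HTop.IsAWNormalization ν) (π : Y ⟶ X)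
    (hπ : FlatMor.IsUnivHomeo π) (h : X' ⟶ Y) (hh : h ≫ π = ν) : IsIso h ↔ HTop.IsAWN Y := by
  refine ⟨fun _ ↦ isAWN_of_iso h (isAWN_of_normalization ν hν), fun hY ↦ ?_⟩
  have := isReduced_of_isAWN (isAWN_of_normalization ν hν)
  have := Groth.Agent.UnivHomeo.isIntegralHom_of_univHomeo hπ
  have hsep : IsSeparated π := inferInstance
  have hui := universallyInjective_of_isUnivHomeo hπ
  have : UniversallyClosed (h ≫ π) := hh ▸ universallyClosed_of_isUnivHomeo hν.1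
  have : UniversallyClosed h := UniversallyClosed.of_comp_of_isSeparated h π
  have : Surjective h := ⟨fun y ↦ by
    obtain ⟨x, hx⟩ := (surjective_of_isUnivHomeo hν.1).surj (π y)
    refine ⟨x, π.injective ?_⟩
    rw [← hx, ← hh]; rfl⟩
  have : UniversallyInjective h := by
    refine ((tfae_universallyInjective h).out 0 1 :
      UniversallyInjective h ↔ ∀ (K : Type u) [Field K],
        Function.Injective (fun g : Spec (.of K) ⟶ X' ↦ g ≫ h)).mpr fun K _ g₁ g₂ hg ↦ ?_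
    refine ((tfae_universallyInjective ν).out 0 1 :
      UniversallyInjective ν ↔ ∀ (K : Type u) [Field K],
        Function.Injective (fun g : Spec (.of K) ⟶ X' ↦ g ≫ ν)).mp (universallyInjective_of_isUnivHomeo hν.1) K ?_
    simp only at hg ⊢
    rw [← hh, ← Category.assoc, hg, Category.assoc]
  exact isIso_of_isAWN hY h (isUnivHomeo_of h)

end Groth.Agent.Misc9.AWNScheme
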