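import Groth.Prelude.Def_ArtFun2
import Mathlib.RingTheory.AdicCompletion.RingHom
import Mathlib.RingTheory.HopkinsLevitzki
import Mathlib

/-! The Artinian quotients `R/m^(n+1)` of a coefficient ring, as objects of `ArtFun.Art Λ k`. -/

universe u v

open CategoryTheory

namespace Groth.Agent.Misc9.ArtQuot

variable {Λ : Type u} {k : Type u} [CommRing Λ] [Field k] [Algebra Λ k] (R : ArtFun.CRing Λ k)

theorem ker_res : RingHom.ker R.res = IsLocalRing.maximalIdeal R.carrier :=
  IsLocalRing.eq_maximalIdeal (RingHom.ker_isMaximal_of_surjective (R.res : R.carrier →+* k) R.res_surjective)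

theorem pow_le_ker (n : ℕ) : IsLocalRing.maximalIdeal R.carrier ^ (n + 1) ≤ RingHom.ker R.res :=
  (Ideal.pow_le_self n.succ_ne_zero).trans (ker_res R).ge

instance nontrivial_quot (n : ℕ) :
    Nontrivial (R.carrier ⧸ IsLocalRing.maximalIdeal R.carrier ^ (n + 1)) :=
  Ideal.Quotient.nontrivial_iff.2 fun h =>
    (IsLocalRing.maximalIdeal.isMaximal R.carrier).ne_top (eq_top_iff.2 (h ▸ Ideal.pow_le_self n.succ_ne_zero))

instance isLocalRing_quot (n : ℕ) :
    IsLocalRing (R.carrier ⧸ IsLocalRing.maximalIdeal R.carrier ^ (n + 1)) :=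
  IsLocalRing.of_surjective' (Ideal.Quotient.mk _) Ideal.Quotient.mk_surjective

instance isArtinianRing_quot (n : ℕ) :
    IsArtinianRing (R.carrier ⧸ IsLocalRing.maximalIdeal R.carrier ^ (n + 1)) := by
  rw [isArtinianRing_iff_isNoetherianRing_krullDimLE_zero]
  refine ⟨inferInstance, Ring.KrullDimLE.mk₀ fun P hP => ?_⟩
  have hm : IsLocalRing.maximalIdeal R.carrier ≤ P.comap (Ideal.Quotient.mk _) :=
    (Ideal.IsPrime.pow_le_iff (hP := Ideal.IsPrime.comap _) n.succ_ne_zero).1 (by
      intro x hx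
      rw [Ideal.mem_comap, Ideal.Quotient.eq_zero_iff_mem.2 hx]
      exact P.zero_mem)
  have hmax : (P.comap (Ideal.Quotient.mk (IsLocalRing.maximalIdeal R.carrier ^ (n + 1)))).IsMaximal := by
    rw [← (IsLocalRing.maximalIdeal.isMaximal R.carrier).eq_of_le (Ideal.IsPrime.comap _).ne_top hm]
    exact IsLocalRing.maximalIdeal.isMaximal R.carrier
  rw [← Ideal.map_comap_of_surjective _ Ideal.Quotient.mk_surjective P]
  refine (Ideal.map_eq_top_or_isMaximal_of_surjective _ Ideal.Quotient.mk_surjective hmax).resolve_left ?_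
  rw [Ideal.map_comap_of_surjective _ Ideal.Quotient.mk_surjective P]
  exact hP.ne_top

/-- `R/m^(n+1)` as an object of `Art Λ k`. -/
noncomputable def quot (n : ℕ) : ArtFun.Art Λ k :=
  ArtFun.Art.of (R.carrier ⧸ IsLocalRing.maximalIdeal R.carrier ^ (n + 1))
    (Ideal.Quotient.liftₐ _ R.res fun _ ha => RingHom.mem_ker.1 (pow_le_ker R n ha))
    (fun x => by
      obtain ⟨r, rfl⟩ := R.res_surjective x
      exact ⟨Ideal.Quotient.mk _ r, rfl⟩)

/-- the projection `R → R/m^(n+1)`. -/
noncomputable def proj (n : ℕ) : ArtFun.HomSet R.carrier R.res (quot R n) :=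
  ⟨Ideal.Quotient.mkₐ Λ _, AlgHom.ext fun _ => rfl⟩

/-- the transition maps. -/
noncomputable def trans {m n : ℕ} (h : m ≤ n) : quot R n ⟶ quot R m :=
  ArtFun.Art.homMk (Ideal.Quotient.factorₐ Λ (Ideal.pow_le_pow_right (Nat.succ_le_succ h))) (by
    apply AlgHom.ext
    intro x
    obtain ⟨r, rfl⟩ := Ideal.Quotient.mk_surjective x
    rfl)

theorem map_trans_proj {m n : ℕ} (h : m ≤ n) :
    ArtFun.HomSet.map (trans R h) (proj R n) = proj R m :=
  Subtype.ext (AlgHom.ext fun _ => rfl)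

/-- every point with values in an Artinian object factors through some `R/m^(n+1)`. -/
theorem exists_factor {A : ArtFun.Art Λ k} (ψ : ArtFun.HomSet R.carrier R.res A) :
    ∃ (n : ℕ) (f : quot R n ⟶ A), ArtFun.HomSet.map f (proj R n) = ψ := by
  obtain ⟨N, hN⟩ := IsArtinianRing.isNilpotent_jacobson_bot (R := A.carrier)
  rw [IsLocalRing.jacobson_eq_maximalIdeal ⊥ bot_ne_top] at hN
  have hle : IsLocalRing.maximalIdeal R.carrier ≤ (IsLocalRing.maximalIdeal A.carrier).comap ψ.1 := by
    intro r hr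
    rw [Ideal.mem_comap, ArtFun.Art.mem_maximalIdeal_iff]
    have h := AlgHom.congr_fun ψ.2 r
    rw [AlgHom.comp_apply] at h
    rw [h, ← RingHom.mem_ker, ker_res]
    exact hr
  have hker : ∀ r ∈ IsLocalRing.maximalIdeal R.carrier ^ (N + 1), ψ.1 r = 0 := fun r hr => by
    have h1 : ψ.1 r ∈ (IsLocalRing.maximalIdeal A.carrier) ^ (N + 1) :=
      (Ideal.le_comap_pow ψ.1 (N + 1)) (Ideal.pow_right_mono hle (N + 1) hr)
    rw [pow_succ, hN, zero_mul] at h1
    exact h1
  refine ⟨N, ArtFun.Art.homMk (Ideal.Quotient.liftₐ _ ψ.1 hker) ?_, Subtype.ext (AlgHom.ext fun _ => rfl)⟩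
  apply AlgHom.ext
  intro x
  obtain ⟨r, rfl⟩ := Ideal.Quotient.mk_surjective x
  exact AlgHom.congr_fun ψ.2 r

variable {F : ArtFun.Art Λ k ⥤ Type v}

/-- two families agree as soon as they agree on all projections. -/
theorem family_ext {ξ ξ' : ArtFun.Family R.carrier R.res F}
    (h : ∀ n, ξ.app (quot R n) (proj R n) = ξ'.app (quot R n) (proj R n)) : ξ = ξ' := by
  have happ : ∀ A ψ, ξ.app A ψ = ξ'.app A ψ := fun A ψ => by
    obtain ⟨n, f, rfl⟩ := exists_factor R ψ
    rw [ξ.natural, ξ'.natural, h]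
  cases ξ; cases ξ'
  congr
  funext A ψ
  exact happ A ψ

/-- the unique map of coefficient rings classifying a family by a universal one. -/
theorem exists_hom (P : ArtFun.ProRep F) (S : ArtFun.CRing Λ k) (η : ArtFun.Family S.carrier S.res F) :
    ∃ g : P.ring.carrier →ₐ[Λ] S.carrier, ∃ hg : S.res.comp g = P.ring.res, P.family.along g hg = η := by
  have := S.isAdicComplete
  choose φ hφ using fun n => (P.universal (quot S n)).2 (η.app _ (proj S n))
  have hcompat : ∀ {m n : ℕ} (h : m ≤ n), ArtFun.HomSet.map (trans S h) (φ n) = φ m := fun {m n} h =>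
    (P.universal _).1 (by rw [P.family.natural, hφ, hφ, ← η.natural, map_trans_proj])
  let f : ∀ n, P.ring.carrier →ₐ[Λ] S.carrier ⧸ IsLocalRing.maximalIdeal S.carrier ^ n := fun n =>
    (Ideal.Quotient.factorₐ Λ (Ideal.pow_le_pow_right n.le_succ)).comp (φ n).1
  have hf : ∀ {m n : ℕ} (hle : m ≤ n),
      (Ideal.Quotient.factorₐ Λ (Ideal.pow_le_pow_right hle)).comp (f n) = f m := by
    intro m n hle
    apply AlgHom.ext
    intro x
    have h1 : (ArtFun.HomSet.map (trans S hle) (φ n)).1 x = (φ m).1 x := by rw [hcompat hle]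
    change _ = Ideal.Quotient.factorₐ Λ (Ideal.pow_le_pow_right m.le_succ) ((φ m).1 x)
    rw [← h1]
    obtain ⟨y, hy⟩ := Ideal.Quotient.mk_surjective ((φ n).1 x)
    change Ideal.Quotient.factorₐ Λ (Ideal.pow_le_pow_right hle) (Ideal.Quotient.factorₐ Λ (Ideal.pow_le_pow_right n.le_succ) ((φ n).1 x)) =
      Ideal.Quotient.factorₐ Λ (Ideal.pow_le_pow_right m.le_succ) (Ideal.Quotient.factorₐ Λ (Ideal.pow_le_pow_right (Nat.succ_le_succ hle)) ((φ n).1 x))
    rw [← hy]
    rfl
  let g := IsAdicComplete.liftAlgHom (IsLocalRing.maximalIdeal S.carrier) f hf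
  have hgn : ∀ n x, (proj S n).1 (g x) = (φ n).1 x := fun n x => by
    have h1 : Ideal.Quotient.mk _ (g x) = f (n + 1) x :=
      IsAdicComplete.mk_liftAlgHom (IsLocalRing.maximalIdeal S.carrier) f hf (n + 1) x
    have h2 : (ArtFun.HomSet.map (trans S n.le_succ) (φ (n + 1))).1 x = (φ n).1 x := by rw [hcompat n.le_succ]
    exact h1.trans h2
  have hg : S.res.comp g = P.ring.res := AlgHom.ext fun x => by
    have h0 : (quot S 0).res ((φ 0).1 x) = P.ring.res x := AlgHom.congr_fun (φ 0).2 x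
    rw [← hgn 0 x] at h0
    exact h0
  refine ⟨g, hg, family_ext S fun n => ?_⟩
  have h1 : (⟨(proj S n).1.comp g, by rw [← AlgHom.comp_assoc, (proj S n).2, hg]⟩ :
      ArtFun.HomSet P.ring.carrier P.ring.res (quot S n)) = φ n := Subtype.ext (AlgHom.ext (hgn n))
  change P.family.app _ _ = _
  rw [h1, hφ]

theorem hom_unique (P : ArtFun.ProRep F) (S : ArtFun.CRing Λ k) {g g' : P.ring.carrier →ₐ[Λ] S.carrier}
    {hg : S.res.comp g = P.ring.res} {hg' : S.res.comp g' = P.ring.res}
    (h : P.family.along g hg = P.family.along g' hg') : g = g' := by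
  have := S.isAdicComplete
  refine IsAdicComplete.algHom_ext (IsLocalRing.maximalIdeal S.carrier) fun n => AlgHom.ext fun x => ?_
  have h1 : (P.family.along g hg).app _ (proj S n) = (P.family.along g' hg').app _ (proj S n) := by rw [h]
  have h2 := AlgHom.congr_fun (congrArg Subtype.val ((P.universal _).1 h1)) x
  exact congrArg (Ideal.Quotient.factorₐ Λ (Ideal.pow_le_pow_right n.le_succ)) h2

end Groth.Agent.Misc9.ArtQuot
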