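import Mathlib

/-!
# Algebras over Artinian local rings which are flat with reduced fibres in codimension one
-/

universe u

open TensorProduct

namespace Misc9.ArtinFam

section free

variable {A : Type u} [CommRing A] [IsLocalRing A] [IsArtinianRing A] {M : Type u} [AddCommGroup M] [Module A M]

theorem isNilpotent_maximalIdeal : IsNilpotent (IsLocalRing.maximalIdeal A) := by
  have := IsArtinianRing.isNilpotent_jacobson_bot (R := A)
  rwa [IsLocalRing.jacobson_eq_maximalIdeal _ bot_ne_top] at this

/-- A flat module over an Artinian local ring is free. -/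
theorem free_of_flat [Module.Flat A M] : Module.Free A M := by
  let k := IsLocalRing.ResidueField A
  let w := Module.Free.chooseBasis k (k ⊗[A] M)
  obtain ⟨v, hv⟩ := (TensorProduct.mk_surjective A M k Ideal.Quotient.mk_surjective).comp_left w
  have hli : LinearIndependent A v := Module.IsLocalRing.linearIndependent_of_flat _ (by
    rw [show (TensorProduct.mk A k M 1) ∘ v = w from hv]; exact w.linearIndependent)
  refine Module.Free.of_basis (Module.Basis.mk hli ?_)
  let N := Submodule.span A (Set.range v)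
  have h1 : ⊤ ≤ N ⊔ IsLocalRing.maximalIdeal A • (⊤ : Submodule A M) := by
    intro x _
    have hx : TensorProduct.mk A k M 1 x ∈ Submodule.span A (Set.range w) := by
      have : Submodule.span A (Set.range w) = (Submodule.span k (Set.range w)).restrictScalars A :=
        (Submodule.restrictScalars_span A k IsLocalRing.residue_surjective _).symm
      rw [this, w.span_eq]
      trivial
    rw [← hv, Set.range_comp, Submodule.span_image] at hx
    obtain ⟨y, hy, hyx⟩ := hx
    refine Submodule.mem_sup.2 ⟨y, hy, x - y, ?_, by abel⟩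
    rw [← LinearMap.ker_tensorProductMk, LinearMap.mem_ker, map_sub, sub_eq_zero]
    exact hyx.symm
  have h2 : ∀ n : ℕ, ⊤ ≤ N ⊔ IsLocalRing.maximalIdeal A ^ n • (⊤ : Submodule A M) := by
    intro n
    induction n with
    | zero => rw [pow_zero, Ideal.one_eq_top, Submodule.top_smul]; exact le_sup_right
    | succ n ih =>
      refine ih.trans (sup_le le_sup_left ?_)
      calc IsLocalRing.maximalIdeal A ^ n • (⊤ : Submodule A M)
          ≤ IsLocalRing.maximalIdeal A ^ n • (N ⊔ IsLocalRing.maximalIdeal A • (⊤ : Submodule A M)) :=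
            Submodule.smul_mono le_rfl h1
        _ ≤ N ⊔ IsLocalRing.maximalIdeal A ^ (n + 1) • (⊤ : Submodule A M) := by
            rw [Submodule.smul_sup, pow_succ, Submodule.mul_smul]
            exact sup_le_sup Submodule.smul_le_right le_rfl
  obtain ⟨n, hn⟩ := isNilpotent_maximalIdeal (A := A)
  have := h2 n
  rwa [hn, Ideal.zero_eq_bot, Submodule.bot_smul, sup_bot_eq] at this

theorem mem_smul_top_of_smul_mem [Module.Flat A M] {J : Ideal A} {e : A} (he : e ∉ J) {v : M}
    (hv : e • v ∈ J • (⊤ : Submodule A M)) : v ∈ IsLocalRing.maximalIdeal A • (⊤ : Submodule A M) := by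
  have := free_of_flat (A := A) (M := M)
  let b := Module.Free.chooseBasis A M
  have hcoord' : ∀ w ∈ J • (⊤ : Submodule A M), ∀ i, b.repr w i ∈ J := fun w hw i => by
    refine Submodule.smul_induction_on hw (fun r hr n _ => ?_) fun x y hx hy => ?_
    · simpa using J.mul_mem_right _ hr
    · simpa using J.add_mem hx hy
  have hcoord := hcoord' _ hv
  rw [← b.linearCombination_repr v, Finsupp.linearCombination_apply]
  refine Submodule.sum_mem _ fun i _ => Submodule.smul_mem_smul ?_ trivial
  by_contra h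
  obtain ⟨c, hc⟩ := (IsLocalRing.notMem_maximalIdeal.1 h).exists_left_inv
  apply he
  have := J.mul_mem_left c (hcoord i)
  simp only [map_smul, Finsupp.smul_apply, smul_eq_mul] at this
  rwa [← mul_assoc, mul_comm c e, mul_assoc, hc, mul_one] at this

/-- An endomorphism of a flat module over an Artinian local ring which is injective modulo the
maximal ideal is injective modulo every ideal. -/
theorem mem_smul_top_of_map_mem [Module.Flat A M] {f : M →ₗ[A] M}
    (hf : ∀ v, f v ∈ IsLocalRing.maximalIdeal A • (⊤ : Submodule A M) →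
      v ∈ IsLocalRing.maximalIdeal A • (⊤ : Submodule A M))
    {J : Ideal A} {x : M} (hx : f x ∈ J • (⊤ : Submodule A M)) : x ∈ J • (⊤ : Submodule A M) := by
  have := free_of_flat (A := A) (M := M)
  set m := IsLocalRing.maximalIdeal A
  let S : Submodule A M := m • (⊤ : Submodule A M)
  have : Module.Projective A M := inferInstance
  -- work over the residue field
  let k := IsLocalRing.ResidueField A
  let fk : k ⊗[A] M →ₗ[k] k ⊗[A] M := f.baseChange k
  have hker : LinearMap.ker fk = ⊥ := by
    rw [eq_bot_iff]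
    intro z hz
    obtain ⟨v, rfl⟩ := TensorProduct.mk_surjective A M k Ideal.Quotient.mk_surjective z
    have h0 : TensorProduct.mk A k M 1 (f v) = 0 := LinearMap.mem_ker.1 hz
    have h1 : f v ∈ m • (⊤ : Submodule A M) := by
      rw [← LinearMap.ker_tensorProductMk, LinearMap.mem_ker]; exact h0
    have h2 := hf v h1
    rw [← LinearMap.ker_tensorProductMk, LinearMap.mem_ker] at h2
    exact (Submodule.mem_bot k).2 h2
  obtain ⟨gk, hgk⟩ := fk.exists_leftInverse_of_injective hker
  obtain ⟨g, hg⟩ := Module.projective_lifting_property (TensorProduct.mk A k M 1)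
    ((gk.restrictScalars A).comp (TensorProduct.mk A k M 1)) (TensorProduct.mk_surjective A M k Ideal.Quotient.mk_surjective)
  let d : M →ₗ[A] M := LinearMap.id - g.comp f
  have hd : ∀ v, d v ∈ m • (⊤ : Submodule A M) := fun v => by
    rw [← LinearMap.ker_tensorProductMk, LinearMap.mem_ker]
    have h1 : TensorProduct.mk A k M 1 (g (f v)) = gk (TensorProduct.mk A k M 1 (f v)) :=
      LinearMap.congr_fun hg (f v)
    have h2 : gk (fk (TensorProduct.mk A k M 1 v)) = TensorProduct.mk A k M 1 v :=
      LinearMap.congr_fun hgk _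
    change TensorProduct.mk A k M 1 (v - g (f v)) = 0
    rw [map_sub, h1, sub_eq_zero]
    exact h2.symm
  have hdn : ∀ n : ℕ, (d ^ n) x ∈ m ^ n • (⊤ : Submodule A M) := by
    intro n
    induction n with
    | zero => rw [pow_zero, Ideal.one_eq_top, Submodule.top_smul]; trivial
    | succ n ih =>
      rw [pow_succ' d, Module.End.mul_apply]
      have : (m ^ n • (⊤ : Submodule A M)).map d ≤ m ^ (n + 1) • (⊤ : Submodule A M) := by
        rw [Submodule.map_smul'', pow_succ, Submodule.mul_smul]
        exact Submodule.smul_mono le_rfl fun y ⟨z, _, hz⟩ => hz ▸ hd z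
      exact this ⟨_, ih, rfl⟩
  have hgx : g (f x) ∈ J • (⊤ : Submodule A M) := by
    have := Submodule.mem_map_of_mem (f := g) hx
    rw [Submodule.map_smul''] at this
    exact Submodule.smul_mono le_rfl le_top this
  -- `x - d x ∈ J M`
  have hstep : ∀ n : ℕ, x - (d ^ n) x ∈ J • (⊤ : Submodule A M) := by
    intro n
    induction n with
    | zero => simp
    | succ n ih =>
      have h1 : d (x - (d ^ n) x) ∈ J • (⊤ : Submodule A M) := by
        have := Submodule.mem_map_of_mem (f := d) ih
        rw [Submodule.map_smul''] at this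
        exact Submodule.smul_mono le_rfl le_top this
      have h2 : x - (d ^ (n + 1)) x = g (f x) + d (x - (d ^ n) x) := by
        rw [pow_succ' d, Module.End.mul_apply, map_sub]
        simp only [d, LinearMap.sub_apply, LinearMap.id_apply, LinearMap.comp_apply]
        abel
      rw [h2]
      exact add_mem hgx h1
  obtain ⟨n, hn⟩ := isNilpotent_maximalIdeal (A := A)
  have h0 := hdn n
  rw [hn, Ideal.zero_eq_bot, Submodule.bot_smul, Submodule.mem_bot] at h0
  simpa [h0] using hstep n

end free

section algebra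

variable {A : Type u} [CommRing A] [IsArtinianRing A] [IsLocalRing A] {B : Type u} [CommRing B]
    [Algebra A B] [IsNoetherianRing B]

theorem smul_top_eq (C : Type u) [CommRing C] [Algebra A C] (J : Ideal A) :
    J • (⊤ : Submodule A C) = (J.map (algebraMap A C)).restrictScalars A :=
  Ideal.smul_top_eq_map J

theorem map_maximalIdeal_le_nilradical :
    (IsLocalRing.maximalIdeal A).map (algebraMap A B) ≤ nilradical B := by
  obtain ⟨n, hn⟩ := isNilpotent_maximalIdeal (A := A)
  refine Ideal.map_le_iff_le_comap.2 fun a ha => mem_nilradical.2 ?_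
  have : a ^ n ∈ IsLocalRing.maximalIdeal A ^ n := Ideal.pow_mem_pow ha n
  rw [hn, Ideal.zero_eq_bot, Ideal.mem_bot] at this
  exact ⟨n, by rw [← map_pow, this, map_zero]⟩

omit [IsArtinianRing A] [IsLocalRing A] [IsNoetherianRing B] in
theorem exists_mul_mem_of_mem_map {I : Ideal B} {q : Ideal B} [q.IsPrime] {x : B}
    (h : algebraMap B (Localization.AtPrime q) x ∈ I.map (algebraMap B (Localization.AtPrime q))) :
    ∃ s, s ∉ q ∧ s * x ∈ I := by
  obtain ⟨m, hm, h'⟩ := (IsLocalization.algebraMap_mem_map_algebraMap_iff q.primeCompl (Localization.AtPrime q) I x).1 h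
  exact ⟨m, hm, h'⟩

/-- The hypothesis in codimension one. -/
structure Good (B : Type u) [CommRing B] [Algebra A B] : Prop where
  flat : ∀ (q : Ideal B) [q.IsPrime], q.height ≤ 1 → Module.Flat A (Localization.AtPrime q)
  red : ∀ (q : Ideal B) [q.IsPrime], q.height ≤ 1 → ∀ z : Localization.AtPrime q, IsNilpotent z →
    z ∈ (IsLocalRing.maximalIdeal A).map (algebraMap A (Localization.AtPrime q))
  ass : ∀ q : Ideal B, q.IsPrime → ∀ x : B, x ≠ 0 → (∀ b ∈ q, b * x = 0) → q ∈ minimalPrimes B ∨
    ∃ s, s ∉ q ∧ s * x = 0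
  socle : ∀ (q : Ideal B) [q.IsPrime], ¬ q.height ≤ 1 → ∀ a ∈ q, (∀ p ∈ minimalPrimes B, a ∉ p) → ∀ z : B,
    (∀ b ∈ q, b * z ∈ Ideal.span {a} ⊔ nilradical B) → ∃ s, s ∉ q ∧ s * z ∈ Ideal.span {a} ⊔ nilradical B

variable (H : Good (A := A) B)

theorem height_le_one_of_mem_minimalPrimes {q : Ideal B} [q.IsPrime] (hq : q ∈ minimalPrimes B) : q.height ≤ 1 := by
  rw [Ideal.height_eq_zero_iff.2 hq]
  exact zero_le

include H in
/-- At minimal primes. -/
theorem mem_of_mul_mem {q : Ideal B} [q.IsPrime] (hq : q ∈ minimalPrimes B) {J : Ideal A} {e : A} (he : e ∉ J)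
    {y : B} (hy : algebraMap A B e * y ∈ J.map (algebraMap A B)) : y ∈ q := by
  have := H.flat q (height_le_one_of_mem_minimalPrimes hq)
  have h1 : e • algebraMap B (Localization.AtPrime q) y ∈ J • (⊤ : Submodule A (Localization.AtPrime q)) := by
    rw [smul_top_eq, Submodule.restrictScalars_mem, Algebra.smul_def,
      IsScalarTower.algebraMap_apply A B (Localization.AtPrime q), ← map_mul,
      IsScalarTower.algebraMap_eq A B (Localization.AtPrime q), ← Ideal.map_map]
    exact Ideal.mem_map_of_mem _ hy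
  have h2 := mem_smul_top_of_smul_mem he h1
  rw [smul_top_eq, Submodule.restrictScalars_mem, IsScalarTower.algebraMap_eq A B (Localization.AtPrime q),
    ← Ideal.map_map] at h2
  obtain ⟨s, hs, hsy⟩ := exists_mul_mem_of_mem_map h2
  have : s * y ∈ q := (nilradical_le_prime q) (map_maximalIdeal_le_nilradical hsy)
  exact (Ideal.IsPrime.mem_or_mem inferInstance this).resolve_left hs

include H in
theorem mem_nilradical_of_mul_mem {J : Ideal A} {e : A} (he : e ∉ J)
    {y : B} (hy : algebraMap A B e * y ∈ J.map (algebraMap A B)) : y ∈ nilradical B := by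
  rw [nilradical_eq_sInf, Ideal.mem_sInf]
  intro q hq
  have : q.IsPrime := hq
  obtain ⟨p, hp, hpq⟩ := Ideal.exists_minimalPrimes_le (I := (⊥ : Ideal B)) (J := q) bot_le
  have := hp.1.1
  exact hpq (mem_of_mul_mem H hp he hy)

/-- `B / J B` has no embedded primes. -/
def NoEmb (B : Type u) [CommRing B] [Algebra A B] (J : Ideal A) : Prop :=
  ∀ x : B, (∀ q ∈ minimalPrimes B, ∃ s, s ∉ q ∧ s * x ∈ J.map (algebraMap A B)) → x ∈ J.map (algebraMap A B)

theorem exists_annihilator_prime {I : Ideal B} {x : B} (hx : x ∉ I) :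
    ∃ (q : Ideal B) (y : B), q.IsPrime ∧ y ∉ I ∧ (∀ b ∈ q, b * y ∈ I) ∧ (∀ b, b * y ∈ I → b ∈ q) ∧
      ∀ b, b * x ∈ I → b ∈ q := by
  have hx' : (Ideal.Quotient.mk I x) ≠ 0 := fun h => hx (Ideal.Quotient.eq_zero_iff_mem.1 h)
  obtain ⟨P, hP, hle⟩ := exists_le_isAssociatedPrime_of_isNoetherianRing B (M := B ⧸ I) _ hx'
  obtain ⟨hPp, y, hy⟩ := isAssociatedPrime_iff.1 hP
  obtain ⟨y, rfl⟩ := Ideal.Quotient.mk_surjective y
  have key : ∀ b : B, b ∈ P ↔ b * y ∈ I := fun b => by
    rw [hy, Submodule.mem_colon_singleton, Submodule.mem_bot]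
    exact Ideal.Quotient.eq_zero_iff_mem
  refine ⟨P, y, hPp, fun h => hPp.ne_top ((Ideal.eq_top_iff_one P).2 ((key 1).2 (by rwa [one_mul]))),
    fun b => (key b).1, fun b => (key b).2, fun b hb => hle ?_⟩
  rw [Submodule.mem_colon_singleton, Submodule.mem_bot]
  exact Ideal.Quotient.eq_zero_iff_mem.2 hb

include H in
theorem noEmb_bot : NoEmb B (⊥ : Ideal A) := by
  intro x hx
  by_contra hx0
  obtain ⟨q, y, hq, hy0, hy, hy', hxq⟩ := exists_annihilator_prime hx0
  have hy0' : y ≠ 0 := fun h => hy0 (h ▸ zero_mem _)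
  have hann : ∀ b ∈ q, b * y = 0 := fun b hb => by simpa using hy b hb
  rcases H.ass q hq y hy0' hann with hmin | ⟨s, hs, hsy⟩
  · obtain ⟨s, hs, hsx⟩ := hx q hmin
    exact hs (hxq s hsx)
  · exact hs (hy' s (hsy ▸ zero_mem _))

include H in
theorem exists_mem_avoid {q : Ideal B} [q.IsPrime] (hq : q ∉ minimalPrimes B) :
    ∃ a ∈ q, ∀ p ∈ minimalPrimes B, a ∉ p := by
  by_contra! h
  have hfin := minimalPrimes.finite_of_isNoetherianRing B
  obtain ⟨p, hp, hle⟩ := (Ideal.subset_union_prime (s := hfin.toFinset) (f := id) ⊥ ⊥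
    (fun p hp _ _ => (hfin.mem_toFinset.1 hp).1.1)).1
    (show (q : Set B) ⊆ ⋃ p ∈ (↑hfin.toFinset : Set (Ideal B)), (id p : Set B) from fun x hx => by
      obtain ⟨p, hp, hxp⟩ := h x hx
      exact Set.mem_biUnion (hfin.mem_toFinset.2 hp) hxp)
  have hpmin := hfin.mem_toFinset.1 hp
  exact hq ((le_antisymm hle (hpmin.2 ⟨inferInstance, bot_le⟩ hle)) ▸ hpmin)

theorem mem_of_noEmb {J : Ideal A} (hJ : NoEmb B J) {a x : B} (ha : ∀ p ∈ minimalPrimes B, a ∉ p)
    (hx : a * x ∈ J.map (algebraMap A B)) : x ∈ J.map (algebraMap A B) :=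
  hJ x fun q hq => ⟨a, ha q hq, hx⟩

include H in
theorem mul_nil_mem {J : Ideal A} (hJ : NoEmb B J) {e : A}
    (hme : ∀ m ∈ IsLocalRing.maximalIdeal A, m * e ∈ J) {w : B} (hw : w ∈ nilradical B) :
    algebraMap A B e * w ∈ J.map (algebraMap A B) := by
  refine hJ _ fun q hq => ?_
  have := hq.1.1
  have h := H.red q (height_le_one_of_mem_minimalPrimes hq) _ ((mem_nilradical.1 hw).map (algebraMap B (Localization.AtPrime q)))
  rw [IsScalarTower.algebraMap_eq A B (Localization.AtPrime q), ← Ideal.map_map] at h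
  obtain ⟨s, hs, hsw⟩ := exists_mul_mem_of_mem_map h
  refine ⟨s, hs, ?_⟩
  have hle : (IsLocalRing.maximalIdeal A).map (algebraMap A B) ≤
      Submodule.colon (J.map (algebraMap A B)) {algebraMap A B e} := by
    refine Ideal.map_le_iff_le_comap.2 fun m hm => ?_
    rw [Ideal.mem_comap, Submodule.mem_colon_singleton, smul_eq_mul, ← map_mul]
    exact Ideal.mem_map_of_mem _ (hme m hm)
  have h' := Submodule.mem_colon_singleton.1 (hle hsw)
  rw [smul_eq_mul] at h'
  rwa [mul_left_comm, mul_comm]

include H in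
theorem noEmb_step {J : Ideal A} (hJ : NoEmb B J) {e : A} (he : e ∉ J)
    (hme : ∀ m ∈ IsLocalRing.maximalIdeal A, m * e ∈ J) : NoEmb B (J ⊔ Ideal.span {e}) := by
  set J' := J ⊔ Ideal.span {e}
  have hmap : J'.map (algebraMap A B) = J.map (algebraMap A B) ⊔ Ideal.span {algebraMap A B e} := by
    rw [Ideal.map_sup, Ideal.map_span, Set.image_singleton]
  intro x hx
  by_contra hx0
  obtain ⟨q, y, hqp, hy0, hy, hy', hxq⟩ := exists_annihilator_prime hx0
  have hqmin : q ∉ minimalPrimes B := fun h => by
    obtain ⟨s, hs, hsx⟩ := hx q h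
    exact hs (hxq s hsx)
  obtain ⟨a, haq, ha⟩ := exists_mem_avoid H hqmin
  suffices ∃ s, s ∉ q ∧ s * y ∈ J'.map (algebraMap A B) by
    obtain ⟨s, hs, hsy⟩ := this
    exact hs (hy' s hsy)
  have hφ : ∀ b ∈ q, ∃ φ, b * y - algebraMap A B e * φ ∈ J.map (algebraMap A B) := fun b hb => by
    have := hy b hb
    rw [hmap, Submodule.mem_sup] at this
    obtain ⟨j, hj, c, hc, hjc⟩ := this
    obtain ⟨φ, rfl⟩ := Ideal.mem_span_singleton'.1 hc
    exact ⟨φ, by rw [← hjc, mul_comm φ, add_sub_cancel_right]; exact hj⟩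
  by_cases hht : q.height ≤ 1
  · let L := Localization.AtPrime q
    have := H.flat q hht
    let f : L →ₗ[A] L := LinearMap.mulLeft A (algebraMap B L a)
    have hf : ∀ v, f v ∈ IsLocalRing.maximalIdeal A • (⊤ : Submodule A L) →
        v ∈ IsLocalRing.maximalIdeal A • (⊤ : Submodule A L) := fun v hv => by
      rw [smul_top_eq, Submodule.restrictScalars_mem] at hv ⊢
      refine H.red q hht v (nilpotent_iff_mem_prime.2 fun P hP => ?_)
      obtain ⟨z, s, rfl⟩ := IsLocalization.exists_mk'_eq q.primeCompl v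
      have hdis := (IsLocalization.isPrime_iff_isPrime_disjoint q.primeCompl L P).1 hP
      have hv' : algebraMap B L a * IsLocalization.mk' L z s ∈ P := by
        refine ?_
        have hle : (IsLocalRing.maximalIdeal A).map (algebraMap A L) ≤ P := by
          refine Ideal.map_le_iff_le_comap.2 fun m hm => ?_
          have hn : IsNilpotent (algebraMap A L m) := by
            obtain ⟨n, hn⟩ := isNilpotent_maximalIdeal (A := A)
            have : m ^ n ∈ IsLocalRing.maximalIdeal A ^ n := Ideal.pow_mem_pow hm n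
            rw [hn, Ideal.zero_eq_bot, Ideal.mem_bot] at this
            exact ⟨n, by rw [← map_pow, this, map_zero]⟩
          exact nilpotent_iff_mem_prime.1 hn P hP
        exact hle hv
      have hzP : algebraMap B L z * algebraMap B L a ∈ P := by
        have := P.mul_mem_right (algebraMap B L (s : B)) hv'
        rwa [mul_assoc, IsLocalization.mk'_spec, mul_comm] at this
      obtain ⟨p, hp, hpP⟩ := Ideal.exists_minimalPrimes_le (I := (⊥ : Ideal B)) (J := P.comap (algebraMap B L)) bot_le
      have := hp.1.1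
      have hle : P.comap (algebraMap B L) ≤ q := fun c hc => by_contra fun hcq => Set.disjoint_left.1 hdis.2 hcq hc
      rcases eq_or_lt_of_le hle with heq | hlt
      · -- `P` is the maximal ideal; pass to a minimal prime below it
        have hpq : p ≤ q := hpP.trans hle
        have hdis' : Disjoint (q.primeCompl : Set B) (p : Set B) :=
          Set.disjoint_left.2 fun c hc hcp => hc (hpq hcp)
        have hprime := IsLocalization.isPrime_of_isPrime_disjoint q.primeCompl L p hp.1.1 hdis'
        have hmemP : algebraMap B L z * algebraMap B L a ∈ p.map (algebraMap B L) := by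
          have hmL : (IsLocalRing.maximalIdeal A).map (algebraMap A L) ≤ p.map (algebraMap B L) := by
            rw [IsScalarTower.algebraMap_eq A B L, ← Ideal.map_map]
            exact Ideal.map_mono (map_maximalIdeal_le_nilradical.trans (nilradical_le_prime p))
          have h2 := hmL hv
          have := (p.map (algebraMap B L)).mul_mem_right (algebraMap B L (s : B)) h2
          rwa [show f (IsLocalization.mk' L z s) = algebraMap B L a * IsLocalization.mk' L z s from rfl,
            mul_assoc, IsLocalization.mk'_spec, mul_comm] at this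
        rw [← map_mul] at hmemP
        have h3 : z * a ∈ p := by
          rw [← IsLocalization.under_map_of_isPrime_disjoint q.primeCompl L hp.1.1 hdis']
          exact hmemP
        have hz : z ∈ p := (hp.1.1.mem_or_mem h3).resolve_right (ha p hp)
        rw [IsLocalization.mk'_eq_mul_mk'_one]
        exact P.mul_mem_right _ (Ideal.mem_comap.1 (hpP hz))
      · have hpeq : P.comap (algebraMap B L) ∈ minimalPrimes B := by
          by_contra hn
          have h1 : p < P.comap (algebraMap B L) := lt_of_le_of_ne hpP fun e => hn (e ▸ hp)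
          have := hdis.1
          have hq2 := Ideal.height_add_one_le_of_lt_of_isPrime hlt
          have hp2 := Ideal.height_add_one_le_of_lt_of_isPrime h1
          have : (2 : ℕ∞) ≤ 1 := by
            calc (2 : ℕ∞) = 0 + 1 + 1 := by norm_num
              _ ≤ q.height := le_trans (add_le_add (le_trans (add_le_add zero_le le_rfl) hp2) le_rfl) hq2
              _ ≤ 1 := hht
          exact absurd this (by decide)
        have hz : algebraMap B L z ∈ P :=
          (hP.mem_or_mem hzP).resolve_right fun h => ha _ hpeq h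
        rw [IsLocalization.mk'_eq_mul_mk'_one]
        exact P.mul_mem_right _ hz
    have hax : f (algebraMap B L y) ∈ J' • (⊤ : Submodule A L) := by
      rw [smul_top_eq, Submodule.restrictScalars_mem, IsScalarTower.algebraMap_eq A B L, ← Ideal.map_map]
      change algebraMap B L a * algebraMap B L y ∈ _
      rw [← map_mul]
      exact Ideal.mem_map_of_mem _ (hy a haq)
    have hres := mem_smul_top_of_map_mem hf hax
    rw [smul_top_eq, Submodule.restrictScalars_mem, IsScalarTower.algebraMap_eq A B L, ← Ideal.map_map] at hres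
    exact exists_mul_mem_of_mem_map hres
  · obtain ⟨φa, hφa⟩ := hφ a haq
    obtain ⟨s, hs, hsφ⟩ := H.socle q hht a haq ha φa fun b hb => by
      obtain ⟨φb, hφb⟩ := hφ b hb
      have h1 : algebraMap A B e * (a * φb - b * φa) ∈ J.map (algebraMap A B) := by
        have := sub_mem (Ideal.mul_mem_left _ b hφa) (Ideal.mul_mem_left _ a hφb)
        convert this using 1
        ring
      have h2 := mem_nilradical_of_mul_mem H he h1
      refine Submodule.mem_sup.2 ⟨a * φb, Ideal.mem_span_singleton'.2 ⟨φb, mul_comm _ _⟩, -(a * φb - b * φa), neg_mem h2, by ring⟩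
    obtain ⟨c, hc, w, hw, hcw⟩ := Submodule.mem_sup.1 hsφ
    obtain ⟨c, rfl⟩ := Ideal.mem_span_singleton'.1 hc
    refine ⟨s, hs, ?_⟩
    have h3 : a * (s * y - algebraMap A B e * c) ∈ J.map (algebraMap A B) := by
      have := add_mem (Ideal.mul_mem_left _ s hφa) (mul_nil_mem H hJ hme hw)
      convert this using 1
      linear_combination (-algebraMap A B e) * hcw
    have h4 := mem_of_noEmb hJ ha h3
    rw [hmap]
    exact Submodule.mem_sup.2 ⟨_, h4, algebraMap A B e * c, Ideal.mem_span_singleton'.2 ⟨c, mul_comm _ _⟩, by ring⟩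

omit [IsNoetherianRing B] in
theorem exists_step {J I : Ideal A} (h : J < I) :
    ∃ e ∈ I, e ∉ J ∧ ∀ m ∈ IsLocalRing.maximalIdeal A, m * e ∈ J := by
  have key : ∀ i : ℕ, IsLocalRing.maximalIdeal A ^ i * I ≤ J →
      ∃ e ∈ I, e ∉ J ∧ ∀ m ∈ IsLocalRing.maximalIdeal A, m * e ∈ J := by
    intro i
    induction i with
    | zero =>
      intro h0
      rw [pow_zero, one_mul] at h0
      exact absurd h0 h.not_ge
    | succ i ih =>
      intro hi
      by_cases hle : IsLocalRing.maximalIdeal A ^ i * I ≤ J
      · exact ih hle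
      · obtain ⟨e, he, heJ⟩ := SetLike.not_le_iff_exists.1 hle
        refine ⟨e, (Ideal.mul_le_right (I := IsLocalRing.maximalIdeal A ^ i) (J := I)) he, heJ, fun m hm => ?_⟩
        rw [pow_succ', mul_assoc] at hi
        exact hi (Ideal.mul_mem_mul hm he)
  obtain ⟨n, hn⟩ := isNilpotent_maximalIdeal (A := A)
  exact key n (by rw [hn, zero_mul]; exact bot_le)

include H in
theorem noEmb (I : Ideal A) : NoEmb B I := by
  by_contra hI
  obtain ⟨J, ⟨hJI, hJ⟩, hmax⟩ := set_has_maximal_iff_noetherian.mpr (inferInstance : IsNoetherian A A)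
    {J : Ideal A | J ≤ I ∧ NoEmb B J} ⟨⊥, bot_le, noEmb_bot H⟩
  have hlt : J < I := lt_of_le_of_ne hJI fun e => hI (e ▸ hJ)
  obtain ⟨e, heI, heJ, hme⟩ := exists_step hlt
  exact hmax _ ⟨sup_le hJI ((Ideal.span_singleton_le_iff_mem I).2 heI), noEmb_step H hJ heJ hme⟩
    (lt_of_le_of_ne le_sup_left fun h => heJ (h ▸ Ideal.mem_sup_right (Ideal.mem_span_singleton_self e)))

include H in
theorem nilradical_eq : nilradical B = (IsLocalRing.maximalIdeal A).map (algebraMap A B) := by
  refine le_antisymm (fun w hw => noEmb H _ w fun q hq => ?_) map_maximalIdeal_le_nilradical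
  have := hq.1.1
  have h := H.red q (height_le_one_of_mem_minimalPrimes hq) _ ((mem_nilradical.1 hw).map (algebraMap B (Localization.AtPrime q)))
  rw [IsScalarTower.algebraMap_eq A B (Localization.AtPrime q), ← Ideal.map_map] at h
  exact exists_mul_mem_of_mem_map h

include H in
theorem isReduced_quotient : IsReduced (B ⧸ (IsLocalRing.maximalIdeal A).map (algebraMap A B)) := by
  rw [← nilradical_eq H, ← Ideal.isRadical_iff_quotient_reduced]
  exact Ideal.radical_isRadical _

include H in
theorem flat : Module.Flat A B := by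
  rw [Module.Flat.iff_rTensor_injective']
  intro I
  by_contra hI
  obtain ⟨J, ⟨hJI, hJ⟩, hmax⟩ := set_has_maximal_iff_noetherian.mpr (inferInstance : IsNoetherian A A)
    {J : Ideal A | J ≤ I ∧ Function.Injective (J.subtype.rTensor B)} ⟨⊥, bot_le, fun x y _ => by
      have : Subsingleton ((⊥ : Ideal A) ⊗[A] B) := ⟨fun u v => by
        have h0 : ∀ w : (⊥ : Ideal A) ⊗[A] B, w = 0 := fun w => by
          induction w using TensorProduct.induction_on with
          | zero => rfl
          | tmul a b => rw [Subsingleton.elim a 0, TensorProduct.zero_tmul]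
          | add a b ha hb => rw [ha, hb, add_zero]
        rw [h0 u, h0 v]⟩
      exact Subsingleton.elim _ _⟩
  have hlt : J < I := lt_of_le_of_ne hJI fun e => hI (e ▸ hJ)
  obtain ⟨e, heI, heJ, hme⟩ := exists_step hlt
  refine hmax (J ⊔ Ideal.span {e}) ⟨sup_le hJI ((Ideal.span_singleton_le_iff_mem I).2 heI), ?_⟩
    (lt_of_le_of_ne le_sup_left fun h => heJ (h ▸ Ideal.mem_sup_right (Ideal.mem_span_singleton_self e)))
  let e' : ↥(J ⊔ Ideal.span {e}) := ⟨e, Ideal.mem_sup_right (Ideal.mem_span_singleton_self e)⟩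
  let ι : J →ₗ[A] ↥(J ⊔ Ideal.span {e}) := Submodule.inclusion le_sup_left
  -- every tensor is `ι(j) + e ⊗ y`
  have hform : ∀ z : ↥(J ⊔ Ideal.span {e}) ⊗[A] B, ∃ (j : J ⊗[A] B) (y : B), z = ι.rTensor B j + e' ⊗ₜ y := by
    intro z
    induction z using TensorProduct.induction_on with
    | zero => exact ⟨0, 0, by simp⟩
    | tmul u y =>
      obtain ⟨j, hj, c, hc, hjc⟩ := Submodule.mem_sup.1 u.2
      obtain ⟨r, rfl⟩ := Ideal.mem_span_singleton'.1 hc
      refine ⟨(⟨j, hj⟩ : J) ⊗ₜ y, r • y, ?_⟩
      rw [LinearMap.rTensor_tmul, ← TensorProduct.smul_tmul, ← TensorProduct.add_tmul]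
      exact congrArg (· ⊗ₜ y) (Subtype.ext hjc.symm)
    | add z1 z2 h1 h2 =>
      obtain ⟨j1, y1, rfl⟩ := h1
      obtain ⟨j2, y2, rfl⟩ := h2
      exact ⟨j1 + j2, y1 + y2, by rw [map_add, TensorProduct.tmul_add]; abel⟩
  rw [injective_iff_map_eq_zero]
  intro z hz
  obtain ⟨j, y, rfl⟩ := hform z
  let μ : A ⊗[A] B →ₗ[A] B := (TensorProduct.lid A B).toLinearMap
  have hμ : ∀ w : J ⊗[A] B, μ (J.subtype.rTensor B w) ∈ Ideal.map (algebraMap A B) J := by
    intro w
    induction w using TensorProduct.induction_on with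
    | zero => simp
    | tmul u y =>
      simp only [μ, LinearMap.rTensor_tmul, LinearEquiv.coe_coe, TensorProduct.lid_tmul, Algebra.smul_def]
      exact Ideal.mul_mem_right _ _ (Ideal.mem_map_of_mem _ u.2)
    | add a b ha hb => simpa using add_mem ha hb
  have hcomp : ∀ w : J ⊗[A] B, (J ⊔ Ideal.span {e} : Ideal A).subtype.rTensor B (ι.rTensor B w) = J.subtype.rTensor B w := by
    intro w
    rw [← LinearMap.comp_apply, ← LinearMap.rTensor_comp]
    rfl
  have h0 := congrArg μ hz
  rw [map_add, map_add, hcomp, map_zero] at h0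
  have hey : algebraMap A B e * y ∈ Ideal.map (algebraMap A B) J := by
    have h1 : μ ((J ⊔ Ideal.span {e} : Ideal A).subtype.rTensor B (e' ⊗ₜ y)) = algebraMap A B e * y := by
      simp [μ, e', Algebra.smul_def]
    rw [h1] at h0
    rw [eq_neg_of_add_eq_zero_right h0]
    exact neg_mem (hμ j)
  have hymem : y ∈ (IsLocalRing.maximalIdeal A) • (⊤ : Submodule A B) := by
    rw [smul_top_eq, Submodule.restrictScalars_mem, ← nilradical_eq H]
    exact mem_nilradical_of_mul_mem H heJ hey
  have : e' ⊗ₜ[A] y ∈ LinearMap.range (ι.rTensor B) := by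
    refine Submodule.smul_induction_on (p := fun y => e' ⊗ₜ[A] y ∈ LinearMap.range (ι.rTensor B)) hymem
      (fun m hm n _ => ?_) fun a b ha hb => ?_
    · refine ⟨(⟨m * e, hme m hm⟩ : J) ⊗ₜ n, ?_⟩
      rw [LinearMap.rTensor_tmul, ← TensorProduct.smul_tmul]
      rfl
    · rw [TensorProduct.tmul_add]; exact add_mem ha hb
  obtain ⟨w, hw⟩ := this
  rw [← hw, ← map_add] at hz ⊢
  rw [hcomp] at hz
  rw [hJ (hz.trans (map_zero _).symm), map_zero]

end algebra

end Misc9.ArtinFam
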