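import Groth.Agent.Misc9.BddFibEngine
import Mathlib.LinearAlgebra.TensorProduct.Quotient
import Mathlib.AlgebraicGeometry.Limits

/-! Composition of morphisms with bounded fibre degrees. -/

universe u

open CategoryTheory Limits AlgebraicGeometry TensorProduct

namespace Groth.Agent.Misc9.BddFibComp

set_option backward.isDefEq.respectTransparency.types false

theorem finrank_le_mul {K B C : Type u} [Field K] [CommRing B] [Algebra K B] [Module.Finite K B]
    [AddCommGroup C] [Module B C] [Module K C] [IsScalarTower K B C] (n : ℕ)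
    (h : ∀ p : Ideal B, p.IsMaximal → ∀ (_ : Module.Finite K (C ⧸ (p • ⊤ : Submodule B C))),
      Module.finrank K (C ⧸ (p • ⊤ : Submodule B C)) ≤ n * Module.finrank K (B ⧸ p))
    (h' : ∀ p : Ideal B, p.IsMaximal → Module.Finite K (C ⧸ (p • ⊤ : Submodule B C))) :
    Module.Finite K C ∧ Module.finrank K C ≤ n * Module.finrank K B := by
  have hB : IsNoetherianRing B := isNoetherian_of_tower K inferInstance
  have hA : IsArtinianRing B := IsArtinianRing.of_finite K B
  let P : Ideal B → Prop := fun I ↦ ∃ V : Submodule K C, Module.Finite K V ∧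
    Module.finrank K V ≤ n * Module.finrank K (I.restrictScalars K) ∧
      (I • ⊤ : Submodule B C).restrictScalars K ≤ V
  have hP : P ⊥ := ⟨⊥, inferInstance, by simp, by simp⟩
  obtain ⟨I, hI, hmax⟩ := (wellFounded_gt (α := Ideal B)).has_min {I | P I} ⟨⊥, hP⟩
  by_cases hIt : I = ⊤
  · obtain ⟨V, hV, hVn, hle⟩ := hI
    subst hIt
    have hVt : V = ⊤ := by
      refine eq_top_iff.mpr (le_trans ?_ hle)
      rw [show ((⊤ : Ideal B) • ⊤ : Submodule B C) = ⊤ from Submodule.top_smul ⊤]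
      simp
    subst hVt
    refine ⟨Module.Finite.equiv Submodule.topEquiv, ?_⟩
    rw [finrank_top, Submodule.restrictScalars_top, finrank_top] at hVn
    exact hVn
  exfalso
  obtain ⟨J, hIJ⟩ := exists_covBy_of_wellFoundedLT (α := Ideal B) (a := I)
    (fun h ↦ hIt (isMax_iff_eq_top.mp h))
  obtain ⟨x, hxJ, hxI⟩ := SetLike.exists_of_lt hIJ.lt
  have hJ : I ⊔ Ideal.span {x} = J := by
    rcases hIJ.eq_or_eq (le_sup_left : I ≤ I ⊔ Ideal.span {x})
      (sup_le hIJ.le (by simpa [Ideal.span_singleton_le_iff_mem] using hxJ)) with h | h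
    · exact absurd (h ▸ Submodule.mem_sup_right (Ideal.mem_span_singleton_self x)) hxI
    · exact h
  let p : Ideal B := Submodule.comap (LinearMap.toSpanSingleton B B x) I
  have hpmem : ∀ b, b ∈ p ↔ b * x ∈ I := fun b ↦ Iff.rfl
  have hp : p.IsMaximal := by
    rw [Ideal.isMaximal_iff]
    refine ⟨by rw [hpmem, one_mul]; exact hxI, fun M b hpM hb hbM ↦ ?_⟩
    rw [hpmem] at hb
    have hJ' : I ⊔ Ideal.span {b * x} = J := by
      rcases hIJ.eq_or_eq (le_sup_left : I ≤ I ⊔ Ideal.span {b * x})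
        (sup_le hIJ.le (by simpa [Ideal.span_singleton_le_iff_mem] using J.mul_mem_left b hxJ))
        with h | h
      · exact absurd (h ▸ Submodule.mem_sup_right (Ideal.mem_span_singleton_self (b * x))) hb
      · exact h
    rw [← hJ'] at hxJ
    obtain ⟨i, hi, y, hy, hxy⟩ := Submodule.mem_sup.mp hxJ
    obtain ⟨c, rfl⟩ := Ideal.mem_span_singleton'.mp hy
    have h1 : (1 - c * b) ∈ p := by
      rw [hpmem, show (1 - c * b) * x = i from by linear_combination -hxy]
      exact hi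
    simpa using M.add_mem (hpM h1) (M.mul_mem_left c hbM)
  have := h' p hp
  have hn := h p hp this
  obtain ⟨V, hV, hVn, hle⟩ := hI
  obtain ⟨V0, hV0⟩ := Submodule.exists_isCompl ((p • ⊤ : Submodule B C).restrictScalars K)
  have e0 : (C ⧸ (p • ⊤ : Submodule B C)) ≃ₗ[K] V0 :=
    (Submodule.Quotient.restrictScalarsEquiv K (p • ⊤ : Submodule B C)).symm ≪≫ₗ
      Submodule.quotientEquivOfIsCompl _ V0 hV0
  have : Module.Finite K V0 := Module.Finite.equiv e0
  obtain ⟨W, hW⟩ := Submodule.exists_isCompl (p.restrictScalars K)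
  have eW : (B ⧸ p) ≃ₗ[K] W :=
    (Submodule.Quotient.restrictScalarsEquiv K p).symm ≪≫ₗ
      Submodule.quotientEquivOfIsCompl _ W hW
  let mx : C →ₗ[K] C := (LinearMap.lsmul B C x).restrictScalars K
  have hJP : P J := by
    refine ⟨V ⊔ V0.map mx, inferInstance, ?_, ?_⟩
    · have h1 := Submodule.finrank_add_le_finrank_add_finrank V (V0.map mx)
      have h2 : Module.finrank K (V0.map mx) ≤ n * Module.finrank K W := by
        rw [← eW.finrank_eq]
        exact (Submodule.finrank_map_le mx V0).trans (e0.finrank_eq ▸ hn)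
      let bx : B →ₗ[K] B := (LinearMap.toSpanSingleton B B x).restrictScalars K
      have hbx : ∀ b, bx b = b * x := fun b ↦ rfl
      have hd : Disjoint (I.restrictScalars K) (W.map bx) := by
        rw [Submodule.disjoint_def]
        rintro _ hy ⟨w, hw, rfl⟩
        have hwp : w ∈ p.restrictScalars K := by simpa [hpmem, hbx] using hy
        rw [Submodule.disjoint_def.mp hW.disjoint w hwp hw, map_zero]
      have hinjW : Function.Injective (bx.domRestrict W) := by
        rw [← LinearMap.ker_eq_bot, LinearMap.ker_eq_bot']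
        rintro ⟨w, hw⟩ hw0
        have hwp : w ∈ p.restrictScalars K := by
          have : bx w = 0 := hw0
          show w ∈ p
          rw [hpmem, ← hbx, this]; exact I.zero_mem
        exact Subtype.ext (Submodule.disjoint_def.mp hW.disjoint w hwp hw)
      have h3 : Module.finrank K (W.map bx) = Module.finrank K W := by
        rw [← LinearMap.range_domRestrict, LinearMap.finrank_range_of_inj hinjW]
      have h4 : I.restrictScalars K ⊔ W.map bx ≤ J.restrictScalars K := by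
        refine sup_le (fun a ha ↦ hIJ.le ha) ?_
        rintro _ ⟨w, _, rfl⟩
        exact J.mul_mem_left w hxJ
      have h5 := Submodule.finrank_sup_add_finrank_inf_eq (I.restrictScalars K) (W.map bx)
      rw [hd.eq_bot, finrank_bot, add_zero, h3] at h5
      have h6 := Submodule.finrank_mono h4
      calc _ ≤ Module.finrank K V + Module.finrank K (V0.map mx) := h1
        _ ≤ n * Module.finrank K (I.restrictScalars K) + n * Module.finrank K W :=
          Nat.add_le_add hVn h2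
        _ = n * (Module.finrank K (I.restrictScalars K) + Module.finrank K W) := (mul_add _ _ _).symm
        _ ≤ _ := Nat.mul_le_mul_left n (h5 ▸ h6)
    · intro c hc
      rw [Submodule.restrictScalars_mem, ← hJ, Submodule.sup_smul] at hc
      obtain ⟨a, ha, b, hb, rfl⟩ := Submodule.mem_sup.mp hc
      refine Submodule.add_mem _ (Submodule.mem_sup_left (hle ha)) ?_
      rw [Submodule.ideal_span_singleton_smul] at hb
      obtain ⟨d, -, rfl⟩ := Submodule.mem_smul_pointwise_iff_exists _ _ _ |>.mp hb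
      obtain ⟨d1, hd1, d0, hd0, rfl⟩ := Submodule.mem_sup.mp
        (hV0.sup_eq_top.symm ▸ Submodule.mem_top : d ∈ _ ⊔ V0)
      rw [smul_add]
      refine Submodule.add_mem _ (Submodule.mem_sup_left (hle ?_))
        (Submodule.mem_sup_right ⟨d0, hd0, rfl⟩)
      rw [Submodule.restrictScalars_mem] at hd1 ⊢
      refine Submodule.smul_induction_on hd1 (fun b hb e _ ↦ ?_) (fun a b ha hb ↦ ?_)
      · rw [smul_smul, mul_comm]
        exact Submodule.smul_mem_smul hb Submodule.mem_top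
      · rw [smul_add]; exact Submodule.add_mem _ ha hb
  exact hmax J hJP hIJ.lt

theorem finiteOfDegLE_comp {K : Type u} [Field K] {W T : Scheme.{u}} (q : W ⟶ T)
    (p : T ⟶ Spec (CommRingCat.of K)) (n m : ℕ) (hq : BddFib.FibreDegLE q n)
    (hp : BddFib.FiniteOfDegLE (CommRingCat.of K) p m) :
    BddFib.FiniteOfDegLE (CommRingCat.of K) (q ≫ p) (n * m) := by
  obtain ⟨hTfin, hTdisc, -⟩ := BddFibEngine.finite_discrete hp
  obtain ⟨hT, hmod, hrank⟩ := hp
  have hfib : ∀ t : T, Finite ↥(q.fiber t) ∧ DiscreteTopology ↥(q.fiber t) := fun t ↦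
    have h := BddFibEngine.finite_discrete (k := ↥(T.residueField t)) (hq t)
    ⟨h.1, h.2.1⟩
  have hWd : DiscreteTopology W := by
    rw [discreteTopology_iff_isOpen_singleton]
    intro w
    have hS : IsOpen (q ⁻¹' {q w}) := (isOpen_discrete _).preimage q.continuous
    have := (hfib (q w)).2
    have : DiscreteTopology ↥(q ⁻¹' {q w}) := (q.fiberHomeo (q w)).discreteTopology
    simpa using hS.isOpenMap_subtype_val _ (isOpen_discrete {(⟨w, rfl⟩ : ↥(q ⁻¹' {q w}))})
  have hWf : Finite W := by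
    have : ∀ t : T, Finite ↥(q ⁻¹' {t}) := fun t ↦
      have := (hfib t).1
      Finite.of_equiv _ (q.fiberHomeo t).toEquiv
    have : ∀ t : T, Finite { w // q w = t } := this
    exact Finite.of_equiv _ (Equiv.sigmaFiberEquiv (fun w ↦ q w))
  have hW : IsAffine W := inferInstance
  letI algB : Algebra K Γ(T, ⊤) := BddFib.secAlgebra (CommRingCat.of K) p
  letI algC : Algebra Γ(T, ⊤) Γ(W, ⊤) := q.appTop.hom.toAlgebra
  letI algK : Algebra K Γ(W, ⊤) := BddFib.secAlgebra (CommRingCat.of K) (q ≫ p)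
  haveI : IsScalarTower K Γ(T, ⊤) Γ(W, ⊤) := IsScalarTower.of_algebraMap_eq' (by
    show ((Scheme.ΓSpecIso (CommRingCat.of K)).inv ≫ (q ≫ p).appTop).hom =
      q.appTop.hom.comp ((Scheme.ΓSpecIso (CommRingCat.of K)).inv ≫ p.appTop).hom
    rw [Scheme.Hom.comp_appTop, ← Category.assoc]
    rfl)
  haveI : Module.Finite K Γ(T, ⊤) := hmod
  suffices H : ∀ I : Ideal Γ(T, ⊤), I.IsMaximal →
      Module.Finite K (Γ(W, ⊤) ⧸ (I • ⊤ : Submodule Γ(T, ⊤) Γ(W, ⊤))) ∧
      Module.finrank K (Γ(W, ⊤) ⧸ (I • ⊤ : Submodule Γ(T, ⊤) Γ(W, ⊤))) ≤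
        n * Module.finrank K (Γ(T, ⊤) ⧸ I) by
    obtain ⟨h1, h2⟩ := finrank_le_mul (K := K) (B := Γ(T, ⊤)) (C := Γ(W, ⊤)) n
      (fun I hI _ ↦ (H I hI).2) (fun I hI ↦ (H I hI).1)
    exact ⟨hW, h1, h2.trans (Nat.mul_le_mul_left n hrank)⟩
  intro I hI
  letI : Field (Γ(T, ⊤) ⧸ I) := Ideal.Quotient.field I
  have hsq : IsPullback (W.isoSpec.inv) (Spec.map q.appTop) q T.isoSpec.inv :=
    IsPullback.of_horiz_isIso ⟨(Scheme.isoSpec_inv_naturality q).symm⟩
  have hpb := (isPullback_SpecMap_of_isPushout _ _ _ _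
    (CommRingCat.isPushout_tensorProduct Γ(T, ⊤) (Γ(T, ⊤) ⧸ I) Γ(W, ⊤))).flip.paste_horiz hsq
  have hd := BddFibEngine.of_fibreDegLE (k := Γ(T, ⊤) ⧸ I) hq hpb
  rw [BddFibEngine.finiteOfDegLE_iff] at hd
  obtain ⟨hf, hr⟩ := hd
  have hfin : Module.Finite (Γ(T, ⊤) ⧸ I) ((Γ(T, ⊤) ⧸ I) ⊗[Γ(T, ⊤)] Γ(W, ⊤)) :=
    RingHom.finite_algebraMap.mp ((IsFinite.SpecMap_iff _).mp hf)
  have hr0 : Module.finrank (Γ(T, ⊤) ⧸ I) ((Γ(T, ⊤) ⧸ I) ⊗[Γ(T, ⊤)] Γ(W, ⊤)) ≤ n := by
    have := hr (IsLocalRing.closedPoint (Γ(T, ⊤) ⧸ I))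
    rw [show Algebra.TensorProduct.includeLeftRingHom =
      algebraMap (Γ(T, ⊤) ⧸ I) ((Γ(T, ⊤) ⧸ I) ⊗[Γ(T, ⊤)] Γ(W, ⊤)) from rfl,
      Scheme.Hom.finrank_SpecMap_algebraMap, Module.rankAtStalk_eq_finrank_of_free] at this
    exact this
  let e : ((Γ(T, ⊤) ⧸ I) ⊗[Γ(T, ⊤)] Γ(W, ⊤)) ≃ₗ[K]
      Γ(W, ⊤) ⧸ (I • ⊤ : Submodule Γ(T, ⊤) Γ(W, ⊤)) :=
    (TensorProduct.quotTensorEquivQuotSMul Γ(W, ⊤) I).restrictScalars K
  haveI : Module.Finite K (Γ(T, ⊤) ⧸ I) := inferInstance
  haveI : Module.Finite K ((Γ(T, ⊤) ⧸ I) ⊗[Γ(T, ⊤)] Γ(W, ⊤)) := Module.Finite.trans (Γ(T, ⊤) ⧸ I) _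
  refine ⟨Module.Finite.equiv e, ?_⟩
  rw [← e.finrank_eq, ← Module.finrank_mul_finrank K (Γ(T, ⊤) ⧸ I), mul_comm]
  exact Nat.mul_le_mul_right _ hr0

end Groth.Agent.Misc9.BddFibComp
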