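import Groth.Prelude.Def_W4stkschemesremainderFib
import Mathlib.AlgebraicGeometry.Morphisms.FlatRank
import Mathlib.AlgebraicGeometry.Morphisms.QuasiFinite
import Groth.Agent.Fpqc.Descent

/-! Degrees of fibres: `FiniteOfDegLE` over a field in terms of `IsFinite` and `Scheme.Hom.finrank`. -/

universe u

open CategoryTheory Limits AlgebraicGeometry

namespace Groth.Agent.Misc9.BddFibEngine

set_option backward.isDefEq.respectTransparency.types false

theorem flat_over_field {k : Type u} [Field k] {T : Scheme.{u}} (p : T ⟶ Spec (.of k)) : Flat p := by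
  infer_instance

theorem finite_of_appTop {k : Type u} [Field k] {T : Scheme.{u}} (p : T ⟶ Spec (.of k))
    (h : p.appTop.hom.Finite) :
    ((Scheme.ΓSpecIso (CommRingCat.of k)).inv ≫ p.appTop).hom.Finite := by
  rw [CommRingCat.hom_comp]
  exact RingHom.Finite.comp h (.of_surjective _
    (ConcreteCategory.bijective_of_isIso (Scheme.ΓSpecIso (CommRingCat.of k)).inv).surjective)

theorem finrank_eq {k : Type u} [Field k] {T : Scheme.{u}} (p : T ⟶ Spec (.of k))
    [IsFinite p] (t : Spec (CommRingCat.of k)) :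
    letI := BddFib.secAlgebra (CommRingCat.of k) p
    p.finrank t = Module.finrank k Γ(T, ⊤) := by
  letI : Algebra k Γ(T, ⊤) := BddFib.secAlgebra (CommRingCat.of k) p
  have hT : IsAffine T := isAffine_of_isAffineHom p
  set φ : CommRingCat.of k ⟶ Γ(T, ⊤) := (Scheme.ΓSpecIso (CommRingCat.of k)).inv ≫ p.appTop with hφ
  have hp : p = T.isoSpec.hom ≫ Spec.map φ := by
    rw [hφ, Spec.map_comp, Scheme.isoSpec_hom_naturality_assoc, Scheme.isoSpec_hom,
      toSpecΓ_SpecMap_ΓSpecIso_inv, Category.comp_id]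
  have h1 : φ.hom.Finite := finite_of_appTop p p.finite_appTop
  have := (IsFinite.SpecMap_iff φ).mpr h1
  have h2 : φ.hom.Flat := by
    rw [← Flat.SpecMap_iff]; infer_instance
  conv_lhs => rw [hp]
  rw [Scheme.Hom.finrank_comp_left_of_isIso, Scheme.Hom.finrank_SpecMap_eq_finrank h1 h2]
  have : Module.Finite k Γ(T, ⊤) := h1
  have e : φ.hom = algebraMap k Γ(T, ⊤) := rfl
  rw [e, RingHom.finrank_algebraMap, Module.rankAtStalk_eq_finrank_of_free]
  rfl

theorem finiteOfDegLE_iff {k : Type u} [Field k] {T : Scheme.{u}} (p : T ⟶ Spec (.of k)) (n : ℕ) :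
    BddFib.FiniteOfDegLE (CommRingCat.of k) p n ↔
      IsFinite p ∧ ∀ t, p.finrank t ≤ n := by
  letI : Algebra k Γ(T, ⊤) := BddFib.secAlgebra (CommRingCat.of k) p
  constructor
  · rintro ⟨h1, h2, h3⟩
    have : p.appTop.hom.Finite := by
      have hc : ((Scheme.ΓSpecIso (CommRingCat.of k)).inv ≫ p.appTop).hom.Finite := h2
      exact RingHom.Finite.of_comp_finite (g := p.appTop.hom)
        (f := (Scheme.ΓSpecIso (CommRingCat.of k)).inv.hom) hc
    have hf : IsFinite p := (HasAffineProperty.iff_of_isAffine (P := @IsFinite)).mpr ⟨h1, this⟩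
    exact ⟨hf, fun t ↦ (finrank_eq p t).le.trans h3⟩
  · rintro ⟨hf, h⟩
    refine ⟨isAffine_of_isAffineHom p, ?_, ?_⟩
    · exact finite_of_appTop p p.finite_appTop
    · let t : Spec (CommRingCat.of k) := IsLocalRing.closedPoint k
      exact (finrank_eq p t).ge.trans (h t)

theorem finiteOfDegLE_of_isPullback {k l : Type u} [Field k] [Field l] {T T' : Scheme.{u}}
    {q : T' ⟶ T} {p' : T' ⟶ Spec (CommRingCat.of l)} {p : T ⟶ Spec (CommRingCat.of k)}
    {i : Spec (CommRingCat.of l) ⟶ Spec (CommRingCat.of k)} (h : IsPullback q p' p i) (n : ℕ)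
    (hp : BddFib.FiniteOfDegLE (CommRingCat.of k) p n) :
    BddFib.FiniteOfDegLE (CommRingCat.of l) p' n := by
  rw [finiteOfDegLE_iff] at hp ⊢
  obtain ⟨hf, hn⟩ := hp
  refine ⟨MorphismProperty.of_isPullback h hf, fun t ↦ ?_⟩
  rw [Scheme.Hom.finrank_of_isPullback q p' p i h t]
  exact hn _

theorem finiteOfDegLE_of_isPullback_descent {k l : Type u} [Field k] [Field l] {T T' : Scheme.{u}}
    {q : T' ⟶ T} {p' : T' ⟶ Spec (CommRingCat.of l)} {p : T ⟶ Spec (CommRingCat.of k)}
    {i : Spec (CommRingCat.of l) ⟶ Spec (CommRingCat.of k)} (h : IsPullback q p' p i) (n : ℕ)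
    (hp : BddFib.FiniteOfDegLE (CommRingCat.of l) p' n) :
    BddFib.FiniteOfDegLE (CommRingCat.of k) p n := by
  rw [finiteOfDegLE_iff] at hp ⊢
  obtain ⟨hf, hn⟩ := hp
  have := Fpqc.Descent.isFinite.{u}
  have hs : Surjective i := ⟨fun x ↦ ⟨IsLocalRing.closedPoint l, Subsingleton.elim (α := PrimeSpectrum k) _ _⟩⟩
  have hfin : IsFinite p :=
    MorphismProperty.of_isPullback_of_descendsAlong
      (Q := (@Surjective ⊓ @Flat ⊓ @QuasiCompact : MorphismProperty Scheme.{u}))
      h.flip ⟨⟨hs, inferInstance⟩, inferInstance⟩ hf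
  refine ⟨hfin, fun t ↦ ?_⟩
  obtain ⟨s, rfl⟩ := hs.surj t
  rw [← Scheme.Hom.finrank_of_isPullback q p' p i h s]
  exact hn _

theorem exists_factor {X : Scheme.{u}} {k : Type u} [Field k] (g : Spec (CommRingCat.of k) ⟶ X) :
    ∃ (y : X) (i : Spec (CommRingCat.of k) ⟶ Spec (X.residueField y)),
      i ≫ X.fromSpecResidueField y = g :=
  ⟨_, _, Scheme.descResidueField_stalkClosedPointTo_fromSpecResidueField k X g⟩

theorem of_fibreDegLE {X Y P : Scheme.{u}} {f : X ⟶ Y} {n : ℕ} (hf : BddFib.FibreDegLE f n)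
    {k : Type u} [Field k] {fst : P ⟶ X} {snd : P ⟶ Spec (CommRingCat.of k)}
    {g : Spec (CommRingCat.of k) ⟶ Y} (h : IsPullback fst snd f g) :
    BddFib.FiniteOfDegLE (CommRingCat.of k) snd n := by
  obtain ⟨y, i, rfl⟩ := exists_factor g
  let l : P ⟶ f.fiber y := pullback.lift fst (snd ≫ i) (by rw [Category.assoc]; exact h.w)
  have hpb : IsPullback l snd (f.fiberToSpecResidueField y) i :=
    IsPullback.of_right (h₁₂ := f.fiberι y)
      (by rw [show l ≫ f.fiberι y = fst from pullback.lift_fst _ _ _]; exact h)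
      (pullback.lift_snd _ _ _)
      (IsPullback.of_hasPullback f (Y.fromSpecResidueField y))
  exact finiteOfDegLE_of_isPullback (k := ↥(Y.residueField y)) hpb n (hf y)

theorem fibreDegLE_iff {X Y : Scheme.{u}} (f : X ⟶ Y) (n : ℕ) :
    BddFib.FibreDegLE f n ↔ ∀ (k : Type u) [Field k] (g : Spec (CommRingCat.of k) ⟶ Y),
      BddFib.FiniteOfDegLE (CommRingCat.of k) (pullback.snd f g) n :=
  ⟨fun hf _ _ g ↦ of_fibreDegLE hf (IsPullback.of_hasPullback f g),
   fun h y ↦ h ↥(Y.residueField y) (Y.fromSpecResidueField y)⟩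

theorem finite_discrete {k : Type u} [Field k] {T : Scheme.{u}} {p : T ⟶ Spec (CommRingCat.of k)}
    {n : ℕ} (h : BddFib.FiniteOfDegLE (CommRingCat.of k) p n) :
    Finite T ∧ DiscreteTopology T ∧ IsFinite p := by
  rw [finiteOfDegLE_iff] at h
  have := h.1
  have : IsArtinianScheme (Spec (CommRingCat.of k)) := inferInstance
  have : IsArtinianScheme T := by
    have hA : IsAffine T := isAffine_of_isAffineHom p
    letI : Algebra k Γ(T, ⊤) := BddFib.secAlgebra (CommRingCat.of k) p
    have : Module.Finite k Γ(T, ⊤) := finite_of_appTop p p.finite_appTop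
    have : IsArtinianRing Γ(T, ⊤) := IsArtinianRing.of_finite k Γ(T, ⊤)
    have h1 : IsLocallyArtinian T := IsLocallyArtinian.of_isImmersion T.isoSpec.hom
    exact { toIsLocallyArtinian := h1, toCompactSpace := inferInstance }
  exact ⟨inferInstance, inferInstance, h.1⟩

end Groth.Agent.Misc9.BddFibEngine
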