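import Groth.Agent.Misc9.BddFibEngine
import Mathlib.RingTheory.ZariskisMainTheorem
import Mathlib.AlgebraicGeometry.Morphisms.QuasiFinite

/-! Universal bound on fibre degrees of quasi-finite finite type morphisms. -/

universe u

open CategoryTheory Limits AlgebraicGeometry TensorProduct

namespace Groth.Agent.Misc9.BddFibLQF

set_option backward.isDefEq.respectTransparency.types false

theorem exists_bound (R S : Type u) [CommRing R] [CommRing S] [Algebra R S]
    [Algebra.FiniteType R S] [Algebra.QuasiFinite R S] :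
    ∃ N : ℕ, ∀ (k : Type u) [Field k] [Algebra R k],
      Module.Finite k (k ⊗[R] S) ∧ Module.finrank k (k ⊗[R] S) ≤ N := by
  choose S' hfg r hr hbij using fun p : PrimeSpectrum S ↦
    Algebra.QuasiFiniteAt.exists_fg_and_exists_notMem_and_awayMap_bijective (R := R) p.asIdeal
  have hspan : Ideal.span (Set.range fun p ↦ (r p).1) = ⊤ := by
    by_contra h
    obtain ⟨M, hM, hle⟩ := Ideal.exists_le_maximal _ h
    exact hr ⟨M, hM.isPrime⟩ (hle (Ideal.subset_span ⟨_, rfl⟩))
  obtain ⟨t, ht, htop⟩ := Submodule.mem_span_finite_of_mem_span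
    ((Ideal.eq_top_iff_one _).mp hspan)
  choose idx hidx using fun x : t ↦ ht x.2
  have hfin : ∀ x : t, Module.Finite R (S' (idx x)) := fun x ↦ Module.Finite.iff_fg.mpr (hfg _)
  choose N g hg using fun x : t ↦ Module.Finite.exists_fin' R (S' (idx x))
  refine ⟨∑ x : t, N x, fun k _ _ ↦ ?_⟩
  let a : t → k ⊗[R] S := fun x ↦ 1 ⊗ₜ x.1
  let L : ∀ x : t, k ⊗[R] S' (idx x) →ₐ[k] Localization.Away (a x) := fun x ↦
    (IsScalarTower.toAlgHom k (k ⊗[R] S) (Localization.Away (a x))).comp
      (Algebra.TensorProduct.map (AlgHom.id k k) (S' (idx x)).val)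
  have hrk : ∀ x : t, Module.finrank k (k ⊗[R] S' (idx x)) ≤ N x := by
    intro x
    have hs : Function.Surjective ((g x).baseChange k) :=
      LinearMap.lTensor_surjective k (hg x)
    refine (LinearMap.finrank_le_finrank_of_surjective hs).trans ?_
    rw [(TensorProduct.piScalarRight R k k (Fin (N x))).finrank_eq, Module.finrank_pi, Fintype.card_fin]
  have hsurj : ∀ x : t, Function.Surjective (L x) := by
    intro x
    have := hfin x
    have hx : (r (idx x)).1 = x.1 := hidx x
    have : Module.Finite k (L x).range :=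
      Module.Finite.of_surjective (L x).rangeRestrict.toLinearMap (L x).rangeRestrict_surjective
    have : IsArtinianRing (L x).range :=
      IsArtinianRing.of_finite k (L x).range
    let u : (L x).range := ⟨L x (1 ⊗ₜ r (idx x)), ⟨_, rfl⟩⟩
    have hu : (u : Localization.Away (a x)) = algebraMap _ _ (a x) := by
      simp [u, L, a, hx]
    have hunit : IsUnit u := by
      rw [IsArtinianRing.isUnit_iff_mem_nonZeroDivisors, mem_nonZeroDivisors_iff_right]
      intro v hv
      have h1 : (v : Localization.Away (a x)) * algebraMap _ _ (a x) = 0 := by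
        rw [← hu, ← Subalgebra.coe_mul, hv]; rfl
      exact Subtype.ext ((IsLocalization.map_units (Localization.Away (a x))
        ⟨a x, Submonoid.mem_powers _⟩).mul_left_eq_zero.mp h1)
    have hinv : ∀ j : ℕ, ∀ z : Localization.Away (a x),
        z * algebraMap _ _ (a x) ^ j ∈ (L x).range → z ∈ (L x).range := by
      intro j z hz
      obtain ⟨w, hw⟩ := (hunit.pow j).exists_right_inv
      have h2 := congrArg Subtype.val hw
      simp only [Subalgebra.coe_mul, Subalgebra.coe_pow, hu, Subalgebra.coe_one] at h2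
      have := mul_mem hz w.2
      rwa [mul_assoc, h2, mul_one] at this
    have hmem : ∀ z : k ⊗[R] S, algebraMap _ (Localization.Away (a x)) z ∈ (L x).range := by
      intro z
      induction z with
      | zero => simp
      | add z w hz hw => rw [map_add]; exact add_mem hz hw
      | tmul c s =>
        obtain ⟨e, he⟩ := (hbij (idx x)).2 (algebraMap S _ s)
        obtain ⟨⟨s', ⟨_, j, rfl⟩⟩, hs'⟩ := IsLocalization.surj (Submonoid.powers (r (idx x))) e
        have h3 := congrArg (Localization.awayMap (S' (idx x)).val.toRingHom (r (idx x))) hs'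
        rw [map_mul, he] at h3
        simp only [Localization.awayMap, IsLocalization.Away.map,
          IsLocalization.map_eq] at h3
        rw [← map_mul] at h3
        obtain ⟨⟨_, m, rfl⟩, hm⟩ :=
          (IsLocalization.eq_iff_exists (Submonoid.powers
            ((S' (idx x)).val.toRingHom (r (idx x)))) _).mp h3
        simp only [AlgHom.toRingHom_eq_coe, RingHom.coe_coe, Subalgebra.coe_val,
          Subalgebra.coe_pow] at hm
        refine hinv (j + m) _ ⟨c ⊗ₜ (r (idx x) ^ m * s'), ?_⟩
        rw [← map_pow, ← map_mul]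
        refine congrArg (algebraMap (k ⊗[R] S) (Localization.Away (a x))) ?_
        simp only [a, Algebra.TensorProduct.tmul_pow, one_pow, Algebra.TensorProduct.tmul_mul_tmul,
          mul_one, ← hx]
        show c ⊗ₜ[R] ((r (idx x) : S) ^ m * (s' : S)) = c ⊗ₜ[R] (s * (r (idx x) : S) ^ (j + m))
        congr 1
        rw [← hm]; ring
    intro z
    obtain ⟨⟨z', ⟨_, j, rfl⟩⟩, hz⟩ := IsLocalization.surj (Submonoid.powers (a x)) z
    refine hinv j z ?_
    rw [← map_pow, hz]
    exact hmem _
  let P : k ⊗[R] S →ₗ[k] ((x : t) → Localization.Away (a x)) :=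
    LinearMap.pi fun x ↦ (IsScalarTower.toAlgHom k (k ⊗[R] S) (Localization.Away (a x))).toLinearMap
  have hP : Function.Injective P := by
    rw [← LinearMap.ker_eq_bot, LinearMap.ker_eq_bot']
    intro z hz
    by_contra hne
    have hI : LinearMap.ker (LinearMap.toSpanSingleton (k ⊗[R] S) _ z) ≠ ⊤ := fun h ↦ hne <| by
      simpa using (show (1 : k ⊗[R] S) ∈ LinearMap.ker (LinearMap.toSpanSingleton _ _ z) from
        h ▸ Submodule.mem_top)
    obtain ⟨M, hM, hle⟩ := Ideal.exists_le_maximal _ hI
    have hxM : ∀ x : t, a x ∈ M := fun x ↦ by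
      obtain ⟨⟨_, j, rfl⟩, hj⟩ := (IsLocalization.map_eq_zero_iff (Submonoid.powers (a x))
        (Localization.Away (a x)) z).mp (congrFun hz x)
      exact hM.isPrime.mem_of_pow_mem j (hle (by simpa using hj))
    apply hM.ne_top
    rw [Ideal.eq_top_iff_one]
    have : Ideal.map (Algebra.TensorProduct.includeRight : S →ₐ[R] k ⊗[R] S) (Ideal.span (t : Set S))
        ≤ M := by
      rw [Ideal.map_span, Ideal.span_le]
      rintro _ ⟨y, hy, rfl⟩
      exact hxM ⟨y, hy⟩
    have h1 := this (Ideal.mem_map_of_mem _ htop)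
    simpa using! h1
  have hf : ∀ x : t, Module.Finite k (Localization.Away (a x)) := fun x ↦
    have := hfin x
    Module.Finite.of_surjective (L x).toLinearMap (hsurj x)
  refine ⟨Module.Finite.of_injective P hP, (LinearMap.finrank_le_finrank_of_injective hP).trans ?_⟩
  rw [Module.finrank_pi_fintype]
  exact Finset.sum_le_sum fun x _ ↦
    have := hfin x
    (LinearMap.finrank_le_finrank_of_surjective (f := (L x).toLinearMap) (hsurj x)).trans (hrk x)

theorem exists_fibreDegLE_SpecMap {R S : CommRingCat.{u}} (φ : R ⟶ S)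
    (h1 : φ.hom.FiniteType) (h2 : φ.hom.QuasiFinite) :
    ∃ N, BddFib.FibreDegLE (Spec.map φ) N := by
  algebraize [φ.hom]
  obtain ⟨N, hN⟩ := exists_bound R S
  refine ⟨N, (BddFibEngine.fibreDegLE_iff _ _).mpr fun k _ g ↦ ?_⟩
  obtain ⟨ψ, rfl⟩ := Spec.map_surjective g
  algebraize [ψ.hom]
  have hpb := (isPullback_SpecMap_of_isPushout _ _ _ _
    (CommRingCat.isPushout_tensorProduct R k S)).flip
  obtain ⟨hf, hr⟩ := hN k
  have hd : BddFib.FiniteOfDegLE (CommRingCat.of k)
      (Spec.map (CommRingCat.ofHom (algebraMap k (k ⊗[R] S)))) N :=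
    (BddFibEngine.finiteOfDegLE_iff _ _).mpr
      ⟨(IsFinite.SpecMap_iff _).mpr (RingHom.finite_algebraMap.mpr hf), fun t ↦ by
        rw [Scheme.Hom.finrank_SpecMap_algebraMap, Module.rankAtStalk_eq_finrank_of_free]
        exact hr⟩
  exact BddFibEngine.finiteOfDegLE_of_isPullback (k := k) (i := 𝟙 _)
    (q := hpb.isoPullback.inv) (IsPullback.of_horiz_isIso ⟨by
      rw [Category.comp_id]; exact (hpb.isoPullback_inv_snd).trans rfl⟩) N hd

theorem finiteOfDegLE_of_cover {k : Type u} [Field k] {T : Scheme.{u}}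
    (p : T ⟶ Spec (CommRingCat.of k)) {ι : Type u} [Fintype ι] (W : ι → Scheme.{u})
    (j : ∀ i, W i ⟶ T) [∀ i, IsOpenImmersion (j i)] (hcov : ∀ x, ∃ i, x ∈ Set.range (j i))
    (N : ι → ℕ) (h : ∀ i, BddFib.FiniteOfDegLE (CommRingCat.of k) (j i ≫ p) (N i)) :
    BddFib.FiniteOfDegLE (CommRingCat.of k) p (∑ i, N i) := by
  have hd := fun i ↦ BddFibEngine.finite_discrete (h i)
  have : Finite T := by
    have : ∀ i, Finite (W i) := fun i ↦ (hd i).1
    refine Finite.of_surjective (fun w : Σ i, W i ↦ j w.1 w.2) fun x ↦ ?_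
    obtain ⟨i, w, hw⟩ := hcov x
    exact ⟨⟨i, w⟩, hw⟩
  have : DiscreteTopology T := by
    rw [discreteTopology_iff_isOpen_singleton]
    intro x
    obtain ⟨i, w, rfl⟩ := hcov x
    have := (hd i).2.1
    simpa using (j i).isOpenEmbedding.isOpenMap _ (isOpen_discrete {w})
  have hT : IsAffine T := inferInstance
  letI : Algebra k Γ(T, ⊤) := BddFib.secAlgebra (CommRingCat.of k) p
  letI : ∀ i, Algebra k Γ(W i, ⊤) := fun i ↦ BddFib.secAlgebra (CommRingCat.of k) (j i ≫ p)
  let P : Γ(T, ⊤) →ₗ[k] ((i : ι) → Γ(W i, ⊤)) :=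
    LinearMap.pi fun i ↦
      { toFun := (j i).appTop.hom
        map_add' := map_add _
        map_smul' := fun c a ↦ by
          simp only [Algebra.smul_def, map_mul, RingHom.id_apply]
          congr 1 }
  have hP : Function.Injective P := by
    intro a b hab
    refine TopCat.Presheaf.section_ext T.sheaf ⊤ a b fun x hx ↦ ?_
    obtain ⟨i, w, rfl⟩ := hcov x
    apply (ConcreteCategory.bijective_of_isIso ((j i).stalkMap w)).1
    show (j i).stalkMap w (T.presheaf.germ ⊤ _ hx a) = (j i).stalkMap w (T.presheaf.germ ⊤ _ hx b)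
    rw [Scheme.Hom.germ_stalkMap_apply, Scheme.Hom.germ_stalkMap_apply]
    exact congrArg _ (congrFun hab i)
  have : ∀ i, Module.Finite k Γ(W i, ⊤) := fun i ↦ (h i).2.1
  refine ⟨hT, Module.Finite.of_injective P hP,
    (LinearMap.finrank_le_finrank_of_injective hP).trans ?_⟩
  rw [Module.finrank_pi_fintype]
  exact Finset.sum_le_sum fun i _ ↦ (h i).2.2

end Groth.Agent.Misc9.BddFibLQF
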