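import Groth.Agent.Misc9.BddFibEngine
import Mathlib.AlgebraicGeometry.ResidueField
import Mathlib.AlgebraicGeometry.Morphisms.ClosedImmersion

/-! Sum of residue degrees of a finite scheme over a field is bounded by its degree. -/

universe u

open CategoryTheory Limits AlgebraicGeometry

namespace Groth.Agent.Misc9.BddFibPoints

set_option backward.isDefEq.respectTransparency.types false

variable {k : Type u} [Field k] {T : Scheme.{u}} (p : T ⟶ Spec (CommRingCat.of k))

theorem surjective_of_SpecMap {R S : CommRingCat.{u}} (f : R ⟶ S)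
    (h : IsClosedImmersion (Spec.map f)) : Function.Surjective f.hom := by
  have h2 := ((HasAffineProperty.iff_of_isAffine (P := @IsClosedImmersion)).mp h).2
  rw [show f = (Scheme.ΓSpecIso R).inv ≫ (Spec.map f).appTop ≫ (Scheme.ΓSpecIso S).hom by simp]
  exact ((ConcreteCategory.bijective_of_isIso (Scheme.ΓSpecIso S).hom).surjective.comp h2).comp
    (ConcreteCategory.bijective_of_isIso (Scheme.ΓSpecIso R).inv).surjective

/-- evaluation at a point, from global sections -/
noncomputable def ev (x : T) : Γ(T, ⊤) ⟶ T.residueField x :=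
  (T.fromSpecResidueField x).appTop ≫ (Scheme.ΓSpecIso (T.residueField x)).hom

theorem Spec_map_ev [IsAffine T] (x : T) :
    Spec.map (ev x) = T.fromSpecResidueField x ≫ T.isoSpec.hom := by
  rw [ev, Spec.map_comp, ← Scheme.isoSpec_hom_naturality]
  congr 1
  rw [Scheme.isoSpec_hom]
  exact SpecMap_ΓSpecIso_hom _

theorem sum_residueDegree_le {n : ℕ} (hp : BddFib.FiniteOfDegLE (CommRingCat.of k) p n) :
    Finite T ∧ ∑ᶠ x : T, p.residueDegree x ≤ n ∧ ∀ x : T, 1 ≤ p.residueDegree x := by
  obtain ⟨hfin, hdisc, hf⟩ := BddFibEngine.finite_discrete hp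
  obtain ⟨hT, hmod, hrank⟩ := hp
  letI : Algebra k Γ(T, ⊤) := BddFib.secAlgebra (CommRingCat.of k) p
  haveI : Module.Finite k Γ(T, ⊤) := hmod
  let b : ∀ x : T, k →+* T.residueField x := fun x ↦ (ev x).hom.comp (algebraMap k Γ(T, ⊤))
  letI : ∀ x : T, Algebra k (T.residueField x) := fun x ↦ (b x).toAlgebra
  have hev : ∀ x : T, Function.Surjective (ev x).hom := by
    intro x
    have hci : IsClosedImmersion (T.fromSpecResidueField x) :=
      isClosed_singleton_iff_isClosedImmersion.mp (isClosed_discrete _)
    have : IsClosedImmersion (Spec.map (ev x)) := by rw [Spec_map_ev]; infer_instance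
    exact surjective_of_SpecMap _ this
  have hmax : ∀ x : T, (RingHom.ker (ev x).hom).IsMaximal := fun x ↦
    RingHom.ker_isMaximal_of_surjective _ (hev x)
  have hinj : ∀ x y : T, RingHom.ker (ev x).hom = RingHom.ker (ev y).hom → x = y := by
    intro x y hxy
    have key : ∀ z : T, (T.isoSpec.hom z).asIdeal = RingHom.ker (ev z).hom := by
      intro z
      have h1 : (Spec.map (ev z)) (IsLocalRing.closedPoint (T.residueField z)) = T.isoSpec.hom z := by
        rw [Spec_map_ev, Scheme.Hom.comp_apply, Scheme.fromSpecResidueField_apply]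
      rw [← h1, RingHom.ker_eq_comap_bot]
      show Ideal.comap (ev z).hom (IsLocalRing.closedPoint (T.residueField z)).asIdeal = _
      rw [show (IsLocalRing.closedPoint (T.residueField z)).asIdeal = ⊥ from
        IsLocalRing.maximalIdeal_eq_bot]
    have : T.isoSpec.hom x = T.isoSpec.hom y := PrimeSpectrum.ext ((key x).trans (hxy.trans (key y).symm))
    exact T.isoSpec.hom.homeomorph.injective this
  have hdeg : ∀ x : T, p.residueDegree x = Module.finrank k (T.residueField x) := by
    intro x
    letI := (p.residueFieldMap x).hom.toAlgebra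
    let pk := (Spec (CommRingCat.of k)).fromSpecResidueField (p x)
    let e : CommRingCat.of k ⟶ (Spec (CommRingCat.of k)).residueField (p x) := Spec.preimage pk
    have he : Spec.map e = pk := Spec.map_preimage _
    have hpk : IsClosedImmersion pk :=
      isClosed_singleton_iff_isClosedImmersion.mp (by
        have : Subsingleton ↥(Spec (CommRingCat.of k)) := inferInstanceAs (Subsingleton (PrimeSpectrum k))
        exact isClosed_discrete _)
    have hesurj : Function.Surjective e.hom := by
      rw [← he] at hpk
      exact surjective_of_SpecMap _ hpk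
    let ee : k ≃+* (Spec (CommRingCat.of k)).residueField (p x) :=
      RingEquiv.ofBijective e.hom ⟨e.hom.injective, hesurj⟩
    have hc : e ≫ p.residueFieldMap x =
        ((Scheme.ΓSpecIso (CommRingCat.of k)).inv ≫ p.appTop) ≫ ev x := by
      rw [← Spec.map_inj, Spec.map_comp, he, Scheme.Hom.SpecMap_residueFieldMap_fromSpecResidueField,
        Spec.map_comp, Spec_map_ev, Spec.map_comp, Category.assoc,
        Scheme.isoSpec_hom_naturality_assoc, Scheme.isoSpec_hom,
        toSpecΓ_SpecMap_ΓSpecIso_inv, Category.comp_id]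
    refine (Algebra.finrank_eq_of_equiv_equiv ee (RingEquiv.refl _) ?_).symm
    ext a
    exact congr($(hc).hom a)
  have : Fintype T := Fintype.ofFinite T
  let L : Γ(T, ⊤) →ₗ[k] ((x : T) → T.residueField x) :=
    LinearMap.pi fun x ↦
      { toFun := (ev x).hom
        map_add' := map_add _
        map_smul' := fun c a ↦ by
          simp only [Algebra.smul_def, map_mul, RingHom.id_apply]
          rfl }
  have hL : Function.Surjective L := by
    intro v
    choose a ha using fun x ↦ hev x (v x)
    obtain ⟨r, hr⟩ := Ideal.exists_forall_sub_mem_ideal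
      (I := fun x : T ↦ RingHom.ker (ev x).hom)
      (fun x y hxy ↦ Ideal.isCoprime_iff_sup_eq.mpr
        ((hmax x).coprime_of_ne (hmax y) (fun h ↦ hxy (hinj x y h)))) a
    refine ⟨r, funext fun x ↦ ?_⟩
    have := hr x
    rw [RingHom.mem_ker, map_sub, sub_eq_zero] at this
    exact this.trans (ha x)
  have hfd : ∀ x : T, Module.Finite k (T.residueField x) := fun x ↦
    Module.Finite.of_surjective ((LinearMap.proj x).comp L) fun w ↦ by
      obtain ⟨a, rfl⟩ := hev x w
      exact ⟨a, rfl⟩
  refine ⟨hfin, ?_, fun x ↦ by rw [hdeg]; exact Module.finrank_pos⟩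
  rw [finsum_eq_sum_of_fintype]
  simp only [hdeg]
  rw [← Module.finrank_pi_fintype k]
  exact (LinearMap.finrank_le_finrank_of_surjective hL).trans hrank

end Groth.Agent.Misc9.BddFibPoints
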