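import Groth.Agent.Misc9.BiratRadicial
import Groth.Prelude.Def_Pi1
import Mathlib.RingTheory.LocalProperties.IntegrallyClosed
import Mathlib.AlgebraicGeometry.FunctionField

/-! Birational finite maps onto normal schemes. -/

set_option backward.isDefEq.respectTransparency false

universe u

namespace Groth.Agent.Misc9.BiratFinite

open AlgebraicGeometry CategoryTheory CategoryTheory.Limits
open Groth.Agent.UnivHomeo.Basic
open Groth.Agent.Misc9 Groth.Agent.Misc9.BiratRadicial

theorem bijective_of_generic {A B : Type u} [CommRing A] [IsDomain A] [IsIntegrallyClosed A] [CommRing B] [IsDomain B]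
    (φ : A →+* B) (hint : φ.IsIntegral) (hs : Function.Surjective (PrimeSpectrum.comap φ))
    (hgen : Function.Surjective ((Spec.map (CommRingCat.ofHom φ)).residueFieldMap (⊥ : PrimeSpectrum B))) :
    Function.Bijective φ := by
  have hinj : Function.Injective φ := by
    rw [injective_iff_map_eq_zero]
    intro a ha
    obtain ⟨Q, hQ⟩ := hs ⊥
    have e : Q.asIdeal.comap φ = ⊥ := congrArg PrimeSpectrum.asIdeal hQ
    exact (Submodule.mem_bot A).mp (e ▸ (show φ a ∈ Q.asIdeal by rw [ha]; exact zero_mem _ : a ∈ Q.asIdeal.comap φ))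
  refine ⟨hinj, fun b ↦ ?_⟩
  obtain ⟨s, a, hs, hsa⟩ := fraction_of_surjective φ ⊥ hgen b
  have hs' : φ s ≠ 0 := fun h ↦ hs (show φ s ∈ (⊥ : Ideal B) from (Submodule.mem_bot B).mpr h)
  have hb : φ s * b = φ a := sub_eq_zero.mp ((Submodule.mem_bot B).mp hsa)
  letI := φ.toAlgebra
  let K := FractionRing A
  let L := FractionRing B
  let ψ : K →+* L := IsFractionRing.map (K := K) (L := L) hinj
  have hψ : ∀ x, ψ (algebraMap A K x) = algebraMap B L (φ x) := fun x ↦ IsLocalization.map_eq _ x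
  have hsK : algebraMap A K s ≠ 0 := by
    rw [map_ne_zero_iff _ (IsFractionRing.injective A K)]; intro h; exact hs' (by rw [h, map_zero])
  have hq : ψ (algebraMap A K a / algebraMap A K s) = algebraMap B L b := by
    rw [map_div₀, hψ, hψ, div_eq_iff, ← map_mul, mul_comm, hb]
    exact (map_ne_zero_iff _ (IsFractionRing.injective B L)).mpr hs'
  obtain ⟨P, hP, hPb⟩ := hint b
  have hi : IsIntegral A (algebraMap A K a / algebraMap A K s) := by
    refine ⟨P, hP, ψ.injective ?_⟩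
    rw [Polynomial.hom_eval₂, hq, map_zero, show ψ.comp (algebraMap A K) = (algebraMap B L).comp φ from RingHom.ext hψ,
      ← Polynomial.hom_eval₂, hPb, map_zero]
  obtain ⟨c, hc⟩ := IsIntegrallyClosed.algebraMap_eq_of_integral hi
  refine ⟨c, IsFractionRing.injective B L ?_⟩
  rw [← hψ, hc, hq]

theorem isIso_of {U V : Scheme.{u}} [IsIntegral U] [IsIntegral V] (hN : Pi1.IsNormalScheme V) (h : U ⟶ V)
    [IsIntegralHom h] (hgen : h.base (genericPoint U) = genericPoint V)
    (hbir : Function.Bijective (h.residueFieldMap (genericPoint U)).hom) : IsIso h := by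
  have : Surjective h := ⟨by
    rw [← Set.range_eq_univ, ← h.isClosedMap.isClosed_range.closure_eq, ← dense_iff_closure_eq]
    refine Dense.mono (Set.singleton_subset_iff.mpr ⟨genericPoint U, hgen⟩) ?_
    exact dense_iff_closure_eq.mpr (genericPoint_spec V).def⟩
  show MorphismProperty.isomorphisms Scheme h
  rw [IsZariskiLocalAtTarget.iff_of_iSup_eq_top (P := MorphismProperty.isomorphisms Scheme) _ (iSup_affineOpens_eq_top V)]
  intro W
  have : IsAffine (W.1 : Scheme.{u}) := W.2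
  have : IsAffine ((h ⁻¹ᵁ W.1 : U.Opens) : Scheme.{u}) := W.2.preimage h
  rw [HasAffineProperty.iff_of_isAffine (P := MorphismProperty.isomorphisms Scheme)]
  refine ⟨inferInstance, ?_⟩
  rcases isEmpty_or_nonempty W.1 with hW | hW
  · have : IsEmpty ((h ⁻¹ᵁ W.1 : U.Opens) : Scheme.{u}) := Function.isEmpty (h ∣_ W.1)
    have : IsIso (h ∣_ W.1) := isIso_of_isEmpty _
    infer_instance
  have hW' : Nonempty (h ⁻¹ᵁ W.1 : U.Opens) := by
    obtain ⟨⟨w, hw⟩⟩ := hW
    obtain ⟨u, rfl⟩ := h.surjective w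
    exact ⟨⟨u, hw⟩⟩
  have : IsIntegral (W.1 : Scheme.{u}) := isIntegral_of_isOpenImmersion W.1.ι
  have : IsIntegral ((h ⁻¹ᵁ W.1 : U.Opens) : Scheme.{u}) := isIntegral_of_isOpenImmersion (h ⁻¹ᵁ W.1).ι
  have : IsIntegrallyClosed Γ((W.1 : Scheme.{u}), ⊤) :=
    haveI := isIntegrallyClosed_affine hN W
    IsIntegrallyClosed.of_equiv W.1.topIso.commRingCatIsoToRingEquiv.symm
  rw [ConcreteCategory.isIso_iff_bijective]
  have hi : IsIntegralHom (Spec.map (h ∣_ W.1).appTop) :=
    ((MorphismProperty.arrow_mk_iso_iff @IsIntegralHom (arrowIsoSpecΓOfIsAffine (h ∣_ W.1))).mp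
      (IsZariskiLocalAtTarget.restrict ‹IsIntegralHom h› W.1))
  have hsj : Surjective (Spec.map (h ∣_ W.1).appTop) :=
    ((MorphismProperty.arrow_mk_iso_iff @Surjective (arrowIsoSpecΓOfIsAffine (h ∣_ W.1))).mp
      (IsZariskiLocalAtTarget.restrict ‹Surjective h› W.1))
  refine bijective_of_generic (h ∣_ W.1).appTop.hom (IsIntegralHom.SpecMap_iff.mp hi) hsj.surj ?_
  let P : Scheme.{u} := (h ⁻¹ᵁ W.1 : U.Opens)
  have hbot : (⊥ : PrimeSpectrum Γ(P, ⊤)) = genericPoint (Spec Γ(P, ⊤)) :=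
    (genericPoint_eq_bot_of_affine Γ(P, ⊤)).symm
  rw [hbot]
  have hz : (h ⁻¹ᵁ W.1).ι (P.isoSpec.inv (genericPoint (Spec Γ(P, ⊤)))) = genericPoint U := by
    rw [genericPoint_eq_of_isOpenImmersion P.isoSpec.inv, genericPoint_eq_of_isOpenImmersion (h ⁻¹ᵁ W.1).ι]
  have e : Spec.map (h ∣_ W.1).appTop = P.isoSpec.inv ≫ h ∣_ W.1 ≫ (W.1 : Scheme.{u}).isoSpec.hom := by
    rw [← Category.assoc, ← Scheme.isoSpec_inv_naturality, Category.assoc, Iso.inv_hom_id, Category.comp_id]
  have hι : IsIso ((h ∣_ W.1).residueFieldMap (P.isoSpec.inv (genericPoint (Spec Γ(P, ⊤))))) := by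
    have h0 : IsIso (h.residueFieldMap ((h ⁻¹ᵁ W.1).ι (P.isoSpec.inv (genericPoint (Spec Γ(P, ⊤)))))) := by
      rw [hz]; exact (ConcreteCategory.isIso_iff_bijective _).mpr hbir
    have h1 : IsIso (Scheme.Hom.residueFieldMap ((h ⁻¹ᵁ W.1).ι ≫ h) (P.isoSpec.inv (genericPoint (Spec Γ(P, ⊤))))) := by
      rw [Scheme.residueFieldMap_comp]; infer_instance
    have key : ∀ (g : P ⟶ V), (h ⁻¹ᵁ W.1).ι ≫ h = g →
        IsIso (Scheme.Hom.residueFieldMap g (P.isoSpec.inv (genericPoint (Spec Γ(P, ⊤))))) := by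
      rintro g rfl; exact h1
    have h2 := key _ (morphismRestrict_ι h W.1).symm
    rw [Scheme.residueFieldMap_comp] at h2
    exact IsIso.of_isIso_comp_left (W.1.ι.residueFieldMap _) _
  have h3 : IsIso (Scheme.Hom.residueFieldMap (P.isoSpec.inv ≫ h ∣_ W.1 ≫ (W.1 : Scheme.{u}).isoSpec.hom)
      (genericPoint (Spec Γ(P, ⊤)))) := by
    rw [Scheme.residueFieldMap_comp, Scheme.residueFieldMap_comp]
    infer_instance
  rw [← e] at h3
  exact (ConcreteCategory.bijective_of_isIso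
    ((Spec.map (h ∣_ W.1).appTop).residueFieldMap (genericPoint (Spec Γ(P, ⊤))))).2

end Groth.Agent.Misc9.BiratFinite
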