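import Groth.Agent.Misc9.LocIsoAlg
import Groth.Prelude.Def_SchLoc
import Mathlib.AlgebraicGeometry.SpreadingOut
import Mathlib.AlgebraicGeometry.Morphisms.FiniteType
import Mathlib.AlgebraicGeometry.Morphisms.FinitePresentation
import Mathlib.AlgebraicGeometry.Morphisms.ClosedImmersion

/-! Local immersions / local isomorphisms from the stalk map. -/

set_option autoImplicit false
set_option backward.isDefEq.respectTransparency false
universe u
namespace Groth.Agent.Misc9.LocIso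
open AlgebraicGeometry CategoryTheory
open Groth.Agent.Misc9.LocIsoAlg

/-- the geometric content of `IsSurj`, `IsInj` -/
theorem of_alg {X Y : Scheme.{u}} (f : X ⟶ Y) {V : Y.Opens} {U : X.Opens} (hV : IsAffineOpen V)
    (hU : IsAffineOpen U) (e : U ≤ f ⁻¹ᵁ V) (α : Γ(Y, V)) (β : Γ(X, U))
    (hN : ∃ N, f.appLE V U e α ∣ β ^ N) :
    letI := (f.appLE V U e).hom.toAlgebra
    IsSurj α β →
      ∃ h : X.basicOpen β ≤ f ⁻¹ᵁ Y.basicOpen α, IsClosedImmersion (f.resLE (Y.basicOpen α) (X.basicOpen β) h) ∧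
        (IsInj α β → IsIso (f.resLE (Y.basicOpen α) (X.basicOpen β) h)) := by
  letI := (f.appLE V U e).hom.toAlgebra
  intro hS
  have h : X.basicOpen β ≤ f ⁻¹ᵁ Y.basicOpen α := fun z hz => by
    obtain ⟨N, c, hc⟩ := hN
    have hzU : z ∈ U := X.basicOpen_le β hz
    have h1 : IsUnit (X.presheaf.germ U z hzU (f.appLE V U e α)) := by
      have h2 : IsUnit (X.presheaf.germ U z hzU β) := (X.mem_basicOpen β z hzU).mp hz
      have h3 := congrArg (X.presheaf.germ U z hzU) hc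
      rw [map_pow, map_mul] at h3
      exact isUnit_of_dvd_unit ⟨_, h3⟩ (h2.pow N)
    have h4 : z ∈ X.basicOpen (f.appLE V U e α) := (X.mem_basicOpen _ z hzU).mpr h1
    rw [Scheme.basicOpen_appLE] at h4
    exact h4.2
  haveI := hV.isLocalization_basicOpen α
  haveI := hU.isLocalization_basicOpen β
  let ψ := (f.appLE (Y.basicOpen α) (X.basicOpen β) h).hom
  have hψ : ∀ a, ψ (algebraMap Γ(Y, V) Γ(Y, Y.basicOpen α) a) =
      algebraMap Γ(X, U) Γ(X, X.basicOpen β) (algebraMap Γ(Y, V) Γ(X, U) a) := fun a => by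
    change (Y.presheaf.map (homOfLE (Y.basicOpen_le α)).op ≫ f.appLE _ _ h) a =
      (f.appLE V U e ≫ X.presheaf.map (homOfLE (X.basicOpen_le β)).op) a
    rw [Scheme.Hom.map_appLE, Scheme.Hom.appLE_map]
  haveI : IsAffine (Y.basicOpen α).toScheme := hV.basicOpen α
  haveI : IsAffine (X.basicOpen β).toScheme := hU.basicOpen β
  have hsurj : Function.Surjective (f.resLE (Y.basicOpen α) (X.basicOpen β) h).appTop :=
    ((MorphismProperty.surjective CommRingCat).arrow_mk_iso_iff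
      (arrowResLEAppIso f _ _ h)).mpr (hS _ _ ψ hψ)
  refine ⟨h, IsClosedImmersion.of_surjective_of_isAffine _ hsurj, fun hI => ?_⟩
  have hb := bijective_of hS hI _ _ ψ hψ
  haveI : IsIso (f.appLE (Y.basicOpen α) (X.basicOpen β) h) := (ConcreteCategory.isIso_iff_bijective _).mpr hb
  haveI : IsIso (f.resLE (Y.basicOpen α) (X.basicOpen β) h).appTop :=
    ((MorphismProperty.isomorphisms CommRingCat).arrow_mk_iso_iff
      (arrowResLEAppIso f _ _ h)).mpr (show IsIso _ from inferInstance)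
  exact ((MorphismProperty.isomorphisms Scheme).arrow_mk_iso_iff (arrowIsoSpecΓOfIsAffine _)).mpr
    (show IsIso (Spec.map _) from inferInstance)

section
variable {X Y : Scheme.{u}} (f : X ⟶ Y) [LocallyOfFiniteType f] (x : X)

/-- affine charts with the algebraic data -/
theorem exists_chart (V : Y.Opens) (hV : IsAffineOpen V) (hxV : f x ∈ V) :
    ∃ (U : X.Opens) (_ : IsAffineOpen U) (_ : x ∈ U), U ≤ f ⁻¹ᵁ V := by
  obtain ⟨_, ⟨U, hU, rfl⟩, hxU, hUV⟩ :=
    X.isBasis_affineOpens.exists_subset_of_mem_open (show x ∈ f ⁻¹ᵁ V from hxV) (f ⁻¹ᵁ V).isOpen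
  exact ⟨U, hU, hxU, hUV⟩

theorem isLocalImmersionAt_of_surjective (hsurj : Function.Surjective (f.stalkMap x)) :
    SchLoc.IsLocalImmersionAt f x := by
  obtain ⟨_, ⟨V, hV, rfl⟩, hxV, -⟩ :=
    Y.isBasis_affineOpens.exists_subset_of_mem_open (Set.mem_univ (f x)) isOpen_univ
  obtain ⟨U, hU, hxU, e⟩ := exists_chart f x V hV hxV
  letI := (f.appLE V U e).hom.toAlgebra
  haveI : Algebra.FiniteType Γ(Y, V) Γ(X, U) := LocallyOfFiniteType.finiteType_appLE f hV hU e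
  letI := TopCat.Presheaf.algebra_section_stalk Y.presheaf (⟨f x, hxV⟩ : V)
  letI := TopCat.Presheaf.algebra_section_stalk X.presheaf (⟨x, hxU⟩ : U)
  haveI := hV.isLocalization_stalk ⟨f x, hxV⟩
  haveI := hU.isLocalization_stalk ⟨x, hxU⟩
  have hs : ∀ a, (f.stalkMap x).hom (algebraMap Γ(Y, V) (Y.presheaf.stalk (f x)) a) =
      algebraMap Γ(X, U) (X.presheaf.stalk x) (algebraMap Γ(Y, V) Γ(X, U) a) := fun a => by
    change (Y.presheaf.germ V (f x) hxV ≫ f.stalkMap x) a = (f.appLE V U e ≫ X.presheaf.germ U x hxU) a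
    rw [Scheme.Hom.germ_stalkMap, Scheme.Hom.appLE, Category.assoc, X.presheaf.germ_res]
  obtain ⟨α, β, -, hβ, -, hN, hS⟩ := exists_isSurj (hV.primeIdealOf ⟨f x, hxV⟩).asIdeal
    (hU.primeIdealOf ⟨x, hxU⟩).asIdeal (f.stalkMap x).hom hs hsurj 1
    (fun h => (hV.primeIdealOf ⟨f x, hxV⟩).isPrime.ne_top ((Ideal.eq_top_iff_one _).mpr h))
  obtain ⟨h, hc, -⟩ := of_alg f hV hU e α β hN hS
  refine ⟨X.basicOpen β, Y.basicOpen α, h, ?_, hc⟩
  rw [X.mem_basicOpen β x hxU]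
  exact (IsLocalization.AtPrime.isUnit_to_map_iff (X.presheaf.stalk x) _ β).mpr hβ

theorem exists_isIso_resLE [IsIso (f.stalkMap x)] (hgood : Y.IsGermInjectiveAt (f x) ∨ LocallyOfFinitePresentation f) :
    ∃ (V : Y.Opens) (U : X.Opens) (h : U ≤ f ⁻¹ᵁ V), x ∈ U ∧ IsIso (f.resLE V U h) := by
  have hbij : Function.Bijective (f.stalkMap x) := (ConcreteCategory.isIso_iff_bijective _).mp inferInstance
  obtain ⟨V, hV, hxV, hgood'⟩ : ∃ (V : Y.Opens) (_ : IsAffineOpen V) (hxV : f x ∈ V),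
      Function.Injective (Y.presheaf.germ V (f x) hxV) ∨ LocallyOfFinitePresentation f := by
    rcases hgood with hg | hg
    · obtain ⟨V, hxV, hV, H⟩ := Y.exists_germ_injective (f x)
      exact ⟨V, hV, hxV, Or.inl H⟩
    · obtain ⟨_, ⟨V, hV, rfl⟩, hxV, -⟩ :=
        Y.isBasis_affineOpens.exists_subset_of_mem_open (Set.mem_univ (f x)) isOpen_univ
      exact ⟨V, hV, hxV, Or.inr hg⟩
  obtain ⟨U, hU, hxU, e⟩ := exists_chart f x V hV hxV
  letI := (f.appLE V U e).hom.toAlgebra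
  haveI : Algebra.FiniteType Γ(Y, V) Γ(X, U) := LocallyOfFiniteType.finiteType_appLE f hV hU e
  letI := TopCat.Presheaf.algebra_section_stalk Y.presheaf (⟨f x, hxV⟩ : V)
  letI := TopCat.Presheaf.algebra_section_stalk X.presheaf (⟨x, hxU⟩ : U)
  haveI := hV.isLocalization_stalk ⟨f x, hxV⟩
  haveI := hU.isLocalization_stalk ⟨x, hxU⟩
  have hs : ∀ a, (f.stalkMap x).hom (algebraMap Γ(Y, V) (Y.presheaf.stalk (f x)) a) =
      algebraMap Γ(X, U) (X.presheaf.stalk x) (algebraMap Γ(Y, V) Γ(X, U) a) := fun a => by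
    change (Y.presheaf.germ V (f x) hxV ≫ f.stalkMap x) a = (f.appLE V U e ≫ X.presheaf.germ U x hxU) a
    rw [Scheme.Hom.germ_stalkMap, Scheme.Hom.appLE, Category.assoc, X.presheaf.germ_res]
  obtain ⟨α, β, -, hβ, hN, hS, hI⟩ : ∃ (α : Γ(Y, V)) (β : Γ(X, U)),
      α ∉ (hV.primeIdealOf ⟨f x, hxV⟩).asIdeal ∧ β ∉ (hU.primeIdealOf ⟨x, hxU⟩).asIdeal ∧
      (∃ N, algebraMap Γ(Y, V) Γ(X, U) α ∣ β ^ N) ∧ IsSurj α β ∧ IsInj α β := by
    rcases hgood' with H | hfp
    · exact exists_bij_of_germ _ _ (f.stalkMap x).hom hs hbij 1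
        (fun h => (hV.primeIdealOf ⟨f x, hxV⟩).isPrime.ne_top ((Ideal.eq_top_iff_one _).mpr h))
        (fun a ha => ⟨0, by rw [pow_zero, one_mul]; exact H (ha.trans (map_zero _).symm)⟩)
    · haveI : Algebra.FinitePresentation Γ(Y, V) Γ(X, U) :=
        LocallyOfFinitePresentation.finitePresentation_appLE f hV hU e
      exact exists_bij_of_fp _ _ (f.stalkMap x).hom hs hbij
  obtain ⟨h, -, hiso⟩ := of_alg f hV hU e α β hN hS
  refine ⟨Y.basicOpen α, X.basicOpen β, h, ?_, hiso hI⟩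
  rw [X.mem_basicOpen β x hxU]
  exact (IsLocalization.AtPrime.isUnit_to_map_iff (X.presheaf.stalk x) _ β).mpr hβ

theorem exists_isOpenImmersion [IsIso (f.stalkMap x)] (hgood : Y.IsGermInjectiveAt (f x) ∨ LocallyOfFinitePresentation f) :
    ∃ U : X.Opens, x ∈ U ∧ IsOpenImmersion (U.ι ≫ f) := by
  obtain ⟨V, U, h, hxU, hiso⟩ := exists_isIso_resLE f x hgood
  refine ⟨U, hxU, ?_⟩
  rw [← Scheme.Hom.resLE_comp_ι f h]
  infer_instance

end

/-- reduced with finitely many components => germ injective -/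
theorem isGermInjectiveAt_of_isReduced {Y : Scheme.{u}} [IsReduced Y]
    (hfin : (irreducibleComponents Y).Finite) (y : Y) : Y.IsGermInjectiveAt y := by
  classical
  let O : Y.Opens := ⟨(⋃₀ {Z ∈ irreducibleComponents Y | y ∉ Z})ᶜ, by
    rw [Set.sUnion_eq_biUnion]
    exact ((hfin.subset fun Z hZ => hZ.1).isClosed_biUnion fun Z hZ =>
      isClosed_of_mem_irreducibleComponents Z hZ.1).isOpen_compl⟩
  obtain ⟨_, ⟨V, hV, rfl⟩, hyV, hVO⟩ :=
    Y.isBasis_affineOpens.exists_subset_of_mem_open (show y ∈ O from fun ⟨Z, hZ, hy⟩ => hZ.2 hy) O.isOpen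
  refine ⟨⟨V, hyV, hV, (injective_iff_map_eq_zero _).mpr fun s hs => ?_⟩⟩
  obtain ⟨W, hyW, i₁, i₂, e⟩ := Y.presheaf.germ_eq y hyV hyV s 0 (by rw [hs, map_zero])
  rw [map_zero] at e
  refine eq_zero_of_basicOpen_eq_bot s (eq_bot_iff.mpr fun z hz => ?_)
  have hzV : z ∈ V := Y.basicOpen_le s hz
  have hy' : y ∈ irreducibleComponent z := by
    by_contra hn
    exact hVO hzV ⟨irreducibleComponent z, ⟨irreducibleComponent_mem_irreducibleComponents z, hn⟩,
      mem_irreducibleComponent⟩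
  obtain ⟨w, -, hwW, hws⟩ := isIrreducible_irreducibleComponent.isPreirreducible _ _ W.isOpen (Y.basicOpen s).isOpen
    ⟨y, hy', hyW⟩ ⟨z, mem_irreducibleComponent, hz⟩
  have h1 : w ∈ Y.basicOpen (Y.presheaf.map i₁.op s) := by
    rw [Scheme.basicOpen_res]; exact ⟨hwW, hws⟩
  rw [e, Scheme.basicOpen_zero] at h1
  exact h1.elim

theorem isLocalImmersionAt_iff {X Y : Scheme.{u}} (f : X ⟶ Y) [LocallyOfFiniteType f] (x : X) :
    SchLoc.IsLocalImmersionAt f x ↔ Function.Surjective (f.stalkMap x) := by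
  refine ⟨?_, isLocalImmersionAt_of_surjective f x⟩
  rintro ⟨U, V, h, hxU, hc⟩
  have h1 : Function.Surjective ((f.resLE V U h ≫ V.ι).stalkMap ⟨x, hxU⟩) := by
    rw [Scheme.Hom.stalkMap_comp]
    exact (SurjectiveOnStalks.stalkMap_surjective (f.resLE V U h) ⟨x, hxU⟩).comp
      (ConcreteCategory.bijective_of_isIso (V.ι.stalkMap _)).2
  rw [Scheme.Hom.stalkMap_congr_hom _ _ (Scheme.Hom.resLE_comp_ι f h), Scheme.Hom.stalkMap_comp] at h1
  have h2 : Function.Surjective ((f.stalkMap x ≫ U.ι.stalkMap ⟨x, hxU⟩)) := by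
    intro z
    obtain ⟨w, hw⟩ := h1 z
    exact ⟨_, hw⟩
  intro z
  obtain ⟨w, hw⟩ := h2 (U.ι.stalkMap ⟨x, hxU⟩ z)
  exact ⟨w, (ConcreteCategory.bijective_of_isIso (U.ι.stalkMap ⟨x, hxU⟩)).1 hw⟩

theorem isLocalIsoAt_iff {X Y : Scheme.{u}} (f : X ⟶ Y) [IsLocallyNoetherian Y] [LocallyOfFiniteType f] (x : X) :
    SchLoc.IsLocalIsoAt f x ↔ IsIso (f.stalkMap x) := by
  refine ⟨?_, fun h => exists_isOpenImmersion f x (Or.inl inferInstance)⟩
  rintro ⟨U, hxU, hU⟩
  have h1 : IsIso ((U.ι ≫ f).stalkMap ⟨x, hxU⟩) := inferInstance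
  rw [Scheme.Hom.stalkMap_comp] at h1
  exact @IsIso.of_isIso_comp_right _ _ _ _ _ (f.stalkMap x) (U.ι.stalkMap ⟨x, hxU⟩) inferInstance h1

end Groth.Agent.Misc9.LocIso
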