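import Groth.Prelude.Def_RatFun
import Mathlib.AlgebraicGeometry.Noetherian
import Mathlib.AlgebraicGeometry.Stalk
import Mathlib.AlgebraicGeometry.Properties
import Mathlib.RingTheory.HopkinsLevitzki
import Mathlib.RingTheory.Spectrum.Prime.Topology

set_option autoImplicit false
set_option backward.isDefEq.respectTransparency false
universe u
namespace Groth.Agent.Misc9.RatFunBasic
open AlgebraicGeometry CategoryTheory TopologicalSpace Opposite Limits

variable (X : Scheme.{u})

instance : IsFiltered ((RatFun.IsDenseOpen X).FullSubcategory)ᵒᵖ where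
  cocone_objs := fun A B => by
    have hd : Dense ((A.unop.obj ⊓ B.unop.obj : X.Opens) : Set X) :=
      A.unop.property.inter_of_isOpen_left B.unop.property A.unop.obj.isOpen
    exact ⟨op ⟨_, hd⟩, (ObjectProperty.homMk (homOfLE inf_le_left)).op,
      (ObjectProperty.homMk (homOfLE inf_le_right)).op, trivial⟩
  cocone_maps := fun A B f g => ⟨B, 𝟙 B, by
    apply Quiver.Hom.unop_inj
    apply ObjectProperty.hom_ext
    exact Subsingleton.elim _ _⟩
  nonempty := ⟨op ⟨⊤, by
    change Dense ((⊤ : X.Opens) : Set X)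
    exact dense_univ⟩⟩

/-- restriction -/
abbrev res {U V : X.Opens} (h : U ≤ V) (s : Γ(X, V)) : Γ(X, U) := X.presheaf.map (homOfLE h).op s

theorem exists_rep (r : RatFun.ring X) :
    ∃ (V : X.Opens) (hV : Dense (V : Set X)) (s : Γ(X, V)), RatFun.toRing X V hV s = r := by
  obtain ⟨⟨⟨V, hV⟩⟩, s, hs⟩ := Concrete.colimit_exists_rep (RatFun.sectionsOnDense X) r
  exact ⟨V, hV, s, hs⟩

theorem toRing_res {U V : X.Opens} (hU : Dense (U : Set X)) (hV : Dense (V : Set X)) (h : U ≤ V)
    (s : Γ(X, V)) : RatFun.toRing X U hU (res X h s) = RatFun.toRing X V hV s := by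
  have := colimit.w (RatFun.sectionsOnDense X)
    (ObjectProperty.homMk (X := (⟨U, hU⟩ : (RatFun.IsDenseOpen X).FullSubcategory)) (Y := ⟨V, hV⟩) (homOfLE h)).op
  exact congr($this s)

theorem toRing_eq_iff {U V : X.Opens} (hU : Dense (U : Set X)) (hV : Dense (V : Set X))
    (s : Γ(X, U)) (t : Γ(X, V)) :
    RatFun.toRing X U hU s = RatFun.toRing X V hV t ↔
      ∃ (W : X.Opens) (hU' : W ≤ U) (hV' : W ≤ V), Dense (W : Set X) ∧ res X hU' s = res X hV' t := by
  constructor
  · intro h
    obtain ⟨⟨⟨W, hW⟩⟩, f, g, hfg⟩ := (Concrete.colimit_rep_eq_iff_exists (RatFun.sectionsOnDense X)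
      (i := op ⟨U, hU⟩) (j := op ⟨V, hV⟩) s t).mp h
    exact ⟨W, f.unop.hom.le, g.unop.hom.le, hW, hfg⟩
  · rintro ⟨W, hU', hV', hW, e⟩
    rw [← toRing_res X hW hU hU' s, ← toRing_res X hW hV hV' t, e]

theorem germ_res {U V : X.Opens} (h : U ≤ V) (x : X) (hx : x ∈ U) (s : Γ(X, V)) :
    X.presheaf.germ U x hx (res X h s) = X.presheaf.germ V x (h hx) s :=
  X.presheaf.germ_res_apply (homOfLE h) x hx s

theorem injective_toRing [IsReduced X] (V : X.Opens) (hV : Dense (V : Set X)) :
    Function.Injective (RatFun.toRing X V hV) := by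
  rw [injective_iff_map_eq_zero]
  intro s hs
  obtain ⟨W, hWV, hW', hW, e⟩ := (toRing_eq_iff X hV hV s 0).mp (by rw [hs, map_zero])
  replace e : res X hWV s = 0 := e.trans (map_zero (X.presheaf.map (homOfLE hW').op).hom)
  refine AlgebraicGeometry.eq_zero_of_basicOpen_eq_bot s ?_
  refine eq_bot_iff.mpr fun x hx => ?_
  obtain ⟨y, hy, hyW⟩ := dense_iff_inter_open.mp hW _ (X.basicOpen s).isOpen ⟨x, hx⟩
  have h1 : y ∈ X.basicOpen (res X hWV s) := by
    rw [Scheme.basicOpen_res]; exact ⟨hyW, hy⟩
  rw [res] at h1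
  rw [show X.presheaf.map (homOfLE hWV).op s = 0 from e, Scheme.basicOpen_zero] at h1
  exact h1.elim

/-- a maximal point -/
def IsMax' {α : Type*} [TopologicalSpace α] (x : α) : Prop := ∀ y, y ⤳ x → y = x

theorem dense_iff {α : Type*} [TopologicalSpace α] [QuasiSober α] [T0Space α]
    (hfin : (irreducibleComponents α).Finite) {V : Set α} (hV : IsOpen V) :
    Dense V ↔ ∀ x, IsMax' x → x ∈ V := by
  constructor
  · intro hd x hx
    set Z := irreducibleComponent x
    have hZ := irreducibleComponent_mem_irreducibleComponents x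
    have hg := isIrreducible_irreducibleComponent (x := x) |>.isGenericPoint_genericPoint
      isClosed_irreducibleComponent
    have he := hx _ (hg.specializes mem_irreducibleComponent)
    rw [he] at hg
    have hO : IsOpen (⋃₀ (irreducibleComponents α \ {Z}))ᶜ := by
      rw [Set.sUnion_eq_biUnion]
      exact (hfin.sdiff.isClosed_biUnion fun W hW => isClosed_of_mem_irreducibleComponents W hW.1).isOpen_compl
    have hxO : x ∈ (⋃₀ (irreducibleComponents α \ {Z}))ᶜ := by
      rintro ⟨W, ⟨hW, hne⟩, hxW⟩
      refine hne (le_antisymm (hZ.2 hW.1 ?_) ?_)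
      all_goals
        have h := (isClosed_of_mem_irreducibleComponents W hW).closure_subset_iff.mpr
          (Set.singleton_subset_iff.mpr hxW)
        rwa [hg.def] at h
    obtain ⟨y, hyO, hyV⟩ := dense_iff_inter_open.mp hd _ hO ⟨x, hxO⟩
    have hyZ : y ∈ Z := by
      by_contra h
      exact hyO ⟨irreducibleComponent y, ⟨irreducibleComponent_mem_irreducibleComponents y,
        fun e => h (by rw [← show irreducibleComponent y = Z from e]; exact mem_irreducibleComponent)⟩,
        mem_irreducibleComponent⟩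
    exact (hg.specializes hyZ).mem_open hV hyV
  · intro h y
    have hg := isIrreducible_irreducibleComponent (x := y) |>.isGenericPoint_genericPoint
      isClosed_irreducibleComponent
    set g := (isIrreducible_irreducibleComponent (x := y)).genericPoint
    have hmax : IsMax' g := fun z hz => by
      refine (hz.antisymm ?_).eq
      have h1 : irreducibleComponent y ⊆ closure {z} := by
        rw [← hg.def]
        exact closure_minimal (by simpa using specializes_iff_mem_closure.mp hz) isClosed_closure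
      have h2 : closure {z} ⊆ irreducibleComponent y :=
        (irreducibleComponent_mem_irreducibleComponents y).2 isIrreducible_singleton.closure h1
      exact hg.specializes (h2 (subset_closure rfl))
    exact closure_mono (Set.singleton_subset_iff.mpr (h g hmax))
      (specializes_iff_mem_closure.mp (hg.specializes mem_irreducibleComponent))

theorem isMax'_genericPoint {α : Type*} [TopologicalSpace α] [QuasiSober α] [T0Space α]
    (Z : irreducibleComponents α) : IsMax' Z.property.1.genericPoint := fun z hz => by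
  have hg := Z.property.1.isGenericPoint_genericPoint (isClosed_of_mem_irreducibleComponents _ Z.2)
  refine (hz.antisymm ?_).eq
  have h1 : (Z : Set α) ⊆ closure {z} := by
    rw [← hg.def]
    exact closure_minimal (by simpa using specializes_iff_mem_closure.mp hz) isClosed_closure
  exact hg.specializes ((Z.property.2 isIrreducible_singleton.closure h1) (subset_closure rfl))

theorem isArtinianRing_stalk [IsLocallyNoetherian X] {x : X} (hx : IsMax' x) :
    IsArtinianRing (X.presheaf.stalk x) := by
  have h1 : ∀ q : PrimeSpectrum (X.presheaf.stalk x), q = IsLocalRing.closedPoint _ := by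
    intro q
    apply (X.fromSpecStalk x).isEmbedding.injective
    rw [Scheme.fromSpecStalk_closedPoint]
    refine hx _ ?_
    have : (X.fromSpecStalk x) q ∈ Set.range (X.fromSpecStalk x) := Set.mem_range_self q
    rwa [Scheme.range_fromSpecStalk] at this
  haveI : Ring.KrullDimLE 0 (X.presheaf.stalk x) := Ring.krullDimLE_zero_iff.mpr fun I hI => by
    rw [show I = IsLocalRing.maximalIdeal _ from congrArg PrimeSpectrum.asIdeal (h1 ⟨I, hI⟩)]
    exact IsLocalRing.maximalIdeal.isMaximal _
  exact IsNoetherianRing.isArtinianRing_of_krullDimLE_zero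

/-- the value of a rational function at a point lying in every dense open -/
noncomputable def atPoint (x : X) (hx : ∀ V : X.Opens, Dense (V : Set X) → x ∈ V) :
    RatFun.ring X ⟶ X.presheaf.stalk x :=
  colimit.desc (RatFun.sectionsOnDense X)
    { pt := X.presheaf.stalk x
      ι :=
        { app := fun V => X.presheaf.germ V.unop.obj x (hx _ V.unop.property)
          naturality := fun V W f => by
            simp only [RatFun.sectionsOnDense, Functor.comp_obj, Functor.comp_map, Functor.const_obj_map,
              Category.comp_id]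
            exact X.presheaf.germ_res f.unop.hom x _ } }

theorem atPoint_toRing (x : X) (hx) (V : X.Opens) (hV : Dense (V : Set X)) (s : Γ(X, V)) :
    atPoint X x hx (RatFun.toRing X V hV s) = X.presheaf.germ V x (hx V hV) s := by
  rw [atPoint, RatFun.toRing, ← CommRingCat.comp_apply, colimit.ι_desc]

theorem iso_stalk_genericPoint [IrreducibleSpace X] :
    Nonempty (RatFun.ring X ≅ X.presheaf.stalk (genericPoint X)) := by
  have hd : ∀ V : X.Opens, (Dense (V : Set X) ↔ genericPoint X ∈ V) := fun V => by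
    constructor
    · intro h
      exact ((genericPoint_spec X).mem_open_set_iff V.isOpen).mpr (by simpa using h.nonempty)
    · intro h
      exact V.isOpen.dense ⟨_, h⟩
  let φ := atPoint X (genericPoint X) fun V h => (hd V).mp h
  have hb : Function.Bijective φ := by
    constructor
    · intro r r' h
      obtain ⟨U, hU, s, rfl⟩ := exists_rep X r
      obtain ⟨V, hV, t, rfl⟩ := exists_rep X r'
      rw [atPoint_toRing, atPoint_toRing] at h
      obtain ⟨W, hW, iU, iV, e⟩ := X.presheaf.germ_eq (genericPoint X) _ _ s t h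
      exact (toRing_eq_iff X hU hV s t).mpr ⟨W, iU.le, iV.le, (hd W).mpr hW, e⟩
    · intro z
      obtain ⟨U, hU, s, rfl⟩ := TopCat.Presheaf.exists_germ_eq (F := X.presheaf) z
      exact ⟨RatFun.toRing X U ((hd U).mpr hU) s, atPoint_toRing _ _ _ _ _ _⟩
  exact ⟨(RingEquiv.ofBijective φ.hom hb).toCommRingCatIso⟩

theorem iso_pi_stalk [IsNoetherian X] :
    IsArtinianRing (RatFun.ring X) ∧
      Nonempty (RatFun.ring X ≅ CommRingCat.of
        (∀ Z : irreducibleComponents (X : Type u), X.presheaf.stalk Z.property.1.genericPoint)) := by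
  classical
  have hfin : (irreducibleComponents X).Finite := finite_irreducibleComponents_of_isNoetherian
  let η : irreducibleComponents (X : Type u) → X := fun Z => Z.property.1.genericPoint
  have hmax : ∀ Z, IsMax' (η Z) := fun Z => isMax'_genericPoint Z
  have hmem : ∀ (Z) (V : X.Opens), Dense (V : Set X) → η Z ∈ V := fun Z V h =>
    (dense_iff hfin V.isOpen).mp h _ (hmax Z)
  have hall : ∀ x : X, IsMax' x → ∃ Z, η Z = x := fun x hx => by
    let Z : irreducibleComponents (X : Type u) := ⟨_, irreducibleComponent_mem_irreducibleComponents x⟩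
    refine ⟨Z, hx _ ?_⟩
    exact (Z.property.1.isGenericPoint_genericPoint isClosed_irreducibleComponent).specializes
      mem_irreducibleComponent
  have hdense : ∀ W : irreducibleComponents (X : Type u) → X.Opens, (∀ Z, η Z ∈ W Z) →
      Dense ((iSup W : X.Opens) : Set X) := fun W h => (dense_iff hfin (iSup W).isOpen).mpr fun x hx => by
    obtain ⟨Z, rfl⟩ := hall x hx
    exact Opens.mem_iSup.mpr ⟨Z, h Z⟩
  let φ : RatFun.ring X →+* ∀ Z, X.presheaf.stalk (η Z) := Pi.ringHom fun Z => (atPoint X (η Z) (hmem Z)).hom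
  have hb : Function.Bijective φ := by
    constructor
    · intro r r' h
      obtain ⟨U, hU, s, rfl⟩ := exists_rep X r
      obtain ⟨V, hV, t, rfl⟩ := exists_rep X r'
      have hZ : ∀ Z, ∃ (W : X.Opens) (_ : η Z ∈ W) (hWU : W ≤ U) (hWV : W ≤ V), res X hWU s = res X hWV t := by
        intro Z
        have h1 : atPoint X (η Z) (hmem Z) (RatFun.toRing X U hU s) =
            atPoint X (η Z) (hmem Z) (RatFun.toRing X V hV t) := congrFun h Z
        rw [atPoint_toRing, atPoint_toRing] at h1
        obtain ⟨W, hW, iU, iV, e⟩ := X.presheaf.germ_eq (η Z) _ _ s t h1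
        exact ⟨W, hW, iU.le, iV.le, e⟩
      choose W hW hWU hWV he using hZ
      refine (toRing_eq_iff X hU hV s t).mpr ⟨iSup W, iSup_le hWU, iSup_le hWV, hdense W hW, ?_⟩
      refine X.sheaf.eq_of_locally_eq' W (iSup W) (fun Z => homOfLE (le_iSup W Z)) le_rfl _ _ fun Z => ?_
      change (X.presheaf.map _ ≫ X.presheaf.map _) s = (X.presheaf.map _ ≫ X.presheaf.map _) t
      rw [← Functor.map_comp, ← Functor.map_comp]
      exact he Z
    · intro z
      choose U hU s hs using fun Z => TopCat.Presheaf.exists_germ_eq (F := X.presheaf) (z Z)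
      let O : irreducibleComponents (X : Type u) → X.Opens := fun Z =>
        ⟨(⋃₀ (irreducibleComponents X \ {(Z : Set X)}))ᶜ, by
          rw [Set.sUnion_eq_biUnion]
          exact (hfin.sdiff.isClosed_biUnion fun W hW =>
            isClosed_of_mem_irreducibleComponents W hW.1).isOpen_compl⟩
      have hO : ∀ Z, η Z ∈ O Z := fun Z => by
        rintro ⟨W, ⟨hW, hne⟩, hzW⟩
        have hsub : (Z : Set X) ⊆ W := by
          rw [← (Z.property.1.isGenericPoint_genericPoint (isClosed_of_mem_irreducibleComponents _ Z.2)).def]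
          exact (isClosed_of_mem_irreducibleComponents W hW).closure_subset_iff.mpr (by simpa using hzW)
        exact hne (le_antisymm (Z.property.2 hW.1 hsub) hsub)
      let W := fun Z => U Z ⊓ O Z
      have hdis : ∀ Z Z', Z ≠ Z' → W Z ⊓ W Z' = ⊥ := fun Z Z' hne => eq_bot_iff.mpr fun x hx => by
        have h1 : ∀ (Y : irreducibleComponents (X : Type u)), x ∈ O Y → irreducibleComponent x = (Y : Set X) := by
          intro Y hY
          by_contra h
          exact hY ⟨_, ⟨irreducibleComponent_mem_irreducibleComponents x, h⟩, mem_irreducibleComponent⟩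
        exact (hne (Subtype.ext ((h1 Z hx.1.2).symm.trans (h1 Z' hx.2.2)))).elim
      obtain ⟨g, hg, -⟩ := X.sheaf.existsUnique_gluing' W (iSup W) (fun Z => homOfLE (le_iSup W Z)) le_rfl
        (fun Z => res X inf_le_left (s Z)) (by
          intro Z Z'
          rcases eq_or_ne Z Z' with rfl | hne
          · rfl
          · haveI : Subsingleton Γ(X, W Z ⊓ W Z') :=
              CommRingCat.subsingleton_of_isTerminal (X.sheaf.isTerminalOfEqEmpty (hdis Z Z' hne))
            exact @Subsingleton.elim Γ(X, W Z ⊓ W Z') ‹_› _ _)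
      refine ⟨RatFun.toRing X (iSup W) (hdense W fun Z => ⟨hU Z, hO Z⟩) g, funext fun Z => ?_⟩
      change atPoint X (η Z) (hmem Z) _ = _
      rw [atPoint_toRing, ← hs Z, ← germ_res X (le_iSup W Z) (η Z) ⟨hU Z, hO Z⟩ g,
        show res X (le_iSup W Z) g = _ from hg Z, germ_res]
  let e := RingEquiv.ofBijective φ hb
  refine ⟨?_, ⟨e.toCommRingCatIso⟩⟩
  haveI := hfin.to_subtype
  haveI : ∀ Z : irreducibleComponents (X : Type u), IsArtinianRing (X.presheaf.stalk (η Z)) :=
    fun Z => isArtinianRing_stalk X (hmax Z)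
  exact e.symm.surjective.isArtinianRing (f := e.symm.toRingHom)

theorem dense_basicOpen_iff {A : Type u} [CommRing A] [IsNoetherianRing A] (f : A) :
    Dense (PrimeSpectrum.basicOpen f : Set (PrimeSpectrum A)) ↔ ∀ p ∈ minimalPrimes A, f ∉ p := by
  rw [dense_iff NoetherianSpace.finite_irreducibleComponents (PrimeSpectrum.basicOpen f).isOpen]
  constructor
  · intro h p hp
    refine h ⟨p, hp.1.1⟩ fun y hy => ?_
    have := (PrimeSpectrum.le_iff_specializes y ⟨p, hp.1.1⟩).mpr hy
    exact PrimeSpectrum.ext (le_antisymm this (hp.2 ⟨y.isPrime, bot_le⟩ this))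
  · intro h x hx
    refine h _ ⟨⟨x.isPrime, bot_le⟩, fun q hq hle => ?_⟩
    exact (congrArg PrimeSpectrum.asIdeal (hx ⟨q, hq.1⟩ ((PrimeSpectrum.le_iff_specializes _ _).mp hle))).ge

theorem exists_basicOpen_subset {A : Type u} [CommRing A] [IsNoetherianRing A]
    (U : Set (PrimeSpectrum A)) (hU : IsOpen U) (hd : Dense U) :
    ∃ f : A, (∀ p ∈ minimalPrimes A, f ∉ p) ∧ (PrimeSpectrum.basicOpen f : Set (PrimeSpectrum A)) ⊆ U := by
  classical
  obtain ⟨S, hS⟩ := (PrimeSpectrum.isClosed_iff_zeroLocus _).mp hU.isClosed_compl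
  have hfin := minimalPrimes.finite_of_isNoetherianRing A
  have hmin := (dense_iff NoetherianSpace.finite_irreducibleComponents hU).mp hd
  suffices ¬ ((Ideal.span S : Ideal A) : Set A) ⊆ ⋃ p ∈ hfin.toFinset, (p : Set A) by
    obtain ⟨f, hf, hfp⟩ := Set.not_subset.mp this
    refine ⟨f, fun p hp h => hfp (Set.mem_biUnion (hfin.mem_toFinset.mpr hp) h), fun x hx => ?_⟩
    by_contra h
    have : x ∈ PrimeSpectrum.zeroLocus S := hS ▸ h
    rw [← PrimeSpectrum.zeroLocus_span] at this
    exact hx (this hf)
  intro hsub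
  obtain ⟨p, hp, hle⟩ := (Ideal.subset_union_prime (f := fun p : Ideal A => p) ⊥ ⊥
    (fun p hp _ _ => (hfin.mem_toFinset.mp hp).1.1)).mp hsub
  replace hp := hfin.mem_toFinset.mp hp
  have h1 : (⟨p, hp.1.1⟩ : PrimeSpectrum A) ∈ U := hmin _ fun y hy => by
    have := (PrimeSpectrum.le_iff_specializes y ⟨p, hp.1.1⟩).mpr hy
    exact PrimeSpectrum.ext (le_antisymm this (hp.2 ⟨y.isPrime, bot_le⟩ this))
  have h2 : (⟨p, hp.1.1⟩ : PrimeSpectrum A) ∈ PrimeSpectrum.zeroLocus S := fun a ha =>
    hle (Ideal.subset_span ha)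
  exact (hS ▸ h2 : _ ∈ Uᶜ) h1

theorem spec_iso (R : CommRingCat.{u}) [IsNoetherianRing R] :
    Nonempty (RatFun.ring (Spec R) ≅
      CommRingCat.of (Localization (RatFun.complMinimalPrimes R))) := by
  let X := Spec R
  let D : R → X.Opens := fun f => PrimeSpectrum.basicOpen f
  let c : ∀ U : X.Opens, R →+* Γ(X, U) := fun U => algebraMap R Γ(Spec R, U)
  have htop : Dense ((⊤ : X.Opens) : Set X) := dense_univ
  let φ : R →+* RatFun.ring X := ((RatFun.toRing X ⊤ htop).hom).comp (c ⊤)
  have hc : ∀ (U V : X.Opens) (h : U ≤ V) (a : R), res X h (c V a) = c U a := fun U V h a => by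
    simp only [c, IsAffineOpen.algebraMap_Spec_obj]
    change ((_ ≫ X.presheaf.map _) ≫ X.presheaf.map _) a = (_ ≫ X.presheaf.map _) a
    rw [Category.assoc, ← Functor.map_comp]
    rfl
  have hφ : ∀ (U : X.Opens) (hU : Dense (U : Set X)) (a : R), RatFun.toRing X U hU (c U a) = φ a := fun U hU a => by
    rw [← hc U ⊤ le_top a, toRing_res X hU htop]
    rfl
  have hloc : ∀ f : R, @IsLocalization _ _ (Submonoid.powers f) Γ(X, D f) _ (c (D f)).toAlgebra := fun f => by
    have : (c (D f)).toAlgebra = (inferInstance : Algebra R Γ(Spec R, D f)) := Algebra.algebra_ext _ _ fun _ => rfl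
    rw [this]
    exact (inferInstance : IsLocalization.Away f Γ(Spec R, PrimeSpectrum.basicOpen f))
  have hunit : ∀ f : RatFun.complMinimalPrimes R, IsUnit (φ f) := fun f => by
    rw [← hφ (D f) ((dense_basicOpen_iff (f : R)).mpr f.2) f]
    letI := (c (D f)).toAlgebra
    haveI := hloc f
    exact (IsLocalization.map_units Γ(X, D f) (⟨(f : R), Submonoid.mem_powers _⟩ : Submonoid.powers (f : R))).map _
  let L : Localization (RatFun.complMinimalPrimes R) →+* RatFun.ring X := IsLocalization.lift hunit
  have hb : Function.Bijective L := by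
    refine ⟨IsLocalization.lift_injective_iff hunit |>.mpr fun x y => ⟨fun h => ?_, fun h => ?_⟩, ?_⟩
    · have := congrArg L h
      simpa [L, IsLocalization.lift_eq] using this
    · rw [IsLocalization.eq_iff_exists (RatFun.complMinimalPrimes R)]
      obtain ⟨W, hW1, hW2, hW, e⟩ := (toRing_eq_iff X htop htop (c ⊤ x) (c ⊤ y)).mp h
      obtain ⟨f, hf, hfW⟩ := exists_basicOpen_subset (A := R) (W : Set X) W.isOpen hW
      have e' := congrArg (res X (show D f ≤ W from hfW)) e
      rw [hc, hc, hc, hc] at e'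
      letI := (c (D f)).toAlgebra
      haveI := hloc f
      obtain ⟨⟨_, n, rfl⟩, hn⟩ := (IsLocalization.eq_iff_exists (Submonoid.powers f) Γ(X, D f)).mp e'
      exact ⟨⟨f ^ n, (RatFun.complMinimalPrimes R).pow_mem hf n⟩, hn⟩
    · intro r
      obtain ⟨W, hW, s, rfl⟩ := exists_rep X r
      obtain ⟨f, hf, hfW⟩ := exists_basicOpen_subset (A := R) (W : Set X) W.isOpen hW
      have hD : Dense ((D f : X.Opens) : Set X) := (dense_basicOpen_iff f).mpr hf
      letI := (c (D f)).toAlgebra
      haveI := hloc f
      obtain ⟨⟨a, ⟨_, n, rfl⟩⟩, hs⟩ := IsLocalization.surj (Submonoid.powers f) (res X (show D f ≤ W from hfW) s)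
      refine ⟨IsLocalization.mk' _ a (⟨f ^ n, (RatFun.complMinimalPrimes R).pow_mem hf n⟩ : RatFun.complMinimalPrimes R), ?_⟩
      rw [← toRing_res X hD hW hfW s]
      refine (IsLocalization.lift_mk'_spec _ _ _ _).mpr ?_
      rw [← hφ (D f) hD a, ← hφ (D f) hD (f ^ n), ← map_mul]
      exact congrArg _ ((hs.symm).trans (mul_comm _ _))
  exact ⟨((RingEquiv.ofBijective L hb).symm).toCommRingCatIso⟩

end Groth.Agent.Misc9.RatFunBasic
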