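import Groth.Agent.Misc9.LocIso
import Groth.Agent.Misc9.RatFunBasic
import Mathlib.AlgebraicGeometry.PullbackCarrier

/-! Birational morphisms. -/

set_option autoImplicit false
set_option backward.isDefEq.respectTransparency false
universe u
namespace Groth.Agent.Misc9.BiratOpen
open AlgebraicGeometry CategoryTheory Limits TopologicalSpace
open Groth.Agent.Misc9.RatFunBasic

theorem isMax'_iff {α : Type*} [TopologicalSpace α] [QuasiSober α] [T0Space α] (x : α) :
    closure {x} ∈ irreducibleComponents α ↔ IsMax' x := by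
  constructor
  · intro h
    have hg : (h.1).genericPoint = x := (h.1.isGenericPoint_genericPoint isClosed_closure).eq rfl
    have := isMax'_genericPoint (⟨closure {x}, h⟩ : irreducibleComponents α)
    rwa [hg] at this
  · intro h
    have hg := isIrreducible_irreducibleComponent (x := x) |>.isGenericPoint_genericPoint
      isClosed_irreducibleComponent
    rw [h _ (hg.specializes mem_irreducibleComponent)] at hg
    rw [hg.def]
    exact irreducibleComponent_mem_irreducibleComponents x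

/-- an open set meeting only the component through a maximal point -/
theorem exists_opens {X : Scheme.{u}} (hfin : (irreducibleComponents X).Finite) :
    ∃ O : X → X.Opens, (∀ y, IsMax' y → y ∈ O y) ∧ ∀ y z y', z ∈ O y → IsMax' y → IsMax' y' → y' ⤳ z → y' = y := by
  refine ⟨fun y => ⟨(⋃₀ {Z ∈ irreducibleComponents X | Z ≠ closure {y}})ᶜ, ?_⟩, ?_, ?_⟩
  · rw [Set.sUnion_eq_biUnion]
    exact ((hfin.subset fun Z hZ => hZ.1).isClosed_biUnion fun Z hZ =>
      isClosed_of_mem_irreducibleComponents Z hZ.1).isOpen_compl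
  · rintro y hy ⟨Z, ⟨hZ, hne⟩, hyZ⟩
    have hsub : closure {y} ⊆ Z :=
      (isClosed_of_mem_irreducibleComponents Z hZ).closure_subset_iff.mpr (by simpa using hyZ)
    exact hne (le_antisymm (((isMax'_iff y).mpr hy).2 hZ.1 hsub) hsub)
  · intro y z y' hz hy hy' hsp
    by_contra hne
    refine hz ⟨closure {y'}, ⟨(isMax'_iff _).mpr hy', fun e => hne ?_⟩, specializes_iff_mem_closure.mp hsp⟩
    have h1 : y' ∈ closure {y} := e ▸ subset_closure rfl
    exact (hy' _ (specializes_iff_mem_closure.mpr h1)).symm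

variable {X Y : Scheme.{u}} (f : X ⟶ Y)
  (hbij : Set.BijOn (fun x : X => f.base x) {x : X | closure {x} ∈ irreducibleComponents ↥X}
      {y : Y | closure {y} ∈ irreducibleComponents ↥Y})
  (hiso : ∀ x : X, closure {x} ∈ irreducibleComponents ↥X → IsIso (f.stalkMap x))

include hbij hiso in
/-- only the generic point lies over a maximal point -/
theorem eq_of_apply_eq {x z : X} (hx : IsMax' x) (h : f z = f x) : z = x := by
  have hy : IsMax' (f x) := (isMax'_iff _).mp (hbij.mapsTo ((isMax'_iff x).mpr hx))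
  have hg := isIrreducible_irreducibleComponent (x := z) |>.isGenericPoint_genericPoint
    isClosed_irreducibleComponent
  have hgm : closure {(isIrreducible_irreducibleComponent (x := z)).genericPoint} ∈ irreducibleComponents X :=
    hg.def.symm ▸ irreducibleComponent_mem_irreducibleComponents z
  have hspec := hg.specializes (mem_irreducibleComponent (x := z))
  have hgx : (isIrreducible_irreducibleComponent (x := z)).genericPoint = x :=
    hbij.injOn hgm ((isMax'_iff x).mpr hx) (hy _ (h ▸ hspec.map f.continuous))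
  rw [hgx] at hspec
  haveI := hiso x ((isMax'_iff x).mpr hx)
  let σ := X.presheaf.stalkSpecializes hspec
  have hσ : Function.Surjective σ := by
    have e := Scheme.Hom.stalkSpecializes_stalkMap f x z hspec
    intro w
    obtain ⟨v, hv⟩ := (ConcreteCategory.bijective_of_isIso (f.stalkMap x)).2 w
    have hs : Function.Surjective (Y.presheaf.stalkSpecializes (f.base.hom.map_specializes hspec)) := by
      intro t
      have h' : f z ⤳ f x := by rw [h]
      exact ⟨Y.presheaf.stalkSpecializes h' t, by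
        rw [← CommRingCat.comp_apply, TopCat.Presheaf.stalkSpecializes_comp, TopCat.Presheaf.stalkSpecializes_refl]
        rfl⟩
    obtain ⟨v', rfl⟩ := hs v
    exact ⟨f.stalkMap z v', by rw [← hv, ← CommRingCat.comp_apply, ← CommRingCat.comp_apply, e]⟩
  have h1 := congr($(Scheme.SpecMap_stalkSpecializes_fromSpecStalk hspec) (IsLocalRing.closedPoint _))
  rw [Scheme.fromSpecStalk_closedPoint, Scheme.Hom.comp_apply] at h1
  refine (((congrArg (X.fromSpecStalk z) ?_).trans Scheme.fromSpecStalk_closedPoint).symm.trans h1)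
  apply PrimeSpectrum.ext
  exact IsLocalRing.eq_maximalIdeal (Ideal.comap_isMaximal_of_surjective σ.hom hσ (K := IsLocalRing.maximalIdeal (X.presheaf.stalk x)))

include hbij hiso in
theorem isIso_pullback (y : Y) (hy : closure {y} ∈ irreducibleComponents ↥Y) :
    IsIso (pullback.snd f (Y.fromSpecStalk y)) := by
  obtain ⟨x, hx, rfl⟩ := hbij.surjOn hy
  haveI := hiso x hx
  have hxm := (isMax'_iff x).mp hx
  have hym : IsMax' (f x) := (isMax'_iff _).mp hy
  set P := pullback f (Y.fromSpecStalk (f x))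
  set a := pullback.fst f (Y.fromSpecStalk (f x))
  set b := pullback.snd f (Y.fromSpecStalk (f x))
  have hpt : ∀ p : P, a p = x := fun p => eq_of_apply_eq f hbij hiso hxm (hym _ (by
    have h1 : f (a p) = Y.fromSpecStalk (f x) (b p) := by
      rw [← Scheme.Hom.comp_apply, pullback.condition, Scheme.Hom.comp_apply]
    have h2 : f (a p) ∈ Set.range (Y.fromSpecStalk (f x)) := ⟨b p, h1.symm⟩
    rwa [Scheme.range_fromSpecStalk] at h2))
  haveI : IsPreimmersion a := MorphismProperty.pullback_fst _ _ inferInstance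
  haveI : Subsingleton P := ⟨fun p q => a.isEmbedding.injective ((hpt p).trans (hpt q).symm)⟩
  let c : Spec (X.presheaf.stalk x) ⟶ P := pullback.lift (X.fromSpecStalk x) (Spec.map (f.stalkMap x))
    (Scheme.SpecMap_stalkMap_fromSpecStalk f).symm
  haveI : Nonempty P := ⟨c (IsLocalRing.closedPoint _)⟩
  obtain ⟨p⟩ := (inferInstance : Nonempty P)
  haveI : IsAffine P := by
    obtain ⟨_, ⟨W, hW, rfl⟩, hpW, -⟩ :=
      P.isBasis_affineOpens.exists_subset_of_mem_open (Set.mem_univ p) isOpen_univ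
    have : W = ⊤ := top_unique fun q _ => Subsingleton.elim p q ▸ hpW
    subst this
    have : IsAffine (⊤ : P.Opens).toScheme := hW
    exact IsAffine.of_isIso P.topIso.inv
  haveI : Subsingleton (Spec Γ(P, ⊤)) := P.isoSpec.inv.isOpenEmbedding.injective.subsingleton
  haveI : IsLocalRing Γ(P, ⊤) := by
    haveI : Nonempty (Spec Γ(P, ⊤)) := ⟨P.isoSpec.hom p⟩
    haveI : Nontrivial Γ(P, ⊤) := PrimeSpectrum.nontrivial (P.isoSpec.hom p)
    obtain ⟨m, hm⟩ := Ideal.exists_maximal Γ(P, ⊤)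
    refine IsLocalRing.of_unique_max_ideal ⟨m, hm, fun m' hm' => ?_⟩
    exact congrArg PrimeSpectrum.asIdeal
      (Subsingleton.elim (α := Spec Γ(P, ⊤)) (⟨m', hm'.isPrime⟩ : PrimeSpectrum Γ(P, ⊤)) ⟨m, hm.isPrime⟩)
  obtain ⟨h, hh⟩ : ∃ h : P ⟶ Spec (X.presheaf.stalk x), h ≫ X.fromSpecStalk x = a := by
    have e := Scheme.Spec_stalkClosedPointTo_fromSpecStalk (P.isoSpec.inv ≫ a)
    have hpt' : (P.isoSpec.inv ≫ a) (IsLocalRing.closedPoint _) = x := by rw [Scheme.Hom.comp_apply]; exact hpt _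
    refine ⟨P.isoSpec.hom ≫ Spec.map (Scheme.stalkClosedPointTo (P.isoSpec.inv ≫ a)) ≫
      Spec.map (X.presheaf.stalkSpecializes (Inseparable.of_eq hpt').specializes), ?_⟩
    simp only [Category.assoc, Scheme.SpecMap_stalkSpecializes_fromSpecStalk]
    rw [e, Iso.hom_inv_id_assoc]
  have hsnd : b = h ≫ Spec.map (f.stalkMap x) := by
    rw [← cancel_mono (Y.fromSpecStalk (f x)), ← pullback.condition, Category.assoc,
      Scheme.SpecMap_stalkMap_fromSpecStalk, reassoc_of% hh]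
  have hc : h ≫ c = 𝟙 P := by
    apply pullback.hom_ext
    · rw [Category.assoc, pullback.lift_fst, hh, Category.id_comp]
    · rw [Category.assoc, pullback.lift_snd, ← hsnd, Category.id_comp]
  refine ⟨inv (Spec.map (f.stalkMap x)) ≫ c, ?_, ?_⟩
  · conv_lhs => rw [hsnd]
    rw [Category.assoc, IsIso.hom_inv_id_assoc, hc]
  · rw [Category.assoc, pullback.lift_snd, IsIso.inv_hom_id]

/-- a maximal point in the closure of the image of a closed set under a quasi-compact map is in the image -/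
theorem mem_image_of_mem_closure [QuasiCompact f] {Z : Set X} (hZ : IsClosed Z) {y : Y} (hy : IsMax' y)
    (hmem : y ∈ closure (f '' Z)) : y ∈ f '' Z := by
  obtain ⟨_, ⟨V, hV, rfl⟩, hyV, -⟩ :=
    Y.isBasis_affineOpens.exists_subset_of_mem_open (Set.mem_univ y) isOpen_univ
  haveI : CompactSpace (f ⁻¹ᵁ V).toScheme := isCompact_iff_compactSpace.mp (f.isCompact_preimage hV.isCompact)
  obtain ⟨R, g, hg⟩ := compactSpace_iff_exists.mp ‹CompactSpace (f ⁻¹ᵁ V).toScheme›
  obtain ⟨φ, hφ⟩ := Spec.map_surjective (g ≫ (f ∣_ V) ≫ hV.isoSpec.hom)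
  set W : Set (PrimeSpectrum R) := (g ≫ (f ⁻¹ᵁ V).ι) ⁻¹' Z
  obtain ⟨I, hI⟩ := (PrimeSpectrum.isClosed_iff_zeroLocus_ideal W).mp (hZ.preimage (g ≫ (f ⁻¹ᵁ V).ι).continuous)
  have hcomm : ∀ w, f ((g ≫ (f ⁻¹ᵁ V).ι) w) = hV.fromSpec (Spec.map φ w) := fun w => by
    rw [← Scheme.Hom.comp_apply, ← Scheme.Hom.comp_apply, hφ]
    congr 1
    simp only [Category.assoc, IsAffineOpen.isoSpec_hom]
    rw [IsAffineOpen.toSpecΓ_fromSpec, morphismRestrict_ι]
  have himg : hV.fromSpec ⁻¹' (f '' Z) = Spec.map φ '' W := by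
    ext q
    constructor
    · rintro ⟨z, hz, hzq⟩
      have hzV : f z ∈ V := by
        have : f z ∈ Set.range hV.fromSpec := ⟨q, hzq.symm⟩
        rwa [IsAffineOpen.range_fromSpec] at this
      obtain ⟨w, hw⟩ := hg ⟨z, hzV⟩
      have hwz : (g ≫ (f ⁻¹ᵁ V).ι) w = z := by rw [Scheme.Hom.comp_apply, hw]; rfl
      refine ⟨w, show _ ∈ Z by rw [hwz]; exact hz, hV.fromSpec.isOpenEmbedding.injective ?_⟩
      rw [← hcomm, hwz, hzq]
    · rintro ⟨w, hw, rfl⟩
      exact ⟨_, hw, hcomm w⟩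
  obtain ⟨q, rfl⟩ : y ∈ Set.range hV.fromSpec := by rw [IsAffineOpen.range_fromSpec]; exact hyV
  have h1 : q ∈ closure (Spec.map φ '' W) := by
    rw [← himg, ← hV.fromSpec.isOpenEmbedding.isOpenMap.preimage_closure_eq_closure_preimage hV.fromSpec.continuous]
    exact hmem
  rw [hI] at h1
  replace h1 : q ∈ PrimeSpectrum.zeroLocus ((I.comap φ.hom : Ideal Γ(Y, V)) : Set Γ(Y, V)) :=
    PrimeSpectrum.closure_image_comap_zeroLocus φ.hom I ▸ h1
  have hqmax : ∀ q' : PrimeSpectrum Γ(Y, V), q'.asIdeal ≤ q.asIdeal → q' = q := fun q' hle =>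
    hV.fromSpec.isOpenEmbedding.injective
      (hy _ (((PrimeSpectrum.le_iff_specializes q' q).mp hle).map hV.fromSpec.continuous))
  have hmin : q.asIdeal ∈ (I.comap φ.hom).minimalPrimes :=
    ⟨⟨q.isPrime, h1⟩, fun J hJ hle => (congrArg PrimeSpectrum.asIdeal (hqmax ⟨J, hJ.1⟩ hle)).ge⟩
  obtain ⟨P, hP, hPI, hPq⟩ := Ideal.exists_comap_eq_of_mem_minimalPrimes φ.hom _ hmin
  show hV.fromSpec q ∈ f '' Z
  have : q ∈ Spec.map φ '' W := ⟨⟨P, hP⟩, hI.symm ▸ (hPI : ⟨P, hP⟩ ∈ PrimeSpectrum.zeroLocus (I : Set R)),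
    PrimeSpectrum.ext hPq⟩
  rw [← himg] at this
  exact this

variable (hXfin : (irreducibleComponents ↥X).Finite) (hYfin : (irreducibleComponents ↥Y).Finite)

include hbij hiso hXfin hYfin in
theorem exists_open_immersion (hf : (LocallyOfFiniteType f ∧ IsReduced Y) ∨ LocallyOfFinitePresentation f) :
    ∃ U : X.Opens, (∀ x, IsMax' x → x ∈ U) ∧ IsOpenImmersion (U.ι ≫ f) := by
  haveI : LocallyOfFiniteType f := by
    rcases hf with ⟨h, -⟩ | h
    · exact h
    · infer_instance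
  obtain ⟨O, hO, hO'⟩ := exists_opens hYfin
  have key : ∀ x : {x : X // IsMax' x}, ∃ U : X.Opens, x.1 ∈ U ∧ IsOpenImmersion (U.ι ≫ f) := fun x => by
    haveI := hiso x.1 ((isMax'_iff _).mpr x.2)
    refine LocIso.exists_isOpenImmersion f x.1 ?_
    rcases hf with ⟨-, h⟩ | h
    · exact Or.inl (LocIso.isGermInjectiveAt_of_isReduced hYfin _)
    · exact Or.inr h
  choose U hxU hU using key
  have hy : ∀ x : {x : X // IsMax' x}, IsMax' (f x.1) := fun x =>
    (isMax'_iff _).mp (hbij.mapsTo ((isMax'_iff _).mpr x.2))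
  let W := ⨆ x, U x ⊓ f ⁻¹ᵁ O (f x.1)
  have hmemW : ∀ z : W.toScheme, ∃ x, z.1 ∈ U x ∧ f z.1 ∈ O (f x.1) := fun z => Opens.mem_iSup.mp z.2
  have hopen : ∀ x, IsOpen ((U x).ι ≫ f).opensRange.1 := fun x => Opens.isOpen _
  refine ⟨W, fun x hx => Opens.mem_iSup.mpr ⟨⟨x, hx⟩, hxU _, hO _ (hy ⟨x, hx⟩)⟩, ?_⟩
  have hinj : Function.Injective (W.ι ≫ f) := by
    intro z₁ z₂ h
    rw [Scheme.Hom.comp_apply, Scheme.Hom.comp_apply] at h
    change f z₁.1 = f z₂.1 at h
    obtain ⟨x₁, h₁, h₁'⟩ := hmemW z₁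
    obtain ⟨x₂, h₂, h₂'⟩ := hmemW z₂
    have hfe : f x₁.1 = f x₂.1 := by
      have hgen := isIrreducible_irreducibleComponent (x := f z₂.1) |>.isGenericPoint_genericPoint
        isClosed_irreducibleComponent
      have hm := (isMax'_iff _).mp (hgen.def.symm ▸ irreducibleComponent_mem_irreducibleComponents (f z₂.1))
      have hs := hgen.specializes (mem_irreducibleComponent (x := f z₂.1))
      rw [← hO' _ _ _ h₂' (hy x₂) hm hs, ← hO' _ _ _ h₁' (hy x₁) hm (h ▸ hs)]
    have hx : x₁ = x₂ := Subtype.ext (eq_of_apply_eq f hbij hiso x₂.2 hfe)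
    subst hx
    have := (hU x₁)
    have e : (⟨z₁.1, h₁⟩ : (U x₁).toScheme) = ⟨z₂.1, h₂⟩ :=
      ((U x₁).ι ≫ f).isOpenEmbedding.injective (by rw [Scheme.Hom.comp_apply, Scheme.Hom.comp_apply]; exact h)
    exact Subtype.ext (congrArg (fun w : (U x₁).toScheme => w.1) e)
  have hloc : ∀ z : W.toScheme, ∃ (A : X.Opens) (hA : A ≤ W), z.1 ∈ A ∧ IsOpenImmersion (A.ι ≫ f) := fun z => by
    obtain ⟨x, h₁, h₂⟩ := hmemW z
    refine ⟨U x ⊓ f ⁻¹ᵁ O (f x.1), le_iSup (fun x => U x ⊓ f ⁻¹ᵁ O (f x.1)) x, ⟨h₁, h₂⟩, ?_⟩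
    have := hU x
    rw [← X.homOfLE_ι (inf_le_left : U x ⊓ f ⁻¹ᵁ O (f x.1) ≤ U x), Category.assoc]
    infer_instance
  haveI : ∀ z, IsIso ((W.ι ≫ f).stalkMap z) := fun z => by
    obtain ⟨A, hA, hzA, hAi⟩ := hloc z
    have h1 : IsIso ((X.homOfLE hA ≫ W.ι ≫ f).stalkMap ⟨z.1, hzA⟩) := by
      rw [Scheme.Hom.stalkMap_congr_hom _ (A.ι ≫ f) (X.homOfLE_ι_assoc hA f)]
      infer_instance
    rw [Scheme.Hom.stalkMap_comp] at h1
    have h2 := @IsIso.of_isIso_comp_right _ _ _ _ _ ((W.ι ≫ f).stalkMap _) ((X.homOfLE hA).stalkMap ⟨z.1, hzA⟩) inferInstance h1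
    have hz : (X.homOfLE hA) ⟨z.1, hzA⟩ = z := by
      apply W.ι.isOpenEmbedding.injective
      rw [← Scheme.Hom.comp_apply, Scheme.homOfLE_ι]; rfl
    rwa [hz] at h2
  refine IsOpenImmersion.of_isIso_stalkMap _ (.of_continuous_injective_isOpenMap (W.ι ≫ f).continuous hinj ?_)
  intro S hS
  rw [isOpen_iff_forall_mem_open]
  rintro _ ⟨z, hz, rfl⟩
  obtain ⟨A, hA, hzA, hAi⟩ := hloc z
  refine ⟨(A.ι ≫ f) '' ((X.homOfLE hA) ⁻¹' S), ?_,
    (A.ι ≫ f).isOpenEmbedding.isOpenMap _ (hS.preimage (X.homOfLE hA).continuous), ?_⟩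
  · rintro _ ⟨w, hw, rfl⟩
    exact ⟨_, hw, by rw [← Scheme.Hom.comp_apply, Scheme.homOfLE_ι_assoc]⟩
  · have hz' : (X.homOfLE hA) ⟨z.1, hzA⟩ = z := by
      apply W.ι.isOpenEmbedding.injective
      rw [← Scheme.Hom.comp_apply, Scheme.homOfLE_ι]; rfl
    exact ⟨⟨z.1, hzA⟩, show _ ∈ S from hz'.symm ▸ hz, rfl⟩

include hbij hiso hXfin hYfin in
theorem exists_dense_opens (hf : (LocallyOfFiniteType f ∧ IsReduced Y) ∨ LocallyOfFinitePresentation f) :
    ∃ (U : X.Opens) (V : Y.Opens) (hUV : U ≤ f ⁻¹ᵁ V), Dense (U : Set ↥X) ∧ Dense (V : Set ↥Y) ∧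
      IsIso (f.resLE V U hUV) := by
  obtain ⟨U, hUmax, hU⟩ := exists_open_immersion f hbij hiso hXfin hYfin hf
  let V := (U.ι ≫ f).opensRange
  have hUV : U ≤ f ⁻¹ᵁ V := fun z hz => ⟨⟨z, hz⟩, rfl⟩
  refine ⟨U, V, hUV, (dense_iff hXfin U.isOpen).mpr hUmax, (dense_iff hYfin V.isOpen).mpr fun y hy => ?_, ?_⟩
  · obtain ⟨x, hx, rfl⟩ := hbij.surjOn ((isMax'_iff y).mpr hy)
    exact hUV (hUmax x ((isMax'_iff x).mp hx))
  · have h1 : IsOpenImmersion (f.resLE V U hUV ≫ V.ι) := by rw [Scheme.Hom.resLE_comp_ι]; exact hU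
    have : IsOpenImmersion (f.resLE V U hUV) := IsOpenImmersion.of_comp _ V.ι
    refine (isIso_iff_isOpenImmersion_and_epi_base _).mpr ⟨this, (TopCat.epi_iff_surjective _).mpr ?_⟩
    rintro ⟨_, z, rfl⟩
    exact ⟨z, Subtype.ext (Scheme.Hom.coe_resLE_apply _ _ z)⟩

include hbij hiso hXfin hYfin in
theorem exists_dense_open_isIso (hf₁ : QuasiCompact f ∨ IsSeparated f)
    (hf₂ : (LocallyOfFiniteType f ∧ IsReduced Y) ∨ LocallyOfFinitePresentation f) :
    ∃ V : Y.Opens, Dense (V : Set ↥Y) ∧ IsIso (f ∣_ V) := by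
  obtain ⟨U, hUmax, hU⟩ := exists_open_immersion f hbij hiso hXfin hYfin hf₂
  let V₀ := (U.ι ≫ f).opensRange
  have hV₀ : ∀ y, IsMax' y → y ∈ V₀ := fun y hy => by
    obtain ⟨x, hx, rfl⟩ := hbij.surjOn ((isMax'_iff y).mpr hy)
    exact ⟨⟨x, hUmax x ((isMax'_iff x).mp hx)⟩, rfl⟩
  have key : ∀ y, IsMax' y → ∃ V : Y.Opens, y ∈ V ∧ V ≤ V₀ ∧ f ⁻¹ᵁ V ≤ U := by
    intro y hy
    have hfib : ∀ z, f z = y → z ∈ U := fun z hz => by
      obtain ⟨x, hx, rfl⟩ := hbij.surjOn ((isMax'_iff y).mpr hy)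
      exact (eq_of_apply_eq f hbij hiso ((isMax'_iff x).mp hx) hz).symm ▸ hUmax x ((isMax'_iff x).mp hx)
    rcases hf₁ with hqc | hsep
    · refine ⟨⟨(closure (f '' (U : Set X)ᶜ))ᶜ, isClosed_closure.isOpen_compl⟩ ⊓ V₀, ⟨fun h => ?_, hV₀ y hy⟩,
        inf_le_right, fun z hz => ?_⟩
      · obtain ⟨z, hz, hzy⟩ := mem_image_of_mem_closure f U.isOpen.isClosed_compl hy h
        exact hz (hfib z hzy)
      · by_contra hzU
        exact hz.1 (subset_closure ⟨z, hzU, rfl⟩)
    · refine ⟨V₀, hV₀ y hy, le_rfl, ?_⟩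
      -- `U` is closed and open in the preimage and contains all its maximal points
      have hUV : U ≤ f ⁻¹ᵁ V₀ := fun z hz => ⟨⟨z, hz⟩, rfl⟩
      have : IsOpenImmersion (f.resLE V₀ U hUV ≫ V₀.ι) := by rw [Scheme.Hom.resLE_comp_ι]; exact hU
      have h0 : IsOpenImmersion (f.resLE V₀ U hUV) := IsOpenImmersion.of_comp _ V₀.ι
      haveI : IsIso (f.resLE V₀ U hUV) :=
        (isIso_iff_isOpenImmersion_and_epi_base _).mpr ⟨h0, (TopCat.epi_iff_surjective _).mpr (by
          rintro ⟨_, z, rfl⟩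
          exact ⟨z, Subtype.ext (Scheme.Hom.coe_resLE_apply _ _ z)⟩)⟩
      let i : U.toScheme ⟶ (f ⁻¹ᵁ V₀).toScheme := X.homOfLE hUV
      have hi : i ≫ (f ∣_ V₀) = f.resLE V₀ U hUV := by
        rw [← cancel_mono V₀.ι, Category.assoc, morphismRestrict_ι, Scheme.homOfLE_ι_assoc,
          Scheme.Hom.resLE_comp_ι]
      haveI : IsClosedImmersion (i ≫ (f ∣_ V₀)) := by rw [hi]; infer_instance
      haveI : IsSeparated (f ∣_ V₀) := IsZariskiLocalAtTarget.restrict hsep V₀
      haveI : IsClosedImmersion i := IsClosedImmersion.of_comp i (f ∣_ V₀)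
      intro z hz
      by_contra hzU
      -- the complement of `U` in the preimage would contain a maximal point
      have hg := isIrreducible_irreducibleComponent (x := z) |>.isGenericPoint_genericPoint
        isClosed_irreducibleComponent
      have hgm : IsMax' (isIrreducible_irreducibleComponent (x := z)).genericPoint :=
        (isMax'_iff _).mp (hg.def.symm ▸ irreducibleComponent_mem_irreducibleComponents z)
      have hspec := hg.specializes (mem_irreducibleComponent (x := z))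
      have hgV : (isIrreducible_irreducibleComponent (x := z)).genericPoint ∈ f ⁻¹ᵁ V₀ :=
        hspec.mem_open (f ⁻¹ᵁ V₀).isOpen hz
      have hsp' : (⟨_, hgV⟩ : (f ⁻¹ᵁ V₀).toScheme) ⤳ ⟨z, hz⟩ :=
        (f ⁻¹ᵁ V₀).ι.isOpenEmbedding.isInducing.specializes_iff.mp hspec
      obtain ⟨w, hw⟩ := hsp'.mem_closed i.isClosedEmbedding.isClosed_range
        ⟨⟨_, hUmax _ hgm⟩, Subtype.ext (congr($(X.homOfLE_ι hUV) ⟨_, hUmax _ hgm⟩))⟩
      apply hzU
      have : z = w.1 := by
        have e := congrArg Subtype.val hw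
        exact e.symm.trans (congr($(X.homOfLE_ι hUV) w))
      exact this ▸ w.2
  choose V hyV hVle hVU using key
  let T := ⨆ y, ⨆ hy, V y hy
  have hT : f ⁻¹ᵁ T ≤ U := fun z hz => by
    obtain ⟨y, hy, hz⟩ : ∃ y hy, f z ∈ V y hy := by simpa [T] using hz
    exact hVU y hy hz
  have hTle : T ≤ V₀ := iSup₂_le hVle
  refine ⟨T, (dense_iff hYfin T.isOpen).mpr fun y hy => ?_, ?_⟩
  · exact le_iSup₂ (f := fun y hy => V y hy) y hy (hyV y hy)
  · have h1 : IsOpenImmersion ((f ∣_ T) ≫ T.ι) := by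
      rw [morphismRestrict_ι, ← X.homOfLE_ι hT, Category.assoc]
      infer_instance
    have h2 : IsOpenImmersion (f ∣_ T) := IsOpenImmersion.of_comp _ T.ι
    refine (isIso_iff_isOpenImmersion_and_epi_base _).mpr ⟨h2, (TopCat.epi_iff_surjective _).mpr ?_⟩
    rintro ⟨y, hyT⟩
    obtain ⟨z, rfl⟩ := hTle hyT
    refine ⟨⟨z.1, hyT⟩, T.ι.isOpenEmbedding.injective ?_⟩
    rw [← Scheme.Hom.comp_apply, morphismRestrict_ι]
    rfl

end Groth.Agent.Misc9.BiratOpen
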