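import Groth.Agent.Misc9.AWNScheme
import Groth.Prelude.Def_Pi1
import Mathlib.RingTheory.LocalProperties.IntegrallyClosed
import Mathlib.AlgebraicGeometry.FunctionField

/-! Birational radicial universally closed maps onto normal schemes. -/

set_option backward.isDefEq.respectTransparency false

universe u

namespace Groth.Agent.Misc9.BiratRadicial

open AlgebraicGeometry CategoryTheory CategoryTheory.Limits
open Groth.Agent.UnivHomeo.Basic
open Groth.Agent.Misc9

theorem fraction_of_surjective {A B : Type u} [CommRing A] [CommRing B] (φ : A →+* B) (x : PrimeSpectrum B)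
    (h : Function.Surjective ((Spec.map (CommRingCat.ofHom φ)).residueFieldMap x)) (b : B) :
    ∃ s a, s ∉ x.asIdeal.comap φ ∧ φ s * b - φ a ∈ x.asIdeal := by
  erw [Groth.Agent.UnivHomeo.Basic.residueFieldMap_spec φ x] at h
  let e1 := (Scheme.Spec.residueFieldIso (.of A) (PrimeSpectrum.comap φ x)).commRingCatIsoToRingEquiv
  let e2 := (Scheme.Spec.residueFieldIso (.of B) x).symm.commRingCatIsoToRingEquiv
  let m := Ideal.ResidueField.map (PrimeSpectrum.comap φ x).asIdeal x.asIdeal φ rfl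
  have h' : Function.Surjective ((⇑e2 ∘ ⇑m) ∘ ⇑e1) := h
  have hm : Function.Surjective m :=
    (Function.Surjective.of_comp_iff' e2.bijective _).mp ((e1.surjective.of_comp_iff _).mp h')
  obtain ⟨z, hz⟩ : ∃ z : (x.asIdeal.comap φ).ResidueField,
      Ideal.ResidueField.map (x.asIdeal.comap φ) x.asIdeal φ rfl z = algebraMap B x.asIdeal.ResidueField b :=
    hm (algebraMap B x.asIdeal.ResidueField b)
  obtain ⟨a, s, hs, rfl⟩ := IsFractionRing.div_surjective (A := A ⧸ x.asIdeal.comap φ) z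
  obtain ⟨a, rfl⟩ := Ideal.Quotient.mk_surjective a
  obtain ⟨s, rfl⟩ := Ideal.Quotient.mk_surjective s
  have hs' : s ∉ x.asIdeal.comap φ := fun h0 ↦ nonZeroDivisors.ne_zero hs (Ideal.Quotient.eq_zero_iff_mem.mpr h0)
  refine ⟨s, a, hs', ?_⟩
  have hne : algebraMap B x.asIdeal.ResidueField (φ s) ≠ 0 := fun e ↦
    hs' (show φ s ∈ x.asIdeal from Ideal.algebraMap_residueField_eq_zero.mp e)
  simp only [Ideal.algebraMap_quotient_residueField_mk, map_div₀] at hz
  erw [Ideal.ResidueField.map_algebraMap, Ideal.ResidueField.map_algebraMap] at hz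
  rw [div_eq_iff hne] at hz
  rw [← Ideal.algebraMap_residueField_eq_zero, map_sub, map_mul, sub_eq_zero, mul_comm]
  exact hz.symm

theorem bijective_of_generic {A B : Type u} [CommRing A] [IsDomain A] [IsIntegrallyClosed A] [CommRing B] [IsDomain B]
    (φ : A →+* B) (hU : FlatMor.IsUnivHomeo (Spec.map (CommRingCat.ofHom φ)))
    (hgen : Function.Surjective ((Spec.map (CommRingCat.ofHom φ)).residueFieldMap (⊥ : PrimeSpectrum B))) :
    Function.Bijective φ := by
  obtain ⟨hint, hs, -⟩ := (isUnivHomeo_spec_iff φ).mp hU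
  have hinj : Function.Injective φ := by
    rw [injective_iff_map_eq_zero]
    intro a ha
    obtain ⟨Q, hQ⟩ := hs ⊥
    have e : Q.asIdeal.comap φ = ⊥ := congrArg PrimeSpectrum.asIdeal hQ
    exact (Submodule.mem_bot A).mp (e ▸ (show φ a ∈ Q.asIdeal by rw [ha]; exact zero_mem _ : a ∈ Q.asIdeal.comap φ))
  refine ⟨hinj, fun b ↦ ?_⟩
  obtain ⟨s, a, hs, hsa⟩ := fraction_of_surjective φ ⊥ hgen b
  have hs' : φ s ≠ 0 := fun h ↦ hs (show φ s ∈ (⊥ : Ideal B) from (Submodule.mem_bot B).mpr h)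
  have hb : φ s * b = φ a := sub_eq_zero.mp ((Submodule.mem_bot B).mp hsa)
  letI := φ.toAlgebra
  let K := FractionRing A
  let L := FractionRing B
  let ψ : K →+* L := IsFractionRing.map (K := K) (L := L) hinj
  have hψ : ∀ x, ψ (algebraMap A K x) = algebraMap B L (φ x) := fun x ↦ IsLocalization.map_eq _ x
  have hsK : algebraMap A K s ≠ 0 := by
    rw [map_ne_zero_iff _ (IsFractionRing.injective A K)]; intro h; exact hs' (by rw [h, map_zero])
  have hq : ψ (algebraMap A K a / algebraMap A K s) = algebraMap B L b := by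
    rw [map_div₀, hψ, hψ, div_eq_iff, ← map_mul, mul_comm, hb]
    exact (map_ne_zero_iff _ (IsFractionRing.injective B L)).mpr hs'
  obtain ⟨P, hP, hPb⟩ := hint b
  have hi : IsIntegral A (algebraMap A K a / algebraMap A K s) := by
    refine ⟨P, hP, ψ.injective ?_⟩
    rw [Polynomial.hom_eval₂, hq, map_zero, show ψ.comp (algebraMap A K) = (algebraMap B L).comp φ from RingHom.ext hψ,
      ← Polynomial.hom_eval₂, hPb, map_zero]
  obtain ⟨c, hc⟩ := IsIntegrallyClosed.algebraMap_eq_of_integral hi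
  refine ⟨c, IsFractionRing.injective B L ?_⟩
  rw [← hψ, hc, hq]

theorem isIntegrallyClosed_affine {V : Scheme.{u}} [IsIntegral V] (hN : Pi1.IsNormalScheme V)
    (W : V.affineOpens) [Nonempty W.1] : IsIntegrallyClosed Γ(V, W) := by
  refine IsIntegrallyClosed.of_localization_maximal fun P _ hP ↦ ?_
  let x : V := W.2.fromSpec ⟨P, hP.isPrime⟩
  have hx : x ∈ W.1 := by
    rw [← SetLike.mem_coe, ← W.2.range_fromSpec]; exact Set.mem_range_self _
  letI := TopCat.Presheaf.algebra_section_stalk V.presheaf ⟨x, hx⟩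
  have := W.2.isLocalization_stalk' ⟨P, hP.isPrime⟩ hx
  have := (hN x).2
  exact IsIntegrallyClosed.of_equiv
    (IsLocalization.algEquiv P.primeCompl (V.presheaf.stalk x) (Localization.AtPrime P)).toRingEquiv

theorem isIso_of {U V : Scheme.{u}} [IsIntegral U] [IsIntegral V] (hN : Pi1.IsNormalScheme V) (h : U ⟶ V)
    [UniversallyClosed h] [UniversallyInjective h] (hgen : h.base (genericPoint U) = genericPoint V)
    (hbir : Function.Bijective (h.residueFieldMap (genericPoint U)).hom) : IsIso h := by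
  have : Surjective h := ⟨by
    rw [← Set.range_eq_univ, ← h.isClosedMap.isClosed_range.closure_eq, ← dense_iff_closure_eq]
    refine Dense.mono (Set.singleton_subset_iff.mpr ⟨genericPoint U, hgen⟩) ?_
    exact dense_iff_closure_eq.mpr (genericPoint_spec V).def⟩
  have hU := isUnivHomeo_of h
  have := Groth.Agent.UnivHomeo.isIntegralHom_of_univHomeo hU
  show MorphismProperty.isomorphisms Scheme h
  rw [IsZariskiLocalAtTarget.iff_of_iSup_eq_top (P := MorphismProperty.isomorphisms Scheme) _ (iSup_affineOpens_eq_top V)]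
  intro W
  have : IsAffine (W.1 : Scheme.{u}) := W.2
  have : IsAffine ((h ⁻¹ᵁ W.1 : U.Opens) : Scheme.{u}) := W.2.preimage h
  rw [HasAffineProperty.iff_of_isAffine (P := MorphismProperty.isomorphisms Scheme)]
  refine ⟨inferInstance, ?_⟩
  rcases isEmpty_or_nonempty W.1 with hW | hW
  · have : IsEmpty ((h ⁻¹ᵁ W.1 : U.Opens) : Scheme.{u}) := Function.isEmpty (h ∣_ W.1)
    have : IsIso (h ∣_ W.1) := isIso_of_isEmpty _
    infer_instance
  have hW' : Nonempty (h ⁻¹ᵁ W.1 : U.Opens) := by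
    obtain ⟨⟨w, hw⟩⟩ := hW
    obtain ⟨u, rfl⟩ := h.surjective w
    exact ⟨⟨u, hw⟩⟩
  have : IsIntegral (W.1 : Scheme.{u}) := isIntegral_of_isOpenImmersion W.1.ι
  have : IsIntegral ((h ⁻¹ᵁ W.1 : U.Opens) : Scheme.{u}) := isIntegral_of_isOpenImmersion (h ⁻¹ᵁ W.1).ι
  have : IsIntegrallyClosed Γ((W.1 : Scheme.{u}), ⊤) :=
    haveI := isIntegrallyClosed_affine hN W
    IsIntegrallyClosed.of_equiv W.1.topIso.commRingCatIsoToRingEquiv.symm
  rw [ConcreteCategory.isIso_iff_bijective]
  refine bijective_of_generic (h ∣_ W.1).appTop.hom (AWNScheme.univHomeo_restrict h hU W) ?_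
  let P : Scheme.{u} := (h ⁻¹ᵁ W.1 : U.Opens)
  have hbot : (⊥ : PrimeSpectrum Γ(P, ⊤)) = genericPoint (Spec Γ(P, ⊤)) :=
    (genericPoint_eq_bot_of_affine Γ(P, ⊤)).symm
  rw [hbot]
  have hz : (h ⁻¹ᵁ W.1).ι (P.isoSpec.inv (genericPoint (Spec Γ(P, ⊤)))) = genericPoint U := by
    rw [genericPoint_eq_of_isOpenImmersion P.isoSpec.inv, genericPoint_eq_of_isOpenImmersion (h ⁻¹ᵁ W.1).ι]
  have e : Spec.map (h ∣_ W.1).appTop = P.isoSpec.inv ≫ h ∣_ W.1 ≫ (W.1 : Scheme.{u}).isoSpec.hom := by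
    rw [← Category.assoc, ← Scheme.isoSpec_inv_naturality, Category.assoc, Iso.inv_hom_id, Category.comp_id]
  have hι : IsIso ((h ∣_ W.1).residueFieldMap (P.isoSpec.inv (genericPoint (Spec Γ(P, ⊤))))) := by
    have h0 : IsIso (h.residueFieldMap ((h ⁻¹ᵁ W.1).ι (P.isoSpec.inv (genericPoint (Spec Γ(P, ⊤)))))) := by
      rw [hz]; exact (ConcreteCategory.isIso_iff_bijective _).mpr hbir
    have h1 : IsIso (Scheme.Hom.residueFieldMap ((h ⁻¹ᵁ W.1).ι ≫ h) (P.isoSpec.inv (genericPoint (Spec Γ(P, ⊤))))) := by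
      rw [Scheme.residueFieldMap_comp]; infer_instance
    have key : ∀ (g : P ⟶ V), (h ⁻¹ᵁ W.1).ι ≫ h = g →
        IsIso (Scheme.Hom.residueFieldMap g (P.isoSpec.inv (genericPoint (Spec Γ(P, ⊤))))) := by
      rintro g rfl; exact h1
    have h2 := key _ (morphismRestrict_ι h W.1).symm
    rw [Scheme.residueFieldMap_comp] at h2
    exact IsIso.of_isIso_comp_left (W.1.ι.residueFieldMap _) _
  have h3 : IsIso (Scheme.Hom.residueFieldMap (P.isoSpec.inv ≫ h ∣_ W.1 ≫ (W.1 : Scheme.{u}).isoSpec.hom)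
      (genericPoint (Spec Γ(P, ⊤)))) := by
    rw [Scheme.residueFieldMap_comp, Scheme.residueFieldMap_comp]
    infer_instance
  rw [← e] at h3
  exact (ConcreteCategory.bijective_of_isIso
    ((Spec.map (h ∣_ W.1).appTop).residueFieldMap (genericPoint (Spec Γ(P, ⊤))))).2

end Groth.Agent.Misc9.BiratRadicial
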