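import Mathlib.AlgebraicGeometry.Birational.Birational
import Mathlib.AlgebraicGeometry.SpreadingOut
import Mathlib.AlgebraicGeometry.ResidueField
import Mathlib.AlgebraicGeometry.Properties
import Mathlib.AlgebraicGeometry.FunctionField

set_option autoImplicit false
set_option backward.isDefEq.respectTransparency false
universe u
namespace Groth.Agent.Misc9.BiratResidue
open AlgebraicGeometry CategoryTheory TopologicalSpace

theorem eqToHom_fromSpecResidueField {S : Scheme.{u}} {a b : S} (h : a = b) :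
    Spec.map (eqToHom (congrArg S.residueField h)) ≫ S.fromSpecResidueField a = S.fromSpecResidueField b := by
  subst h; simp

theorem eq_eqToHom {S : Scheme.{u}} {a b : S} (h : a = b) :
    (S.residueFieldCongr h).hom = eqToHom (congrArg S.residueField h) := by
  subst h; simp

theorem residue_eq {S X Y U : Scheme.{u}} (sX : X ⟶ S) (sY : Y ⟶ S) (j : U ⟶ X) (k : U ⟶ Y)
    [IsOpenImmersion j] [IsOpenImmersion k] (w : k ≫ sY = j ≫ sX) (z : U) (a : X) (b : Y)
    (ha : j z = a) (hb : k z = b) :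
    ∃ (hs : sX a = sY b) (e : X.residueField a ≅ Y.residueField b),
      sX.residueFieldMap a ≫ e.hom = eqToHom (congrArg S.residueField hs) ≫ sY.residueFieldMap b := by
  subst ha hb
  have hs : sX (j z) = sY (k z) := by rw [← Scheme.Hom.comp_apply, ← Scheme.Hom.comp_apply, w]
  refine ⟨hs, asIso (j.residueFieldMap z) ≪≫ (asIso (k.residueFieldMap z)).symm, ?_⟩
  simp only [Iso.trans_hom, asIso_hom, Iso.symm_hom, asIso_inv]
  rw [← Category.assoc, IsIso.comp_inv_eq, Category.assoc, ← Scheme.residueFieldMap_comp,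
    ← Scheme.residueFieldMap_comp, Scheme.Hom.residueFieldMap_congr w.symm z, eq_eqToHom]

theorem over_of_residue {S X Y : Scheme.{u}} (sX : X ⟶ S) (sY : Y ⟶ S) (x : X) (y : Y) (hs : sX x = sY y)
    (e : X.residueField x ≅ Y.residueField y)
    (he : sX.residueFieldMap x ≫ e.hom = eqToHom (congrArg S.residueField hs) ≫ sY.residueFieldMap y) :
    Spec.map e.inv ≫ Y.fromSpecResidueField y ≫ sY = X.fromSpecResidueField x ≫ sX := by
  have h1 : sX.residueFieldMap x = eqToHom (congrArg S.residueField hs) ≫ sY.residueFieldMap y ≫ e.inv := by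
    rw [← Category.assoc, ← he, Category.assoc, Iso.hom_inv_id, Category.comp_id]
  rw [← Scheme.Hom.SpecMap_residueFieldMap_fromSpecResidueField sX, h1,
    ← Scheme.Hom.SpecMap_residueFieldMap_fromSpecResidueField sY, ← eqToHom_fromSpecResidueField hs]
  simp only [Spec.map_comp, Category.assoc]

/-- if two spread out maps are inverse at a point, they are inverse near it -/
theorem exists_inverse_nhd {X Y : Scheme.{u}} [IsIntegral X] {U : X.Opens} {V : Y.Opens} {x : X} {y : Y}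
    (hx : x ∈ U) (hy : y ∈ V) (f : U.toScheme ⟶ Y) (g : V.toScheme ⟶ X)
    (ρ : Spec (X.presheaf.stalk x) ⟶ Spec (Y.presheaf.stalk y))
    (hf : U.fromSpecStalkOfMem x hx ≫ f = ρ ≫ Y.fromSpecStalk y)
    (hg : ρ ≫ V.fromSpecStalkOfMem y hy ≫ g = X.fromSpecStalk x) :
    ∃ (W : X.Opens) (hW : W ≤ U) (h : W.toScheme ⟶ V.toScheme),
      x ∈ W ∧ h ≫ V.ι = X.homOfLE hW ≫ f ∧ h ≫ g = W.ι := by
  have hfx : f ⟨x, hx⟩ ∈ V := by
    have h1 : f ⟨x, hx⟩ = Y.fromSpecStalk y (ρ (IsLocalRing.closedPoint _)) := by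
      rw [← Scheme.Hom.comp_apply, ← hf, Scheme.Hom.comp_apply]
      congr 1
      apply U.ι.isOpenEmbedding.injective
      rw [← Scheme.Hom.comp_apply, Scheme.Opens.fromSpecStalkOfMem_ι, Scheme.fromSpecStalk_closedPoint]
      rfl
    rw [h1, ← Scheme.Opens.fromSpecStalkOfMem_ι V y hy, Scheme.Hom.comp_apply]
    exact Subtype.prop _
  set U₁ : U.toScheme.Opens := f ⁻¹ᵁ V
  let x₁ : U₁.toScheme := ⟨⟨x, hx⟩, hfx⟩
  haveI : Nonempty U₁.toScheme := ⟨x₁⟩
  haveI : IsIntegral U₁.toScheme := isIntegral_of_isOpenImmersion (U₁.ι ≫ U.ι)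
  set t := U₁.toScheme.fromSpecStalk x₁
  set σ := Spec.map ((U₁.ι ≫ U.ι).stalkMap x₁)
  have hσ : σ ≫ X.fromSpecStalk x = t ≫ U₁.ι ≫ U.ι := Scheme.SpecMap_stalkMap_fromSpecStalk (U₁.ι ≫ U.ι)
  have ht : t ≫ U₁.ι = σ ≫ U.fromSpecStalkOfMem x hx := by
    rw [← cancel_mono U.ι, Category.assoc, Category.assoc, Scheme.Opens.fromSpecStalkOfMem_ι, hσ]
  have ht' : t ≫ (f ∣_ V) = σ ≫ ρ ≫ V.fromSpecStalkOfMem y hy := by
    rw [← cancel_mono V.ι]
    simp only [Category.assoc, morphismRestrict_ι, Scheme.Opens.fromSpecStalkOfMem_ι]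
    rw [reassoc_of% ht, hf]
  obtain ⟨W₁, hxW, he⟩ := spread_out_unique_of_isGermInjective' (x := x₁) ((f ∣_ V) ≫ g) (U₁.ι ≫ U.ι) (by
    change t ≫ (f ∣_ V) ≫ g = t ≫ U₁.ι ≫ U.ι
    rw [← hσ, ← hg, ← Category.assoc, ht', Category.assoc, Category.assoc])
  refine ⟨(U₁.ι ≫ U.ι) ''ᵁ W₁, ?_, (((U₁.ι ≫ U.ι)).isoImage W₁).inv ≫ W₁.ι ≫ (f ∣_ V), ?_, ?_, ?_⟩
  · rintro _ ⟨z, -, rfl⟩
    exact (U₁.ι z).2
  · exact ⟨x₁, hxW, rfl⟩
  · rw [← cancel_epi ((U₁.ι ≫ U.ι).isoImage W₁).hom]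
    simp only [Iso.hom_inv_id_assoc, Category.assoc, morphismRestrict_ι]
    simp only [← Category.assoc]
    congr 1
    rw [← cancel_mono U.ι]
    simp only [Category.assoc, Scheme.homOfLE_ι]
    exact (Scheme.Hom.isoImage_hom_ι (U₁.ι ≫ U.ι) W₁).symm
  · rw [← cancel_epi ((U₁.ι ≫ U.ι).isoImage W₁).hom]
    simp only [Iso.hom_inv_id_assoc, Category.assoc]
    rw [he, Scheme.Hom.isoImage_hom_ι]

theorem birational_of_residue {S X Y : Scheme.{u}} [IsIntegral X] [IsIntegral Y] (sX : X ⟶ S) (sY : Y ⟶ S)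
    [LocallyOfFiniteType sX] [LocallyOfFiniteType sY]
    (hs : sX (genericPoint X) = sY (genericPoint Y))
    (e : X.residueField (genericPoint X) ≅ Y.residueField (genericPoint Y))
    (he : sX.residueFieldMap (genericPoint X) ≫ e.hom =
      eqToHom (congrArg S.residueField hs) ≫ sY.residueFieldMap (genericPoint Y)) :
    Scheme.BirationalOver sX sY := by
  let x := genericPoint X
  let y := genericPoint Y
  have hres : ∀ (Z : Scheme.{u}) [IsIntegral Z], IsIso (Z.residue (genericPoint Z)) := fun Z _ => by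
    haveI : IsField (Z.presheaf.stalk (genericPoint Z)) := Field.toIsField Z.functionField
    refine (ConcreteCategory.isIso_iff_bijective _).mpr ⟨?_, Z.residue_surjective _⟩
    letI := this.toField
    exact RingHom.injective (Z.residue (genericPoint Z)).hom
  haveI := hres X
  haveI := hres Y
  let ρ : Spec (X.presheaf.stalk x) ⟶ Spec (Y.presheaf.stalk y) :=
    inv (Spec.map (X.residue x)) ≫ Spec.map e.inv ≫ Spec.map (Y.residue y)
  let ρ' : Spec (Y.presheaf.stalk y) ⟶ Spec (X.presheaf.stalk x) :=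
    inv (Spec.map (Y.residue y)) ≫ Spec.map e.hom ≫ Spec.map (X.residue x)
  have hρ : ρ ≫ ρ' = 𝟙 _ := by simp [ρ, ρ', ← Spec.map_comp_assoc]; exact Category.id_comp _
  have hρ' : ρ' ≫ ρ = 𝟙 _ := by simp [ρ, ρ', ← Spec.map_comp_assoc]; exact Category.id_comp _
  have hrX : Spec.map (X.residue x) ≫ X.fromSpecStalk x = X.fromSpecResidueField x := rfl
  have hrY : Spec.map (Y.residue y) ≫ Y.fromSpecStalk y = Y.fromSpecResidueField y := rfl
  have hover : (ρ ≫ Y.fromSpecStalk y) ≫ sY = X.fromSpecStalk x ≫ sX := by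
    simp only [ρ, Category.assoc, IsIso.inv_comp_eq]
    rw [reassoc_of% hrY, reassoc_of% hrX]
    exact over_of_residue sX sY x y hs e he
  have hover' : (ρ' ≫ X.fromSpecStalk x) ≫ sX = Y.fromSpecStalk y ≫ sY := by
    have := congrArg (ρ' ≫ ·) hover
    simp only [Category.assoc] at this ⊢
    rw [← this, reassoc_of% hρ']
  obtain ⟨U, hxU, f, hf, hfS⟩ := spread_out_of_isGermInjective' sX sY (ρ ≫ Y.fromSpecStalk y) hover
  obtain ⟨V, hyV, g, hg, hgS⟩ := spread_out_of_isGermInjective' sY sX (ρ' ≫ X.fromSpecStalk x) hover'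
  obtain ⟨U₂, hU₂, h, hxU₂, hh₁, hh₂⟩ := exists_inverse_nhd hxU hyV f g ρ hf.symm
    (by rw [← hg, reassoc_of% hρ])
  obtain ⟨V₂, hV₂, k, hyV₂, hk₁, hk₂⟩ := exists_inverse_nhd hyV hxU g f ρ' hg.symm
    (by rw [← hf, reassoc_of% hρ'])
  set F := h ≫ V.ι
  set G := k ≫ U.ι
  let U' : X.Opens := U₂.ι ''ᵁ (F ⁻¹ᵁ V₂)
  let V' : Y.Opens := V₂.ι ''ᵁ (G ⁻¹ᵁ U₂)
  have hGF : ∀ (z : U₂.toScheme) (w : V₂.toScheme), F z = w.1 → G w = z.1 := fun z w hzw => by
    have e1 : g (Y.homOfLE hV₂ w) = G w := by rw [← Scheme.Hom.comp_apply, ← hk₁]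
    have e2 : Y.homOfLE hV₂ w = h z := by
      apply V.ι.isOpenEmbedding.injective
      rw [← Scheme.Hom.comp_apply, Scheme.homOfLE_ι, ← Scheme.Hom.comp_apply]
      exact hzw.symm
    rw [← e1, e2, ← Scheme.Hom.comp_apply, hh₂]; rfl
  have hFG : ∀ (z : U₂.toScheme) (w : V₂.toScheme), G w = z.1 → F z = w.1 := fun z w hzw => by
    have e1 : f (X.homOfLE hU₂ z) = F z := by rw [← Scheme.Hom.comp_apply, ← hh₁]
    have e2 : X.homOfLE hU₂ z = k w := by
      apply U.ι.isOpenEmbedding.injective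
      rw [← Scheme.Hom.comp_apply, Scheme.homOfLE_ι, ← Scheme.Hom.comp_apply]
      exact hzw.symm
    rw [← e1, e2, ← Scheme.Hom.comp_apply, hk₂]; rfl
  have hU'le : U' ≤ U₂ := by rintro _ ⟨z, -, rfl⟩; exact z.2
  have hV'le : V' ≤ V₂ := by rintro _ ⟨z, -, rfl⟩; exact z.2
  let a : U'.toScheme ⟶ V'.toScheme := IsOpenImmersion.lift V'.ι (X.homOfLE hU'le ≫ F) (by
    rintro _ ⟨⟨p, z, hz, rfl⟩, rfl⟩
    rw [Scheme.Opens.range_ι, Scheme.Hom.comp_apply]
    refine ⟨⟨F z, hz⟩, ?_, ?_⟩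
    · change G ⟨F z, hz⟩ ∈ U₂
      rw [hGF z ⟨F z, hz⟩ rfl]
      exact z.2
    · exact congrArg F (Subtype.ext (congr($(X.homOfLE_ι hU'le) ⟨_, z, hz, rfl⟩)).symm))
  let b : V'.toScheme ⟶ U'.toScheme := IsOpenImmersion.lift U'.ι (Y.homOfLE hV'le ≫ G) (by
    rintro _ ⟨⟨p, z, hz, rfl⟩, rfl⟩
    rw [Scheme.Opens.range_ι, Scheme.Hom.comp_apply]
    refine ⟨⟨G z, hz⟩, ?_, ?_⟩
    · change F ⟨G z, hz⟩ ∈ V₂
      rw [hFG ⟨G z, hz⟩ z rfl]
      exact z.2
    · exact congrArg G (Subtype.ext (congr($(Y.homOfLE_ι hV'le) ⟨_, z, hz, rfl⟩)).symm))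
  have ha : a ≫ V'.ι = X.homOfLE hU'le ≫ F := IsOpenImmersion.lift_fac _ _ _
  have hb : b ≫ U'.ι = Y.homOfLE hV'le ≫ G := IsOpenImmersion.lift_fac _ _ _
  have ha' : a ≫ Y.homOfLE (hV'le.trans hV₂) = X.homOfLE hU'le ≫ h := by
    rw [← cancel_mono V.ι, Category.assoc, Category.assoc, Scheme.homOfLE_ι, ha]
  have hb' : b ≫ X.homOfLE (hU'le.trans hU₂) = Y.homOfLE hV'le ≫ k := by
    rw [← cancel_mono U.ι, Category.assoc, Category.assoc, Scheme.homOfLE_ι, hb]
  have hab : a ≫ b = 𝟙 _ := by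
    rw [← cancel_mono U'.ι, Category.assoc, hb, Category.id_comp]
    rw [show G = _ from hk₁, Scheme.homOfLE_homOfLE_assoc, reassoc_of% ha', hh₂, Scheme.homOfLE_ι]
  have hba : b ≫ a = 𝟙 _ := by
    rw [← cancel_mono V'.ι, Category.assoc, ha, Category.id_comp]
    rw [show F = _ from hh₁, Scheme.homOfLE_homOfLE_assoc, reassoc_of% hb', hk₂, Scheme.homOfLE_ι]
  have hxU' : x ∈ U' := by
    refine ⟨⟨x, hxU₂⟩, ?_, rfl⟩
    change F ⟨x, hxU₂⟩ ∈ V₂
    obtain ⟨w, hw⟩ : ∃ w : V₂.toScheme, w.1 = y := ⟨⟨y, hyV₂⟩, rfl⟩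
    have hwx : G w = x := by
      have h1 := congr($hg (IsLocalRing.closedPoint _))
      have h2 : (Y.homOfLE hV₂ w) = V.fromSpecStalkOfMem y hyV (IsLocalRing.closedPoint _) := by
        apply V.ι.isOpenEmbedding.injective
        rw [← Scheme.Hom.comp_apply, Scheme.homOfLE_ι, ← Scheme.Hom.comp_apply,
          Scheme.Opens.fromSpecStalkOfMem_ι, Scheme.fromSpecStalk_closedPoint]
        exact hw
      have h3 : G w = g (Y.homOfLE hV₂ w) := by rw [← Scheme.Hom.comp_apply, ← hk₁]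
      rw [h3, h2, ← Scheme.Hom.comp_apply, ← hg, Scheme.Hom.comp_apply]
      have : ∀ p : Spec (X.presheaf.stalk x), p = IsLocalRing.closedPoint _ := fun p => by
        apply PrimeSpectrum.ext
        haveI : IsField (X.presheaf.stalk x) := Field.toIsField X.functionField
        letI := this.toField
        exact (p.asIdeal.eq_bot_or_top.resolve_right p.isPrime.ne_top).trans
          ((IsLocalRing.maximalIdeal (X.presheaf.stalk x)).eq_bot_or_top.resolve_right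
            (IsLocalRing.maximalIdeal.isMaximal _).ne_top).symm
      rw [this (ρ' _), Scheme.fromSpecStalk_closedPoint]
    rw [hFG ⟨x, hxU₂⟩ w hwx]
    exact w.2
  refine ⟨⟨U', U'.isOpen.dense ⟨x, hxU'⟩, V', V'.isOpen.dense ⟨_, (a ⟨x, hxU'⟩).2⟩, ⟨a, b, hab, hba⟩⟩, ?_⟩
  change a ≫ V'.ι ≫ sY = U'.ι ≫ sX
  rw [reassoc_of% ha]
  rw [reassoc_of% (show F = _ from hh₁), hfS, Scheme.homOfLE_ι_assoc, Scheme.homOfLE_ι_assoc]

theorem birational_iff {S X Y : Scheme.{u}}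
    [IsIntegral X] [IsIntegral Y] (sX : X ⟶ S) (sY : Y ⟶ S)
    [LocallyOfFiniteType sX] [LocallyOfFiniteType sY] :
    Scheme.BirationalOver sX sY ↔
      ∃ (hs : sX.base (genericPoint ↥X) = sY.base (genericPoint ↥Y))
        (e : X.residueField (genericPoint ↥X) ≅ Y.residueField (genericPoint ↥Y)),
        sX.residueFieldMap (genericPoint ↥X) ≫ e.hom =
          eqToHom (congrArg S.residueField hs) ≫ sY.residueFieldMap (genericPoint ↥Y) := by
  refine ⟨?_, fun ⟨hs, e, he⟩ => birational_of_residue sX sY hs e he⟩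
  rintro ⟨φ, hφ⟩
  haveI : Nonempty φ.source.toScheme := by
    obtain ⟨p, hp⟩ := φ.dense_source.nonempty
    exact ⟨⟨p, hp⟩⟩
  haveI : IsIntegral φ.source.toScheme := isIntegral_of_isOpenImmersion φ.source.ι
  exact residue_eq sX sY φ.source.ι (φ.iso.hom ≫ φ.target.ι) (by rw [Category.assoc]; exact hφ)
    (genericPoint φ.source.toScheme) _ _ (genericPoint_eq_of_isOpenImmersion _)
    (genericPoint_eq_of_isOpenImmersion _)

end Groth.Agent.Misc9.BiratResidue
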