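import Groth.Agent.Alg.SpreadIso
import Mathlib.AlgebraicGeometry.Birational.Birational
import Mathlib.AlgebraicGeometry.Morphisms.FinitePresentation
import Mathlib.AlgebraicGeometry.Properties
import Mathlib.AlgebraicGeometry.FunctionField

/-! Birationality of irreducible lfp schemes via generic stalks. -/

set_option autoImplicit false
set_option backward.isDefEq.respectTransparency false
universe u
namespace Groth.Agent.Misc9.BiratStalk
open AlgebraicGeometry CategoryTheory TopologicalSpace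

theorem germ_eqToHom {S : Scheme.{u}} {a b : S} (h : a = b) (W : S.Opens) (ha : a ∈ W) :
    S.presheaf.germ W a ha ≫ eqToHom (congrArg S.presheaf.stalk h) = S.presheaf.germ W b (h ▸ ha) := by
  subst h; simp

theorem eq_eqToHom {S : Scheme.{u}} {a b : S} (h : a = b) :
    S.presheaf.stalkSpecializes (Inseparable.of_eq h).specializes' = eqToHom (congrArg S.presheaf.stalk h) := by
  subst h; simp

theorem stalkMap_congr {X S : Scheme.{u}} {f g : X ⟶ S} (e : f = g) (x : X) :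
    f.stalkMap x = eqToHom (congrArg S.presheaf.stalk (by rw [e])) ≫ g.stalkMap x := by
  subst e; simp

theorem stalk_eq {S X Y U : Scheme.{u}} (sX : X ⟶ S) (sY : Y ⟶ S) (j : U ⟶ X) (k : U ⟶ Y)
    [IsOpenImmersion j] [IsOpenImmersion k] (w : k ≫ sY = j ≫ sX) (z : U) (a : X) (b : Y)
    (ha : j z = a) (hb : k z = b) :
    ∃ (hs : sX a = sY b) (e : X.presheaf.stalk a ≅ Y.presheaf.stalk b),
      sX.stalkMap a ≫ e.hom = eqToHom (congrArg S.presheaf.stalk hs) ≫ sY.stalkMap b := by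
  subst ha hb
  have hs : sX (j z) = sY (k z) := by rw [← Scheme.Hom.comp_apply, ← Scheme.Hom.comp_apply, w]
  refine ⟨hs, asIso (j.stalkMap z) ≪≫ (asIso (k.stalkMap z)).symm, ?_⟩
  simp only [Iso.trans_hom, asIso_hom, Iso.symm_hom, asIso_inv]
  rw [← Category.assoc, IsIso.comp_inv_eq, Category.assoc, ← Scheme.Hom.stalkMap_comp,
    ← Scheme.Hom.stalkMap_comp, stalkMap_congr w.symm z]

theorem birationalOver_of_iso {S X Y : Scheme.{u}} [IrreducibleSpace X] [IrreducibleSpace Y] (sX : X ⟶ S) (sY : Y ⟶ S)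
    {P : Scheme.{u}} [Nonempty P] (j : P ⟶ X) (k : P ⟶ Y) [IsOpenImmersion j] [IsOpenImmersion k]
    (w : k ≫ sY = j ≫ sX) : Scheme.BirationalOver sX sY := by
  obtain ⟨p⟩ := (inferInstance : Nonempty P)
  refine ⟨⟨j.opensRange, j.opensRange.isOpen.dense ⟨_, p, rfl⟩, k.opensRange,
    k.opensRange.isOpen.dense ⟨_, p, rfl⟩, j.isoOpensRange.symm ≪≫ k.isoOpensRange⟩, ?_⟩
  change (j.isoOpensRange.symm ≪≫ k.isoOpensRange).hom ≫ k.opensRange.ι ≫ sY = j.opensRange.ι ≫ sX
  rw [Iso.trans_hom, Iso.symm_hom, Category.assoc, Scheme.Hom.isoOpensRange_hom_ι_assoc, w,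
    Scheme.Hom.isoOpensRange_inv_comp_assoc]

open Groth.Agent.Alg.SpreadIso in
theorem birational_of_stalk {S X Y : Scheme.{u}} [IrreducibleSpace X] [IrreducibleSpace Y] (sX : X ⟶ S) (sY : Y ⟶ S)
    [LocallyOfFinitePresentation sX] [LocallyOfFinitePresentation sY] (x : X) (y : Y) (hs : sX x = sY y)
    (e : X.presheaf.stalk x ≅ Y.presheaf.stalk y)
    (he : sX.stalkMap x ≫ e.hom = eqToHom (congrArg S.presheaf.stalk hs) ≫ sY.stalkMap y) :
    Scheme.BirationalOver sX sY := by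
  obtain ⟨_, ⟨W, hW, rfl⟩, hxW, -⟩ :=
    S.isBasis_affineOpens.exists_subset_of_mem_open (Set.mem_univ (sX x)) isOpen_univ
  obtain ⟨_, ⟨U, hU, rfl⟩, hxU, eU⟩ :=
    X.isBasis_affineOpens.exists_subset_of_mem_open (show x ∈ sX ⁻¹ᵁ W from hxW) (sX ⁻¹ᵁ W).isOpen
  obtain ⟨_, ⟨V, hV, rfl⟩, hyV, eV⟩ :=
    Y.isBasis_affineOpens.exists_subset_of_mem_open (show y ∈ sY ⁻¹ᵁ W from (hs ▸ hxW : sY y ∈ W)) (sY ⁻¹ᵁ W).isOpen
  letI := (sX.appLE W U eU).hom.toAlgebra
  letI := (sY.appLE W V eV).hom.toAlgebra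
  haveI : Algebra.FinitePresentation Γ(S, W) Γ(X, U) :=
    LocallyOfFinitePresentation.finitePresentation_appLE sX hW hU eU
  haveI : Algebra.FinitePresentation Γ(S, W) Γ(Y, V) :=
    LocallyOfFinitePresentation.finitePresentation_appLE sY hW hV eV
  letI := TopCat.Presheaf.algebra_section_stalk X.presheaf (⟨x, hxU⟩ : U)
  letI := TopCat.Presheaf.algebra_section_stalk Y.presheaf (⟨y, hyV⟩ : V)
  haveI := hU.isLocalization_stalk ⟨x, hxU⟩
  haveI := hV.isLocalization_stalk ⟨y, hyV⟩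
  set q := (hU.primeIdealOf ⟨x, hxU⟩).asIdeal
  set p := (hV.primeIdealOf ⟨y, hyV⟩).asIdeal
  let aX := IsLocalization.algEquiv q.primeCompl (Localization.AtPrime q) (X.presheaf.stalk x)
  let aY := IsLocalization.algEquiv p.primeCompl (Localization.AtPrime p) (Y.presheaf.stalk y)
  have hcomm : ∀ r : Γ(S, W), e.hom (X.presheaf.germ U x hxU (sX.appLE W U eU r)) =
      Y.presheaf.germ V y hyV (sY.appLE W V eV r) := fun r => by
    have hx' : sX.appLE W U eU ≫ X.presheaf.germ U x hxU = S.presheaf.germ W (sX x) hxW ≫ sX.stalkMap x := by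
      rw [Scheme.Hom.germ_stalkMap, Scheme.Hom.appLE, Category.assoc, X.presheaf.germ_res]
    have hy' : sY.appLE W V eV ≫ Y.presheaf.germ V y hyV = S.presheaf.germ W (sY y) (hs ▸ hxW) ≫ sY.stalkMap y := by
      rw [Scheme.Hom.germ_stalkMap, Scheme.Hom.appLE, Category.assoc, Y.presheaf.germ_res]
    change (sX.appLE W U eU ≫ X.presheaf.germ U x hxU ≫ e.hom) r = (sY.appLE W V eV ≫ Y.presheaf.germ V y hyV) r
    rw [reassoc_of% hx', hy', he, reassoc_of% (germ_eqToHom hs W hxW)]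
  let e' : Localization.AtPrime q ≃ₐ[Γ(S, W)] Localization.AtPrime p :=
    AlgEquiv.ofRingEquiv (f := (aX.toRingEquiv.trans e.commRingCatIsoToRingEquiv).trans aY.symm.toRingEquiv) (fun r => by
      rw [IsScalarTower.algebraMap_apply Γ(S, W) Γ(X, U) (Localization.AtPrime q),
        IsScalarTower.algebraMap_apply Γ(S, W) Γ(Y, V) (Localization.AtPrime p)]
      change aY.symm (e.hom (aX (algebraMap Γ(X, U) _ (algebraMap Γ(S, W) Γ(X, U) r)))) = _
      rw [AlgEquiv.commutes]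
      exact (congrArg aY.symm (hcomm r)).trans (aY.symm.commutes _))
  obtain ⟨g, g', hg, -, ⟨φ⟩⟩ := exists_iso (R := Γ(S, W)) (S := Γ(X, U)) (T := Γ(Y, V)) q p e'
  haveI := hU.isLocalization_basicOpen g
  haveI := hV.isLocalization_basicOpen g'
  let bX := IsLocalization.algEquiv (Submonoid.powers g) (Localization.Away g) Γ(X, X.basicOpen g)
  let bY := IsLocalization.algEquiv (Submonoid.powers g') (Localization.Away g') Γ(Y, Y.basicOpen g')
  let ψ : Γ(X, X.basicOpen g) ≅ Γ(Y, Y.basicOpen g') :=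
    ((bX.symm.toRingEquiv.trans φ.toRingEquiv).trans bY.toRingEquiv).toCommRingCatIso
  have hψ : sX.appLE W (X.basicOpen g) ((X.basicOpen_le g).trans eU) ≫ ψ.hom =
      sY.appLE W (Y.basicOpen g') ((Y.basicOpen_le g').trans eV) := by
    ext r
    rw [← Scheme.Hom.appLE_map sX eU (homOfLE (X.basicOpen_le g)).op,
      ← Scheme.Hom.appLE_map sY eV (homOfLE (Y.basicOpen_le g')).op]
    change bY (φ (bX.symm (algebraMap Γ(X, U) Γ(X, X.basicOpen g) (algebraMap Γ(S, W) Γ(X, U) r)))) =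
      algebraMap Γ(Y, V) Γ(Y, Y.basicOpen g') (algebraMap Γ(S, W) Γ(Y, V) r)
    rw [AlgEquiv.commutes, ← IsScalarTower.algebraMap_apply, AlgEquiv.commutes,
      IsScalarTower.algebraMap_apply Γ(S, W) Γ(Y, V) (Localization.Away g'), AlgEquiv.commutes]
  haveI : Nonempty (Spec Γ(X, X.basicOpen g)) := by
    have hxg : x ∈ X.basicOpen g := (X.mem_basicOpen g x hxU).mpr
      ((IsLocalization.AtPrime.isUnit_to_map_iff (X.presheaf.stalk x) q g).mpr hg)
    exact ⟨(hU.basicOpen g).isoSpec.hom ⟨x, hxg⟩⟩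
  refine birationalOver_of_iso sX sY (hU.basicOpen g).fromSpec (Spec.map ψ.inv ≫ (hV.basicOpen g').fromSpec) ?_
  rw [Category.assoc, ← IsAffineOpen.SpecMap_appLE_fromSpec sX hW (hU.basicOpen g) ((X.basicOpen_le g).trans eU),
    ← IsAffineOpen.SpecMap_appLE_fromSpec sY hW (hV.basicOpen g') ((Y.basicOpen_le g').trans eV),
    ← Spec.map_comp_assoc, ← hψ, Category.assoc, Iso.hom_inv_id, Category.comp_id]

theorem birational_iff {S X Y : Scheme.{u}}
    [IrreducibleSpace ↥X] [IrreducibleSpace ↥Y] (sX : X ⟶ S) (sY : Y ⟶ S)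
    [LocallyOfFinitePresentation sX] [LocallyOfFinitePresentation sY] :
    Scheme.BirationalOver sX sY ↔
      ∃ (hs : sX.base (genericPoint ↥X) = sY.base (genericPoint ↥Y))
        (e : X.presheaf.stalk (genericPoint ↥X) ≅ Y.presheaf.stalk (genericPoint ↥Y)),
        sX.stalkMap (genericPoint ↥X) ≫ e.hom =
          eqToHom (congrArg S.presheaf.stalk hs) ≫ sY.stalkMap (genericPoint ↥Y) := by
  refine ⟨?_, fun ⟨hs, e, he⟩ => birational_of_stalk sX sY _ _ hs e he⟩
  rintro ⟨φ, hφ⟩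
  haveI : Nonempty φ.source.toScheme := by
    obtain ⟨p, hp⟩ := φ.dense_source.nonempty
    exact ⟨⟨p, hp⟩⟩
  haveI : IrreducibleSpace φ.source.toScheme := φ.source.ι.isOpenEmbedding.irreducibleSpace
  exact stalk_eq sX sY φ.source.ι (φ.iso.hom ≫ φ.target.ι) (by rw [Category.assoc]; exact hφ)
    (genericPoint φ.source.toScheme) _ _ (genericPoint_eq_of_isOpenImmersion _)
    (genericPoint_eq_of_isOpenImmersion _)

end Groth.Agent.Misc9.BiratStalk
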