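import Mathlib.AlgebraicGeometry.Properties
import Mathlib.Topology.LocallyFinite
import Mathlib.Topology.NoetherianSpace

/-! Irreducible components and lifting of generalizations. -/

set_option autoImplicit false
universe u
namespace Groth.Agent.Misc9.CompLift
open TopologicalSpace

variable {X Y : Type u} [TopologicalSpace X] [TopologicalSpace Y] [QuasiSober X] [T0Space Y] [QuasiSober Y]
variable {f : X → Y}

theorem eq_of_specializes_generic {Z : Set Y} (hZ : Z ∈ irreducibleComponents Y) {η y : Y}
    (hη : IsGenericPoint η Z) (h : y ⤳ η) : y = η := by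
  have h1 : Z ⊆ closure {y} := by
    rw [← hη.def]
    exact closure_minimal (Set.singleton_subset_iff.2 (specializes_iff_mem_closure.1 h)) isClosed_closure
  have h2 := hZ.2 isIrreducible_singleton.closure h1
  exact (h.antisymm (hη.specializes (h2 (subset_closure rfl)))).eq

/-- the generic point of a component maps to the generic point of a component -/
theorem exists_component (hc : Continuous f) (hf : GeneralizingMap f) {T : Set X} (hT : T ∈ irreducibleComponents X)
    {z : X} (hz : IsGenericPoint z T) (W : Set Y) (hW : W ∈ irreducibleComponents Y) (hzW : f z ∈ W) :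
    IsGenericPoint (f z) W := by
  obtain ⟨η, hη⟩ := QuasiSober.sober hW.1 (isClosed_of_mem_irreducibleComponents W hW)
  obtain ⟨z', hz', he⟩ := hf (hη.specializes hzW)
  have h1 : T ⊆ closure {z'} := by
    rw [← hz.def]
    exact closure_minimal (Set.singleton_subset_iff.2 (specializes_iff_mem_closure.1 hz')) isClosed_closure
  have h2 : z ⤳ z' := hz.specializes (hT.2 isIrreducible_singleton.closure h1 (subset_closure rfl))
  have h3 := eq_of_specializes_generic hW hη (he ▸ h2.map hc)
  rwa [h3]

theorem finite_meeting (hc : Continuous f) (hf : GeneralizingMap f) (U : Set Y) (V : Set X) (hV : IsOpen V)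
    (hVU : ∀ x ∈ V, f x ∈ U) (hY : {W ∈ irreducibleComponents Y | (W ∩ U).Nonempty}.Finite)
    (hfin : ∀ W ∈ irreducibleComponents Y, (W ∩ U).Nonempty → ∀ η, IsGenericPoint η W →
      ∀ S : Set X, S ⊆ {x | x ∈ V ∧ f x = η} → (∀ x ∈ S, ∀ x', x' ⤳ x → f x' = η → x' ⤳ x ∧ x ⤳ x') → S.Finite) :
    {T ∈ irreducibleComponents X | (T ∩ V).Nonempty}.Finite := by
  classical
  let gen : Set X → Set X := fun T => closure T
  let S : Set X := {z | z ∈ V ∧ closure {z} ∈ irreducibleComponents X}
  suffices hS : S.Finite by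
    refine (hS.image fun z => closure ({z} : Set X)).subset fun T hT => ?_
    obtain ⟨z, hz⟩ := QuasiSober.sober hT.1.1 (isClosed_of_mem_irreducibleComponents T hT.1)
    obtain ⟨x, hxT, hxV⟩ := hT.2
    exact ⟨z, ⟨(hz.specializes hxT).mem_open hV hxV, by rw [hz.def]; exact hT.1⟩, hz.def⟩
  have hsub : S ⊆ ⋃ W ∈ {W ∈ irreducibleComponents Y | (W ∩ U).Nonempty}, {z | z ∈ S ∧ f z ∈ W} := by
    intro z hz
    exact Set.mem_iUnion₂.2 ⟨irreducibleComponent (f z), ⟨irreducibleComponent_mem_irreducibleComponents _,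
      f z, mem_irreducibleComponent, hVU z hz.1⟩, hz, mem_irreducibleComponent⟩
  refine (hY.biUnion fun W hW => ?_).subset hsub
  obtain ⟨η, hη⟩ := QuasiSober.sober hW.1.1 (isClosed_of_mem_irreducibleComponents W hW.1)
  refine hfin W hW.1 hW.2 η hη _ (fun z hz => ⟨hz.1.1, ?_⟩) fun z hz x' hx' _ => ⟨hx', ?_⟩
  · exact (exists_component hc hf hz.1.2 isGenericPoint_closure W hW.1 hz.2).eq hη
  · have h1 : closure ({z} : Set X) ⊆ closure {x'} :=
      closure_minimal (Set.singleton_subset_iff.2 (specializes_iff_mem_closure.1 hx')) isClosed_closure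
    exact specializes_iff_mem_closure.2 (hz.1.2.2 isIrreducible_singleton.closure h1 (subset_closure rfl))

theorem preimage_component (hc : Continuous f) (hf : GeneralizingMap f) (W : Set Y) (hW : W ∈ irreducibleComponents Y) :
    f ⁻¹' W = ⋃₀ {Z : Set X | Z ∈ irreducibleComponents X ∧ f '' Z ⊆ W} := by
  refine le_antisymm (fun x hx => ?_) (fun x ⟨Z, hZ, hxZ⟩ => hZ.2 ⟨x, hxZ, rfl⟩)
  obtain ⟨η, hη⟩ := QuasiSober.sober hW.1 (isClosed_of_mem_irreducibleComponents W hW)
  obtain ⟨x', hx', he⟩ := hf (hη.specializes hx)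
  obtain ⟨z, hz⟩ := QuasiSober.sober (isIrreducible_irreducibleComponent (x := x')) isClosed_irreducibleComponent
  have h1 : f z = η := eq_of_specializes_generic hW hη (he ▸ (hz.specializes mem_irreducibleComponent).map hc)
  refine ⟨irreducibleComponent x', ⟨irreducibleComponent_mem_irreducibleComponents x', ?_⟩,
    hx'.mem_closed isClosed_irreducibleComponent mem_irreducibleComponent⟩
  rintro _ ⟨w, hw, rfl⟩
  exact ((hz.specializes hw).map hc).mem_closed (isClosed_of_mem_irreducibleComponents W hW) (h1 ▸ hη.mem)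

end Groth.Agent.Misc9.CompLift
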