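import Groth.Prelude.Def_W4c3severiratdpLat
import Mathlib.Data.List.OfFn
import Mathlib.Data.List.Nodup
import Mathlib.Algebra.Order.Chebyshev
import Mathlib.Tactic

open W4c3severiratdp

namespace Groth.Agent.Misc9.ConicCount

def rng : List ℤ := (List.range 23).map (fun k : ℕ => (k : ℤ) - 11)

lemma mem_rng {b : ℤ} : b ∈ rng ↔ -11 ≤ b ∧ b ≤ 11 := by
  simp only [rng, List.mem_map, List.mem_range]
  constructor
  · rintro ⟨k, hk, rfl⟩; omega
  · rintro ⟨h1, h2⟩; exact ⟨(b + 11).toNat, by omega, by omega⟩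

lemma rng_nodup : rng.Nodup := by decide

/-- solutions of `∑ b = S`, `∑ b² = T` of length `n`, non-increasing and bounded by `M` if `srt` -/
def sols (srt : Bool) : ℕ → ℤ → ℤ → ℤ → List (List ℤ)
  | 0, _, S, T => if S = 0 ∧ T = 0 then [[]] else []
  | n + 1, M, S, T =>
    if S * S ≤ (n + 1 : ℕ) * T then
      (rng.filter (fun b => decide (b ≤ M) && decide (b * b ≤ T))).flatMap
        (fun b => (sols srt n (if srt then b else M) (S - b) (T - b * b)).map (List.cons b))
    else []

lemma sols_nodup (srt : Bool) : ∀ n M S T, (sols srt n M S T).Nodup := by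
  intro n
  induction n with
  | zero => intro M S T; simp only [sols]; split_ifs <;> simp
  | succ n ih =>
    intro M S T
    by_cases h : S * S ≤ (n + 1 : ℕ) * T
    · rw [sols, if_pos h, List.nodup_flatMap]
      refine ⟨fun b _ => (ih _ _ _).map (List.cons_injective), ?_⟩
      refine (rng_nodup.filter _).imp ?_
      intro a b hab l hl1 hl2
      obtain ⟨x, _, rfl⟩ := List.mem_map.1 hl1
      obtain ⟨y, _, hy⟩ := List.mem_map.1 hl2
      exact hab (List.cons.inj hy).1.symm
    · rw [sols, if_neg h]; exact List.nodup_nil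

lemma sumsq_ofFn (n : ℕ) (f : Fin n → ℤ) :
    (∑ i, f i) ^ 2 ≤ n * ∑ i, f i ^ 2 := by
  simpa using sq_sum_le_card_mul_sum_sq (s := Finset.univ) (f := f)

lemma mem_sols (srt : Bool) : ∀ n (f : Fin n → ℤ) (M S T : ℤ), ∑ i, f i = S → ∑ i, f i ^ 2 = T →
    T ≤ 121 → (∀ i, f i ≤ M) → (srt = true → Antitone f) → List.ofFn f ∈ sols srt n M S T := by
  intro n
  induction n with
  | zero => intro f M S T hS hT _ _ _; simp_all [sols]
  | succ n ih =>
    intro f M S T hS hT hT' hM hA
    have hcs := sumsq_ofFn (n + 1) f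
    rw [hS, hT] at hcs
    have h0 : f 0 ^ 2 ≤ T := by
      rw [← hT]; exact Finset.single_le_sum (fun i _ => sq_nonneg (f i)) (Finset.mem_univ 0)
    simp only [sols]
    rw [if_pos (by rw [← pow_two]; exact hcs)]
    rw [List.mem_flatMap]
    refine ⟨f 0, ?_, ?_⟩
    · rw [List.mem_filter, mem_rng]
      refine ⟨⟨by nlinarith, by nlinarith⟩, ?_⟩
      simp only [Bool.and_eq_true, decide_eq_true_eq]
      exact ⟨hM 0, by nlinarith⟩
    · rw [List.mem_map]
      refine ⟨List.ofFn (fun i : Fin n => f i.succ), ?_, by rw [← List.ofFn_succ]⟩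
      rw [Fin.sum_univ_succ] at hS hT
      apply ih
      · linarith
      · linarith
      · nlinarith
      · intro i
        cases srt
        · simpa using hM i.succ
        · simpa using hA rfl (Fin.zero_le i.succ)
      · intro hs i j hij
        exact hA hs (Fin.succ_le_succ_iff.2 hij)

lemma sols_sound (srt : Bool) : ∀ n M S T l, l ∈ sols srt n M S T →
    l.length = n ∧ l.sum = S ∧ (l.map (· ^ 2)).sum = T := by
  intro n
  induction n with
  | zero =>
    intro M S T l hl
    simp only [sols] at hl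
    split_ifs at hl with h
    · simp only [List.mem_singleton] at hl; subst hl; exact ⟨rfl, by simp [h.1], by simp [h.2]⟩
    · simp at hl
  | succ n ih =>
    intro M S T l hl
    by_cases h : S * S ≤ (n + 1 : ℕ) * T
    · rw [sols, if_pos h] at hl
      obtain ⟨b, _, hb⟩ := List.mem_flatMap.1 hl
      obtain ⟨l', hl', rfl⟩ := List.mem_map.1 hb
      obtain ⟨h1, h2, h3⟩ := ih _ _ _ _ hl'
      refine ⟨by simp [h1], ?_, ?_⟩ <;> simp only [List.map_cons, List.sum_cons] <;> linarith
    · rw [sols, if_neg h] at hl; simp at hl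

/-- all candidate classes `(a; b)` -/
def table (srt : Bool) (δ : ℕ) : List (List ℤ) :=
  ((List.range 11).map (fun k : ℕ => (k : ℤ) + 1)).flatMap
    (fun a => (sols srt δ 11 (3 * a - 2) (a * a)).map (List.cons a))

lemma table_nodup (srt : Bool) (δ : ℕ) : (table srt δ).Nodup := by
  unfold table
  rw [List.nodup_flatMap]
  refine ⟨fun a _ => (sols_nodup srt _ _ _ _).map List.cons_injective, ?_⟩
  have : ((List.range 11).map (fun k : ℕ => (k : ℤ) + 1)).Nodup := by decide
  refine this.imp ?_
  intro a b hab l hl1 hl2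
  obtain ⟨x, _, rfl⟩ := List.mem_map.1 hl1
  obtain ⟨y, _, hy⟩ := List.mem_map.1 hl2
  exact hab (List.cons.inj hy).1.symm

lemma conic_iff {δ : ℕ} (v : DP δ) :
    IsConic v ↔ ∑ i : Fin δ, v i.succ = 3 * v 0 - 2 ∧ ∑ i : Fin δ, v i.succ ^ 2 = v 0 * v 0 := by
  unfold IsConic form
  simp only [canon, Fin.cases_zero, Fin.cases_succ, neg_one_mul, Finset.sum_neg_distrib, ← pow_two]
  constructor <;> rintro ⟨h1, h2⟩ <;> constructor <;> linarith

lemma mem_table (srt : Bool) {δ : ℕ} (hδ : δ ≤ 8) (v : DP δ) (h : IsConic v)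
    (hA : srt = true → Antitone (fun i : Fin δ => v i.succ)) : List.ofFn v ∈ table srt δ := by
  obtain ⟨h1, h2⟩ := (conic_iff v).1 h
  have hcs := sumsq_ofFn δ (fun i => v i.succ)
  rw [h1, h2] at hcs
  have hδ' : (δ : ℤ) ≤ 8 := by exact_mod_cast hδ
  have hcs' : (3 * v 0 - 2) ^ 2 ≤ 8 * (v 0 * v 0) := by
    nlinarith [mul_self_nonneg (v 0)]
  have hlo : 1 ≤ v 0 := by nlinarith
  have hhi : v 0 ≤ 11 := by nlinarith
  unfold table
  rw [List.mem_flatMap]
  refine ⟨v 0, ?_, ?_⟩
  · rw [List.mem_map]; exact ⟨(v 0 - 1).toNat, by simp; omega, by omega⟩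
  · rw [List.mem_map]
    refine ⟨List.ofFn (fun i : Fin δ => v i.succ), ?_, by rw [← List.ofFn_succ]⟩
    refine mem_sols srt δ _ _ _ _ h1 h2 (by nlinarith) (fun i => ?_) hA
    have : v i.succ ^ 2 ≤ v 0 * v 0 := by
      rw [← h2]
      exact Finset.single_le_sum (f := fun i : Fin δ => v i.succ ^ 2) (fun i _ => sq_nonneg _)
        (Finset.mem_univ i)
    nlinarith

lemma conic_of_mem_table (srt : Bool) {δ : ℕ} (v : DP δ) (h : List.ofFn v ∈ table srt δ) :
    IsConic v := by
  unfold table at h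
  obtain ⟨a, _, ha⟩ := List.mem_flatMap.1 h
  obtain ⟨l, hl, hl'⟩ := List.mem_map.1 ha
  rw [List.ofFn_succ] at hl'
  obtain ⟨rfl, rfl⟩ := List.cons.inj hl'
  obtain ⟨-, h2, h3⟩ := sols_sound _ _ _ _ _ _ hl
  rw [List.map_ofFn, List.sum_ofFn] at h3
  rw [List.sum_ofFn] at h2
  exact (conic_iff v).2 ⟨h2, h3⟩

theorem ncard_conic (δ N : ℕ) (hδ : δ ≤ 8) (hN : (table false δ).length = N)
    (hlen : (table false δ).all (fun l => l.length == δ + 1) = true) :
    {v : DP δ | IsConic v}.ncard = N := by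
  have himg : (List.ofFn : DP δ → List ℤ) '' {v | IsConic v} = ↑(table false δ).toFinset := by
    ext l
    simp only [Set.mem_image, Set.mem_setOf_eq, List.coe_toFinset]
    constructor
    · rintro ⟨v, hv, rfl⟩; exact mem_table false hδ v hv (by simp)
    · intro hl
      have hl' : l.length = δ + 1 := by simpa using List.all_eq_true.1 hlen l hl
      refine ⟨fun i => l[i.1]'(by omega), ?_, ?_⟩
      · have : List.ofFn (fun i : Fin (δ + 1) => l[i.1]'(by omega)) = l := by
          apply List.ext_getElem <;> simp [hl', -List.ofFn_succ, List.getElem_ofFn]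
        exact conic_of_mem_table false _ (by rw [this]; exact hl)
      · apply List.ext_getElem <;> simp [hl', -List.ofFn_succ, List.getElem_ofFn]
  have := Set.ncard_image_of_injective {v : DP δ | IsConic v} List.ofFn_injective
  rw [himg, Set.ncard_coe_finset, List.toFinset_card_of_nodup (table_nodup false δ), hN] at this
  exact this.symm

end Groth.Agent.Misc9.ConicCount
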