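import Groth.Agent.Flat.FibreScheme
import Mathlib.AlgebraicGeometry.Fiber
import Mathlib.AlgebraicGeometry.Morphisms.Flat
import Mathlib.RingTheory.DiscreteValuationRing.Basic

set_option autoImplicit false
set_option backward.isDefEq.respectTransparency false
universe u
namespace Groth.Agent.Misc9.DVRConn
open AlgebraicGeometry CategoryTheory Limits PrimeSpectrum
open scoped TensorProduct

theorem mem_map_of_sq_mem {R A : Type u} [CommRing R] [IsLocalRing R] [CommRing A] [Algebra R A]
    [_root_.IsReduced ((IsLocalRing.maximalIdeal R).Fiber A)] (a : A)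
    (h : a * a ∈ (IsLocalRing.maximalIdeal R).map (algebraMap R A)) :
    a ∈ (IsLocalRing.maximalIdeal R).map (algebraMap R A) := by
  set m := IsLocalRing.maximalIdeal R
  have hz : ∀ b : A, b ∈ m.map (algebraMap R A) →
      (Algebra.TensorProduct.includeRight : A →ₐ[R] m.Fiber A) b = 0 := by
    intro b hb
    have hle : m.map (algebraMap R A) ≤
        RingHom.ker (Algebra.TensorProduct.includeRight : A →ₐ[R] m.Fiber A).toRingHom := by
      rw [Ideal.map_le_iff_le_comap]
      intro r hr
      change (Algebra.TensorProduct.includeRight : A →ₐ[R] m.Fiber A) (algebraMap R A r) = 0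
      rw [AlgHom.commutes, IsScalarTower.algebraMap_apply R m.ResidueField (m.Fiber A),
        Ideal.algebraMap_residueField_eq_zero.mpr hr, map_zero]
    exact hle hb
  have h0 : ((1 : m.ResidueField) ⊗ₜ[R] a : m.Fiber A) = 0 :=
    IsNilpotent.eq_zero ⟨2, by
      have := hz _ h
      rw [map_mul] at this
      rw [pow_two]
      simpa using this⟩
  let mk : A →ₗ[R] A ⧸ m.map (algebraMap R A) := (Ideal.Quotient.mkₐ R _).toLinearMap
  obtain ⟨t, ht, hta⟩ := Groth.Agent.Flat.FibreScheme.exists_smul_eq_zero_of_one_tmul m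
    (fun c hc z => by
      obtain ⟨z, rfl⟩ := Ideal.Quotient.mk_surjective z
      rw [Algebra.smul_def, IsScalarTower.algebraMap_apply R A (A ⧸ _), Ideal.Quotient.algebraMap_eq,
        Ideal.Quotient.eq_zero_iff_mem.2 (Ideal.mem_map_of_mem _ hc), zero_mul])
    (mk a) (by
      have := congrArg (LinearMap.lTensor m.ResidueField mk) h0
      simpa using this)
  have hu : IsUnit t := IsLocalRing.notMem_maximalIdeal.mp ht
  exact Ideal.Quotient.eq_zero_iff_mem.1 (hu.smul_eq_zero.mp hta)

theorem exists_idempotent {A : Type u} [CommRing A] (p : A) (hp : ∀ x, p * x = 0 → x = 0)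
    (hsq : ∀ a, p ∣ a * a → p ∣ a) :
    ∀ (n : ℕ) (a : A), a * a = p ^ n * a → ∃ e : A, e * e = e ∧ a = p ^ n * e
  | 0, a, h => ⟨a, by simpa using h, by simp⟩
  | n + 1, a, h => by
    obtain ⟨b, rfl⟩ := hsq a ⟨p ^ n * a, by rw [h]; ring⟩
    have h2 : b * b = p ^ n * b := by
      refine sub_eq_zero.mp (hp _ (hp _ ?_))
      linear_combination h
    obtain ⟨e, he, rfl⟩ := exists_idempotent p hp hsq n b h2
    exact ⟨e, he, by ring⟩

/-- a clopen decomposition of `D(p)` extends to a clopen decomposition of `Spec A` -/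
theorem exists_isClopen {A : Type u} [CommRing A] (p : A) (hp : ∀ x, p * x = 0 → x = 0)
    (hsq : ∀ a, p ∣ a * a → p ∣ a) (W₁ W₂ : Set (PrimeSpectrum A)) (h₁ : IsOpen W₁) (h₂ : IsOpen W₂)
    (hd : Disjoint W₁ W₂) (hu : W₁ ∪ W₂ = basicOpen p) :
    ∃ s : Set (PrimeSpectrum A), IsClopen s ∧ W₁ ⊆ s ∧ W₂ ⊆ sᶜ := by
  let L := Localization.Away p
  let c := PrimeSpectrum.comap (algebraMap A L)
  have hr : Set.range c = (basicOpen p : Set _) := localization_away_comap_range L p
  have hc : IsClopen (c ⁻¹' W₁) := by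
    refine ⟨⟨?_⟩, h₁.preimage (PrimeSpectrum.continuous_comap _)⟩
    have : (c ⁻¹' W₁)ᶜ = c ⁻¹' W₂ := by
      ext x
      have hx : c x ∈ W₁ ∪ W₂ := by rw [hu, ← hr]; exact Set.mem_range_self x
      exact ⟨fun h => hx.resolve_left h, fun h h' => Set.disjoint_left.mp hd h' h⟩
    rw [this]
    exact h₂.preimage (PrimeSpectrum.continuous_comap _)
  obtain ⟨e₀, he₀, hse₀⟩ := PrimeSpectrum.isClopen_iff.mp hc
  obtain ⟨a, ⟨_, n, rfl⟩, rfl⟩ := IsLocalization.exists_mk'_eq (Submonoid.powers p) e₀
  set u : Submonoid.powers p := ⟨p ^ n, n, rfl⟩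
  have hinj : Function.Injective (algebraMap A L) := by
    refine IsLocalization.injective L (M := Submonoid.powers p) ?_
    rintro _ ⟨k, rfl⟩
    refine mem_nonZeroDivisors_iff_right.mpr fun x (hx : x * p ^ k = 0) => ?_
    induction k generalizing x with
    | zero => simpa using hx
    | succ k ih => exact hp _ (by rw [mul_comm]; exact ih _ (by rw [← hx, pow_succ]; ring) ) |> id
  have ha : a * a = p ^ n * a := by
    apply hinj
    have h1 := IsLocalization.mk'_spec L a u
    rw [map_mul, map_mul, ← h1]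
    have : IsLocalization.mk' L a u * IsLocalization.mk' L a u = IsLocalization.mk' L a u := he₀
    calc _ = IsLocalization.mk' L a u * IsLocalization.mk' L a u * (algebraMap A L (u : A) * algebraMap A L (u : A)) := by ring
      _ = IsLocalization.mk' L a u * (algebraMap A L (u : A) * algebraMap A L (u : A)) := by rw [this]
      _ = _ := by ring
  obtain ⟨e, he, rfl⟩ := exists_idempotent p hp hsq n a ha
  have hmk : IsLocalization.mk' L (p ^ n * e) u = algebraMap A L e := by
    rw [IsLocalization.mk'_eq_iff_eq_mul, ← map_mul, mul_comm]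
  rw [hmk] at hse₀
  refine ⟨basicOpen e, PrimeSpectrum.isClopen_iff.mpr ⟨e, he, rfl⟩, fun x hx => ?_, fun x hx => ?_⟩
  · obtain ⟨y, rfl⟩ : x ∈ Set.range c := by rw [hr, ← hu]; exact Or.inl hx
    have : y ∈ c ⁻¹' W₁ := hx
    rw [hse₀] at this
    exact this
  · obtain ⟨y, rfl⟩ : x ∈ Set.range c := by rw [hr, ← hu]; exact Or.inr hx
    intro h
    have : y ∈ c ⁻¹' W₁ := by rw [hse₀]; exact h
    exact Set.disjoint_left.mp hd this hx

theorem connected {R : Type u} [CommRing R] [IsDomain R] [IsDiscreteValuationRing R] {X : Scheme.{u}}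
    (f : X ⟶ Spec (CommRingCat.of R)) [Flat f] [ConnectedSpace ↑X]
    (hred : IsReduced (f.fiber (IsLocalRing.closedPoint R))) :
    ConnectedSpace ↑(f.fiber (⟨⊥, Ideal.isPrime_bot⟩ : PrimeSpectrum R)) := by
  obtain ⟨π, hπ⟩ := IsDiscreteValuationRing.exists_irreducible R
  set η : PrimeSpectrum R := ⟨⊥, Ideal.isPrime_bot⟩
  have hgen : ({η} : Set (PrimeSpectrum R)) = basicOpen π := by
    ext q
    simp only [Set.mem_singleton_iff, SetLike.mem_coe, mem_basicOpen]
    constructor
    · rintro rfl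
      exact fun h => hπ.ne_zero (by simpa [η] using h)
    · intro h
      apply PrimeSpectrum.ext
      by_contra hne
      have hmax : q.asIdeal.IsMaximal := IsPrime.to_maximal_ideal hne
      rw [IsLocalRing.eq_maximalIdeal hmax, hπ.maximalIdeal_eq] at h
      exact h (Ideal.mem_span_singleton_self _)
  -- local data
  have key : ∀ x : X, ∃ (A : CommRingCat.{u}) (j : Spec A ⟶ X) (p : A), IsOpenImmersion j ∧
      x ∈ Set.range j ∧ (∀ z, p * z = 0 → z = 0) ∧ (∀ a : A, p ∣ a * a → p ∣ a) ∧
      j ⁻¹' (f ⁻¹' {η}) = (basicOpen p : Set (PrimeSpectrum A)) := by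
    intro x
    obtain ⟨U, hU, hxU, -⟩ := exists_isAffineOpen_mem_and_subset (X := X) (x := x) (U := ⊤) trivial
    obtain ⟨φ, hφ⟩ := Spec.map_surjective (hU.fromSpec ≫ f)
    letI : Algebra R Γ(X, U) := φ.hom.toAlgebra
    have hfl : Module.Flat R Γ(X, U) := by
      have : Flat (Spec.map φ) := by rw [hφ]; infer_instance
      rwa [HasRingHomProperty.Spec_iff (P := @Flat)] at this
    refine ⟨Γ(X, U), hU.fromSpec, algebraMap R Γ(X, U) π, inferInstance,
      by rw [hU.range_fromSpec]; exact hxU, fun z hz => ?_, fun a ha => ?_, ?_⟩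
    · refine (IsSMulRegular.of_flat (IsRegular.of_ne_zero hπ.ne_zero).left.isSMulRegular).right_eq_zero_of_smul ?_
      rwa [smul_eq_mul]
    · haveI : IsReduced (f.fiber (IsLocalRing.closedPoint R)) := hred
      let g : Spec Γ(X, U) ⟶ Spec (CommRingCat.of R) := Spec.map (CommRingCat.ofHom (algebraMap R Γ(X, U)))
      have hg : g = hU.fromSpec ≫ f := hφ
      let i : g.fiber (IsLocalRing.closedPoint R) ⟶ f.fiber (IsLocalRing.closedPoint R) :=
        pullback.map _ _ _ _ hU.fromSpec (𝟙 _) (𝟙 _) (by rw [Category.comp_id, hg]) (by simp)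
      haveI : IsReduced (g.fiber (IsLocalRing.closedPoint R)) := isReduced_of_isOpenImmersion i
      haveI : IsReduced (Spec (CommRingCat.of ((IsLocalRing.maximalIdeal R).Fiber Γ(X, U)))) :=
        let e := (Spec.fiberToSpecResidueFieldIso R Γ(X, U) (IsLocalRing.closedPoint R)).inv.left
        @isReduced_of_isOpenImmersion _ _ e (by infer_instance) (‹IsReduced (g.fiber _)›)
      haveI := (affine_isReduced_iff (CommRingCat.of ((IsLocalRing.maximalIdeal R).Fiber Γ(X, U)))).mp inferInstance
      have hm : (IsLocalRing.maximalIdeal R).map (algebraMap R Γ(X, U)) =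
          Ideal.span {algebraMap R Γ(X, U) π} := by
        rw [hπ.maximalIdeal_eq, Ideal.map_span, Set.image_singleton]
      have := mem_map_of_sq_mem (R := R) a (by rw [hm, Ideal.mem_span_singleton]; exact ha)
      rwa [hm, Ideal.mem_span_singleton] at this
    · rw [hgen]
      have : ∀ y, f (hU.fromSpec y) = PrimeSpectrum.comap φ.hom y := fun y => by
        rw [← Scheme.Hom.comp_apply, ← hφ]; rfl
      ext y
      simp only [Set.mem_preimage, SetLike.mem_coe, mem_basicOpen, this]
      rfl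
  set G := f ⁻¹' ({η} : Set (PrimeSpectrum R))
  have hGo : IsOpen G := by
    rw [show G = f ⁻¹' (basicOpen π : Set (PrimeSpectrum R)) by simp only [G]; rw [hgen]]
    exact (basicOpen π).isOpen.preimage f.continuous
  have hdense : Dense G := by
    intro x
    obtain ⟨A, j, p, hj, ⟨y, rfl⟩, hp, -, hG⟩ := key x
    have hd : Dense (basicOpen p : Set (PrimeSpectrum A)) := by
      rw [PrimeSpectrum.isTopologicalBasis_basic_opens.dense_iff]
      rintro _ ⟨a, rfl⟩ hne
      have hne' : ¬ IsNilpotent a := fun h => by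
        obtain ⟨z, hz⟩ := hne
        exact (mem_basicOpen a z).mp hz (z.isPrime.mem_of_pow_mem _ (h.choose_spec ▸ Ideal.zero_mem _))
      suffices h : ¬ IsNilpotent (a * p) by
        rw [← TopologicalSpace.Opens.coe_inf, ← basicOpen_mul,
          Set.nonempty_iff_ne_empty]
        exact fun hb => h ((PrimeSpectrum.basicOpen_eq_bot_iff _).mp (TopologicalSpace.Opens.coe_eq_empty.mp hb))
      rintro ⟨k, hk⟩
      apply hne'
      rw [mul_pow] at hk
      refine ⟨k, ?_⟩
      have : ∀ (l : ℕ) (z : A), z * p ^ l = 0 → z = 0 := by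
        intro l
        induction l with
        | zero => intro z hz; simpa using hz
        | succ l ih => intro z hz; exact hp z (by rw [mul_comm]; exact ih _ (by rw [← hz, pow_succ]; ring))
      exact this k _ hk
    have := hd y
    have e := hj.base_open.isOpenMap.preimage_closure_eq_closure_preimage j.continuous G
    have h3 : y ∈ closure (j ⁻¹' G) := by simp only [G] at *; rw [hG]; exact this
    exact (e.symm ▸ h3 : y ∈ j ⁻¹' closure G)
  have hGc : _root_.IsConnected G := by
    refine ⟨hdense.nonempty, ?_⟩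
    rw [isPreconnected_iff_subset_of_disjoint]
    intro U₁ U₂ hU₁ hU₂ hcov hdis
    by_contra hne
    push Not at hne
    obtain ⟨x₁, hx₁, hx₁'⟩ := Set.not_subset.mp hne.1
    obtain ⟨x₂, hx₂, hx₂'⟩ := Set.not_subset.mp hne.2
    set V₁ := G ∩ U₁
    set V₂ := G ∩ U₂
    have hcl : closure V₁ ∩ closure V₂ = ∅ := by
      rw [Set.eq_empty_iff_forall_notMem]
      intro x hx
      obtain ⟨A, j, p, hj, ⟨y, rfl⟩, hp, hsq, hG⟩ := key x
      obtain ⟨s, hs, hs₁, hs₂⟩ := exists_isClopen p hp hsq (j ⁻¹' V₁) (j ⁻¹' V₂)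
        ((hGo.inter hU₁).preimage j.continuous) ((hGo.inter hU₂).preimage j.continuous)
        (Set.disjoint_left.mpr fun z h₁ h₂ => Set.notMem_empty (j z) (hdis ▸ ⟨h₁.1, h₁.2, h₂.2⟩))
        (by
          rw [← hG]; ext z
          exact ⟨fun h => h.elim (·.1) (·.1), fun h => (hcov h).imp (⟨h, ·⟩) (⟨h, ·⟩)⟩)
      have e := fun V : Set X => hj.base_open.isOpenMap.preimage_closure_eq_closure_preimage j.continuous V
      have h1 : y ∈ closure (j ⁻¹' V₁) := ((e V₁).subset hx.1 :)
      have h2 : y ∈ closure (j ⁻¹' V₂) := ((e V₂).subset hx.2 :)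
      exact (hs.compl.1.closure_subset_iff.mpr hs₂ h2) (hs.1.closure_subset_iff.mpr hs₁ h1)
    have hun : closure V₁ ∪ closure V₂ = Set.univ := by
      rw [← closure_union, ← Set.inter_union_distrib_left, Set.inter_eq_left.mpr hcov]
      exact hdense.closure_eq
    have hclopen : IsClopen (closure V₁) := by
      refine ⟨isClosed_closure, ?_⟩
      rw [show closure V₁ = (closure V₂)ᶜ from ?_]
      · exact isClosed_closure.isOpen_compl
      · exact IsCompl.eq_compl ⟨Set.disjoint_iff_inter_eq_empty.mpr hcl, codisjoint_iff.mpr hun⟩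
    have hmem₁ : x₁ ∈ V₂ := ⟨hx₁, (hcov hx₁).resolve_left hx₁'⟩
    have hmem₂ : x₂ ∈ V₁ := ⟨hx₂, (hcov hx₂).resolve_right hx₂'⟩
    rcases isClopen_iff.mp hclopen with h | h
    · exact Set.notMem_empty x₂ (h ▸ subset_closure hmem₂)
    · exact Set.notMem_empty x₁ (hcl ▸ ⟨h ▸ Set.mem_univ x₁, subset_closure hmem₁⟩)
  have h2 : ConnectedSpace G := isConnected_iff_connectedSpace.mp hGc
  exact (f.fiberHomeo η).symm.surjective.connectedSpace (f.fiberHomeo η).symm.continuous

end Groth.Agent.Misc9.DVRConn
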