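import Mathlib

/-!
# Noetherian rings of dimension at most one: localization at the minimal primes; normalization of
reduced rings inside the total ring of fractions
-/

namespace Misc9.DimOneReduced

section localRing

variable {A : Type*} [CommRing A] [IsLocalRing A] [IsNoetherianRing A] [Ring.KrullDimLE 1 A]

theorem exists_pow_mem_span {a : A} (ha : a ∈ IsLocalRing.maximalIdeal A) (J : Ideal A)
    (hJ : ∀ p ∈ minimalPrimes A, ¬ J ≤ p) : ∃ N, a ^ N ∈ J := by
  have : a ∈ J.radical := by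
    rw [Ideal.radical_eq_sInf, Ideal.mem_sInf]
    rintro q ⟨hJq, hq⟩
    rcases (Ring.krullDimLE_one_iff.1 inferInstance) q hq with h | h
    · exact absurd hJq (hJ q h)
    · rwa [IsLocalRing.eq_maximalIdeal h]
  exact this

/-- For `f` in the maximal ideal outside all minimal primes, the product of the localizations at
the minimal primes is `A_f`. -/
theorem isLocalizationAway_pi {f : A} (hf : f ∈ IsLocalRing.maximalIdeal A)
    (hmin : ∀ p ∈ minimalPrimes A, f ∉ p) :
    IsLocalization.Away f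
      (∀ p : {p : PrimeSpectrum A // p.asIdeal ∈ minimalPrimes A}, Localization.AtPrime p.1.asIdeal) := by
  classical
  let ι := {p : PrimeSpectrum A // p.asIdeal ∈ minimalPrimes A}
  let R := ∀ p : ι, Localization.AtPrime p.1.asIdeal
  let φ : A →+* R := algebraMap A R
  have : Finite ι := by
    haveI := (minimalPrimes.finite_of_isNoetherianRing A).to_subtype
    exact Finite.of_injective (fun p : ι => (⟨p.1.asIdeal, p.2⟩ : minimalPrimes A))
      (fun x y e => Subtype.ext (PrimeSpectrum.ext (congrArg Subtype.val e)))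
  have : Fintype ι := Fintype.ofFinite _
  have hunit : ∀ p : ι, IsUnit (algebraMap A (Localization.AtPrime p.1.asIdeal) f) := fun p =>
    IsLocalization.map_units (Localization.AtPrime p.1.asIdeal) (⟨f, hmin _ p.2⟩ : p.1.asIdeal.primeCompl)
  have hnil : ∀ (p : ι) (t : A), t ∈ p.1.asIdeal →
      IsNilpotent (algebraMap A (Localization.AtPrime p.1.asIdeal) t) := by
    intro p t ht
    rw [nilpotent_iff_mem_prime]
    intro Q hQ
    have hle : Q.comap (algebraMap A (Localization.AtPrime p.1.asIdeal)) ≤ p.1.asIdeal := by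
      intro x hx
      by_contra h
      exact hQ.ne_top (Ideal.eq_top_of_isUnit_mem _ hx
        (IsLocalization.map_units (Localization.AtPrime p.1.asIdeal) (⟨x, h⟩ : p.1.asIdeal.primeCompl)))
    exact Ideal.mem_comap.1 (p.2.2 ⟨inferInstance, bot_le⟩ hle ht)
  have hsep : ∀ p : ι, ∃ t : A, t ∉ p.1.asIdeal ∧ ∀ q : ι, q ≠ p → t ∈ q.1.asIdeal := by
    intro p
    have ht : ∀ q : ι, q ≠ p → ∃ t ∈ q.1.asIdeal, t ∉ p.1.asIdeal := fun q hq => by
      by_contra! h
      exact hq (Subtype.ext (PrimeSpectrum.ext (le_antisymm h (p.2.2 ⟨q.1.2, bot_le⟩ h))))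
    choose t ht1 ht2 using ht
    refine ⟨∏ q ∈ (Finset.univ.erase p).attach, t q.1 (Finset.mem_erase.1 q.2).1, fun h => ?_, fun q hq =>
      Ideal.mem_of_dvd _ (Finset.dvd_prod_of_mem _ (Finset.mem_attach _ ⟨q, Finset.mem_erase.2 ⟨hq, Finset.mem_univ q⟩⟩)) (ht1 q hq)⟩
    obtain ⟨q, -, hq⟩ := Ideal.IsPrime.prod_mem_iff.1 h
    exact ht2 q.1 (Finset.mem_erase.1 q.2).1 hq
  choose t ht1 ht2 using hsep
  -- the idempotents are, up to a power of `f`, in the image
  have hsingle : ∀ (p : ι) (x : Localization.AtPrime p.1.asIdeal),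
      ∃ N, φ f ^ N * Pi.single p x ∈ φ.range := by
    intro p x
    obtain ⟨y, s, rfl⟩ := IsLocalization.exists_mk'_eq p.1.asIdeal.primeCompl x
    have hL : ∀ q : ι, ∃ L, q ≠ p → algebraMap A (Localization.AtPrime q.1.asIdeal) (t p ^ L) = 0 := fun q => by
      by_cases hq : q = p
      · exact ⟨0, fun h => absurd hq h⟩
      · obtain ⟨L, hL⟩ := hnil q (t p) (ht2 p q hq)
        exact ⟨L, fun _ => by rw [map_pow, hL]⟩
    choose L hL using hL
    let u : A := t p ^ ((∑ q, L q) + 1)
    have hu : ∀ q : ι, q ≠ p → algebraMap A (Localization.AtPrime q.1.asIdeal) u = 0 := fun q hq => by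
      obtain ⟨j, hj⟩ := Nat.exists_eq_add_of_le
        (Finset.single_le_sum (f := L) (fun q _ => Nat.zero_le _) (Finset.mem_univ q))
      simp only [u]
      rw [hj, pow_add, pow_add, map_mul, map_mul, hL q hq, zero_mul, zero_mul]
    have hv0 : IsNilpotent (algebraMap A (Localization.AtPrime p.1.asIdeal) (∑ q ∈ Finset.univ.erase p, t q)) :=
      hnil p _ (Ideal.sum_mem _ fun q hq => ht2 q p (Finset.mem_erase.1 hq).1.symm)
    obtain ⟨m, hm⟩ := hv0
    let w : A := (∑ q ∈ Finset.univ.erase p, t q) ^ (m + 1)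
    have hw : algebraMap A (Localization.AtPrime p.1.asIdeal) w = 0 := by
      simp only [w]
      rw [map_pow, pow_succ, hm, zero_mul]
    have hden : ∀ q : ι, (s : A) * u + w ∉ q.1.asIdeal := fun q h => by
      by_cases hq : q = p
      · subst hq
        have h1 : w ∈ q.1.asIdeal :=
          Ideal.pow_mem_of_mem _ (Ideal.sum_mem _ fun r hr => ht2 r q (Finset.mem_erase.1 hr).1.symm) _ m.succ_pos
        rcases Ideal.IsPrime.mem_or_mem inferInstance ((Ideal.add_mem_iff_left _ h1).1 h) with h2 | h2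
        · exact s.2 h2
        · exact ht1 q (Ideal.IsPrime.mem_of_pow_mem inferInstance _ h2)
      · have h1 : (s : A) * u ∈ q.1.asIdeal :=
          Ideal.mul_mem_left _ _ (Ideal.pow_mem_of_mem _ (ht2 p q hq) _ (Nat.succ_pos _))
        have h2 := Ideal.IsPrime.mem_of_pow_mem inferInstance _ ((Ideal.add_mem_iff_right _ h1).1 h)
        rw [← Finset.add_sum_erase _ _ (Finset.mem_erase.2 ⟨hq, Finset.mem_univ q⟩)] at h2
        exact ht1 q ((Ideal.add_mem_iff_left _ (Ideal.sum_mem _ fun r hr =>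
          ht2 r q (Finset.mem_erase.1 hr).1.symm)).1 h2)
    obtain ⟨N, hN⟩ := exists_pow_mem_span hf (Ideal.span {(s : A) * u + w})
      fun q hq h => hden ⟨⟨q, hq.1.1⟩, hq⟩ (h (Ideal.mem_span_singleton_self _))
    obtain ⟨c, hc⟩ := Ideal.mem_span_singleton.1 hN
    refine ⟨N, c * (y * u), ?_⟩
    rw [← map_pow, hc]
    funext q
    by_cases hq : q = p
    · subst hq
      simp only [φ, R, Pi.algebraMap_apply, Pi.add_apply, Pi.mul_apply, Pi.single_eq_same, map_mul, map_add, hw, add_zero]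
      rw [← IsLocalization.mk'_spec (Localization.AtPrime q.1.asIdeal) y s]
      ring
    · simp only [φ, R, Pi.algebraMap_apply, Pi.mul_apply, map_mul, hu q hq, Pi.single_eq_of_ne hq, mul_zero]
  refine IsLocalization.Away.mk _ ?_ ?_ ?_
  · exact Pi.isUnit_iff.2 hunit
  · intro z
    choose N hN using fun p => hsingle p (z p)
    have : φ f ^ (∑ p, N p) * z ∈ φ.range := by
      rw [← Finset.univ_sum_single z, Finset.mul_sum]
      refine sum_mem fun p _ => ?_
      obtain ⟨j, hj⟩ := Nat.exists_eq_add_of_le (Finset.single_le_sum (f := N) (fun q _ => Nat.zero_le _) (Finset.mem_univ p))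
      rw [hj, add_comm, pow_add, mul_assoc]
      exact mul_mem (pow_mem (RingHom.mem_range_self φ f) j) (hN p)
    obtain ⟨a, ha⟩ := this
    exact ⟨_, a, by rw [mul_comm]; exact ha.symm⟩
  · intro a b hab
    let J : Ideal A := (⊥ : Ideal A).colon {a - b}
    have hJ : ∀ p ∈ minimalPrimes A, ¬ J ≤ p := fun p hp h => by
      have := hp.1.1
      obtain ⟨c, hc⟩ := (IsLocalization.eq_iff_exists p.primeCompl (Localization.AtPrime p)).1
        (congrFun hab ⟨⟨p, hp.1.1⟩, hp⟩)
      exact c.2 (h (Submodule.mem_colon_singleton.2 (by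
        rw [Ideal.mem_bot, smul_eq_mul, mul_sub, hc, sub_self])))
    obtain ⟨N, hN⟩ := exists_pow_mem_span hf J hJ
    refine ⟨N, ?_⟩
    have := Submodule.mem_colon_singleton.1 hN
    rw [Ideal.mem_bot, smul_eq_mul, mul_sub, sub_eq_zero] at this
    exact this

end localRing

theorem isDomain_isIntegrallyClosed_atPrime {C F : Type*} [CommRing C] [Field F] (ψ : C →+* F)
    (P : Ideal C) [P.IsPrime] (hu : ∀ y, y ∉ P → ψ y ≠ 0)
    (hker : ∀ c, ψ c = 0 → ∃ s, s ∉ P ∧ s * c = 0) (hfrac : ∀ z, ∃ a b, ψ a / ψ b = z)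
    (hint : ∀ z, ψ.IsIntegralElem z → z ∈ ψ.range) :
    IsDomain (Localization.AtPrime P) ∧ IsIntegrallyClosed (Localization.AtPrime P) := by
  have hψu : ∀ y : P.primeCompl, IsUnit (ψ y) := fun y => isUnit_iff_ne_zero.2 (hu y y.2)
  let Ψ : Localization.AtPrime P →+* F := IsLocalization.lift hψu
  have hlift : ∀ c, Ψ (algebraMap C _ c) = ψ c := IsLocalization.lift_eq hψu
  have hΨ : Function.Injective Ψ := by
    rw [injective_iff_map_eq_zero]
    intro x hx
    obtain ⟨c, s, rfl⟩ := IsLocalization.exists_mk'_eq P.primeCompl x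
    rw [IsLocalization.mk'_eq_zero_iff]
    have := congrArg Ψ (IsLocalization.mk'_spec (Localization.AtPrime P) c s)
    rw [map_mul, hx, zero_mul, hlift] at this
    obtain ⟨e, he, he0⟩ := hker c this.symm
    exact ⟨⟨e, he⟩, he0⟩
  have hdom : IsDomain (Localization.AtPrime P) := hΨ.isDomain Ψ
  refine ⟨hdom, ?_⟩
  let _ : Algebra (Localization.AtPrime P) F := Ψ.toAlgebra
  let _ : Algebra C F := ψ.toAlgebra
  have : IsScalarTower C (Localization.AtPrime P) F := IsScalarTower.of_algebraMap_eq fun c => (hlift c).symm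
  have : FaithfulSMul (Localization.AtPrime P) F := (faithfulSMul_iff_algebraMap_injective _ _).2 hΨ
  have hfr : IsFractionRing (Localization.AtPrime P) F := by
    refine IsFractionRing.of_field _ F fun z => ?_
    obtain ⟨a, b, rfl⟩ := hfrac z
    exact ⟨algebraMap C _ a, algebraMap C _ b, by
      rw [← IsScalarTower.algebraMap_apply, ← IsScalarTower.algebraMap_apply]; rfl⟩
  rw [isIntegrallyClosed_iff F]
  intro x hx
  obtain ⟨m, hm⟩ := IsIntegral.exists_multiple_integral_of_isLocalization P.primeCompl x hx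
  obtain ⟨q, hq⟩ := hint (ψ m * x) (by rwa [Submonoid.smul_def, Algebra.smul_def] at hm)
  refine ⟨IsLocalization.mk' (Localization.AtPrime P) q m, ?_⟩
  have h1 := congrArg Ψ (IsLocalization.mk'_spec (Localization.AtPrime P) q m)
  rw [map_mul, hlift, hlift] at h1
  refine mul_right_cancel₀ (hψu m).ne_zero (h1.trans ?_)
  rw [hq, mul_comm]

section reduced

variable (A : Type*) [CommRing A] [IsNoetherianRing A] [IsReduced A]

omit [IsNoetherianRing A] in
theorem eq_zero_of_forall_mem_minimalPrimes {x : A} (h : ∀ p ∈ minimalPrimes A, x ∈ p) : x = 0 := by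
  have : x ∈ nilradical A := by
    rw [nilradical_eq_sInf, Ideal.mem_sInf]
    intro q hq
    have : q.IsPrime := hq
    obtain ⟨p, hp, hpq⟩ := Ideal.exists_minimalPrimes_le (I := (⊥ : Ideal A)) (J := q) bot_le
    exact hpq (h p hp)
  rwa [nilradical_eq_zero, Ideal.zero_eq_bot, Ideal.mem_bot] at this

omit [IsNoetherianRing A] in
theorem mem_nonZeroDivisors_iff {x : A} : x ∈ nonZeroDivisors A ↔ ∀ p ∈ minimalPrimes A, x ∉ p := by
  refine ⟨fun h p hp hx => Set.disjoint_left.1 (Ideal.disjoint_nonZeroDivisors_of_mem_minimalPrimes hp) hx h, fun h => ?_⟩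
  refine mem_nonZeroDivisors_iff_right.2 fun z hz => eq_zero_of_forall_mem_minimalPrimes A fun p hp => ?_
  have h0 : z * x ∈ p := hz ▸ Ideal.zero_mem p
  exact ((hp.1.1).mem_or_mem h0).resolve_right (h p hp)

variable (Q : Type*) [CommRing Q] [Algebra A Q] [IsFractionRing A Q]

/-- The projection of the total ring of fractions to the fraction field at a minimal prime. -/
noncomputable def proj (p : Ideal A) [p.IsPrime] (hp : p ∈ minimalPrimes A) :
    Q →ₐ[A] FractionRing (A ⧸ p) :=
  IsLocalization.liftAlgHom (M := nonZeroDivisors A) (f := Algebra.ofId A (FractionRing (A ⧸ p)))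
    fun s => by
      rw [Algebra.ofId_apply, IsScalarTower.algebraMap_apply A (A ⧸ p) (FractionRing (A ⧸ p)), isUnit_iff_ne_zero, ne_eq,
        map_eq_zero_iff _ (IsFractionRing.injective (A ⧸ p) (FractionRing (A ⧸ p))),
        Ideal.Quotient.algebraMap_eq, Ideal.Quotient.eq_zero_iff_mem]
      exact (mem_nonZeroDivisors_iff A).1 s.2 p hp

theorem algebraMap_quotient_eq_zero (p : Ideal A) [p.IsPrime] (x : A) :
    algebraMap A (FractionRing (A ⧸ p)) x = 0 ↔ x ∈ p := by
  rw [IsScalarTower.algebraMap_apply A (A ⧸ p) (FractionRing (A ⧸ p)),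
    map_eq_zero_iff _ (IsFractionRing.injective (A ⧸ p) (FractionRing (A ⧸ p))),
    Ideal.Quotient.algebraMap_eq, Ideal.Quotient.eq_zero_iff_mem]

theorem proj_injective {x : Q} (h : ∀ (p : Ideal A) [p.IsPrime] (hp : p ∈ minimalPrimes A), proj A Q p hp x = 0) :
    x = 0 := by
  obtain ⟨a, s, rfl⟩ := IsLocalization.exists_mk'_eq (nonZeroDivisors A) x
  rw [IsLocalization.mk'_eq_zero_iff]
  refine ⟨1, ?_⟩
  rw [OneMemClass.coe_one, one_mul]
  refine eq_zero_of_forall_mem_minimalPrimes A fun p hp => ?_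
  have := hp.1.1
  have h0 : proj A Q p hp (algebraMap A Q a) = 0 := by
    rw [← IsLocalization.mk'_spec Q a s, map_mul, h p hp, zero_mul]
  rwa [AlgHom.commutes, algebraMap_quotient_eq_zero] at h0

/-- The projections are jointly surjective, supported at one minimal prime. -/
theorem exists_proj_eq (p : Ideal A) [p.IsPrime] (hp : p ∈ minimalPrimes A) (z : FractionRing (A ⧸ p)) :
    ∃ q : Q, proj A Q p hp q = z ∧
      ∀ (p' : Ideal A) [p'.IsPrime] (hp' : p' ∈ minimalPrimes A), p' ≠ p → proj A Q p' hp' q = 0 := by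
  classical
  obtain ⟨a, b, hb, rfl⟩ := IsFractionRing.div_surjective (A := A ⧸ p) z
  obtain ⟨a, rfl⟩ := Ideal.Quotient.mk_surjective a
  obtain ⟨b, rfl⟩ := Ideal.Quotient.mk_surjective b
  have hbp : b ∉ p := fun h => nonZeroDivisors.ne_zero hb (Ideal.Quotient.eq_zero_iff_mem.2 h)
  have hfin := minimalPrimes.finite_of_isNoetherianRing A
  let S := hfin.toFinset
  have hmem : ∀ {q}, q ∈ S ↔ q ∈ minimalPrimes A := hfin.mem_toFinset
  have hsep : ∀ q ∈ S, ∃ t : A, t ∉ q ∧ ∀ r ∈ S, r ≠ q → t ∈ r := by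
    intro q hq
    have hq' := hmem.1 hq
    have ht : ∀ r : {r // r ∈ S}, ∃ t : A, t ∉ q ∧ (r.1 ≠ q → t ∈ r.1) := fun r => by
      by_cases hrq : r.1 = q
      · exact ⟨1, hq'.1.1.ne_top ∘ (Ideal.eq_top_iff_one q).2, fun h => absurd hrq h⟩
      · by_contra! h
        exact hrq (le_antisymm (fun x hx => by_contra fun hxq => (h x hxq).2 hx)
          (hq'.2 (hmem.1 r.2).1 fun x hx => by_contra fun hxq => (h x hxq).2 hx))
    choose t ht1 ht2 using ht
    refine ⟨∏ r ∈ S.attach, t r, fun h => ?_, fun r hr hrq =>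
      Ideal.mem_of_dvd _ (Finset.dvd_prod_of_mem t (Finset.mem_attach _ ⟨r, hr⟩)) (ht2 ⟨r, hr⟩ hrq)⟩
    obtain ⟨r, -, hr⟩ := (hq'.1.1.prod_mem_iff).1 h
    exact ht1 r hr
  choose t ht1 ht2 using hsep
  let v : A := ∑ q ∈ S.attach.filter (fun q => q.1 ≠ p), t q.1 q.2
  let den : A := b * t p (hmem.2 hp) + v
  have hvp : v ∈ p := Ideal.sum_mem _ fun q hq => ht2 q.1 q.2 p (hmem.2 hp) (Finset.mem_filter.1 hq).2.symm
  have hden : den ∈ nonZeroDivisors A := by
    refine (mem_nonZeroDivisors_iff A).2 fun q hq h => ?_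
    have := hq.1.1
    by_cases hqp : q = p
    · subst hqp
      rcases hq.1.1.mem_or_mem ((Ideal.add_mem_iff_left _ hvp).1 h) with h1 | h1
      exacts [hbp h1, ht1 _ _ h1]
    · have h1 : b * t p (hmem.2 hp) ∈ q := Ideal.mul_mem_left _ _ (ht2 _ _ q (hmem.2 hq) hqp)
      have h2 : v ∈ q := (Ideal.add_mem_iff_right _ h1).1 h
      have hmemf : (⟨q, hmem.2 hq⟩ : {x // x ∈ S}) ∈ S.attach.filter (fun q => q.1 ≠ p) :=
        Finset.mem_filter.2 ⟨Finset.mem_attach _ _, hqp⟩
      simp only [v] at h2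
      rw [← Finset.add_sum_erase _ _ hmemf] at h2
      refine ht1 q (hmem.2 hq) ((Ideal.add_mem_iff_left _ (Ideal.sum_mem _ fun r hr => ?_)).1 h2)
      exact ht2 r.1 r.2 q (hmem.2 hq) fun e => (Finset.mem_erase.1 hr).1 (Subtype.ext e.symm)
  let s : nonZeroDivisors A := ⟨den, hden⟩
  refine ⟨IsLocalization.mk' Q (a * t p (hmem.2 hp)) s, ?_, fun p' _ hp' hne => ?_⟩
  · have h := congrArg (proj A Q p hp) (IsLocalization.mk'_spec Q (a * t p (hmem.2 hp)) s)
    rw [map_mul, AlgHom.commutes, AlgHom.commutes] at h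
    simp only [s, den, map_add, map_mul, (algebraMap_quotient_eq_zero A p v).2 hvp, add_zero] at h
    have hb0 : algebraMap A (FractionRing (A ⧸ p)) b ≠ 0 := fun e => hbp ((algebraMap_quotient_eq_zero A p b).1 e)
    have ht0 : algebraMap A (FractionRing (A ⧸ p)) (t p (hmem.2 hp)) ≠ 0 :=
      fun e => ht1 _ _ ((algebraMap_quotient_eq_zero A p _).1 e)
    change _ = algebraMap A (FractionRing (A ⧸ p)) a / algebraMap A (FractionRing (A ⧸ p)) b
    rw [eq_div_iff hb0]
    exact mul_right_cancel₀ ht0 (by rw [mul_assoc]; exact h)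
  · have h := congrArg (proj A Q p' hp') (IsLocalization.mk'_spec Q (a * t p (hmem.2 hp)) s)
    rw [map_mul, AlgHom.commutes, AlgHom.commutes,
      (algebraMap_quotient_eq_zero A p' (a * t p (hmem.2 hp))).2 (Ideal.mul_mem_left _ _ (ht2 _ _ p' (hmem.2 hp') hne)),
      mul_eq_zero] at h
    exact h.resolve_right fun e => (mem_nonZeroDivisors_iff A).1 hden p' hp' ((algebraMap_quotient_eq_zero A p' _).1 e)

/-- The normalization inside the total ring of fractions has normal domains as localizations. -/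
theorem isDomain_isIntegrallyClosed_localization (P : Ideal (integralClosure A Q)) [P.IsPrime] :
    IsDomain (Localization.AtPrime P) ∧ IsIntegrallyClosed (Localization.AtPrime P) := by
  classical
  let C := integralClosure A Q
  have he := fun (p : {p // p ∈ minimalPrimes A}) => @exists_proj_eq A _ _ _ Q _ _ _ p.1 p.2.1.1 p.2 1
  choose e he1 he0 using he
  have hi : ∀ p, e p * e p = e p := fun p => by
    refine sub_eq_zero.1 (proj_injective A Q fun p' hpp hp' => ?_)
    by_cases h : p' = p.1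
    · subst h
      rw [map_sub, map_mul, he1, mul_one, sub_self]
    · rw [map_sub, map_mul, he0 p p' hp' h, mul_zero, sub_self]
  have hint : ∀ p, e p ∈ C := fun p =>
    ⟨Polynomial.X ^ 2 - Polynomial.X, Polynomial.monic_X_pow_sub (Polynomial.degree_X_le.trans_lt (by norm_num)), by
      rw [Polynomial.eval₂_sub, Polynomial.eval₂_pow, Polynomial.eval₂_X, pow_two, hi, sub_self]⟩
  let ec : {p // p ∈ minimalPrimes A} → C := fun p => ⟨e p, hint p⟩
  have hfinι : Finite {p // p ∈ minimalPrimes A} := (minimalPrimes.finite_of_isNoetherianRing A).to_subtype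
  have := Fintype.ofFinite {p // p ∈ minimalPrimes A}
  have hsum : ∑ p, e p = 1 := by
    refine sub_eq_zero.1 (proj_injective A Q fun p' hpp hp' => ?_)
    rw [map_sub, map_one, map_sum, Finset.sum_eq_single (⟨p', hp'⟩ : {p // p ∈ minimalPrimes A})]
    · exact sub_eq_zero.2 (he1 ⟨p', hp'⟩)
    · exact fun q _ hq => he0 q p' hp' fun e => hq (Subtype.ext e.symm)
    · exact fun h => absurd (Finset.mem_univ _) h
  obtain ⟨p, hp⟩ : ∃ p, ec p ∉ P := by
    by_contra! h
    refine Ideal.IsPrime.ne_top inferInstance ((Ideal.eq_top_iff_one P).2 ?_)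
    have : (1 : C) = ∑ p, ec p := Subtype.ext (by rw [AddSubmonoidClass.coe_finsetSum]; exact hsum.symm)
    rw [this]
    exact Ideal.sum_mem _ fun p _ => h p
  have := p.2.1.1
  let F := FractionRing (A ⧸ p.1)
  let π : Q →ₐ[A] F := proj A Q p.1 p.2
  let ψ : C →+* F := (π.comp C.val).toRingHom
  have hψ : ∀ x : C, ψ x = 0 → ec p * x = 0 := fun x hx => by
    refine Subtype.ext (proj_injective A Q fun p' hpp hp' => ?_)
    by_cases h : p' = p.1
    · subst h
      change proj A Q p.1 hp' (e p * (x : Q)) = 0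
      rw [map_mul]
      exact mul_eq_zero_of_right _ hx
    · change proj A Q p' hp' (e p * (x : Q)) = 0
      rw [map_mul, he0 p p' hp' h, zero_mul]
  refine isDomain_isIntegrallyClosed_atPrime ψ P (fun y hy h => ?_) (fun c hc => ⟨ec p, hp, hψ c hc⟩)
    (fun z => ?_) fun x hx => ?_
  · rcases Ideal.IsPrime.mem_or_mem inferInstance (hψ y h ▸ P.zero_mem : ec p * y ∈ P) with h2 | h2
    exacts [hp h2, hy h2]
  · obtain ⟨a, b, -, rfl⟩ := IsFractionRing.div_surjective (A := A ⧸ p.1) z
    obtain ⟨a, rfl⟩ := Ideal.Quotient.mk_surjective a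
    obtain ⟨b, rfl⟩ := Ideal.Quotient.mk_surjective b
    refine ⟨algebraMap A C a, algebraMap A C b, ?_⟩
    change π (algebraMap A Q a) / π (algebraMap A Q b) = _
    rw [AlgHom.commutes, AlgHom.commutes]
    rfl
  · let _ : Algebra C F := ψ.toAlgebra
    have : IsScalarTower A C F := IsScalarTower.of_algebraMap_eq fun a => (π.commutes a).symm
    have : Algebra.IsIntegral A C := IsIntegralClosure.isIntegral_algebra A Q
    have hx' : IsIntegral A x := isIntegral_trans (R := A) (A := C) x hx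
    obtain ⟨q, hq, hq0⟩ := exists_proj_eq A Q p.1 p.2 x
    obtain ⟨f, hf, hf0⟩ := hx'
    refine ⟨⟨q, ⟨f * Polynomial.X, hf.mul Polynomial.monic_X, ?_⟩⟩, hq⟩
    refine proj_injective A Q fun p' hpp hp' => ?_
    rw [Polynomial.eval₂_mul, Polynomial.eval₂_X, map_mul]
    by_cases h : p' = p.1
    · subst h
      refine mul_eq_zero_of_left ?_ _
      rw [← Polynomial.aeval_def, ← Polynomial.aeval_algHom_apply, Polynomial.aeval_def, hq]
      exact hf0
    · exact mul_eq_zero_of_right _ (hq0 p' hp' h)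

end reduced

end Misc9.DimOneReduced
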