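import Mathlib.AlgebraicGeometry.Noetherian
import Mathlib.AlgebraicGeometry.Properties
import Mathlib.AlgebraicGeometry.FunctionField
import Mathlib.AlgebraicGeometry.Stalk
import Mathlib.AlgebraicGeometry.SpreadingOut
import Mathlib.RingTheory.Spectrum.Prime.Topology

/-! Locally Noetherian schemes whose local rings are domains (or have prime nilradical). -/

set_option autoImplicit false
set_option backward.isDefEq.respectTransparency false
universe u
namespace Groth.Agent.Misc9.DomainStalk
open CategoryTheory AlgebraicGeometry TopologicalSpace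

variable {X : Scheme.{u}}

theorem component_eq (y : X) (hN : (nilradical (X.presheaf.stalk y)).IsPrime)
    (Z : Set X) (hZ : Z ∈ irreducibleComponents (X : Type u)) (hy : y ∈ Z) :
    Z = closure {X.fromSpecStalk y ⟨nilradical (X.presheaf.stalk y), hN⟩} := by
  have hZc := isClosed_of_mem_irreducibleComponents Z hZ
  obtain ⟨η, hη⟩ := QuasiSober.sober hZ.1 hZc
  have hηy : η ⤳ y := hη.specializes hy
  have hr : η ∈ Set.range (X.fromSpecStalk y) := by rw [Scheme.range_fromSpecStalk]; exact hηy
  obtain ⟨P, hP⟩ := hr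
  have hle : (⟨nilradical (X.presheaf.stalk y), hN⟩ : PrimeSpectrum (X.presheaf.stalk y)) ⤳ P :=
    (PrimeSpectrum.le_iff_specializes _ _).1 (nilradical_le_prime P.asIdeal)
  have hsp := hle.map (X.fromSpecStalk y).continuous
  rw [hP] at hsp
  have hsub : Z ⊆ closure {X.fromSpecStalk y ⟨nilradical (X.presheaf.stalk y), hN⟩} := by
    rw [← hη.def]
    exact closure_minimal (Set.singleton_subset_iff.2 (specializes_iff_mem_closure.1 hsp)) isClosed_closure
  exact le_antisymm hsub (hZ.2 isIrreducible_singleton.closure hsub)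

theorem exists_irreducible_nhd' (y : X) (hN : (nilradical (X.presheaf.stalk y)).IsPrime)
    (U₀ : X.Opens) (hyU₀ : y ∈ U₀) [NoetherianSpace (U₀ : Set X)] :
    ∃ V : X.Opens, y ∈ V ∧ IsIrreducible (V : Set X) := by
  classical
  let bad : Set (Set X) := {W | W ∈ irreducibleComponents (X : Type u) ∧ (W ∩ (U₀ : Set X)).Nonempty ∧ y ∉ W}
  have hfin : bad.Finite := by
    have h := NoetherianSpace.finite_irreducibleComponents (α := (U₀ : Set X))
    refine (h.image fun T => closure (Subtype.val '' T)).subset fun W hW => ?_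
    refine ⟨Subtype.val ⁻¹' W, ?_, ?_⟩
    · exact preimage_mem_irreducibleComponents hW.1 U₀.2.isOpenEmbedding_subtypeVal
        (by rw [Subtype.range_val]; exact hW.2.1)
    · show closure (Subtype.val '' (Subtype.val ⁻¹' W)) = W
      rw [Subtype.image_preimage_val, Set.inter_comm]
      exact (closure_minimal Set.inter_subset_left (isClosed_of_mem_irreducibleComponents W hW.1)).antisymm
        (subset_closure_inter_of_isPreirreducible_of_isOpen hW.1.1.2 U₀.2 hW.2.1)
  have hcl : IsClosed (⋃ W ∈ bad, W) :=
    Set.Finite.isClosed_biUnion hfin fun W hW => isClosed_of_mem_irreducibleComponents W hW.1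
  let V : X.Opens := ⟨(U₀ : Set X) ∩ (⋃ W ∈ bad, W)ᶜ, U₀.2.inter hcl.isOpen_compl⟩
  have hyV : y ∈ V := ⟨hyU₀, fun h => by
    obtain ⟨W, hW, hyW⟩ := Set.mem_iUnion₂.mp h
    exact hW.2.2 hyW⟩
  refine ⟨V, hyV, ⟨y, hyV⟩, (irreducibleComponent_mem_irreducibleComponents y).1.2.open_subset V.2 ?_⟩
  intro z hz
  by_cases hy' : y ∈ irreducibleComponent z
  · rw [component_eq y hN _ (irreducibleComponent_mem_irreducibleComponents y) mem_irreducibleComponent,
      ← component_eq y hN _ (irreducibleComponent_mem_irreducibleComponents z) hy']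
    exact mem_irreducibleComponent
  · exact absurd (Set.mem_iUnion₂.mpr
      ⟨_, (show irreducibleComponent z ∈ bad from
        ⟨irreducibleComponent_mem_irreducibleComponents z, ⟨z, mem_irreducibleComponent, hz.1⟩, hy'⟩),
        mem_irreducibleComponent⟩) hz.2

theorem exists_irreducible_nhd [IsLocallyNoetherian X] (y : X)
    (hN : (nilradical (X.presheaf.stalk y)).IsPrime) :
    ∃ V : X.Opens, y ∈ V ∧ IsIrreducible (V : Set X) := by
  obtain ⟨U₀, hU₀, hyU₀, -⟩ := exists_isAffineOpen_mem_and_subset (X := X) (U := ⊤) (x := y) trivial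
  have : IsNoetherianRing Γ(X, U₀) := IsLocallyNoetherian.component_noetherian ⟨U₀, hU₀⟩
  have : NoetherianSpace (U₀ : Set X) := noetherianSpace_of_isAffineOpen U₀ hU₀
  exact exists_irreducible_nhd' y hN U₀ hyU₀

theorem component_open [IsLocallyNoetherian X] (h : ∀ y : X, (nilradical (X.presheaf.stalk y)).IsPrime)
    (Z : Set X) (hZ : Z ∈ irreducibleComponents (X : Type u)) : IsOpen Z := by
  rw [isOpen_iff_forall_mem_open]
  intro y hy
  obtain ⟨V, hyV, hV⟩ := exists_irreducible_nhd y (h y)
  refine ⟨V, ?_, V.2, hyV⟩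
  have hsub : Z ⊆ closure (V : Set X) :=
    (subset_closure_inter_of_isPreirreducible_of_isOpen hZ.1.isPreirreducible V.2 ⟨y, hy, hyV⟩).trans
      (closure_mono Set.inter_subset_right)
  exact subset_closure.trans (hZ.2 hV.closure hsub)

theorem irreducibleSpace [IsLocallyNoetherian X] [ConnectedSpace X]
    (h : ∀ y : X, (nilradical (X.presheaf.stalk y)).IsPrime) : IrreducibleSpace X := by
  obtain ⟨x⟩ := (inferInstance : Nonempty X)
  have huniv := IsClopen.eq_univ (s := irreducibleComponent x)
    ⟨isClosed_irreducibleComponent, component_open h _ (irreducibleComponent_mem_irreducibleComponents x)⟩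
    ⟨x, mem_irreducibleComponent⟩
  exact { isPreirreducible_univ := huniv ▸ isIrreducible_irreducibleComponent.isPreirreducible
          toNonempty := inferInstance }

theorem nilradical_prime_of_isDomain (R : Type u) [CommRing R] [IsDomain R] : (nilradical R).IsPrime := by
  rw [nilradical_eq_zero R]
  exact Ideal.isPrime_bot

theorem isIntegral [IsLocallyNoetherian X] [ConnectedSpace X]
    (h : ∀ y : X, IsDomain (X.presheaf.stalk y)) : IsIntegral X := by
  haveI := irreducibleSpace (X := X) fun y => (haveI := h y; nilradical_prime_of_isDomain _)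
  haveI : ∀ y : X, _root_.IsReduced (X.presheaf.stalk y) := fun y => by
    haveI := h y
    infer_instance
  haveI := isReduced_of_isReduced_stalk X
  exact isIntegral_of_irreducibleSpace_of_isReduced X

theorem exists_integral_nhd [IsLocallyNoetherian X] (x : X) [IsDomain (X.presheaf.stalk x)] :
    ∃ W : X.Opens, x ∈ W ∧ IsAffineOpen W ∧ IsIntegral W.toScheme := by
  obtain ⟨W, hxW, hW, hinj⟩ := X.exists_germ_injective x
  haveI : IsDomain Γ(X, W) := hinj.isDomain (X.presheaf.germ W x hxW).hom
  haveI : IsDomain Γ(W.toScheme, ⊤) := W.topIso.commRingCatIsoToRingEquiv.toMulEquiv.isDomain _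
  haveI : IsAffine W.toScheme := hW
  haveI : Nonempty W.toScheme := ⟨⟨x, hxW⟩⟩
  exact ⟨W, hxW, hW, isIntegral_of_isAffine_of_isDomain _⟩

/-- components disjoint implies prime nilradicals -/
theorem nilradical_prime_of_disjoint (hd : (irreducibleComponents (X : Type u)).PairwiseDisjoint id) (x : X) :
    (nilradical (X.presheaf.stalk x)).IsPrime := by
  obtain ⟨η, hη⟩ := QuasiSober.sober (isIrreducible_irreducibleComponent (x := x)) isClosed_irreducibleComponent
  have hr : η ∈ Set.range (X.fromSpecStalk x) := by
    rw [Scheme.range_fromSpecStalk]; exact hη.specializes mem_irreducibleComponent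
  obtain ⟨P, hP⟩ := hr
  suffices nilradical (X.presheaf.stalk x) = P.asIdeal by rw [this]; exact P.isPrime
  refine le_antisymm (nilradical_le_prime _) ?_
  rw [nilradical_eq_sInf]
  refine le_sInf fun J hJ => ?_
  let Q : PrimeSpectrum (X.presheaf.stalk x) := ⟨J, hJ⟩
  have hQx : X.fromSpecStalk x Q ⤳ x :=
    (Scheme.range_fromSpecStalk.le ⟨Q, rfl⟩ :)
  have hQ : X.fromSpecStalk x Q ∈ irreducibleComponent x := by
    by_contra hne
    have hx' : x ∈ irreducibleComponent (X.fromSpecStalk x Q) :=
      hQx.mem_closed isClosed_irreducibleComponent mem_irreducibleComponent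
    refine hne ?_
    by_cases e : irreducibleComponent (X.fromSpecStalk x Q) = irreducibleComponent x
    · exact e ▸ mem_irreducibleComponent
    · exact (Set.disjoint_left.1 (hd (irreducibleComponent_mem_irreducibleComponents _)
        (irreducibleComponent_mem_irreducibleComponents _) e) hx' mem_irreducibleComponent).elim
  have : P ⤳ Q := by
    refine (X.fromSpecStalk x).isEmbedding.isInducing.specializes_iff.1 ?_
    rw [hP]
    exact hη.specializes hQ
  exact (PrimeSpectrum.le_iff_specializes _ _).2 this

/-- in an irreducible scheme every local ring has prime nilradical -/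
theorem nilradical_prime_of_irreducible [IrreducibleSpace X] (x : X) :
    (nilradical (X.presheaf.stalk x)).IsPrime := by
  have hr : genericPoint X ∈ Set.range (X.fromSpecStalk x) := by
    rw [Scheme.range_fromSpecStalk]; exact genericPoint_specializes x
  obtain ⟨P, hP⟩ := hr
  suffices nilradical (X.presheaf.stalk x) = P.asIdeal by rw [this]; exact P.isPrime
  refine le_antisymm (nilradical_le_prime _) ?_
  rw [nilradical_eq_sInf]
  refine le_sInf fun J hJ => ?_
  let Q : PrimeSpectrum (X.presheaf.stalk x) := ⟨J, hJ⟩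
  have : P ⤳ Q := by
    refine (X.fromSpecStalk x).isEmbedding.isInducing.specializes_iff.1 ?_
    rw [hP]
    exact genericPoint_specializes _
  exact (PrimeSpectrum.le_iff_specializes _ _).2 this

/-- sections of an integral scheme (top) in a scheme whose global sections form a domain -/
theorem connectedSpace_of_isDomain_top [Nonempty X] [IsDomain Γ(X, ⊤)] : ConnectedSpace X := by
  refine connectedSpace_iff_clopen.2 ⟨inferInstance, fun C hC => ?_⟩
  by_contra hne
  rw [not_or] at hne
  obtain ⟨a, ha⟩ := Set.nonempty_iff_ne_empty.2 hne.1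
  obtain ⟨b, hb⟩ := Set.nonempty_compl.2 hne.2
  let U : X.Opens := ⟨C, hC.2⟩
  let V : X.Opens := ⟨Cᶜ, hC.1.isOpen_compl⟩
  have hsup : U ⊔ V = ⊤ := Opens.ext (by simp [U, V])
  have hinf : U ⊓ V = ⊥ := Opens.ext (by simp [U, V])
  let O : Bool → X.Opens := fun i => bif i then U else V
  have hsub : ∀ W : X.Opens, W = ⊥ → ∀ p q : Γ(X, W), p = q := fun W hW p q => by
    subst hW
    exact Subsingleton.elim _ _
  let sf : ∀ i, Γ(X, O i) := fun i => bif i then 1 else 0
  obtain ⟨e, he, -⟩ := X.sheaf.existsUnique_gluing' O ⊤ (fun i => homOfLE le_top)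
    (fun x _ => by
      by_cases hx : x ∈ C
      · exact Opens.mem_iSup.2 ⟨true, hx⟩
      · exact Opens.mem_iSup.2 ⟨false, hx⟩)
    sf
    (by
      rintro (_ | _) (_ | _)
      · rfl
      · exact hsub _ (by rw [inf_comm]; exact hinf) _ _
      · exact hsub _ hinf _ _
      · rfl)
  have he' : IsIdempotentElem e := by
    refine X.sheaf.eq_of_locally_eq' O ⊤ (fun i => homOfLE le_top) (fun x _ => by
      by_cases hx : x ∈ C
      · exact Opens.mem_iSup.2 ⟨true, hx⟩
      · exact Opens.mem_iSup.2 ⟨false, hx⟩) _ _ fun i => ?_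
    erw [map_mul]
    erw [he i]
    cases i <;> simp [sf]
  rcases (IsIdempotentElem.iff_eq_zero_or_one (G₀ := Γ(X, ⊤))).1 he' with h | h
  · haveI : Nontrivial Γ(X, U) := (X.presheaf.germ U a ha).hom.domain_nontrivial
    have h1 := he true
    rw [h] at h1
    erw [map_zero] at h1
    exact zero_ne_one (α := Γ(X, U)) h1
  · haveI : Nontrivial Γ(X, V) := (X.presheaf.germ V b hb).hom.domain_nontrivial
    have h1 := he false
    rw [h] at h1
    erw [map_one] at h1
    exact one_ne_zero (α := Γ(X, V)) h1

end Groth.Agent.Misc9.DomainStalk
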