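import Mathlib.RingTheory.KrullDimension.Module
import Mathlib.RingTheory.HopkinsLevitzki
import Mathlib.RingTheory.Artinian.Module
import Mathlib.RingTheory.Length
import Mathlib.RingTheory.Localization.AtPrime.Basic
import Mathlib.Algebra.Module.LocalizedModule.Exact

set_option autoImplicit false
set_option linter.style.haveILetI false
universe u v

namespace Groth.Agent.Misc9.EndoCoker

lemma isArtinian_of_support {R : Type u} [CommRing R] [IsNoetherianRing R] {N : Type v} [AddCommGroup N]
    [Module R N] [Module.Finite R N]
    (h : ∀ q ∈ Module.support R N, q.asIdeal.IsMaximal) : IsArtinian R N := by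
  set J := Module.annihilator R N with hJ
  have hdim : Ring.KrullDimLE 0 (R ⧸ J) := by
    refine Ring.krullDimLE_zero_iff.mpr fun P hP => ?_
    have hle : J ≤ P.comap (Ideal.Quotient.mk J) := fun x hx => by
      rw [Ideal.mem_comap, Ideal.Quotient.eq_zero_iff_mem.mpr hx]
      exact P.zero_mem
    have hmax : (P.comap (Ideal.Quotient.mk J)).IsMaximal :=
      h ⟨P.comap (Ideal.Quotient.mk J), inferInstance⟩ (Module.support_eq_zeroLocus (R := R) (M := N) ▸ hle)
    have h2 := (Ideal.map_eq_top_or_isMaximal_of_surjective (Ideal.Quotient.mk J)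
      Ideal.Quotient.mk_surjective hmax)
    rw [Ideal.map_comap_of_surjective _ Ideal.Quotient.mk_surjective] at h2
    exact h2.resolve_left hP.ne_top
  haveI : IsNoetherianRing (R ⧸ J) := isNoetherianRing_of_surjective R (R ⧸ J) (Ideal.Quotient.mk J) Ideal.Quotient.mk_surjective
  haveI : IsArtinianRing (R ⧸ J) := isArtinianRing_iff_krullDimLE_zero.mpr hdim
  have hT : Module.IsTorsionBySet R N J := fun x a => Module.mem_annihilator.mp a.2 x
  letI : Module (R ⧸ J) N := hT.module
  haveI : IsScalarTower R (R ⧸ J) N := hT.isScalarTower
  haveI : Module.Finite (R ⧸ J) N := Module.Finite.of_restrictScalars_finite R (R ⧸ J) N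
  haveI : IsArtinian (R ⧸ J) N := inferInstance
  exact isArtinian_of_surjective_algebraMap (R := R ⧸ J) (S := R) Ideal.Quotient.mk_surjective

/-- cokernel of an injective endomorphism of a one dimensional module has finite length -/
theorem length_coker_lt_top {A : Type u} [CommRing A] [IsNoetherianRing A] [IsLocalRing A] {M : Type v}
    [AddCommGroup M] [Module A M] [Module.Finite A M] (hdim : Module.supportDim A M ≤ 1)
    (g : M →ₗ[A] M) (hg : Function.Injective g) : Module.length A (M ⧸ LinearMap.range g) < ⊤ := by
  have hmax : ∀ p ∈ Module.support A (M ⧸ LinearMap.range g), p.asIdeal.IsMaximal := by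
    intro p hp
    by_contra hpm
    have hpM : p ∈ Module.support A M :=
      Module.support_subset_of_surjective (LinearMap.range g).mkQ (Submodule.mkQ_surjective _) hp
    haveI : Nontrivial M := Module.nonempty_support_iff.mp ⟨p, hpM⟩
    have hmin : ∀ q ∈ Module.support A M, q ≤ p → q = p := by
      intro q hq hqp
      by_contra hne
      have h1 : q < p := lt_of_le_of_ne hqp hne
      have h2 : p < IsLocalRing.closedPoint A := lt_of_le_of_ne (IsLocalRing.le_maximalIdeal p.2.ne_top)
        (fun h => hpm (h ▸ IsLocalRing.maximalIdeal.isMaximal A))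
      let s : LTSeries (Module.support A M) :=
        { length := 2
          toFun := ![⟨q, hq⟩, ⟨p, hpM⟩, ⟨_, IsLocalRing.closedPoint_mem_support A M⟩]
          step := fun i => by
            fin_cases i
            · exact h1
            · exact h2 }
      have h3 : ((2 : ℕ) : WithBot ℕ∞) ≤ Module.supportDim A M := Order.LTSeries.length_le_krullDim s
      exact absurd (h3.trans hdim) (by decide)
    let Ap := Localization.AtPrime p.asIdeal
    let Mp := LocalizedModule p.asIdeal.primeCompl M
    have hsupp : ∀ q ∈ Module.support Ap Mp, q.asIdeal.IsMaximal := by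
      intro q hq
      rw [Module.mem_support_iff'] at hq
      obtain ⟨y, hy⟩ := hq
      induction y using LocalizedModule.induction_on with | h x t => ?_
      let q' : PrimeSpectrum A := ⟨q.asIdeal.comap (algebraMap A Ap), inferInstance⟩
      have hq' : q' ∈ Module.support A M := by
        rw [Module.mem_support_iff']
        refine ⟨x, fun r hr h0 => hy (algebraMap A Ap r) hr ?_⟩
        rw [IsScalarTower.algebraMap_smul, LocalizedModule.smul'_mk, h0, LocalizedModule.zero_mk]
      have hle : q' ≤ p := fun r hr => by
        by_contra hrp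
        exact q.2.ne_top (Ideal.eq_top_of_isUnit_mem _ hr (IsLocalization.map_units Ap (⟨r, hrp⟩ : p.asIdeal.primeCompl)))
      have heq : q' = p := hmin q' hq' hle
      have : q.asIdeal = IsLocalRing.maximalIdeal Ap := by
        rw [← IsLocalization.map_comap p.asIdeal.primeCompl Ap q.asIdeal,
          show Ideal.under A q.asIdeal = p.asIdeal from congrArg PrimeSpectrum.asIdeal heq]
        exact Localization.AtPrime.map_eq_maximalIdeal
      rw [this]
      infer_instance
    haveI : IsArtinian Ap Mp := isArtinian_of_support hsupp
    have hgp : Function.Injective (LocalizedModule.map p.asIdeal.primeCompl g) :=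
      LocalizedModule.map_injective _ g hg
    have hsurj := IsArtinian.surjective_of_injective_endomorphism _ hgp
    rw [Module.mem_support_iff'] at hp
    obtain ⟨y, hy⟩ := hp
    obtain ⟨x, rfl⟩ := Submodule.mkQ_surjective _ y
    obtain ⟨z, hz⟩ := hsurj (LocalizedModule.mk x 1)
    induction z using LocalizedModule.induction_on with | h w t => ?_
    rw [LocalizedModule.map_mk, LocalizedModule.mk_eq] at hz
    obtain ⟨c, hc⟩ := hz
    simp only [one_smul, Submonoid.smul_def, smul_smul] at hc
    refine hy ((c : A) * t) (c * t).2 ?_
    rw [← map_smul, ← hc, Submodule.mkQ_apply, Submodule.Quotient.mk_eq_zero]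
    exact ⟨(c : A) • w, by simp⟩
  haveI := isArtinian_of_support hmax
  rw [lt_top_iff_ne_top]
  exact Module.length_ne_top_iff.mpr (isFiniteLength_iff_isNoetherian_isArtinian.mpr ⟨inferInstance, inferInstance⟩)

end Groth.Agent.Misc9.EndoCoker
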