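import Mathlib.AlgebraicGeometry.Sites.Etale
import Mathlib.AlgebraicGeometry.Sites.SheafQuasiCompact
import Mathlib.CategoryTheory.Sites.Canonical
import Mathlib.AlgebraicGeometry.Morphisms.UniversallyOpen
import Mathlib.AlgebraicGeometry.Morphisms.Flat

/-! Etale sheaves on the small site: Zariski + affine surjective singletons. -/

set_option autoImplicit false
set_option backward.isDefEq.respectTransparency false
universe w u
namespace Groth.Agent.Misc9.EtSheafCrit
open CategoryTheory CategoryTheory.Limits AlgebraicGeometry Opposite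

section General
variable {C : Type*} [Category* C] (J : GrothendieckTopology C) (A : C → Prop) (F : Cᵒᵖ ⥤ Type w)

/-- being a sheaf for `S` can be checked on a covering class of objects -/
theorem isSheafFor_of_dense (hF : Presieve.IsSheaf J F) (R : ∀ Z, Sieve Z) (hRJ : ∀ Z, R Z ∈ J Z)
    (hRA : ∀ {Z W} {f : W ⟶ Z}, R Z f → ∃ (V : C) (a : W ⟶ V) (b : V ⟶ Z), A V ∧ a ≫ b = f)
    {Z : C} (S : Sieve Z) (h : ∀ {W} (g : W ⟶ Z), A W → Presieve.IsSheafFor F (S.pullback g).arrows) :
    Presieve.IsSheafFor F S.arrows := by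
  have ext' : ∀ {W : C} (t₁ t₂ : F.obj (op W)),
      (∀ {V} (b : V ⟶ W), A V → F.map b.op t₁ = F.map b.op t₂) → t₁ = t₂ := by
    intro W t₁ t₂ ht
    refine (hF _ (hRJ W)).isSeparatedFor.ext fun T f hf => ?_
    obtain ⟨V, a, b, hV, rfl⟩ := hRA hf
    simp only [op_comp, Functor.map_comp_apply, ht b hV]
  have sep : ∀ {W : C} (g : W ⟶ Z) (t₁ t₂ : F.obj (op W)),
      (∀ {V} (c : V ⟶ W), S (c ≫ g) → F.map c.op t₁ = F.map c.op t₂) → t₁ = t₂ := by
    intro W g t₁ t₂ ht
    refine ext' _ _ fun {V} b hV => (h (b ≫ g) hV).isSeparatedFor.ext fun T c hc => ?_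
    simp only [← Functor.map_comp_apply, ← op_comp]
    exact ht (c ≫ b) (by simpa using hc)
  intro x hx
  choose t ht using fun (V : C) (b : V ⟶ Z) (hV : A V) =>
    (h b hV (x.pullback b) (hx.pullback b)).exists
  have key : ∀ {W V₁ V₂ : C} (a₁ : W ⟶ V₁) (b₁ : V₁ ⟶ Z) (a₂ : W ⟶ V₂) (b₂ : V₂ ⟶ Z) (h₁ : A V₁) (h₂ : A V₂),
      a₁ ≫ b₁ = a₂ ≫ b₂ → F.map a₁.op (t V₁ b₁ h₁) = F.map a₂.op (t V₂ b₂ h₂) := by
    intro W V₁ V₂ a₁ b₁ a₂ b₂ h₁ h₂ e
    refine sep (a₁ ≫ b₁) _ _ fun {T} c hc => ?_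
    simp only [← Functor.map_comp_apply, ← op_comp]
    have hc₁ : S.pullback b₁ (c ≫ a₁) := by simpa using hc
    have hc₂ : S.pullback b₂ (c ≫ a₂) := by
      show S ((c ≫ a₂) ≫ b₂)
      rw [Category.assoc, ← e]
      exact hc
    rw [ht V₁ b₁ h₁ _ hc₁, ht V₂ b₂ h₂ _ hc₂]
    simp only [Presieve.FamilyOfElements.pullback]
    congr 1
    simp [e]
  let y : Presieve.FamilyOfElements F (R Z).arrows := fun W f hf =>
    F.map (hRA hf).choose_spec.choose.op (t _ (hRA hf).choose_spec.choose_spec.choose (hRA hf).choose_spec.choose_spec.choose_spec.1)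
  have hy : y.Compatible := by
    intro Y₁ Y₂ W g₁ g₂ f₁ f₂ hf₁ hf₂ e
    simp only [y, ← Functor.map_comp_apply, ← op_comp]
    refine key _ _ _ _ _ _ ?_
    rw [Category.assoc, Category.assoc, (hRA hf₁).choose_spec.choose_spec.choose_spec.2,
      (hRA hf₂).choose_spec.choose_spec.choose_spec.2, e]
  obtain ⟨s, hs, -⟩ := hF _ (hRJ Z) y hy
  have hs' : ∀ {V : C} (b : V ⟶ Z) (hV : A V), F.map b.op s = t V b hV := by
    intro V b hV
    refine (hF _ (hRJ V)).isSeparatedFor.ext fun T f hf => ?_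
    obtain ⟨V', a, b', hV', rfl⟩ := hRA hf
    have hmem : ((R Z).pullback (b' ≫ b)) ∈ J V' := J.pullback_stable _ (hRJ Z)
    have e : F.map b'.op (F.map b.op s) = F.map b'.op (t V b hV) := by
      refine (hF _ hmem).isSeparatedFor.ext fun U c hc => ?_
      simp only [← Functor.map_comp_apply, ← op_comp]
      rw [hs _ hc]
      refine key _ _ _ _ _ _ ?_
      rw [(hRA hc).choose_spec.choose_spec.choose_spec.2]
      simp
    simp only [op_comp, Functor.map_comp_apply, e]
  refine ⟨s, fun W f hf => ext' _ _ fun {V} b hV => ?_, fun s' hs'' => sep (𝟙 Z) _ _ fun {V} c hc => ?_⟩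
  · have h1 : S.pullback (b ≫ f) (𝟙 V) := by
      show S (𝟙 V ≫ b ≫ f)
      rw [Category.id_comp]
      exact S.downward_closed hf b
    rw [← Functor.map_comp_apply, ← op_comp, hs' _ hV]
    have := ht V (b ≫ f) hV (𝟙 V) h1
    simp only [op_id, FunctorToTypes.map_id_apply, Presieve.FamilyOfElements.pullback] at this
    rw [this, ← hx.to_sieveCompatible f b hf]
    congr 1
    simp
  · have hc' : S c := by simpa using hc
    rw [hs'' c hc']
    refine ext' _ _ fun {V'} b hV => ?_
    have h1 : S.pullback (b ≫ c) (𝟙 V') := by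
      show S (𝟙 V' ≫ b ≫ c)
      rw [Category.id_comp]
      exact S.downward_closed hc' b
    rw [← Functor.map_comp_apply F c.op b.op, ← op_comp, hs' _ hV]
    have := ht V' (b ≫ c) hV (𝟙 V') h1
    simp only [op_id, FunctorToTypes.map_id_apply, Presieve.FamilyOfElements.pullback] at this
    rw [this, ← hx.to_sieveCompatible c b hc']
    congr 1
    simp

end General

variable {X : Scheme.{u}}

/-- an etale scheme over an object of the small site, as an object -/
def mkObj (Z : X.Etale) {W : Scheme.{u}} (g : W ⟶ Z.left) [Etale g] : X.Etale :=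
  MorphismProperty.Over.mk ⊤ (g ≫ Z.hom)
    (by haveI : Etale Z.hom := Z.prop; infer_instance : Etale (g ≫ Z.hom))

def mkMap (Z : X.Etale) {W : Scheme.{u}} (g : W ⟶ Z.left) [Etale g] : mkObj Z g ⟶ Z :=
  MorphismProperty.Over.homMk g rfl trivial

theorem etale_left {Y Z : X.Etale} (f : Y ⟶ Z) : Etale f.left := by
  haveI : Etale Z.hom := Z.prop
  have h : Etale (f.left ≫ Z.hom) := by
    rw [MorphismProperty.Over.w f]
    exact Y.prop
  exact MorphismProperty.of_postcomp @Etale f.left Z.hom (inferInstance : Etale Z.hom) h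

theorem mem_zariski {Z : X.Etale} (R : Sieve Z) :
    R ∈ X.smallGrothendieckTopology (P := @IsOpenImmersion) (Q := @Etale) Z ↔
      ∀ x : Z.left, ∃ (Y : X.Etale) (f : Y ⟶ Z) (y : Y.left), R f ∧ IsOpenImmersion f.left ∧ f.left y = x := by
  rw [Scheme.smallGrothendieckTopology_eq_toGrothendieck_smallPretopology X
    (fun _ _ f hf => by haveI : IsOpenImmersion f := hf; infer_instance)]
  exact Scheme.mem_toGrothendieck_smallPretopology _ _

theorem mem_etale {Z : X.Etale} (R : Sieve Z) :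
    R ∈ X.smallEtaleTopology Z ↔
      ∀ x : Z.left, ∃ (Y : X.Etale) (f : Y ⟶ Z) (y : Y.left), R f ∧ Etale f.left ∧ f.left y = x := by
  rw [Scheme.smallEtaleTopology, Scheme.smallGrothendieckTopology_eq_toGrothendieck_smallPretopology X le_rfl]
  exact Scheme.mem_toGrothendieck_smallPretopology _ _

theorem zariski_le : X.smallGrothendieckTopology (P := @IsOpenImmersion) (Q := @Etale) ≤ X.smallEtaleTopology := by
  intro Z R hR
  refine (mem_etale R).2 fun x => ?_
  obtain ⟨Y, f, y, h1, -, h3⟩ := (mem_zariski R).1 hR x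
  exact ⟨Y, f, y, h1, etale_left f, h3⟩

/-- arrows factoring through an affine open immersion -/
def affSieve (Z : X.Etale) : Sieve Z where
  arrows W f := ∃ (V : X.Etale) (a : W ⟶ V) (b : V ⟶ Z), IsAffine V.left ∧ IsOpenImmersion b.left ∧ a ≫ b = f
  downward_closed := by
    rintro Y W f ⟨V, a, b, h1, h2, rfl⟩ g
    exact ⟨V, g ≫ a, b, h1, h2, by simp⟩

theorem affSieve_mem (Z : X.Etale) :
    affSieve Z ∈ X.smallGrothendieckTopology (P := @IsOpenImmersion) (Q := @Etale) Z := by
  rw [mem_zariski]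
  intro x
  obtain ⟨U, hU, hx, -⟩ := exists_isAffineOpen_mem_and_subset (U := (⊤ : Z.left.Opens)) (x := x) trivial
  exact ⟨mkObj Z U.ι, mkMap Z U.ι, (⟨x, hx⟩ : U.toScheme),
    ⟨_, 𝟙 _, mkMap Z U.ι, hU, (inferInstance : IsOpenImmersion U.ι), by simp⟩,
    (inferInstance : IsOpenImmersion U.ι), rfl⟩

theorem iff_crit (F : X.Etaleᵒᵖ ⥤ Type w) :
    Presieve.IsSheaf X.smallEtaleTopology F ↔
      Presieve.IsSheaf (X.smallGrothendieckTopology (P := @IsOpenImmersion) (Q := @Etale)) F ∧
        ∀ (U V : X.Etale) [IsAffine U.left] [IsAffine V.left] (f : V ⟶ U) [Surjective f.left],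
          Presieve.IsSheafFor F (Presieve.singleton f) := by
  refine ⟨fun hF => ⟨Presieve.isSheaf_of_le _ zariski_le hF, ?_⟩, fun ⟨hZ, hA⟩ => ?_⟩
  · intro U V _ _ f _
    rw [Presieve.isSheafFor_iff_generate]
    refine hF _ ((mem_etale _).2 fun x => ?_)
    obtain ⟨y, hy⟩ := f.left.surjective x
    exact ⟨V, f, y, Sieve.le_generate _ _ _ ⟨⟩, etale_left f, hy⟩
  let T := Sheaf.finestTopologySingle F
  have hzar : X.smallGrothendieckTopology (P := @IsOpenImmersion) (Q := @Etale) ≤ T :=
    fun Z S hS Y g => hZ _ (GrothendieckTopology.pullback_stable _ g hS)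
  -- affine surjective singletons
  have haff : ∀ (U V : X.Etale) [IsAffine U.left] [IsAffine V.left] (f : V ⟶ U) [Surjective f.left],
      Sieve.generate (Presieve.singleton f) ∈ T U := by
    intro U V _ _ f _ Z g
    refine isSheafFor_of_dense _ (fun V => IsAffine V.left) F hZ affSieve affSieve_mem
      (fun {Z W f} ⟨V, a, b, h1, _, h3⟩ => ⟨V, a, b, h1, h3⟩) _ fun {W} h hW => ?_
    haveI : IsAffine W.left := hW
    haveI := etale_left f
    let P : X.Etale := mkObj W (pullback.snd f.left (h ≫ g).left)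
    let pr : P ⟶ W := mkMap W (pullback.snd f.left (h ≫ g).left)
    let pl : P ⟶ V := MorphismProperty.Over.homMk (pullback.fst f.left (h ≫ g).left)
      (by
        show pullback.fst f.left (h ≫ g).left ≫ V.hom = pullback.snd f.left (h ≫ g).left ≫ W.hom
        rw [← MorphismProperty.Over.w f, ← MorphismProperty.Over.w (h ≫ g), ← Category.assoc,
          pullback.condition, Category.assoc]) trivial
    have hcomm : pl ≫ f = pr ≫ h ≫ g := by
      apply MorphismProperty.Over.Hom.ext
      exact pullback.condition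
    haveI : IsAffine P.left := inferInstanceAs <| IsAffine (pullback f.left (h ≫ g).left)
    haveI : Surjective pr.left := inferInstanceAs <| Surjective (pullback.snd f.left (h ≫ g).left)
    have e : ((Sieve.generate (Presieve.singleton f)).pullback g).pullback h = Sieve.generate (Presieve.singleton pr) := by
      ext Q q
      constructor
      · rintro ⟨_, a, _, ⟨⟩, ha⟩
        have ha' : a ≫ f = q ≫ h ≫ g := by simpa using ha
        refine ⟨P, MorphismProperty.Over.homMk (pullback.lift a.left q.left ?_) ?_ trivial, pr, ⟨⟩, ?_⟩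
        · exact congrArg (fun m : Q ⟶ U => m.left) ha'
        · show pullback.lift a.left q.left _ ≫ pullback.snd f.left (h ≫ g).left ≫ W.hom = Q.hom
          rw [pullback.lift_snd_assoc, MorphismProperty.Over.w]
        · apply MorphismProperty.Over.Hom.ext
          exact pullback.lift_snd _ _ _
      · rintro ⟨_, a, _, ⟨⟩, rfl⟩
        exact ⟨V, a ≫ pl, f, ⟨⟩, by simp [hcomm]⟩
    rw [e, ← Presieve.isSheafFor_iff_generate]
    exact hA W P pr
  intro U R hR
  suffices hRT : R ∈ T U by simpa using hRT U (𝟙 U)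
  refine T.transitive (hzar _ (affSieve_mem U)) R ?_
  rintro W _ ⟨U', a, b, hU', -, rfl⟩
  rw [Sieve.pullback_comp]
  refine T.pullback_stable a ?_
  have hR' := (mem_etale _).1 (GrothendieckTopology.pullback_stable _ b hR)
  haveI : IsAffine U'.left := hU'
  choose Ys f y hRf het hy using hR'
  choose O hO hyO _ using fun x => exists_isAffineOpen_mem_and_subset (U := (⊤ : (Ys x).left.Opens)) (x := y x) trivial
  haveI := fun x => het x
  let img : U'.left → Set U'.left := fun x => Set.range ((O x).ι ≫ (f x).left)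
  obtain ⟨t, ht⟩ := isCompact_univ.elim_finite_subcover img
    (fun x => ((O x).ι ≫ (f x).left).isOpenMap.isOpen_range)
    (fun x _ => Set.mem_iUnion.2 ⟨x, ⟨y x, hyO x⟩, by simp [hy]⟩)
  let fam : t → Scheme.{u} := fun i => (O i.1).toScheme
  let d : ∐ fam ⟶ U'.left := Sigma.desc fun i => (O i.1).ι ≫ (f i.1).left
  haveI : Etale d := IsZariskiLocalAtSource.sigmaDesc fun i => inferInstance
  haveI : ∀ i, IsAffine (fam i) := fun i => hO i.1
  haveI : IsAffine (mkObj U' d).left := inferInstanceAs <| IsAffine (∐ fam)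
  haveI : Surjective (mkMap U' d).left := ⟨fun x => by
    obtain ⟨i, hi, z, rfl⟩ : ∃ i ∈ t, x ∈ img i := by simpa using ht (Set.mem_univ x)
    refine ⟨Sigma.ι fam ⟨i, hi⟩ z, ?_⟩
    show (Sigma.ι fam ⟨i, hi⟩ ≫ d) z = _
    rw [Sigma.ι_desc]⟩
  refine T.transitive (haff U' _ (mkMap U' d)) _ ?_
  rintro Q _ ⟨_, q, _, ⟨⟩, rfl⟩
  rw [Sieve.pullback_comp]
  refine T.pullback_stable q (hzar _ ((mem_zariski _).2 fun x => ?_))
  obtain ⟨i, z, rfl⟩ := (sigmaOpenCover fam).exists_eq x
  haveI : Etale ((Sigma.ι fam i)) := inferInstance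
  refine ⟨mkObj (mkObj U' d) (Sigma.ι fam i), mkMap (mkObj U' d) (Sigma.ι fam i), z, ?_,
    (inferInstance : IsOpenImmersion (Sigma.ι fam i)), rfl⟩
  let l : mkObj (mkObj U' d) (Sigma.ι fam i) ⟶ Ys i.1 := MorphismProperty.Over.homMk (O i.1).ι
    (by
      show (O i.1).ι ≫ (Ys i.1).hom = Sigma.ι fam i ≫ d ≫ U'.hom
      rw [Sigma.ι_desc_assoc, Category.assoc, MorphismProperty.Over.w]) trivial
  have el : mkMap (mkObj U' d) (Sigma.ι fam i) ≫ mkMap U' d = l ≫ f i.1 := by
    apply MorphismProperty.Over.Hom.ext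
    exact Sigma.ι_desc _ _
  show R.pullback b (mkMap (mkObj U' d) (Sigma.ι fam i) ≫ mkMap U' d)
  rw [el]
  exact (R.pullback b).downward_closed (hRf i.1) l

end Groth.Agent.Misc9.EtSheafCrit
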