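import Groth.Agent.UnivHomeo.Basic
import Groth.Agent.UnivHomeo.Affine
import Mathlib.AlgebraicGeometry.Morphisms.Etale
import Mathlib.AlgebraicGeometry.Morphisms.FlatMono
import Mathlib.AlgebraicGeometry.Morphisms.Flat

/-! Morphisms to étale schemes do not see universal homeomorphisms. -/

universe u

namespace Groth.Agent.Misc9.EtUH

open AlgebraicGeometry CategoryTheory CategoryTheory.Limits
open Groth.Agent.UnivHomeo.Basic

variable {S X Y : Scheme.{u}}

theorem isOpenImmersion_of_section {P T : Scheme.{u}} (p : P ⟶ T) [Etale p] (σ : T ⟶ P)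
    (hσ : σ ≫ p = 𝟙 T) : IsOpenImmersion σ := by
  have : Etale (σ ≫ p) := by rw [hσ]; infer_instance
  have : Etale σ := MorphismProperty.of_postcomp (W := @Etale) (W' := @Etale) σ p ‹_› ‹_›
  have : Mono σ := (SplitMono.mk p hσ).mono
  exact IsOpenImmersion.of_flat_of_mono σ

theorem eq_of_comp_eq {T : Scheme.{u}} (xh : X ⟶ S) [Etale xh] (q : T ⟶ Y) [Surjective q]
    (a b : Y ⟶ X) (hab : a ≫ xh = b ≫ xh) (h : q ≫ a = q ≫ b) : a = b := by
  let m := pullback.lift a b hab
  have : IsOpenImmersion (pullback.diagonal xh) := inferInstance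
  let e := pullback.fst m (pullback.diagonal xh)
  have : IsOpenImmersion e := inferInstance
  have : Surjective e := by
    have hw : q ≫ m = (q ≫ a) ≫ pullback.diagonal xh := by
      apply pullback.hom_ext
      · rw [Category.assoc, Category.assoc, pullback.diagonal_fst, Category.comp_id]
        exact congrArg (q ≫ ·) (pullback.lift_fst a b hab)
      · rw [Category.assoc, Category.assoc, pullback.diagonal_snd, Category.comp_id]
        exact (congrArg (q ≫ ·) (pullback.lift_snd a b hab)).trans h.symm
    have hl : pullback.lift q (q ≫ a) hw ≫ e = q := pullback.lift_fst _ _ _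
    refine ⟨fun y ↦ ?_⟩
    obtain ⟨t, rfl⟩ := q.surjective y
    exact ⟨pullback.lift q (q ≫ a) hw t, by rw [← Scheme.Hom.comp_apply, hl]⟩
  have : IsIso e := (isIso_iff_isOpenImmersion_and_surjective e).mpr ⟨inferInstance, inferInstance⟩
  have hm : m = inv e ≫ pullback.snd m (pullback.diagonal xh) ≫ pullback.diagonal xh := by
    rw [← pullback.condition, IsIso.inv_hom_id_assoc]
  have h1 := congrArg (fun t ↦ t ≫ pullback.fst xh xh) hm
  have h2 := congrArg (fun t ↦ t ≫ pullback.snd xh xh) hm
  simp only [m, pullback.lift_fst, pullback.lift_snd, Category.assoc, pullback.diagonal_fst,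
    pullback.diagonal_snd, Category.comp_id] at h1 h2
  exact h1.trans h2.symm

theorem exists_hom {T : Scheme.{u}} (xh : X ⟶ S) [Etale xh] (yh : Y ⟶ S) (q : T ⟶ Y) [IsIntegralHom q]
    [UniversallyInjective q] [Surjective q] (c : T ⟶ X) (hc : c ≫ xh = q ≫ yh) :
    ∃ a : Y ⟶ X, a ≫ xh = yh ∧ q ≫ a = c := by
  let p1 := pullback.fst yh xh
  have hp1 : Etale p1 := inferInstance
  let r := pullback.fst p1 q
  let p' := pullback.snd p1 q
  have : Etale p' := inferInstance
  have : IsIntegralHom r := MorphismProperty.pullback_fst (P := @IsIntegralHom) _ _ ‹_›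
  have : UniversallyInjective r := MorphismProperty.pullback_fst (P := @UniversallyInjective) _ _ ‹_›
  have : Surjective r := MorphismProperty.pullback_fst (P := @Surjective) _ _ ‹_›
  have hs : pullback.lift q c hc.symm ≫ p1 = 𝟙 T ≫ q := by rw [pullback.lift_fst, Category.id_comp]
  let σ := pullback.lift (pullback.lift q c hc.symm) (𝟙 T) hs
  have hσ : σ ≫ p' = 𝟙 T := pullback.lift_snd _ _ _
  have : IsOpenImmersion σ := isOpenImmersion_of_section p' σ hσ
  have hr : IsHomeomorph r.base := (isUnivHomeo_of r _ _ _ (IsPullback.of_id_snd) : IsHomeomorph _)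
  let U : (pullback yh xh).Opens := ⟨r '' Set.range σ, hr.isOpenMap _ σ.isOpenEmbedding.isOpen_range⟩
  let u := U.ι ≫ p1
  have hu : Etale u := inferInstance
  have hUI : UniversallyInjective u := by
    refine ((tfae_universallyInjective u).out 0 1 :
      UniversallyInjective u ↔ ∀ (K : Type u) [Field K],
        Function.Injective (fun g : Spec (.of K) ⟶ (U : Scheme) ↦ g ≫ u)).mpr fun K _ g₁ g₂ hg ↦ ?_
    simp only at hg
    let Z := pullback q (g₁ ≫ u)
    have : Surjective (pullback.snd q (g₁ ≫ u)) := MorphismProperty.pullback_snd (P := @Surjective) _ _ ‹_›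
    obtain ⟨z, -⟩ := (pullback.snd q (g₁ ≫ u)).surjective (IsLocalRing.closedPoint K)
    let ρ := Z.fromSpecResidueField z ≫ pullback.snd q (g₁ ≫ u)
    let h := Z.fromSpecResidueField z ≫ pullback.fst q (g₁ ≫ u)
    have hh : h ≫ q = ρ ≫ g₁ ≫ u := by simp only [h, ρ, Category.assoc, pullback.condition]
    have hflat : Flat ρ := by
      obtain ⟨ψ, hψ⟩ := Spec.map_surjective ρ
      rw [← hψ]
      refine (HasRingHomProperty.Spec_iff (P := @Flat)).mpr ?_
      letI := ψ.hom.toAlgebra
      letI : Field (CommRingCat.of K : CommRingCat) := inferInstanceAs (Field K)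
      exact Module.Flat.of_free
    have hsu : Surjective ρ := ⟨fun x ↦ by
      refine ⟨IsLocalRing.closedPoint (Z.residueField z), ?_⟩
      have hsub : Subsingleton (Spec (CommRingCat.of K)) := inferInstanceAs (Subsingleton (PrimeSpectrum K))
      exact Subsingleton.elim _ _⟩
    have : Epi ρ := Flat.epi_of_flat_of_surjective ρ
    rw [← cancel_epi ρ]
    have key : ∀ g : Spec (.of K) ⟶ (U : Scheme), ρ ≫ g ≫ u = h ≫ q → (ρ ≫ g) ≫ U.ι = (h ≫ σ) ≫ r := by
      intro g hgq
      have hw : ((ρ ≫ g) ≫ U.ι) ≫ p1 = h ≫ q := by rw [← hgq]; simp [u]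
      let l := pullback.lift ((ρ ≫ g) ≫ U.ι) h hw
      have hrange : Set.range l ⊆ Set.range σ := by
        rintro _ ⟨x, rfl⟩
        have hlx : r (l x) ∈ U := by
          rw [← Scheme.Hom.comp_apply, pullback.lift_fst, Scheme.Hom.comp_apply]
          exact ((ρ ≫ g) x).2
        obtain ⟨y, hy, hyx⟩ := hlx
        exact hr.injective hyx ▸ hy
      have hl := IsOpenImmersion.lift_fac σ l hrange
      have hlh : IsOpenImmersion.lift σ l hrange = h := by
        have := congrArg (fun t ↦ t ≫ p') hl
        simp only [Category.assoc, hσ, Category.comp_id] at this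
        rw [this]
        exact pullback.lift_snd _ _ _
      rw [hlh] at hl
      rw [hl]
      exact (pullback.lift_fst _ _ _).symm
    rw [← cancel_mono U.ι, key g₁ hh.symm, key g₂ (by rw [← hg]; exact hh.symm)]
  have : Mono u := by
    have : Surjective (pullback.diagonal u) := (UniversallyInjective.iff_diagonal u).mp hUI
    have : IsIso (pullback.diagonal u) :=
      (isIso_iff_isOpenImmersion_and_surjective _).mpr ⟨inferInstance, inferInstance⟩
    exact (pullback.isIso_diagonal_iff u).mp inferInstance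
  have : IsOpenImmersion u := IsOpenImmersion.of_flat_of_mono u
  have hfac : σ ≫ r = pullback.lift q c hc.symm := pullback.lift_fst _ _ _
  have hrange : Set.range (σ ≫ r) ⊆ Set.range U.ι := by
    rw [Scheme.Opens.range_ι]
    rintro _ ⟨t, rfl⟩
    exact ⟨σ t, ⟨t, rfl⟩, rfl⟩
  let tU := IsOpenImmersion.lift U.ι (σ ≫ r) hrange
  have htU : tU ≫ U.ι = σ ≫ r := IsOpenImmersion.lift_fac _ _ _
  have htq : tU ≫ u = q := by
    rw [show u = U.ι ≫ p1 from rfl, ← Category.assoc, htU, hfac, pullback.lift_fst]
  have : Surjective u := ⟨fun y ↦ by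
    obtain ⟨t, rfl⟩ := q.surjective y
    exact ⟨tU t, by rw [← Scheme.Hom.comp_apply, htq]⟩⟩
  have : IsIso u := (isIso_iff_isOpenImmersion_and_surjective _).mpr ⟨inferInstance, inferInstance⟩
  refine ⟨inv u ≫ U.ι ≫ pullback.snd yh xh, ?_, ?_⟩
  · simp only [Category.assoc, ← pullback.condition]
    rw [← Category.assoc U.ι, IsIso.inv_hom_id_assoc]
  · have : q ≫ inv u = tU := by rw [IsIso.comp_inv_eq, htq]
    rw [← Category.assoc, this, ← Category.assoc, htU, hfac, pullback.lift_snd]

theorem bijective {S S' : Scheme.{u}} (g : S' ⟶ S) [IsIntegralHom g] [UniversallyInjective g]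
    [Surjective g] (X Y : Over S) [AlgebraicGeometry.Etale X.hom] :
    Function.Bijective (fun φ : Y ⟶ X => (Over.pullback g).map φ) := by
  have : IsIntegralHom (pullback.fst Y.hom g) := MorphismProperty.pullback_fst (P := @IsIntegralHom) _ _ ‹_›
  have : UniversallyInjective (pullback.fst Y.hom g) :=
    MorphismProperty.pullback_fst (P := @UniversallyInjective) _ _ ‹_›
  have : Surjective (pullback.fst Y.hom g) := MorphismProperty.pullback_fst (P := @Surjective) _ _ ‹_›
  have hmap : ∀ φ : Y ⟶ X, ((Over.pullback g).map φ).left ≫ pullback.fst X.hom g =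
      pullback.fst Y.hom g ≫ φ.left := fun φ ↦ pullback.lift_fst _ _ _
  constructor
  · intro a b h
    refine Over.OverMorphism.ext (eq_of_comp_eq X.hom (pullback.fst Y.hom g) a.left b.left
      ((Over.w a).trans (Over.w b).symm) ?_)
    rw [← hmap, ← hmap]
    exact congrArg (fun t : (Over.pullback g).obj Y ⟶ (Over.pullback g).obj X ↦ t.left ≫ pullback.fst X.hom g) h
  · intro φ'
    have hw : φ'.left ≫ pullback.snd X.hom g = pullback.snd Y.hom g := Over.w φ'
    obtain ⟨a, ha, ha'⟩ := exists_hom X.hom Y.hom (pullback.fst Y.hom g) (φ'.left ≫ pullback.fst X.hom g) (by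
      rw [Category.assoc, pullback.condition, pullback.condition, ← Category.assoc, hw])
    refine ⟨Over.homMk a ha, Over.OverMorphism.ext (pullback.hom_ext ?_ ?_)⟩
    · exact (hmap _).trans ha'
    · exact (Over.w _).trans hw.symm

end Groth.Agent.Misc9.EtUH
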