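import Groth.Agent.Misc9.ValSection
import Groth.Agent.RegularLocal.Basic
import Mathlib.AlgebraicGeometry.SpreadingOut
import Mathlib.AlgebraicGeometry.ValuativeCriterion
import Mathlib.AlgebraicGeometry.Morphisms.Proper
import Mathlib.RingTheory.DiscreteValuationRing.TFAE
import Mathlib.RingTheory.RegularLocalRing.Defs

/-! Extending morphisms over points whose local ring is a valuation domain. -/

set_option autoImplicit false
set_option backward.isDefEq.respectTransparency false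
universe u
namespace Groth.Agent.Misc9.ExtendAt
open CategoryTheory CategoryTheory.Limits AlgebraicGeometry IsLocalRing TopologicalSpace

theorem exists_specializes_of_finite {α : Type*} [TopologicalSpace α] [QuasiSober α] (S : Set α) (hS : IsOpen S)
    (hfin : (irreducibleComponents α).Finite) {x : α} (hx : x ∈ closure S) : ∃ z ∈ S, z ⤳ x := by
  have hcov : S = ⋃ Z ∈ irreducibleComponents α, S ∩ Z := by
    rw [← Set.inter_iUnion₂, ← Set.sUnion_eq_biUnion, sUnion_irreducibleComponents, Set.inter_univ]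
  rw [hcov, hfin.closure_biUnion] at hx
  obtain ⟨Z, hZ, hxZ⟩ := Set.mem_iUnion₂.1 hx
  have hxZ' : x ∈ Z := closure_minimal Set.inter_subset_right (isClosed_of_mem_irreducibleComponents Z hZ) hxZ
  have hne : (Z ∩ S).Nonempty := by
    rw [Set.inter_comm]
    exact closure_nonempty_iff.1 ⟨x, hxZ⟩
  have hg : IsGenericPoint hZ.1.genericPoint Z := by
    have := hZ.1.isGenericPoint_genericPoint_closure
    rwa [(isClosed_of_mem_irreducibleComponents Z hZ).closure_eq] at this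
  exact ⟨_, (hg.mem_open_set_iff hS).2 hne, hg.specializes hxZ'⟩

theorem exists_specializes_of_locallyNoetherian {X : Scheme.{u}} [IsLocallyNoetherian X] (V : X.Opens) {x : X}
    (hx : x ∈ closure (V : Set X)) : ∃ z ∈ V, z ⤳ x := by
  obtain ⟨_, ⟨W : X.Opens, hW, rfl⟩, hxW, -⟩ :=
    X.isBasis_affineOpens.exists_subset_of_mem_open (Set.mem_univ x) isOpen_univ
  haveI : IsAffine W := hW
  haveI : IsLocallyNoetherian W := isLocallyNoetherian_of_isOpenImmersion W.ι
  haveI : IsNoetherian W := {}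
  haveI : NoetherianSpace W := inferInstance
  obtain ⟨z, hz, hzx⟩ := exists_specializes_of_finite (W.ι.base ⁻¹' (V : Set X))
    (V.2.preimage W.ι.continuous) NoetherianSpace.finite_irreducibleComponents (x := (⟨x, hxW⟩ : (W : Scheme.{u}))) (by
      rw [← W.ι.isOpenEmbedding.isOpenMap.preimage_closure_eq_closure_preimage W.ι.continuous]
      exact hx)
  exact ⟨W.ι z, hz, hzx.map W.ι.continuous⟩

variable {X : Scheme.{u}} (x : X) [IsDomain (X.presheaf.stalk x)]
variable (K : Type u) [Field K] [Algebra (X.presheaf.stalk x) K] [IsFractionRing (X.presheaf.stalk x) K]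

/-- the generic point of `Spec 𝒪_x`, mapped to `X` -/
noncomputable abbrev gen : Spec (CommRingCat.of K) ⟶ X :=
  Spec.map (CommRingCat.ofHom (algebraMap (X.presheaf.stalk x) K)) ≫ X.fromSpecStalk x

theorem gen_specializes {z : X} (h : z ⤳ x) (t : Spec (CommRingCat.of K)) : gen x K t ⤳ z := by
  obtain ⟨p, rfl⟩ : z ∈ Set.range (X.fromSpecStalk x) := by
    rw [Scheme.range_fromSpecStalk]
    exact h
  rw [Scheme.Hom.comp_apply]
  refine Specializes.map ((PrimeSpectrum.le_iff_specializes _ _).1 ?_) (X.fromSpecStalk x).continuous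
  show Ideal.comap (algebraMap (X.presheaf.stalk x) K) t.asIdeal ≤ p.asIdeal
  rw [(Ideal.eq_bot_or_top t.asIdeal).resolve_right t.2.ne_top,
    Ideal.comap_bot_of_injective _ (IsFractionRing.injective _ K)]
  exact bot_le

theorem range_gen_subset (U : X.Opens) (h : ∃ z ∈ U, z ⤳ x) : Set.range (gen x K) ⊆ Set.range U.ι := by
  rintro _ ⟨t, rfl⟩
  obtain ⟨z, hz, hzx⟩ := h
  rw [Scheme.Opens.range_ι]
  exact (gen_specializes x K hzx t).mem_open U.2 hz

/-- a morphism `Spec 𝒪_x ⟶ Y` compatible with `f` at the generic point spreads out compatibly with `f`. -/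
theorem spread {Y S : Scheme.{u}} (p : X ⟶ S) (q : Y ⟶ S) [IsSeparated q] [LocallyOfFiniteType q]
    [X.IsGermInjectiveAt x] (U : X.Opens) (f : (U : Scheme.{u}) ⟶ Y) (hf : f ≫ q = U.ι ≫ p)
    (e : Spec (CommRingCat.of K) ⟶ (U : Scheme.{u})) (he : e ≫ U.ι = gen x K)
    (φ : Spec (X.presheaf.stalk x) ⟶ Y) (h1 : φ ≫ q = X.fromSpecStalk x ≫ p)
    (h2 : Spec.map (CommRingCat.ofHom (algebraMap (X.presheaf.stalk x) K)) ≫ φ = e ≫ f) :
    ∃ (W : X.Opens) (g : (W : Scheme.{u}) ⟶ Y), x ∈ W ∧ g ≫ q = W.ι ≫ p ∧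
      X.homOfLE (inf_le_left : U ⊓ W ≤ U) ≫ f = X.homOfLE (inf_le_right : U ⊓ W ≤ W) ≫ g := by
  obtain ⟨W₀, hxW₀, g₀, hg₀, hg₀q⟩ := spread_out_of_isGermInjective' p q φ h1
  obtain ⟨V, hxV, hV, hinj⟩ := X.exists_germ_injective x
  haveI : IsDomain Γ(X, V) := hinj.isDomain (X.presheaf.germ V x hxV).hom
  haveI : Nonempty V := ⟨⟨x, hxV⟩⟩
  haveI : IsAffine V := hV
  haveI : IsIntegral V := isIntegral_of_isOpenImmersion hV.isoSpec.hom
  refine ⟨W₀ ⊓ V, X.homOfLE inf_le_left ≫ g₀, ⟨hxW₀, hxV⟩, ?_, ?_⟩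
  · rw [Category.assoc, hg₀q, Scheme.homOfLE_ι_assoc]
  · let T : X.Opens := U ⊓ (W₀ ⊓ V)
    have hTV : T ≤ V := inf_le_right.trans inf_le_right
    have hr : Set.range (gen x K) ⊆ Set.range T.ι := by
      rintro _ ⟨t, rfl⟩
      rw [Scheme.Opens.range_ι]
      refine ⟨?_, ?_⟩
      · have : gen x K t = U.ι (e t) := by rw [← Scheme.Hom.comp_apply, he]
        rw [this]
        exact (e t).2
      · exact (gen_specializes x K (specializes_refl x) t).mem_open (W₀ ⊓ V).2 ⟨hxW₀, hxV⟩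
    let eT : Spec (CommRingCat.of K) ⟶ (T : Scheme.{u}) := IsOpenImmersion.lift T.ι (gen x K) hr
    have heT : eT ≫ T.ι = gen x K := IsOpenImmersion.lift_fac _ _ _
    haveI : Nonempty T := ⟨eT (closedPoint K)⟩
    haveI : IsIntegral T := isIntegral_of_isOpenImmersion (X.homOfLE hTV)
    haveI : IsDominant eT := by
      refine ⟨fun z => ?_⟩
      have hs : gen x K (closedPoint K) ⤳ z.1 := by
        have hg : V.ι (genericPoint (V : Scheme.{u})) ⤳ z.1 :=
          (genericPoint_specializes (α := (V : Scheme.{u})) ⟨z.1, hTV z.2⟩).map V.ι.continuous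
        have hgx : V.ι (genericPoint (V : Scheme.{u})) ⤳ x :=
          (genericPoint_specializes (α := (V : Scheme.{u})) ⟨x, hxV⟩).map V.ι.continuous
        exact (gen_specializes x K hgx _).trans hg
      have hz : eT (closedPoint K) ⤳ z := by
        rw [← T.ι.isOpenEmbedding.isInducing.specializes_iff, ← Scheme.Hom.comp_apply, heT]
        exact hs
      exact closure_mono (Set.singleton_subset_iff.2 (Set.mem_range_self (closedPoint K))) (specializes_iff_mem_closure.1 hz)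
    refine ext_of_isDominant_of_isSeparated q ?_ eT ?_
    · simp only [Category.assoc, hf, hg₀q, Scheme.homOfLE_ι_assoc]
    · have e1 : eT ≫ X.homOfLE (inf_le_left : T ≤ U) = e := by
        rw [← cancel_mono U.ι, Category.assoc, Scheme.homOfLE_ι, heT, he]
      have e2 : eT ≫ X.homOfLE (inf_le_right : T ≤ W₀ ⊓ V) ≫ X.homOfLE (inf_le_left : W₀ ⊓ V ≤ W₀) =
          Spec.map (CommRingCat.ofHom (algebraMap (X.presheaf.stalk x) K)) ≫ W₀.fromSpecStalkOfMem x hxW₀ := by
        rw [← cancel_mono W₀.ι]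
        simp only [Category.assoc, Scheme.homOfLE_ι, Scheme.homOfLE_ι_assoc, Scheme.Opens.fromSpecStalkOfMem_ι, heT]
      rw [reassoc_of% e1, reassoc_of% e2, ← hg₀, h2]

/-- the lift over a valuation ring for a proper morphism -/
theorem exists_lift_proper {Y S : Scheme.{u}} [ValuationRing (X.presheaf.stalk x)] (p : X ⟶ S) (q : Y ⟶ S) [UniversallyClosed q]
    (U : X.Opens) (f : (U : Scheme.{u}) ⟶ Y) (hf : f ≫ q = U.ι ≫ p)
    (e : Spec (CommRingCat.of K) ⟶ (U : Scheme.{u})) (he : e ≫ U.ι = gen x K) :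
    ∃ φ : Spec (X.presheaf.stalk x) ⟶ Y, φ ≫ q = X.fromSpecStalk x ≫ p ∧
      Spec.map (CommRingCat.ofHom (algebraMap (X.presheaf.stalk x) K)) ≫ φ = e ≫ f := by
  let j := Spec.map (CommRingCat.ofHom (algebraMap (X.presheaf.stalk x) K))
  have w : (e ≫ f) ≫ q = j ≫ X.fromSpecStalk x ≫ p := by
    rw [Category.assoc, hf, reassoc_of% he]
  obtain ⟨σ, hσ1, hσ2⟩ := ValSection.exists_section (X.presheaf.stalk x) K (pullback.snd q (X.fromSpecStalk x ≫ p))
    (pullback.snd q (X.fromSpecStalk x ≫ p)).isClosedMap (pullback.lift (e ≫ f) j w) (pullback.lift_snd _ _ _)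
  refine ⟨σ ≫ pullback.fst _ _, ?_, ?_⟩
  · rw [Category.assoc, pullback.condition, reassoc_of% hσ1]
  · rw [reassoc_of% hσ2, pullback.lift_fst]

theorem isClosedMap_snd {Z : Scheme.{u}} (f : Z ⟶ X) (hcl : IsClosedMap f.base) :
    IsClosedMap (pullback.snd f (X.fromSpecStalk x)).base := by
  intro C hC
  obtain ⟨C', hC', rfl⟩ := (pullback.fst f (X.fromSpecStalk x)).isEmbedding.isInducing.isClosed_iff.1 hC
  convert (hcl C' hC').preimage (X.fromSpecStalk x).continuous using 1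
  ext t
  constructor
  · rintro ⟨w, hw, rfl⟩
    refine ⟨pullback.fst f _ w, hw, ?_⟩
    rw [← Scheme.Hom.comp_apply, pullback.condition, Scheme.Hom.comp_apply]
  · rintro ⟨c, hc, hct⟩
    obtain ⟨w, hw1, hw2⟩ := Scheme.Pullback.exists_preimage_pullback (f := f) (g := X.fromSpecStalk x) c t hct
    exact ⟨w, by show pullback.fst f _ w ∈ C'; rwa [hw1], hw2⟩

/-- the lift over a valuation ring for a closed map to `X` -/
theorem exists_lift_closedMap {Y : Scheme.{u}} [ValuationRing (X.presheaf.stalk x)] (q : Y ⟶ X) (hcl : IsClosedMap q.base)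
    (U : X.Opens) (f : (U : Scheme.{u}) ⟶ Y) (hf : f ≫ q = U.ι)
    (e : Spec (CommRingCat.of K) ⟶ (U : Scheme.{u})) (he : e ≫ U.ι = gen x K) :
    ∃ φ : Spec (X.presheaf.stalk x) ⟶ Y, φ ≫ q = X.fromSpecStalk x ≫ 𝟙 X ∧
      Spec.map (CommRingCat.ofHom (algebraMap (X.presheaf.stalk x) K)) ≫ φ = e ≫ f := by
  let j := Spec.map (CommRingCat.ofHom (algebraMap (X.presheaf.stalk x) K))
  have w : (e ≫ f) ≫ q = j ≫ X.fromSpecStalk x := by
    rw [Category.assoc, hf, he]
  obtain ⟨σ, hσ1, hσ2⟩ := ValSection.exists_section (X.presheaf.stalk x) K (pullback.snd q (X.fromSpecStalk x))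
    (isClosedMap_snd x q hcl) (pullback.lift (e ≫ f) j w) (pullback.lift_snd _ _ _)
  refine ⟨σ ≫ pullback.fst _ _, ?_, ?_⟩
  · rw [Category.assoc, pullback.condition, reassoc_of% hσ1, Category.comp_id]
  · rw [reassoc_of% hσ2, pullback.lift_fst]

omit [IsDomain (X.presheaf.stalk x)] in
theorem glue_family {Y S : Scheme.{u}} (p : X ⟶ S) (q : Y ⟶ S) {ι : Type u} (W : ι → X.Opens)
    (g : ∀ i, (W i : Scheme.{u}) ⟶ Y) (hg : ∀ i, g i ≫ q = (W i).ι ≫ p)
    (h : ∀ i k, X.homOfLE (inf_le_left : W i ⊓ W k ≤ W i) ≫ g i = X.homOfLE (inf_le_right : W i ⊓ W k ≤ W k) ≫ g k) :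
    ∃ G : ((⨆ i, W i : X.Opens) : Scheme.{u}) ⟶ Y, G ≫ q = (⨆ i, W i).ι ≫ p ∧
      ∀ i, X.homOfLE (le_iSup W i) ≫ G = g i := by
  let 𝒰 := Scheme.Opens.iSupOpenCover W
  let m (i : ι) : (W i : Scheme.{u}) ⟶ ((⨆ i, W i : X.Opens) : Scheme.{u}) := X.homOfLE (le_iSup W i)
  have hc : ∀ i k : ι, pullback.fst (m i) (m k) ≫ g i = pullback.snd (m i) (m k) ≫ g k := by
    intro i k
    have e : pullback.fst (m i) (m k) ≫ (W i).ι = pullback.snd (m i) (m k) ≫ (W k).ι := by
      have := pullback.condition (f := m i) (g := m k)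
      simpa [m] using congr($this ≫ (⨆ i, W i).ι)
    have hr : Set.range (pullback.fst (m i) (m k) ≫ (W i).ι) ⊆ Set.range (W i ⊓ W k).ι := by
      rintro _ ⟨t, rfl⟩
      rw [Scheme.Opens.range_ι]
      refine ⟨(pullback.fst (m i) (m k) t).2, ?_⟩
      rw [e]
      exact (pullback.snd (m i) (m k) t).2
    let l := IsOpenImmersion.lift (W i ⊓ W k).ι _ hr
    have e1 : pullback.fst (m i) (m k) = l ≫ X.homOfLE inf_le_left := by
      rw [← cancel_mono (W i).ι, Category.assoc, Scheme.homOfLE_ι, IsOpenImmersion.lift_fac]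
    have e2 : pullback.snd (m i) (m k) = l ≫ X.homOfLE inf_le_right := by
      rw [← cancel_mono (W k).ι, Category.assoc, Scheme.homOfLE_ι, IsOpenImmersion.lift_fac, e]
    rw [e1, e2, Category.assoc, Category.assoc, h i k]
  refine ⟨𝒰.glueMorphisms g hc, ?_, fun i => 𝒰.ι_glueMorphisms g hc i⟩
  refine 𝒰.hom_ext _ _ fun i => ?_
  rw [𝒰.ι_glueMorphisms_assoc g hc i, hg]
  exact (Scheme.homOfLE_ι_assoc X (le_iSup W i) p).symm

omit [IsDomain (X.presheaf.stalk x)] in
theorem glue_two {Y S : Scheme.{u}} (p : X ⟶ S) (q : Y ⟶ S) (U W : X.Opens) (f : (U : Scheme.{u}) ⟶ Y)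
    (g : (W : Scheme.{u}) ⟶ Y) (hf : f ≫ q = U.ι ≫ p) (hg : g ≫ q = W.ι ≫ p) (hx : x ∈ W)
    (h : X.homOfLE (inf_le_left : U ⊓ W ≤ U) ≫ f = X.homOfLE (inf_le_right : U ⊓ W ≤ W) ≫ g) :
    ∃ (U' : X.Opens) (hUU' : U ≤ U'), x ∈ U' ∧ ∃ f' : (U' : Scheme.{u}) ⟶ Y, f' ≫ q = U'.ι ≫ p ∧ X.homOfLE hUU' ≫ f' = f := by
  let V : ULift.{u} Bool → X.Opens := fun i => match i with | ⟨true⟩ => U | ⟨false⟩ => W
  let k : ∀ i, (V i : Scheme.{u}) ⟶ Y := fun i => match i with | ⟨true⟩ => f | ⟨false⟩ => g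
  obtain ⟨G, hG, hG'⟩ := glue_family p q V k (by rintro ⟨_ | _⟩ <;> assumption) (by
    rintro ⟨_ | _⟩ ⟨_ | _⟩
    · rfl
    · show X.homOfLE (inf_le_left : W ⊓ U ≤ W) ≫ g = X.homOfLE (inf_le_right : W ⊓ U ≤ U) ≫ f
      have := congr(X.homOfLE (le_of_eq (inf_comm W U)) ≫ $h)
      simpa using this.symm
    · exact h
    · rfl)
  exact ⟨_, le_iSup V ⟨true⟩, TopologicalSpace.Opens.mem_iSup.2 ⟨⟨false⟩, hx⟩, G, hG, hG' ⟨true⟩⟩

omit [IsDomain (X.presheaf.stalk x)] in
theorem valuationRing_of_regular {R : Type u} [CommRing R] [IsRegularLocalRing R] [IsDomain R] (h : ringKrullDim R ≤ 1) : ValuationRing R := by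
  refine ((tfae_of_isNoetherianRing_of_isLocalRing_of_isDomain R).out 5 1 :).mp ?_
  have h1 := (IsRegularLocalRing.iff_finrank_cotangentSpace R).1 ‹_›
  rw [← h1] at h
  exact_mod_cast h

omit [IsDomain (X.presheaf.stalk x)] in
/-- all points of small codimension at once. -/
theorem extend_all {Y S : Scheme.{u}} (p : X ⟶ S) (q : Y ⟶ S) [IsSeparated q] [LocallyOfFiniteType q]
    [IsLocallyNoetherian X] [IsReduced X]
    (hreg : ∀ y : X, ringKrullDim (X.presheaf.stalk y) ≤ 1 → IsRegularLocalRing (X.presheaf.stalk y))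
    (V : X.Opens) (hV : Dense (V : Set X)) (f : (V : Scheme.{u}) ⟶ Y) (hf : f ≫ q = V.ι ≫ p)
    (hlift : ∀ (x : X) (_ : IsDomain (X.presheaf.stalk x)) (_ : ValuationRing (X.presheaf.stalk x))
      (e : Spec (CommRingCat.of (FractionRing (X.presheaf.stalk x))) ⟶ (V : Scheme.{u})),
      e ≫ V.ι = gen x (FractionRing (X.presheaf.stalk x)) →
      ∃ φ : Spec (X.presheaf.stalk x) ⟶ Y, φ ≫ q = X.fromSpecStalk x ≫ p ∧
        Spec.map (CommRingCat.ofHom (algebraMap (X.presheaf.stalk x) (FractionRing (X.presheaf.stalk x)))) ≫ φ = e ≫ f) :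
    ∃ (U : X.Opens) (hVU : V ≤ U) (g : (U : Scheme.{u}) ⟶ Y), g ≫ q = U.ι ≫ p ∧ X.homOfLE hVU ≫ g = f ∧
      ∀ y : X, ringKrullDim (X.presheaf.stalk y) ≤ 1 → y ∈ U := by
  have key : ∀ y : { y : X // ringKrullDim (X.presheaf.stalk y) ≤ 1 }, ∃ (W : X.Opens) (g : (W : Scheme.{u}) ⟶ Y),
      y.1 ∈ W ∧ g ≫ q = W.ι ≫ p ∧
      X.homOfLE (inf_le_left : V ⊓ W ≤ V) ≫ f = X.homOfLE (inf_le_right : V ⊓ W ≤ W) ≫ g := by
    rintro ⟨y, hy⟩
    haveI := hreg y hy
    haveI : IsDomain (X.presheaf.stalk y) := RegularLocal.Basic.isDomain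
    haveI := valuationRing_of_regular hy
    let K := FractionRing (X.presheaf.stalk y)
    have hz : ∃ z ∈ V, z ⤳ y := exists_specializes_of_locallyNoetherian V (hV y)
    let e := IsOpenImmersion.lift V.ι (gen y K) (range_gen_subset y K V hz)
    have he : e ≫ V.ι = gen y K := IsOpenImmersion.lift_fac _ _ _
    obtain ⟨φ, h1, h2⟩ := hlift y inferInstance inferInstance e he
    exact spread y K p q V f hf e he φ h1 h2
  choose W g hmem hgq hcomp using key
  let W' : Option { y : X // ringKrullDim (X.presheaf.stalk y) ≤ 1 } → X.Opens := fun i => match i with | none => V | some y => W y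
  let g' : ∀ i, (W' i : Scheme.{u}) ⟶ Y := fun i => match i with | none => f | some y => g y
  obtain ⟨G, hG, hG'⟩ := glue_family p q W' g' (by rintro (_ | y); exacts [hf, hgq y]) (by
    intro i k
    let T : X.Opens := W' i ⊓ W' k
    let j : ((V ⊓ T : X.Opens) : Scheme.{u}) ⟶ (T : Scheme.{u}) := X.homOfLE inf_le_right
    haveI : IsDominant j := by
      refine ⟨fun t => ?_⟩
      rw [mem_closure_iff]
      intro O hO htO
      obtain ⟨z, hz1, hz2⟩ := hV.inter_open_nonempty (T.ι.base '' O) (T.ι.isOpenEmbedding.isOpenMap O hO) ⟨_, t, htO, rfl⟩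
      obtain ⟨s, hs, rfl⟩ := hz1
      refine ⟨s, hs, ⟨s.1, hz2, s.2⟩, ?_⟩
      apply T.ι.isOpenEmbedding.injective
      rw [← Scheme.Hom.comp_apply, Scheme.homOfLE_ι]
      rfl
    have hr : ∀ l (hl : V ⊓ T ≤ W' l), X.homOfLE hl ≫ g' l = X.homOfLE (inf_le_left : V ⊓ T ≤ V) ≫ f := by
      rintro (_ | y) hl
      · rfl
      · have := congr(X.homOfLE (le_inf inf_le_left hl : V ⊓ T ≤ V ⊓ W y) ≫ $(hcomp y))
        simpa using this.symm
    have hq : ∀ l, g' l ≫ q = (W' l).ι ≫ p := by rintro (_ | y); exacts [hf, hgq y]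
    refine ext_of_isDominant_of_isSeparated q ?_ j ?_
    · simp only [Category.assoc, hq, Scheme.homOfLE_ι_assoc]
    · simp only [j, Scheme.homOfLE_homOfLE_assoc, hr])
  exact ⟨_, le_iSup W' none, G, hG, hG' none, fun y hy =>
    TopologicalSpace.Opens.mem_iSup.2 ⟨some ⟨y, hy⟩, hmem _⟩⟩

end Groth.Agent.Misc9.ExtendAt
namespace Groth.Agent.Misc9.ExtendAt
open CategoryTheory CategoryTheory.Limits AlgebraicGeometry IsLocalRing TopologicalSpace

theorem germInjectiveAt_of_finite {X : Scheme.{u}} (x : X) [IsDomain (X.presheaf.stalk x)] [IsReduced X]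
    (hfin : (irreducibleComponents X).Finite) : X.IsGermInjectiveAt x := by
  let O : X.Opens := ⟨(⋃ Z ∈ {Z ∈ irreducibleComponents X | x ∉ Z}, Z)ᶜ,
    ((hfin.subset (fun Z hZ => hZ.1)).isClosed_biUnion fun Z hZ => isClosed_of_mem_irreducibleComponents Z hZ.1).isOpen_compl⟩
  have hxO : x ∈ O := by
    intro h
    obtain ⟨Z, hZ, hxZ⟩ := Set.mem_iUnion₂.1 h
    exact hZ.2 hxZ
  obtain ⟨_, ⟨V : X.Opens, hV, rfl⟩, hxV, hVO⟩ := X.isBasis_affineOpens.exists_subset_of_mem_open hxO O.2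
  let η : X := gen x (FractionRing (X.presheaf.stalk x)) (closedPoint _)
  have hη : ∀ z ∈ V, η ⤳ z := by
    intro z hz
    obtain ⟨Z, hZ, hzZ⟩ := (Set.mem_sUnion.1 (sUnion_irreducibleComponents.ge (Set.mem_univ z)))
    have hxZ : x ∈ Z := by
      by_contra h
      exact hVO hz (Set.mem_iUnion₂.2 ⟨Z, ⟨hZ, h⟩, hzZ⟩)
    have hg := hZ.1.isGenericPoint_genericPoint_closure
    rw [(isClosed_of_mem_irreducibleComponents Z hZ).closure_eq] at hg
    exact (gen_specializes x _ (hg.specializes hxZ) _).trans (hg.specializes hzZ)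
  have hηV : η ∈ V := (gen_specializes x _ (specializes_refl x) _).mem_open V.2 hxV
  haveI : IrreducibleSpace (V : Scheme.{u}) := by
    have : closure ({(⟨η, hηV⟩ : (V : Scheme.{u}))} : Set (V : Scheme.{u})) = Set.univ := by
      refine Set.eq_univ_of_forall fun z => specializes_iff_mem_closure.1 ?_
      exact V.ι.isOpenEmbedding.isInducing.specializes_iff.1 (hη z.1 z.2)
    refine (irreducibleSpace_def _).2 ?_
    show IsIrreducible (Set.univ : Set (V : Scheme.{u}))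
    rw [← this]
    exact isIrreducible_singleton.closure
  haveI : IsReduced (V : Scheme.{u}) := isReduced_of_isOpenImmersion V.ι
  haveI : IsIntegral (V : Scheme.{u}) := isIntegral_of_irreducibleSpace_of_isReduced _
  exact (isGermInjectiveAt_iff_of_isOpenImmersion (f := V.ι) (x := ⟨x, hxV⟩)).2 inferInstance

theorem ringKrullDim_stalk_le_of_specializes {X : Scheme.{u}} {y x : X} (h : y ⤳ x) :
    ringKrullDim (X.presheaf.stalk y) ≤ ringKrullDim (X.presheaf.stalk x) := by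
  rw [ringKrullDim_stalk_eq_coheight, ringKrullDim_stalk_eq_coheight]
  exact_mod_cast Order.coheight_anti (show x ≤ y from h)

end Groth.Agent.Misc9.ExtendAt
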