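import Mathlib.AlgebraicGeometry.Gluing
import Mathlib.AlgebraicGeometry.PullbackCarrier
import Mathlib.AlgebraicGeometry.OpenImmersion
import Mathlib.AlgebraicGeometry.AffineScheme
import Mathlib.RingTheory.Localization.Away.Basic
import Mathlib.RingTheory.Spectrum.Prime.Topology
import Mathlib.CategoryTheory.Limits.Shapes.Pullback.IsPullback.Basic

/-!
Pushouts of schemes along closed immersions: spectra of fibre products of rings, and a local criterion.
-/

universe u

set_option maxHeartbeats 400000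
set_option synthInstance.maxHeartbeats 40000

open CategoryTheory CategoryTheory.Limits AlgebraicGeometry

namespace Groth.Agent.Misc9.Ferrand

/-- `P` is the fibre product `B ×_A A'` with `A' → A` surjective -/
structure IsFP {P B A' A : CommRingCat.{u}} (u : P ⟶ B) (v : P ⟶ A') (q : B ⟶ A) (p : A' ⟶ A) : Prop where
  surj : Function.Surjective p.hom
  comm : u ≫ q = v ≫ p
  inj : ∀ x y, u.hom x = u.hom y → v.hom x = v.hom y → x = y
  ex : ∀ b a, q.hom b = p.hom a → ∃ x, u.hom x = b ∧ v.hom x = a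

namespace IsFP

variable {P B A' A : CommRingCat.{u}} {u : P ⟶ B} {v : P ⟶ A'} {q : B ⟶ A} {p : A' ⟶ A}

lemma surjective_fst (h : IsFP u v q p) : Function.Surjective u.hom := fun b => by
  obtain ⟨a, ha⟩ := h.surj (q.hom b)
  obtain ⟨x, hx, -⟩ := h.ex b a ha.symm
  exact ⟨x, hx⟩

lemma comm_apply (h : IsFP u v q p) (x : P) : q.hom (u.hom x) = p.hom (v.hom x) :=
  ConcreteCategory.congr_hom h.comm x

/-- elements `(0, k)` -/
lemma exists_ker (h : IsFP u v q p) {k : A'} (hk : p.hom k = 0) : ∃ g, u.hom g = 0 ∧ v.hom g = k :=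
  h.ex 0 k (by rw [map_zero, hk])

/-- every point of `Spec P` comes from `Spec B`, or from a point of `Spec A'` off `Spec A` -/
lemma cover (h : IsFP u v q p) (z : Spec P) :
    (∃ y, Spec.map u y = z) ∨ ∃ x, Spec.map v x = z ∧ ¬ RingHom.ker p.hom ≤ x.asIdeal := by
  by_cases hz : RingHom.ker u.hom ≤ z.asIdeal
  · left
    exact ((range_comap_of_surjective B u.hom h.surjective_fst).symm ▸ hz :
      z ∈ Set.range (PrimeSpectrum.comap u.hom))
  right
  obtain ⟨g, hg, hgz⟩ := SetLike.not_le_iff_exists.mp hz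
  rw [RingHom.mem_ker] at hg
  let k := v.hom g
  have hk : p.hom k = 0 := by rw [← h.comm_apply, hg, map_zero]
  choose φ hφ1 hφ2 using fun a : A' => h.exists_ker (k := a * k) (by rw [map_mul, hk, mul_zero])
  have hadd : ∀ a b, φ (a + b) = φ a + φ b := fun a b => h.inj _ _
    (by rw [map_add, hφ1, hφ1, hφ1, add_zero]) (by rw [map_add, hφ2, hφ2, hφ2, add_mul])
  have hmul : ∀ a b, φ a * φ b = φ (a * b) * g := fun a b => h.inj _ _
    (by rw [map_mul, map_mul, hφ1, hφ1, hg, mul_zero, mul_zero])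
    (by rw [map_mul, map_mul, hφ2, hφ2, hφ2]; ring)
  have hv : ∀ x, φ (v.hom x) = x * g := fun x => h.inj _ _
    (by rw [hφ1, map_mul, hg, mul_zero]) (by rw [hφ2, map_mul])
  have hsm : ∀ c a, φ (c * a) * g = φ c * φ a := fun c a => (hmul c a).symm
  let I : Ideal A' :=
    { carrier := {a | φ a ∈ z.asIdeal}
      add_mem' := fun {a b} ha hb => by
        show φ (a + b) ∈ z.asIdeal
        rw [hadd]; exact z.asIdeal.add_mem ha hb
      zero_mem' := by
        show φ 0 ∈ z.asIdeal
        rw [← map_zero v.hom, hv, zero_mul]; exact z.asIdeal.zero_mem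
      smul_mem' := fun c a ha => by
        show φ (c * a) ∈ z.asIdeal
        have h1 : φ (c * a) * g ∈ z.asIdeal := by rw [hsm]; exact z.asIdeal.mul_mem_left _ ha
        exact (z.isPrime.mem_or_mem h1).resolve_right hgz }
  have hI : I.IsPrime := by
    refine ⟨fun hh => hgz ?_, fun {a b} hab => ?_⟩
    · have h1 : φ 1 ∈ z.asIdeal := (Ideal.eq_top_iff_one I).mp hh
      rwa [← map_one v.hom, hv, one_mul] at h1
    · have h1 : φ a * φ b ∈ z.asIdeal := by rw [hmul]; exact z.asIdeal.mul_mem_right _ hab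
      exact z.isPrime.mem_or_mem h1
  refine ⟨⟨I, hI⟩, ?_, fun hh => hgz ?_⟩
  · apply PrimeSpectrum.ext
    ext x
    show φ (v.hom x) ∈ z.asIdeal ↔ x ∈ z.asIdeal
    rw [hv]
    exact ⟨fun hx => (z.isPrime.mem_or_mem hx).resolve_right hgz, fun hx => z.asIdeal.mul_mem_right _ hx⟩
  · have h1 : φ k ∈ z.asIdeal := hh (RingHom.mem_ker.mpr hk)
    rw [show φ k = g * g from hv g] at h1
    exact (z.isPrime.mem_or_mem h1).elim id id

/-- localisation of a fibre product -/
lemma localize (h : IsFP u v q p) (g : P) (LP LB LA' LA : CommRingCat.{u}) [Algebra P LP] [Algebra B LB]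
    [Algebra A' LA'] [Algebra A LA] [IsLocalization.Away g LP] [IsLocalization.Away (u.hom g) LB]
    [IsLocalization.Away (v.hom g) LA'] [IsLocalization.Away (q.hom (u.hom g)) LA]
    (u' : LP ⟶ LB) (v' : LP ⟶ LA') (q' : LB ⟶ LA) (p' : LA' ⟶ LA)
    (hu : CommRingCat.ofHom (algebraMap P LP) ≫ u' = u ≫ CommRingCat.ofHom (algebraMap B LB))
    (hv : CommRingCat.ofHom (algebraMap P LP) ≫ v' = v ≫ CommRingCat.ofHom (algebraMap A' LA'))
    (hq : CommRingCat.ofHom (algebraMap B LB) ≫ q' = q ≫ CommRingCat.ofHom (algebraMap A LA))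
    (hp : CommRingCat.ofHom (algebraMap A' LA') ≫ p' = p ≫ CommRingCat.ofHom (algebraMap A LA)) :
    IsFP u' v' q' p' := by
  let iP := CommRingCat.ofHom (algebraMap P LP)
  let iB := CommRingCat.ofHom (algebraMap B LB)
  let iA' := CommRingCat.ofHom (algebraMap A' LA')
  let iA := CommRingCat.ofHom (algebraMap A LA)
  have cu : ∀ x, u'.hom (iP.hom x) = iB.hom (u.hom x) := fun x => ConcreteCategory.congr_hom hu x
  have cv : ∀ x, v'.hom (iP.hom x) = iA'.hom (v.hom x) := fun x => ConcreteCategory.congr_hom hv x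
  have cq : ∀ x, q'.hom (iB.hom x) = iA.hom (q.hom x) := fun x => ConcreteCategory.congr_hom hq x
  have cp : ∀ x, p'.hom (iA'.hom x) = iA.hom (p.hom x) := fun x => ConcreteCategory.congr_hom hp x
  have hgP : IsUnit (iP.hom g) := IsLocalization.map_units LP (⟨g, Submonoid.mem_powers g⟩ : Submonoid.powers g)
  constructor
  · intro z
    obtain ⟨⟨a, ⟨_, n, rfl⟩⟩, e⟩ := IsLocalization.surj (Submonoid.powers (q.hom (u.hom g))) z
    obtain ⟨a', rfl⟩ := h.surj a
    obtain ⟨w, hw⟩ := (IsLocalization.map_units LA' (⟨v.hom g ^ n, n, rfl⟩ : Submonoid.powers (v.hom g)))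
    refine ⟨iA'.hom a' * (↑w⁻¹ : LA'), ?_⟩
    have h1 : p'.hom (w : LA') = iA.hom ((q.hom (u.hom g)) ^ n) := by
      rw [hw]
      show p'.hom (iA'.hom (v.hom g ^ n)) = _
      rw [cp, map_pow p.hom, ← h.comm_apply]
    have h2 : z * p'.hom (w : LA') = iA.hom (p.hom a') := by rw [h1]; exact e
    rw [map_mul, cp, ← h2, mul_assoc, ← map_mul, Units.mul_inv, map_one, mul_one]
  · apply CommRingCat.hom_ext
    apply IsLocalization.ringHom_ext (Submonoid.powers g)
    ext x
    show q'.hom (u'.hom (iP.hom x)) = p'.hom (v'.hom (iP.hom x))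
    rw [cu, cv, cq, cp, h.comm_apply]
  · intro x y hxu hxv
    rw [← sub_eq_zero]
    obtain ⟨⟨a, ⟨_, n, rfl⟩⟩, e⟩ := IsLocalization.surj (Submonoid.powers g) (x - y)
    have e' : (x - y) * iP.hom (g ^ n) = iP.hom a := e
    have eu : iB.hom (u.hom a) = 0 := by
      rw [← cu, ← e', map_mul, map_sub, hxu, sub_self, zero_mul]
    have ev : iA'.hom (v.hom a) = 0 := by
      rw [← cv, ← e', map_mul, map_sub, hxv, sub_self, zero_mul]
    obtain ⟨⟨_, m, rfl⟩, hm⟩ := (IsLocalization.map_eq_zero_iff (Submonoid.powers (u.hom g)) LB _).mp eu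
    obtain ⟨⟨_, m', rfl⟩, hm'⟩ := (IsLocalization.map_eq_zero_iff (Submonoid.powers (v.hom g)) LA' _).mp ev
    simp only at hm hm'
    have h0 : g ^ (m + m') * a = 0 := by
      refine h.inj _ _ ?_ ?_
      · rw [map_mul, map_pow, map_zero, pow_add, mul_right_comm, hm, zero_mul]
      · rw [map_mul, map_pow, map_zero, pow_add, mul_assoc, hm', mul_zero]
    have h1 : iP.hom (g ^ (m + m')) * iP.hom a = 0 := by rw [← map_mul, h0, map_zero]
    rw [map_pow] at h1
    rw [(hgP.pow _).mul_right_eq_zero.mp h1, map_pow] at e'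
    exact (hgP.pow n).mul_left_eq_zero.mp e'
  · intro b a' hba
    obtain ⟨⟨y, ⟨_, n, rfl⟩⟩, eb⟩ := IsLocalization.surj (Submonoid.powers (u.hom g)) b
    obtain ⟨⟨x, ⟨_, n', rfl⟩⟩, ea⟩ := IsLocalization.surj (Submonoid.powers (v.hom g)) a'
    have eb' : b * iB.hom (u.hom g ^ n) = iB.hom y := eb
    have ea' : a' * iA'.hom (v.hom g ^ n') = iA'.hom x := ea
    have e0 : iA.hom (q.hom (y * u.hom g ^ n')) = iA.hom (p.hom (x * v.hom g ^ n)) := by
      rw [← cq, ← cp, map_mul iB.hom, map_mul iA'.hom, ← eb', ← ea', map_mul q'.hom, map_mul p'.hom,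
        map_mul q'.hom, map_mul p'.hom, hba, cq, cq, cp, cp]
      simp only [map_pow, ← h.comm_apply]
      ring
    obtain ⟨⟨_, m, rfl⟩, hm⟩ := (IsLocalization.eq_iff_exists (Submonoid.powers (q.hom (u.hom g))) LA).mp e0
    simp only at hm
    obtain ⟨w, hwu, hwv⟩ := h.ex (u.hom g ^ m * (y * u.hom g ^ n')) (v.hom g ^ m * (x * v.hom g ^ n)) (by
      rw [map_mul q.hom, map_mul p.hom, map_pow q.hom, map_pow p.hom (v.hom g), ← h.comm_apply]
      exact hm)
    obtain ⟨d, hd⟩ := hgP.pow (m + n + n')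
    refine ⟨iP.hom w * (↑d⁻¹ : LP), ?_, ?_⟩
    · have h1 : b * u'.hom (d : LP) = u'.hom (iP.hom w) := by
        rw [hd, map_pow u'.hom, cu, cu, hwu, map_mul iB.hom, map_mul iB.hom, ← eb']
        simp only [map_pow]
        ring
      rw [map_mul, ← h1, mul_assoc, ← map_mul, Units.mul_inv, map_one, mul_one]
    · have h1 : a' * v'.hom (d : LP) = v'.hom (iP.hom w) := by
        rw [hd, map_pow v'.hom, cv, cv, hwv, map_mul iA'.hom, map_mul iA'.hom, ← ea']
        simp only [map_pow]
        ring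
      rw [map_mul, ← h1, mul_assoc, ← map_mul, Units.mul_inv, map_one, mul_one]

end IsFP

/-- an affine chart of a square of schemes on which it is the spectrum of a fibre product -/
structure Piece {Z X Y W : Scheme.{u}} (i : Z ⟶ X) (j : Z ⟶ Y) (a : X ⟶ W) (b : Y ⟶ W) where
  /-- the chart of the corner -/
  P : CommRingCat.{u}
  /-- the closed part -/
  B : CommRingCat.{u}
  /-- the other part -/
  A' : CommRingCat.{u}
  /-- the intersection -/
  A : CommRingCat.{u}
  /-- projection -/
  u : P ⟶ B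
  /-- projection -/
  v : P ⟶ A'
  /-- gluing map -/
  q : B ⟶ A
  /-- surjection -/
  p : A' ⟶ A
  /-- chart -/
  mP : Spec P ⟶ W
  /-- chart -/
  mB : Spec B ⟶ Y
  /-- chart -/
  mA' : Spec A' ⟶ X
  /-- chart -/
  mA : Spec A ⟶ Z
  fp : IsFP u v q p
  isOpen : IsOpenImmersion mP
  hB : IsPullback mB (Spec.map u) b mP
  hA' : IsPullback mA' (Spec.map v) a mP
  hq : mA ≫ j = Spec.map q ≫ mB
  hp : mA ≫ i = Spec.map p ≫ mA'

variable {Z X Y W : Scheme.{u}} {i : Z ⟶ X} {j : Z ⟶ Y} {a : X ⟶ W} {b : Y ⟶ W}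

lemma away_map_comp {R S : CommRingCat.{u}} (φ : R ⟶ S) (g : R) (L L' : Type u) [CommRing L] [CommRing L']
    [Algebra R L] [Algebra S L'] [IsLocalization.Away g L] [IsLocalization.Away (φ.hom g) L'] :
    CommRingCat.ofHom (algebraMap R L) ≫ CommRingCat.ofHom (IsLocalization.Away.map L L' φ.hom g) =
      φ ≫ CommRingCat.ofHom (algebraMap S L') := by
  ext x
  simp [IsLocalization.Away.map]

lemma isPullback_away {R S : CommRingCat.{u}} (φ : R ⟶ S) (g : R) :
    IsPullback (Spec.map (CommRingCat.ofHom (algebraMap S (Localization.Away (φ.hom g)))))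
      (Spec.map (CommRingCat.ofHom (IsLocalization.Away.map (Localization.Away g) (Localization.Away (φ.hom g)) φ.hom g)))
      (Spec.map φ) (Spec.map (CommRingCat.ofHom (algebraMap R (Localization.Away g)))) := by
  haveI : IsOpenImmersion (Spec.map (CommRingCat.ofHom (algebraMap R (Localization.Away g)))) :=
    IsOpenImmersion.of_isLocalization g
  haveI : IsOpenImmersion (Spec.map (CommRingCat.ofHom (algebraMap S (Localization.Away (φ.hom g))))) :=
    IsOpenImmersion.of_isLocalization (φ.hom g)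
  refine (IsOpenImmersion.isPullback _ _ _ _ ?_ ?_).flip
  · rw [← Spec.map_comp, ← Spec.map_comp, away_map_comp]
  · apply TopologicalSpace.Opens.ext
    show Spec.map φ ⁻¹' Set.range (PrimeSpectrum.comap (algebraMap R (Localization.Away g))) =
      Set.range (PrimeSpectrum.comap (algebraMap S (Localization.Away (φ.hom g))))
    refine Set.ext fun x => ?_
    exact (Set.ext_iff.mp (PrimeSpectrum.localization_away_comap_range (Localization.Away g) g) (Spec.map φ x)).trans
      (Set.ext_iff.mp (PrimeSpectrum.localization_away_comap_range (Localization.Away (φ.hom g)) (φ.hom g)) x).symm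

/-- localisation of a piece -/
lemma Piece.localize (π : Piece i j a b) (g : π.P) :
    ∃ π' : Piece i j a b,
      (Set.range π'.mP = π.mP '' (PrimeSpectrum.basicOpen g : Set (PrimeSpectrum π.P))) ∧
      Set.range π'.mB = π.mB '' (PrimeSpectrum.basicOpen (π.u.hom g) : Set (PrimeSpectrum π.B)) ∧
      Set.range π'.mA' = π.mA' '' (PrimeSpectrum.basicOpen (π.v.hom g) : Set (PrimeSpectrum π.A')) := by
  haveI := π.isOpen
  let gB := π.u.hom g
  let gA' := π.v.hom g
  let gA := π.q.hom gB
  have hgA : π.p.hom gA' = gA := (π.fp.comm_apply g).symm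
  let LA := Localization.Away gA
  haveI : IsLocalization.Away (π.p.hom gA') LA := by rw [hgA]; infer_instance
  let u' := CommRingCat.ofHom (IsLocalization.Away.map (Localization.Away g) (Localization.Away gB) π.u.hom g)
  let v' := CommRingCat.ofHom (IsLocalization.Away.map (Localization.Away g) (Localization.Away gA') π.v.hom g)
  let q' := CommRingCat.ofHom (IsLocalization.Away.map (Localization.Away gB) LA π.q.hom gB)
  let p' := CommRingCat.ofHom (IsLocalization.Away.map (Localization.Away gA') LA π.p.hom gA')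
  let iP := CommRingCat.ofHom (algebraMap π.P (Localization.Away g))
  let iB := CommRingCat.ofHom (algebraMap π.B (Localization.Away gB))
  let iA' := CommRingCat.ofHom (algebraMap π.A' (Localization.Away gA'))
  let iA := CommRingCat.ofHom (algebraMap π.A LA)
  have hu : iP ≫ u' = π.u ≫ iB := away_map_comp _ _ _ _
  have hv : iP ≫ v' = π.v ≫ iA' := away_map_comp _ _ _ _
  have hq : iB ≫ q' = π.q ≫ iA := away_map_comp _ _ _ _
  have hp : iA' ≫ p' = π.p ≫ iA := away_map_comp _ _ _ _
  haveI : IsOpenImmersion (Spec.map iP) := IsOpenImmersion.of_isLocalization g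
  refine ⟨
    { P := .of (Localization.Away g)
      B := .of (Localization.Away gB)
      A' := .of (Localization.Away gA')
      A := .of LA
      u := u'
      v := v'
      q := q'
      p := p'
      mP := Spec.map iP ≫ π.mP
      mB := Spec.map iB ≫ π.mB
      mA' := Spec.map iA' ≫ π.mA'
      mA := Spec.map iA ≫ π.mA
      fp := π.fp.localize g (.of (Localization.Away g)) (.of (Localization.Away gB)) (.of (Localization.Away gA'))
        (.of (Localization.Away gA))
        u' v' q' p' hu hv hq hp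
      isOpen := inferInstance
      hB := (isPullback_away π.u g).paste_horiz π.hB
      hA' := (isPullback_away π.v g).paste_horiz π.hA'
      hq := by rw [Category.assoc, π.hq, ← Spec.map_comp_assoc, ← Spec.map_comp_assoc, hq]
      hp := by rw [Category.assoc, π.hp, ← Spec.map_comp_assoc, ← Spec.map_comp_assoc, hp] }, ?_, ?_, ?_⟩
  all_goals
    simp only [Scheme.Hom.comp_base, TopCat.coe_comp, Set.range_comp]
    congr 1
  · exact PrimeSpectrum.localization_away_comap_range _ g
  · exact PrimeSpectrum.localization_away_comap_range _ gB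
  · exact PrimeSpectrum.localization_away_comap_range _ gA'

/-- a map out of a piece is determined by its restrictions -/
lemma Piece.hom_ext (π : Piece i j a b) {T : Scheme.{u}} {f f' : Spec π.P ⟶ T}
    (h1 : Spec.map π.u ≫ f = Spec.map π.u ≫ f') (h2 : Spec.map π.v ≫ f = Spec.map π.v ≫ f') : f = f' := by
  haveI := π.isOpen
  have hbase : ∀ z, f z = f' z := by
    intro z
    rcases π.fp.cover z with ⟨y, rfl⟩ | ⟨x, rfl, -⟩
    · exact congrArg (fun m => (m : Spec π.B ⟶ T) y) h1
    · exact congrArg (fun m => (m : Spec π.A' ⟶ T) x) h2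
  refine Scheme.hom_ext_of_forall _ _ fun z => ?_
  obtain ⟨_, ⟨V, hV, rfl⟩, hzV, -⟩ := T.isBasis_affineOpens.exists_subset_of_mem_open (Set.mem_univ (f z)) isOpen_univ
  obtain ⟨_, ⟨g, rfl⟩, hzg, hgV⟩ := PrimeSpectrum.isTopologicalBasis_basic_opens.exists_subset_of_mem_open
    (show z ∈ f ⁻¹' (V : Set T) from hzV) (f ⁻¹ᵁ V).isOpen
  refine ⟨(Spec.map (CommRingCat.ofHom (algebraMap π.P (Localization.Away g)))).opensRange, ?_, ?_⟩
  · exact (PrimeSpectrum.localization_away_comap_range (Localization.Away g) g).ge hzg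
  let gB := π.u.hom g
  let gA' := π.v.hom g
  let gA := π.q.hom gB
  haveI : IsLocalization.Away (π.p.hom gA') (Localization.Away gA) := by
    rw [show π.p.hom gA' = gA from (π.fp.comm_apply g).symm]; infer_instance
  let iP := CommRingCat.ofHom (algebraMap π.P (Localization.Away g))
  let iB := CommRingCat.ofHom (algebraMap π.B (Localization.Away gB))
  let iA' := CommRingCat.ofHom (algebraMap π.A' (Localization.Away gA'))
  let iA := CommRingCat.ofHom (algebraMap π.A (Localization.Away gA))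
  let u' := CommRingCat.ofHom (IsLocalization.Away.map (Localization.Away g) (Localization.Away gB) π.u.hom g)
  let v' := CommRingCat.ofHom (IsLocalization.Away.map (Localization.Away g) (Localization.Away gA') π.v.hom g)
  have hu : iP ≫ u' = π.u ≫ iB := away_map_comp _ _ _ _
  have hv : iP ≫ v' = π.v ≫ iA' := away_map_comp _ _ _ _
  have hfp := π.fp.localize g (.of (Localization.Away g)) (.of (Localization.Away gB)) (.of (Localization.Away gA'))
    (.of (Localization.Away gA))
    u' v' (CommRingCat.ofHom (IsLocalization.Away.map (Localization.Away gB) (Localization.Away gA) π.q.hom gB))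
    (CommRingCat.ofHom (IsLocalization.Away.map (Localization.Away gA') (Localization.Away gA) π.p.hom gA'))
    hu hv (away_map_comp _ _ _ _)
    (away_map_comp _ _ _ _)
  haveI : IsOpenImmersion (Spec.map iP) := IsOpenImmersion.of_isLocalization g
  have key : Spec.map iP ≫ f = Spec.map iP ≫ f' := by
    have hr : ∀ m ∈ [f, f'], Set.range (Spec.map iP ≫ m) ⊆ Set.range hV.fromSpec := by
      rintro m hm _ ⟨w, rfl⟩
      rw [hV.range_fromSpec]
      have hw : Spec.map iP w ∈ f ⁻¹' (V : Set T) :=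
        hgV ((PrimeSpectrum.localization_away_comap_range (Localization.Away g) g).le ⟨w, rfl⟩)
      simp only [List.mem_cons, List.not_mem_nil, or_false] at hm
      rcases hm with e | e <;> rw [e]
      · exact hw
      · show f' (Spec.map iP w) ∈ V
        rw [← hbase]; exact hw
    obtain ⟨ψ, hψ⟩ : ∃ ψ, Spec.map ψ = IsOpenImmersion.lift hV.fromSpec _ (hr f (by simp)) :=
      ⟨_, Spec.map_preimage _⟩
    obtain ⟨ψ', hψ'⟩ : ∃ ψ, Spec.map ψ = IsOpenImmersion.lift hV.fromSpec _ (hr f' (by simp)) :=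
      ⟨_, Spec.map_preimage _⟩
    have e : ψ = ψ' := by
      refine CommRingCat.hom_ext (RingHom.ext fun x => hfp.inj _ _ ?_ ?_)
      · refine ConcreteCategory.congr_hom (Spec.map_injective (?_ : Spec.map (ψ ≫ u') = Spec.map (ψ' ≫ u'))) x
        rw [← cancel_mono hV.fromSpec, Spec.map_comp, Spec.map_comp, Category.assoc, Category.assoc, hψ, hψ',
          IsOpenImmersion.lift_fac, IsOpenImmersion.lift_fac, ← Spec.map_comp_assoc, ← Spec.map_comp_assoc, hu,
          Spec.map_comp_assoc, Spec.map_comp_assoc, h1]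
      · refine ConcreteCategory.congr_hom (Spec.map_injective (?_ : Spec.map (ψ ≫ v') = Spec.map (ψ' ≫ v'))) x
        rw [← cancel_mono hV.fromSpec, Spec.map_comp, Spec.map_comp, Category.assoc, Category.assoc, hψ, hψ',
          IsOpenImmersion.lift_fac, IsOpenImmersion.lift_fac, ← Spec.map_comp_assoc, ← Spec.map_comp_assoc, hv,
          Spec.map_comp_assoc, Spec.map_comp_assoc, h2]
    rw [← IsOpenImmersion.lift_fac hV.fromSpec _ (hr f (by simp)),
      ← IsOpenImmersion.lift_fac hV.fromSpec _ (hr f' (by simp)), ← hψ, ← hψ', e]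
  rw [← cancel_epi (Spec.map iP).isoOpensRange.hom, ← Category.assoc, ← Category.assoc,
    show (Spec.map iP).isoOpensRange.hom ≫ (Spec.map iP).opensRange.ι = Spec.map iP from
      Scheme.Hom.isoOpensRange_hom_ι _]
  exact key

/-- the open needed to land in one affine chart -/
lemma Piece.exists_good (π : Piece i j a b) {T : Scheme.{u}} (f : X ⟶ T) (e : Y ⟶ T) (w : i ≫ f = j ≫ e)
    (z : Spec π.P) :
    ∃ (g : π.P) (V : T.Opens), IsAffineOpen V ∧ z ∈ PrimeSpectrum.basicOpen g ∧
      (∀ y ∈ PrimeSpectrum.basicOpen (π.u.hom g), (π.mB ≫ e) y ∈ V) ∧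
      (∀ x ∈ PrimeSpectrum.basicOpen (π.v.hom g), (π.mA' ≫ f) x ∈ V) := by
  have wq : Spec.map π.p ≫ π.mA' ≫ f = Spec.map π.q ≫ π.mB ≫ e := by
    rw [← Category.assoc, ← π.hp, ← Category.assoc, ← π.hq, Category.assoc, Category.assoc, w]
  rcases π.fp.cover z with ⟨y, rfl⟩ | ⟨x, rfl, hx⟩
  · obtain ⟨_, ⟨V, hV, rfl⟩, hyV, -⟩ := T.isBasis_affineOpens.exists_subset_of_mem_open
      (Set.mem_univ ((π.mB ≫ e) y)) isOpen_univ
    obtain ⟨_, ⟨hh, rfl⟩, hyh, hhV⟩ := PrimeSpectrum.isTopologicalBasis_basic_opens.exists_subset_of_mem_open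
      (show y ∈ (π.mB ≫ e) ⁻¹' (V : Set T) from hyV) ((π.mB ≫ e) ⁻¹ᵁ V).isOpen
    let C : Set (PrimeSpectrum π.A') := ((π.mA' ≫ f) ⁻¹' (V : Set T))ᶜ
    have hC : IsClosed C := ((π.mA' ≫ f) ⁻¹ᵁ V).isOpen.isClosed_compl
    let J := PrimeSpectrum.vanishingIdeal C
    have hmem : π.q.hom hh ∈ (J.map π.p.hom).radical := by
      rw [Ideal.radical_eq_sInf, Submodule.mem_sInf]
      rintro r ⟨hJr, hr⟩
      by_contra hn
      have h1 : (Spec.map π.p (⟨r, hr⟩ : PrimeSpectrum π.A)) ∈ C := by
        have h2 : (Spec.map π.p (⟨r, hr⟩ : PrimeSpectrum π.A)) ∈ PrimeSpectrum.zeroLocus (J : Set π.A') :=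
          fun c hc => hJr (Ideal.mem_map_of_mem _ hc)
        rwa [PrimeSpectrum.zeroLocus_vanishingIdeal_eq_closure, hC.closure_eq] at h2
      apply h1
      show (π.mA' ≫ f) (Spec.map π.p _) ∈ V
      rw [show (π.mA' ≫ f) (Spec.map π.p (⟨r, hr⟩ : PrimeSpectrum π.A)) =
        (π.mB ≫ e) (Spec.map π.q (⟨r, hr⟩ : PrimeSpectrum π.A)) from
          congrArg (fun m => (m : Spec π.A ⟶ T) ⟨r, hr⟩) wq]
      exact hhV hn
    obtain ⟨n, hn⟩ := hmem
    have hn1 : π.q.hom hh ^ (n + 1) ∈ J.map π.p.hom := by rw [pow_succ]; exact Ideal.mul_mem_right _ _ hn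
    obtain ⟨a', ha'J, ha'⟩ := (Ideal.mem_map_iff_of_surjective _ π.fp.surj).mp hn1
    obtain ⟨g, hgu, hgv⟩ := π.fp.ex (hh ^ (n + 1)) a' (by rw [map_pow, ha'])
    have hD : PrimeSpectrum.basicOpen (π.u.hom g) = PrimeSpectrum.basicOpen hh := by
      rw [hgu, PrimeSpectrum.basicOpen_pow hh (n + 1) (Nat.succ_pos n)]
    refine ⟨g, V, hV, ?_, ?_, ?_⟩
    · show y ∈ PrimeSpectrum.basicOpen (π.u.hom g)
      rw [hD]; exact hyh
    · intro y' hy'
      rw [hD] at hy'
      exact hhV hy'
    · intro x' hx'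
      rw [hgv] at hx'
      by_contra hV'
      exact hx' ((PrimeSpectrum.mem_vanishingIdeal _ _).mp ha'J x' hV')
  · obtain ⟨_, ⟨V, hV, rfl⟩, hxV, -⟩ := T.isBasis_affineOpens.exists_subset_of_mem_open
      (Set.mem_univ ((π.mA' ≫ f) x)) isOpen_univ
    obtain ⟨_, ⟨k, rfl⟩, hxk, hkV⟩ := PrimeSpectrum.isTopologicalBasis_basic_opens.exists_subset_of_mem_open
      (show x ∈ ((π.mA' ≫ f) ⁻¹' (V : Set T)) \ PrimeSpectrum.zeroLocus (RingHom.ker π.p.hom : Set π.A') from
        ⟨hxV, hx⟩)
      ((((π.mA' ≫ f) ⁻¹ᵁ V).isOpen).sdiff (PrimeSpectrum.isClosed_zeroLocus _))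
    have hnil : IsNilpotent (π.p.hom k) := by
      rw [nilpotent_iff_mem_prime]
      intro r hr
      by_contra hn
      exact (hkV (show (⟨r.comap π.p.hom, hr.comap _⟩ : PrimeSpectrum π.A') ∈ PrimeSpectrum.basicOpen k from hn)).2
        (fun c hc => by
          show π.p.hom c ∈ r
          rw [RingHom.mem_ker.mp hc]; exact r.zero_mem)
    obtain ⟨n, hn⟩ := hnil
    obtain ⟨g, hgu, hgv⟩ := π.fp.exists_ker (k := k ^ (n + 1)) (by rw [map_pow, pow_succ, hn, zero_mul])
    have hD : PrimeSpectrum.basicOpen (π.v.hom g) = PrimeSpectrum.basicOpen k := by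
      rw [hgv, PrimeSpectrum.basicOpen_pow k (n + 1) (Nat.succ_pos n)]
    refine ⟨g, V, hV, ?_, ?_, ?_⟩
    · show x ∈ PrimeSpectrum.basicOpen (π.v.hom g)
      rw [hD]; exact hxk
    · intro y hy
      rw [hgu] at hy
      exact absurd (y.asIdeal.zero_mem) hy
    · intro x' hx'
      rw [hD] at hx'
      exact (hkV hx').1

/-- a piece over which both maps land in one affine -/
lemma Piece.exists_desc (π : Piece i j a b) {T : Scheme.{u}} (f : X ⟶ T) (e : Y ⟶ T) (w : i ≫ f = j ≫ e)
    {V : T.Opens} (hV : IsAffineOpen V) (hf : ∀ x, (π.mA' ≫ f) x ∈ V) (he : ∀ y, (π.mB ≫ e) y ∈ V) :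
    ∃ h : Spec π.P ⟶ T, Spec.map π.u ≫ h = π.mB ≫ e ∧ Spec.map π.v ≫ h = π.mA' ≫ f := by
  have hrf : Set.range (π.mA' ≫ f) ⊆ Set.range hV.fromSpec := by
    rw [hV.range_fromSpec]; rintro _ ⟨x, rfl⟩; exact hf x
  have hre : Set.range (π.mB ≫ e) ⊆ Set.range hV.fromSpec := by
    rw [hV.range_fromSpec]; rintro _ ⟨x, rfl⟩; exact he x
  obtain ⟨ψA, hA⟩ : ∃ ψ, Spec.map ψ = IsOpenImmersion.lift hV.fromSpec _ hrf := ⟨_, Spec.map_preimage _⟩
  obtain ⟨ψB, hB⟩ : ∃ ψ, Spec.map ψ = IsOpenImmersion.lift hV.fromSpec _ hre := ⟨_, Spec.map_preimage _⟩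
  have hcomp : ψB ≫ π.q = ψA ≫ π.p := by
    apply Spec.map_injective
    rw [← cancel_mono hV.fromSpec, Spec.map_comp, Spec.map_comp, Category.assoc, Category.assoc, hA, hB,
      IsOpenImmersion.lift_fac, IsOpenImmersion.lift_fac, ← Category.assoc, ← π.hq, ← Category.assoc, ← π.hp,
      Category.assoc, Category.assoc, w]
  choose φ h1 h2 using fun s => π.fp.ex (ψB.hom s) (ψA.hom s) (ConcreteCategory.congr_hom hcomp s)
  let ψ : Γ(T, V) ⟶ π.P := CommRingCat.ofHom
    { toFun := φ
      map_one' := π.fp.inj _ _ (by rw [h1, map_one, map_one]) (by rw [h2, map_one, map_one])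
      map_zero' := π.fp.inj _ _ (by rw [h1, map_zero, map_zero]) (by rw [h2, map_zero, map_zero])
      map_mul' := fun x y => π.fp.inj _ _ (by rw [map_mul, h1, h1, h1, map_mul]) (by rw [map_mul, h2, h2, h2, map_mul])
      map_add' := fun x y => π.fp.inj _ _ (by rw [map_add, h1, h1, h1, map_add]) (by rw [map_add, h2, h2, h2, map_add]) }
  refine ⟨Spec.map ψ ≫ hV.fromSpec, ?_, ?_⟩
  · rw [← Spec.map_comp_assoc, show ψ ≫ π.u = ψB from CommRingCat.hom_ext (RingHom.ext h1), hB,
      IsOpenImmersion.lift_fac]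
  · rw [← Spec.map_comp_assoc, show ψ ≫ π.v = ψA from CommRingCat.hom_ext (RingHom.ext h2), hA,
      IsOpenImmersion.lift_fac]

/-- LOCAL CRITERION: a square covered by fibre product pieces is a pushout of schemes -/
theorem isPushout_of_pieces (comm : i ≫ a = j ≫ b) (h : ∀ z : W, ∃ π : Piece i j a b, z ∈ Set.range π.mP) :
    IsPushout i j a b := by
  have ext : ∀ {T : Scheme.{u}} (k k' : W ⟶ T), a ≫ k = a ≫ k' → b ≫ k = b ≫ k' → k = k' := by
    intro T k k' ha hb
    refine Scheme.hom_ext_of_forall _ _ fun z => ?_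
    obtain ⟨π, hz⟩ := h z
    haveI := π.isOpen
    refine ⟨π.mP.opensRange, hz, ?_⟩
    rw [← cancel_epi π.mP.isoOpensRange.hom]
    simp only [← Category.assoc, Scheme.Hom.isoOpensRange_hom_ι]
    refine π.hom_ext ?_ ?_
    · rw [← reassoc_of% π.hB.w, ← reassoc_of% π.hB.w, hb]
    · rw [← reassoc_of% π.hA'.w, ← reassoc_of% π.hA'.w, ha]
  have desc : ∀ {T : Scheme.{u}} (f : X ⟶ T) (e : Y ⟶ T), i ≫ f = j ≫ e →
      ∃ k : W ⟶ T, a ≫ k = f ∧ b ≫ k = e := by
    intro T f e w
    have hloc : ∀ z : W, ∃ (π : Piece i j a b) (m : Spec π.P ⟶ T), z ∈ Set.range π.mP ∧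
        Spec.map π.u ≫ m = π.mB ≫ e ∧ Spec.map π.v ≫ m = π.mA' ≫ f := by
      intro z
      obtain ⟨π, z₀, rfl⟩ := h z
      obtain ⟨g, V, hV, hzg, hgB, hgA⟩ := π.exists_good f e w z₀
      obtain ⟨π', r1, r2, r3⟩ := π.localize g
      obtain ⟨m, hm1, hm2⟩ := π'.exists_desc f e w hV
        (fun x => by
          obtain ⟨x₀, hx₀, e₀⟩ := r3.le ⟨x, rfl⟩
          show f (π'.mA' x) ∈ V
          rw [← e₀]; exact hgA _ hx₀)
        (fun y => by
          obtain ⟨y₀, hy₀, e₀⟩ := r2.le ⟨y, rfl⟩
          show e (π'.mB y) ∈ V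
          rw [← e₀]; exact hgB _ hy₀)
      exact ⟨π', m, r1.ge ⟨z₀, hzg, rfl⟩, hm1, hm2⟩
    choose π m hz hm1 hm2 using hloc
    haveI : ∀ z, IsOpenImmersion (π z).mP := fun z => (π z).isOpen
    let 𝒰 : W.OpenCover :=
      { I₀ := W, X := fun z => Spec (π z).P, f := fun z => (π z).mP
        mem₀ := by
          rw [Scheme.presieve₀_mem_precoverage_iff]
          exact ⟨fun z => ⟨z, hz z⟩, fun z => inferInstance⟩ }
    have hcompat : ∀ z z' : W, pullback.fst (𝒰.f z) (𝒰.f z') ≫ m z = pullback.snd (𝒰.f z) (𝒰.f z') ≫ m z' := by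
      intro z z'
      refine Scheme.hom_ext_of_forall _ _ fun p => ?_
      let p₁ := pullback.fst (𝒰.f z) (𝒰.f z') p
      have hmem : p₁ ∈ (π z).mP ⁻¹ᵁ (π z').mP.opensRange := by
        refine ⟨pullback.snd (𝒰.f z) (𝒰.f z') p, ?_⟩
        show (pullback.snd (𝒰.f z) (𝒰.f z') ≫ 𝒰.f z') p = (pullback.fst (𝒰.f z) (𝒰.f z') ≫ 𝒰.f z) p
        rw [pullback.condition]
      obtain ⟨_, ⟨g, rfl⟩, hpg, hgsub⟩ := PrimeSpectrum.isTopologicalBasis_basic_opens.exists_subset_of_mem_open
        hmem ((π z).mP ⁻¹ᵁ (π z').mP.opensRange).isOpen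
      let iP := CommRingCat.ofHom (algebraMap (π z).P (Localization.Away g))
      haveI : IsOpenImmersion (Spec.map iP) := IsOpenImmersion.of_isLocalization g
      have hrange : Set.range (Spec.map iP ≫ (π z).mP) ⊆ Set.range (π z').mP := by
        rintro _ ⟨s, rfl⟩
        exact hgsub ((PrimeSpectrum.localization_away_comap_range (Localization.Away g) g).le ⟨s, rfl⟩)
      let t := IsOpenImmersion.lift (π z').mP _ hrange
      have ht : t ≫ (π z').mP = Spec.map iP ≫ (π z).mP := IsOpenImmersion.lift_fac _ _ _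
      let ω : Spec (CommRingCat.of (Localization.Away g)) ⟶ pullback (𝒰.f z) (𝒰.f z') :=
        pullback.lift (Spec.map iP) t ht.symm
      have hω1 : ω ≫ pullback.fst (𝒰.f z) (𝒰.f z') = Spec.map iP := pullback.lift_fst _ _ _
      have hω2 : ω ≫ pullback.snd (𝒰.f z) (𝒰.f z') = t := pullback.lift_snd _ _ _
      haveI : IsOpenImmersion (ω ≫ pullback.fst (𝒰.f z) (𝒰.f z')) := by rw [hω1]; infer_instance
      haveI : IsOpenImmersion ω := IsOpenImmersion.of_comp ω (pullback.fst (𝒰.f z) (𝒰.f z'))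
      refine ⟨ω.opensRange, ?_, ?_⟩
      · obtain ⟨s, hs⟩ := (PrimeSpectrum.localization_away_comap_range (Localization.Away g) g).ge hpg
        refine ⟨s, (pullback.fst (𝒰.f z) (𝒰.f z')).isOpenEmbedding.injective ?_⟩
        exact (congrArg (fun k => (k : Spec (CommRingCat.of (Localization.Away g)) ⟶ Spec (π z).P) s) hω1).trans hs
      · rw [← cancel_epi ω.isoOpensRange.hom]
        simp only [← Category.assoc, Scheme.Hom.isoOpensRange_hom_ι]
        simp only [Category.assoc]
        rw [reassoc_of% hω1, reassoc_of% hω2]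
        -- agreement on the localised piece
        let gB := (π z).u.hom g
        let gA' := (π z).v.hom g
        let gA := (π z).q.hom gB
        haveI : IsLocalization.Away ((π z).p.hom gA') (Localization.Away gA) := by
          rw [show (π z).p.hom gA' = gA from ((π z).fp.comm_apply g).symm]; infer_instance
        let u' := CommRingCat.ofHom (IsLocalization.Away.map (Localization.Away g) (Localization.Away gB) (π z).u.hom g)
        let v' := CommRingCat.ofHom (IsLocalization.Away.map (Localization.Away g) (Localization.Away gA') (π z).v.hom g)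
        let iB := CommRingCat.ofHom (algebraMap (π z).B (Localization.Away gB))
        let iA' := CommRingCat.ofHom (algebraMap (π z).A' (Localization.Away gA'))
        let iA := CommRingCat.ofHom (algebraMap (π z).A (Localization.Away gA))
        let q' := CommRingCat.ofHom (IsLocalization.Away.map (Localization.Away gB) (Localization.Away gA) (π z).q.hom gB)
        let p' := CommRingCat.ofHom (IsLocalization.Away.map (Localization.Away gA') (Localization.Away gA) (π z).p.hom gA')
        have hu : iP ≫ u' = (π z).u ≫ iB := away_map_comp _ _ _ _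
        have hv : iP ≫ v' = (π z).v ≫ iA' := away_map_comp _ _ _ _
        have hq : iB ≫ q' = (π z).q ≫ iA := away_map_comp _ _ _ _
        have hp : iA' ≫ p' = (π z).p ≫ iA := away_map_comp _ _ _ _
        let π₀ : Piece i j a b :=
          { P := .of (Localization.Away g), B := .of (Localization.Away gB), A' := .of (Localization.Away gA')
            A := .of (Localization.Away gA), u := u', v := v', q := q', p := p'
            mP := Spec.map iP ≫ (π z).mP
            mB := Spec.map iB ≫ (π z).mB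
            mA' := Spec.map iA' ≫ (π z).mA'
            mA := Spec.map iA ≫ (π z).mA
            fp := (π z).fp.localize g (.of (Localization.Away g)) (.of (Localization.Away gB)) (.of (Localization.Away gA'))
              (.of (Localization.Away gA))
              u' v' q' p' hu hv hq hp
            isOpen := inferInstance
            hB := (isPullback_away (π z).u g).paste_horiz (π z).hB
            hA' := (isPullback_away (π z).v g).paste_horiz (π z).hA'
            hq := by rw [Category.assoc, (π z).hq, ← Spec.map_comp_assoc, ← Spec.map_comp_assoc, hq]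
            hp := by rw [Category.assoc, (π z).hp, ← Spec.map_comp_assoc, ← Spec.map_comp_assoc, hp] }
        refine π₀.hom_ext ?_ ?_
        · show Spec.map u' ≫ Spec.map iP ≫ m z = Spec.map u' ≫ t ≫ m z'
          obtain ⟨l, hl1, hl2⟩ : ∃ l, l ≫ (π z').mB = Spec.map iB ≫ (π z).mB ∧
              l ≫ Spec.map (π z').u = Spec.map u' ≫ t :=
            ⟨(π z').hB.lift (Spec.map iB ≫ (π z).mB) (Spec.map u' ≫ t) (by
              rw [Category.assoc, (π z).hB.w, Category.assoc, ht, ← Spec.map_comp_assoc, ← Spec.map_comp_assoc, hu]),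
              IsPullback.lift_fst _ _ _ _, IsPullback.lift_snd _ _ _ _⟩
          rw [← Spec.map_comp_assoc, hu, Spec.map_comp_assoc, hm1, ← reassoc_of% hl2, hm1, reassoc_of% hl1]
        · show Spec.map v' ≫ Spec.map iP ≫ m z = Spec.map v' ≫ t ≫ m z'
          obtain ⟨l, hl1, hl2⟩ : ∃ l, l ≫ (π z').mA' = Spec.map iA' ≫ (π z).mA' ∧
              l ≫ Spec.map (π z').v = Spec.map v' ≫ t :=
            ⟨(π z').hA'.lift (Spec.map iA' ≫ (π z).mA') (Spec.map v' ≫ t) (by
              rw [Category.assoc, (π z).hA'.w, Category.assoc, ht, ← Spec.map_comp_assoc, ← Spec.map_comp_assoc, hv]),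
              IsPullback.lift_fst _ _ _ _, IsPullback.lift_snd _ _ _ _⟩
          rw [← Spec.map_comp_assoc, hv, Spec.map_comp_assoc, hm2, ← reassoc_of% hl2, hm2, reassoc_of% hl1]
    refine ⟨Scheme.Cover.glueMorphisms 𝒰 m hcompat, ?_, ?_⟩
    · refine Scheme.hom_ext_of_forall _ _ fun x => ?_
      haveI : IsOpenImmersion (π (a x)).mA' :=
        MorphismProperty.of_isPullback (P := @IsOpenImmersion) (π (a x)).hA'.flip inferInstance
      obtain ⟨s, hs⟩ := hz (a x)
      obtain ⟨s', hs', -⟩ := Scheme.exists_preimage_of_isPullback (π (a x)).hA' x s hs.symm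
      refine ⟨(π (a x)).mA'.opensRange, ⟨s', hs'⟩, ?_⟩
      rw [← cancel_epi (π (a x)).mA'.isoOpensRange.hom]
      simp only [← Category.assoc, Scheme.Hom.isoOpensRange_hom_ι]
      rw [(π (a x)).hA'.w, Category.assoc]
      exact (congrArg (Spec.map (π (a x)).v ≫ ·) (Scheme.Cover.ι_glueMorphisms 𝒰 m hcompat (a x))).trans (hm2 (a x))
    · refine Scheme.hom_ext_of_forall _ _ fun y => ?_
      haveI : IsOpenImmersion (π (b y)).mB :=
        MorphismProperty.of_isPullback (P := @IsOpenImmersion) (π (b y)).hB.flip inferInstance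
      obtain ⟨s, hs⟩ := hz (b y)
      obtain ⟨s', hs', -⟩ := Scheme.exists_preimage_of_isPullback (π (b y)).hB y s hs.symm
      refine ⟨(π (b y)).mB.opensRange, ⟨s', hs'⟩, ?_⟩
      rw [← cancel_epi (π (b y)).mB.isoOpensRange.hom]
      simp only [← Category.assoc, Scheme.Hom.isoOpensRange_hom_ι]
      rw [(π (b y)).hB.w, Category.assoc]
      exact (congrArg (Spec.map (π (b y)).u ≫ ·) (Scheme.Cover.ι_glueMorphisms 𝒰 m hcompat (b y))).trans (hm1 (b y))
  refine ⟨⟨comm⟩, ⟨PushoutCocone.IsColimit.mk comm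
    (fun s => (desc s.inl s.inr s.condition).choose)
    (fun s => (desc s.inl s.inr s.condition).choose_spec.1)
    (fun s => (desc s.inl s.inr s.condition).choose_spec.2)
    (fun s k h1 h2 => ext _ _ (h1.trans (desc s.inl s.inr s.condition).choose_spec.1.symm)
      (h2.trans (desc s.inl s.inr s.condition).choose_spec.2.symm))⟩⟩

/-- the spectrum of a fibre product of rings is a pushout of schemes -/
theorem isPushout_Spec {P B A' A : CommRingCat.{u}} {u : P ⟶ B} {v : P ⟶ A'} {q : B ⟶ A} {p : A' ⟶ A}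
    (h : IsFP u v q p) : IsPushout (Spec.map p) (Spec.map q) (Spec.map v) (Spec.map u) := by
  refine isPushout_of_pieces (by rw [← Spec.map_comp, ← Spec.map_comp, h.comm]) fun z => ?_
  exact ⟨{ P := P, B := B, A' := A', A := A, u := u, v := v, q := q, p := p
           mP := 𝟙 _, mB := 𝟙 _, mA' := 𝟙 _, mA := 𝟙 _
           fp := h
           isOpen := inferInstance
           hB := IsPullback.of_horiz_isIso ⟨by simp⟩
           hA' := IsPullback.of_horiz_isIso ⟨by simp⟩
           hq := by simp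
           hp := by simp }, ⟨z, rfl⟩⟩

end Groth.Agent.Misc9.Ferrand
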