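import Groth.Agent.Misc9.Ferrand
import Mathlib.AlgebraicGeometry.Pullbacks
import Mathlib.Algebra.Category.Ring.Constructions

/-!
Split fibre products of algebras give universal pushouts of schemes.
-/

universe u

set_option maxHeartbeats 400000
set_option synthInstance.maxHeartbeats 40000

open CategoryTheory CategoryTheory.Limits AlgebraicGeometry TensorProduct

namespace Groth.Agent.Misc9.FerrandTensor

variable {k : Type u} [CommRing k] {P B A' A : Type u} [CommRing P] [CommRing B] [CommRing A'] [CommRing A]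
  [Algebra k P] [Algebra k B] [Algebra k A'] [Algebra k A]

/-- a fibre product of algebras, split as modules -/
structure SplitFP (u : P →ₐ[k] B) (v : P →ₐ[k] A') (q : B →ₐ[k] A) (p : A' →ₐ[k] A) where
  /-- section -/
  rb : B →ₗ[k] P
  /-- section -/
  ra : A' →ₗ[k] P
  /-- section -/
  e : A →ₗ[k] A'
  comm : q.comp u = p.comp v
  id_P : ∀ x, rb (u x) + ra (v x) = x
  u_rb : ∀ b, u (rb b) = b
  u_ra : ∀ a, u (ra a) = 0
  v_rb : ∀ b, v (rb b) = e (q b)
  v_ra : ∀ a, v (ra a) = a - e (p a)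
  p_e : ∀ a, p (e a) = a

variable {u : P →ₐ[k] B} {v : P →ₐ[k] A'} {q : B →ₐ[k] A} {p : A' →ₐ[k] A}

/-- base change of an algebra map -/
noncomputable def bcHom {B C : Type u} [CommRing B] [CommRing C] [Algebra k B] [Algebra k C] (φ : B →ₐ[k] C)
    (R : Type u) [CommRing R] [Algebra k R] : CommRingCat.of (B ⊗[k] R) ⟶ CommRingCat.of (C ⊗[k] R) :=
  CommRingCat.ofHom (Algebra.TensorProduct.map φ (AlgHom.id k R)).toRingHom

lemma bcHom_tmul {B C : Type u} [CommRing B] [CommRing C] [Algebra k B] [Algebra k C] (φ : B →ₐ[k] C)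
    (R : Type u) [CommRing R] [Algebra k R] (b : B) (r : R) : (bcHom φ R).hom (b ⊗ₜ r) = φ b ⊗ₜ r :=
  Algebra.TensorProduct.map_tmul _ _ _ _

theorem SplitFP.isFP (h : SplitFP u v q p) (R : Type u) [CommRing R] [Algebra k R] :
    Ferrand.IsFP (bcHom u R) (bcHom v R) (bcHom q R) (bcHom p R) := by
  let RB := h.rb.rTensor R
  let RA := h.ra.rTensor R
  let E := h.e.rTensor R
  have idP : ∀ x, RB ((bcHom u R).hom x) + RA ((bcHom v R).hom x) = x := by
    intro x
    induction x using TensorProduct.induction_on with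
    | zero => simp
    | tmul x r => rw [bcHom_tmul, bcHom_tmul, LinearMap.rTensor_tmul, LinearMap.rTensor_tmul, ← add_tmul, h.id_P]
    | add x y hx hy =>
      simp only [map_add]
      conv_rhs => rw [← hx, ← hy]
      abel
  have pE : ∀ a, (bcHom p R).hom (E a) = a := by
    intro a
    induction a using TensorProduct.induction_on with
    | zero => simp
    | tmul a r => rw [LinearMap.rTensor_tmul, bcHom_tmul, h.p_e]
    | add x y hx hy => rw [map_add, map_add, hx, hy]
  have uRB : ∀ b, (bcHom u R).hom (RB b) = b := by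
    intro b
    induction b using TensorProduct.induction_on with
    | zero => simp
    | tmul b r => rw [LinearMap.rTensor_tmul, bcHom_tmul, h.u_rb]
    | add x y hx hy => rw [map_add, map_add, hx, hy]
  have uRA : ∀ a, (bcHom u R).hom (RA a) = 0 := by
    intro a
    induction a using TensorProduct.induction_on with
    | zero => simp
    | tmul a r => rw [LinearMap.rTensor_tmul, bcHom_tmul, h.u_ra, zero_tmul]
    | add x y hx hy => rw [map_add, map_add, hx, hy, add_zero]
  have vRB : ∀ b, (bcHom v R).hom (RB b) = E ((bcHom q R).hom b) := by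
    intro b
    induction b using TensorProduct.induction_on with
    | zero => simp
    | tmul b r => rw [LinearMap.rTensor_tmul, bcHom_tmul, bcHom_tmul, LinearMap.rTensor_tmul, h.v_rb]
    | add x y hx hy => rw [map_add, map_add, hx, hy, map_add, map_add]
  have vRA : ∀ a, (bcHom v R).hom (RA a) = a - E ((bcHom p R).hom a) := by
    intro a
    induction a using TensorProduct.induction_on with
    | zero => simp
    | tmul a r => rw [LinearMap.rTensor_tmul, bcHom_tmul, bcHom_tmul, LinearMap.rTensor_tmul, h.v_ra, sub_tmul]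
    | add x y hx hy => rw [map_add, map_add, hx, hy, map_add, map_add]; abel
  refine ⟨fun a => ⟨E a, pE a⟩, ?_, fun x y h1 h2 => ?_, fun b a hba => ⟨RB b + RA a, ?_, ?_⟩⟩
  · refine CommRingCat.hom_ext (RingHom.ext fun x => ?_)
    show (bcHom q R).hom ((bcHom u R).hom x) = (bcHom p R).hom ((bcHom v R).hom x)
    induction x using TensorProduct.induction_on with
    | zero => simp
    | tmul x r => rw [bcHom_tmul, bcHom_tmul, bcHom_tmul, bcHom_tmul, show q (u x) = p (v x) from DFunLike.congr_fun h.comm x]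
    | add x y hx hy => simp only [map_add, hx, hy]
  · rw [← idP x, ← idP y, h1, h2]
  · rw [map_add, uRB, uRA, add_zero]
  · rw [map_add, vRB, vRA, hba]
    abel

/-- a chart of a product with an affine open of the base -/
lemma exists_chart {T W : Scheme.{u}} {t : T ⟶ Spec (CommRingCat.of k)} {C : Type u} [CommRing C] [Algebra k C]
    {qW : W ⟶ Spec (CommRingCat.of C)} {pW : W ⟶ T}
    (hW : IsPullback qW pW (Spec.map (CommRingCat.ofHom (algebraMap k C))) t)
    {R : Type u} [CommRing R] [Algebra k R] (x : Spec (CommRingCat.of R) ⟶ T)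
    (hx : x ≫ t = Spec.map (CommRingCat.ofHom (algebraMap k R))) :
    ∃ m : Spec (CommRingCat.of (C ⊗[k] R)) ⟶ W,
      m ≫ qW = Spec.map (CommRingCat.ofHom (Algebra.TensorProduct.includeLeftRingHom (A := C) (B := R))) ∧
      IsPullback m (Spec.map (CommRingCat.ofHom
        ((Algebra.TensorProduct.includeRight : R →ₐ[k] C ⊗[k] R)).toRingHom)) pW x := by
  have h := isPullback_SpecMap_of_isPushout _ _ _ _ (CommRingCat.isPushout_tensorProduct k C R)
  refine ⟨hW.lift (Spec.map (CommRingCat.ofHom (Algebra.TensorProduct.includeLeftRingHom (A := C) (B := R))))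
    (Spec.map (CommRingCat.ofHom ((Algebra.TensorProduct.includeRight : R →ₐ[k] C ⊗[k] R)).toRingHom) ≫ x)
    (by rw [Category.assoc, hx]; exact h.w), IsPullback.lift_fst _ _ _ _, ?_⟩
  refine IsPullback.of_right ?_ (IsPullback.lift_snd _ _ _ _) hW
  rw [IsPullback.lift_fst, hx]
  exact h

/-- UNIVERSAL PUSHOUT: products of a split fibre product with any scheme form a pushout -/
theorem isPushout_of_splitFP (h : SplitFP u v q p) {T : Scheme.{u}} {t : T ⟶ Spec (CommRingCat.of k)}
    {WP WB WA' WA : Scheme.{u}}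
    {qP : WP ⟶ Spec (CommRingCat.of P)} {pP : WP ⟶ T} {qB : WB ⟶ Spec (CommRingCat.of B)} {pB : WB ⟶ T}
    {qA' : WA' ⟶ Spec (CommRingCat.of A')} {pA' : WA' ⟶ T} {qA : WA ⟶ Spec (CommRingCat.of A)} {pA : WA ⟶ T}
    (hP : IsPullback qP pP (Spec.map (CommRingCat.ofHom (algebraMap k P))) t)
    (hB : IsPullback qB pB (Spec.map (CommRingCat.ofHom (algebraMap k B))) t)
    (hA' : IsPullback qA' pA' (Spec.map (CommRingCat.ofHom (algebraMap k A'))) t)
    (hA : IsPullback qA pA (Spec.map (CommRingCat.ofHom (algebraMap k A))) t)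
    (i : WA ⟶ WA') (j : WA ⟶ WB) (a : WA' ⟶ WP) (b : WB ⟶ WP)
    (hiq : i ≫ qA' = qA ≫ Spec.map (CommRingCat.ofHom p.toRingHom)) (hip : i ≫ pA' = pA)
    (hjq : j ≫ qB = qA ≫ Spec.map (CommRingCat.ofHom q.toRingHom)) (hjp : j ≫ pB = pA)
    (haq : a ≫ qP = qA' ≫ Spec.map (CommRingCat.ofHom v.toRingHom)) (hap : a ≫ pP = pA')
    (hbq : b ≫ qP = qB ≫ Spec.map (CommRingCat.ofHom u.toRingHom)) (hbp : b ≫ pP = pB) :
    IsPushout i j a b := by
  refine Ferrand.isPushout_of_pieces ?_ fun z => ?_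
  · refine hP.hom_ext ?_ ?_
    · rw [Category.assoc, Category.assoc, haq, hbq, reassoc_of% hiq, reassoc_of% hjq, ← Spec.map_comp,
        ← Spec.map_comp, ← CommRingCat.ofHom_comp, ← CommRingCat.ofHom_comp]
      congr 3
      exact (congrArg AlgHom.toRingHom h.comm).symm
    · rw [Category.assoc, Category.assoc, hap, hbp, hip, hjp]
  obtain ⟨_, ⟨U, hU, rfl⟩, hzU, -⟩ := T.isBasis_affineOpens.exists_subset_of_mem_open (Set.mem_univ (pP z)) isOpen_univ
  obtain ⟨str, hstr⟩ : ∃ str, Spec.map str = hU.fromSpec ≫ t := ⟨_, Spec.map_preimage _⟩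
  letI : Algebra k Γ(T, U) := str.hom.toAlgebra
  have hx : hU.fromSpec ≫ t = Spec.map (CommRingCat.ofHom (algebraMap k Γ(T, U))) := hstr.symm
  obtain ⟨mP, hmPq, hmP⟩ := exists_chart hP hU.fromSpec hx
  obtain ⟨mB, hmBq, hmB⟩ := exists_chart hB hU.fromSpec hx
  obtain ⟨mA', hmA'q, hmA'⟩ := exists_chart hA' hU.fromSpec hx
  obtain ⟨mA, hmAq, hmA⟩ := exists_chart hA hU.fromSpec hx
  have compat : ∀ {C D : Type u} [CommRing C] [CommRing D] [Algebra k C] [Algebra k D] (φ : C →ₐ[k] D)
      {WC WD : Scheme.{u}} {qC : WC ⟶ Spec (CommRingCat.of C)} {pC : WC ⟶ T}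
      {qD : WD ⟶ Spec (CommRingCat.of D)} {pD : WD ⟶ T}
      (_ : IsPullback qC pC (Spec.map (CommRingCat.ofHom (algebraMap k C))) t)
      {mC : Spec (CommRingCat.of (C ⊗[k] Γ(T, U))) ⟶ WC} {mD : Spec (CommRingCat.of (D ⊗[k] Γ(T, U))) ⟶ WD}
      (_ : mC ≫ qC = Spec.map (CommRingCat.ofHom (Algebra.TensorProduct.includeLeftRingHom (A := C) (B := Γ(T, U)))))
      (_ : IsPullback mC (Spec.map (CommRingCat.ofHom
        ((Algebra.TensorProduct.includeRight : Γ(T, U) →ₐ[k] C ⊗[k] Γ(T, U))).toRingHom)) pC hU.fromSpec)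
      (_ : mD ≫ qD = Spec.map (CommRingCat.ofHom (Algebra.TensorProduct.includeLeftRingHom (A := D) (B := Γ(T, U)))))
      (_ : IsPullback mD (Spec.map (CommRingCat.ofHom
        ((Algebra.TensorProduct.includeRight : Γ(T, U) →ₐ[k] D ⊗[k] Γ(T, U))).toRingHom)) pD hU.fromSpec)
      (f : WD ⟶ WC), f ≫ qC = qD ≫ Spec.map (CommRingCat.ofHom φ.toRingHom) → f ≫ pC = pD →
      IsPullback mD (Spec.map (bcHom φ Γ(T, U))) f mC := by
    intro C D _ _ _ _ φ WC WD qC pC qD pD hC mC mD hCq hCp hDq hDp f hfq hfp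
    have eR : CommRingCat.ofHom ((Algebra.TensorProduct.includeRight : Γ(T, U) →ₐ[k] C ⊗[k] Γ(T, U))).toRingHom ≫
        bcHom φ Γ(T, U) =
        CommRingCat.ofHom ((Algebra.TensorProduct.includeRight : Γ(T, U) →ₐ[k] D ⊗[k] Γ(T, U))).toRingHom :=
      CommRingCat.hom_ext (RingHom.ext fun r => by simp [bcHom])
    have eL : CommRingCat.ofHom (Algebra.TensorProduct.includeLeftRingHom (A := C) (B := Γ(T, U))) ≫ bcHom φ Γ(T, U) =
        CommRingCat.ofHom φ.toRingHom ≫
          CommRingCat.ofHom (Algebra.TensorProduct.includeLeftRingHom (A := D) (B := Γ(T, U))) :=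
      CommRingCat.hom_ext (RingHom.ext fun c => by simp [bcHom])
    refine IsPullback.of_bot ?_ ?_ hCp
    · rw [hfp, ← Spec.map_comp, eR]
      exact hDp
    · refine hC.hom_ext ?_ ?_
      · rw [Category.assoc, Category.assoc, hfq, hCq, reassoc_of% hDq, ← Spec.map_comp, ← Spec.map_comp, eL]
      · rw [Category.assoc, Category.assoc, hfp, hDp.w, hCp.w, ← Spec.map_comp_assoc, eR]
  have cp := compat p hA' hmA'q hmA' hmAq hmA i hiq hip
  have cq := compat q hB hmBq hmB hmAq hmA j hjq hjp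
  refine ⟨
    { P := .of (P ⊗[k] Γ(T, U)), B := .of (B ⊗[k] Γ(T, U)), A' := .of (A' ⊗[k] Γ(T, U))
      A := .of (A ⊗[k] Γ(T, U))
      u := bcHom u Γ(T, U), v := bcHom v Γ(T, U), q := bcHom q Γ(T, U), p := bcHom p Γ(T, U)
      mP := mP, mB := mB, mA' := mA', mA := mA
      fp := h.isFP _
      isOpen := MorphismProperty.of_isPullback (P := @IsOpenImmersion) hmP.flip inferInstance
      hB := compat u hP hmPq hmP hmBq hmB b hbq hbp
      hA' := compat v hP hmPq hmP hmA'q hmA' a haq hap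
      hq := cq.w
      hp := cp.w }, ?_⟩
  obtain ⟨s, hs⟩ : pP z ∈ Set.range hU.fromSpec := hU.range_fromSpec.ge hzU
  obtain ⟨z', hz', -⟩ := Scheme.exists_preimage_of_isPullback hmP z s hs.symm
  exact ⟨z', hz'⟩

end Groth.Agent.Misc9.FerrandTensor
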