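import Groth.Agent.Misc9.Ferrand
import Mathlib.AlgebraicGeometry.IdealSheaf.Subscheme

/-!
The scheme-theoretic union of two closed subschemes is their pushout along the intersection.
-/

universe u

open CategoryTheory CategoryTheory.Limits AlgebraicGeometry
open Scheme.IdealSheafData

namespace Groth.Agent.Misc9.FerrandUnion

lemma isFP_quotient {R : Type u} [CommRing R] (a b c d : Ideal R) (hc : c = a ⊔ b) (hd : d = a ⊓ b)
    (hda : d ≤ a) (hdb : d ≤ b) (hac : a ≤ c) (hbc : b ≤ c) :
    Ferrand.IsFP (CommRingCat.ofHom (Ideal.Quotient.factor hdb)) (CommRingCat.ofHom (Ideal.Quotient.factor hda))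
      (CommRingCat.ofHom (Ideal.Quotient.factor hbc)) (CommRingCat.ofHom (Ideal.Quotient.factor hac)) := by
  subst hc hd
  refine ⟨fun x => ?_, ?_, fun x y h1 h2 => ?_, fun y' x' h => ?_⟩
  · obtain ⟨r, rfl⟩ := Ideal.Quotient.mk_surjective x
    exact ⟨Ideal.Quotient.mk a r, rfl⟩
  · exact CommRingCat.hom_ext (Ideal.Quotient.ringHom_ext rfl)
  · obtain ⟨r, rfl⟩ := Ideal.Quotient.mk_surjective x
    obtain ⟨s, rfl⟩ := Ideal.Quotient.mk_surjective y
    exact Ideal.Quotient.eq.mpr ⟨Ideal.Quotient.eq.mp h2, Ideal.Quotient.eq.mp h1⟩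
  · obtain ⟨y, rfl⟩ := Ideal.Quotient.mk_surjective y'
    obtain ⟨x, rfl⟩ := Ideal.Quotient.mk_surjective x'
    obtain ⟨i, hi, j, hj, hij⟩ := Submodule.mem_sup.mp (Ideal.Quotient.eq.mp h)
    refine ⟨Ideal.Quotient.mk _ (x + i), Ideal.Quotient.eq.mpr ?_, Ideal.Quotient.eq.mpr ?_⟩
    · rw [show x + i - y = -j by linear_combination hij]
      exact b.neg_mem hj
    · simpa using hi

variable {S : Scheme.{u}}

lemma isPullback_cover {I J : S.IdealSheafData} (h : I ≤ J) (U : S.affineOpens) :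
    IsPullback (J.subschemeCover.f U) (Spec.map (CommRingCat.ofHom (Ideal.Quotient.factor (h U))))
      (inclusion h) (I.subschemeCover.f U) := by
  have hI : IsOpenImmersion (I.subschemeCover.f U) := inferInstanceAs (IsOpenImmersion (I.subschemeCover.openCover.f U))
  have hJ : IsOpenImmersion (J.subschemeCover.f U) := inferInstanceAs (IsOpenImmersion (J.subschemeCover.openCover.f U))
  refine (@IsOpenImmersion.isPullback _ _ _ _ _ _ _ _ hJ hI ?_ ?_).flip
  · exact subSchemeCover_map_inclusion h U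
  · rw [opensRange_subschemeCover_map, opensRange_subschemeCover_map, ← inclusion_subschemeι h]
    rfl

theorem isPushout_union (I J : S.IdealSheafData) :
    IsPushout (inclusion (le_sup_left : I ≤ I ⊔ J)) (inclusion (le_sup_right : J ≤ I ⊔ J))
      (inclusion (inf_le_left : I ⊓ J ≤ I)) (inclusion (inf_le_right : I ⊓ J ≤ J)) := by
  refine Ferrand.isPushout_of_pieces ?_ fun z => ?_
  · rw [← cancel_mono (I ⊓ J).subschemeι]
    simp
  obtain ⟨_, ⟨U, hU, rfl⟩, hzU, -⟩ := S.isBasis_affineOpens.exists_subset_of_mem_open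
    (Set.mem_univ ((I ⊓ J).subschemeι z)) isOpen_univ
  let U' : S.affineOpens := ⟨U, hU⟩
  refine ⟨
    { P := .of (Γ(S, U) ⧸ (I ⊓ J).ideal U')
      B := .of (Γ(S, U) ⧸ J.ideal U')
      A' := .of (Γ(S, U) ⧸ I.ideal U')
      A := .of (Γ(S, U) ⧸ (I ⊔ J).ideal U')
      u := CommRingCat.ofHom (Ideal.Quotient.factor ((inf_le_right : I ⊓ J ≤ J) U'))
      v := CommRingCat.ofHom (Ideal.Quotient.factor ((inf_le_left : I ⊓ J ≤ I) U'))
      q := CommRingCat.ofHom (Ideal.Quotient.factor ((le_sup_right : J ≤ I ⊔ J) U'))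
      p := CommRingCat.ofHom (Ideal.Quotient.factor ((le_sup_left : I ≤ I ⊔ J) U'))
      mP := (I ⊓ J).subschemeCover.f U'
      mB := J.subschemeCover.f U'
      mA' := I.subschemeCover.f U'
      mA := (I ⊔ J).subschemeCover.f U'
      fp := isFP_quotient (I.ideal U') (J.ideal U') _ _ (by simp) (by simp) _ _ _ _
      isOpen := inferInstanceAs (IsOpenImmersion ((I ⊓ J).subschemeCover.openCover.f U'))
      hB := isPullback_cover _ U'
      hA' := isPullback_cover _ U'
      hq := subSchemeCover_map_inclusion _ U'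
      hp := subSchemeCover_map_inclusion _ U' }, ?_⟩
  exact ((I ⊓ J).opensRange_subschemeCover_map U').ge hzU

end Groth.Agent.Misc9.FerrandUnion
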