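import Groth.Agent.Misc9.GenFinite
import Mathlib.AlgebraicGeometry.Morphisms.UniversallyOpen

/-! Points over a maximal point. -/

set_option autoImplicit false
set_option backward.isDefEq.respectTransparency false
universe u
namespace Groth.Agent.Misc9.FibreGen
open AlgebraicGeometry CategoryTheory TopologicalSpace
open Groth.Agent.Misc9.RatFunBasic Groth.Agent.Misc9.BiratOpen

variable {X Y : Scheme.{u}} (f : X ⟶ Y) [LocallyOfFiniteType f]

theorem eq_of_quasiFiniteAt {x z : X} (h : f.QuasiFiniteAt z) (hzx : z ⤳ x) (hf : f x = f z) : x = z := by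
  let y : f.fiber (f z) := (f.fiberHomeo (f z)).symm ⟨x, hf⟩
  have hcl : IsClosed ({f.asFiber z} : Set (f.fiber (f z))) :=
    isClosed_singleton_of_isLocallyClosed_singleton
      (Scheme.Hom.quasiFiniteAt_iff_isOpen_singleton_asFiber.mp h).isLocallyClosed
  have hy : f.fiberι (f z) y = x := f.fiberι_fiberHomeo_symm _ _
  have hsp : f.asFiber z ⤳ y := by
    rw [← (f.fiberι (f z)).isEmbedding.isInducing.specializes_iff, Scheme.Hom.fiberι_asFiber, hy]
    exact hzx
  have := congrArg (f.fiberι (f z)) (hsp.mem_closed hcl rfl : y = f.asFiber z)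
  rwa [Scheme.Hom.fiberι_asFiber, hy] at this

theorem isOpen_singleton {η : Y} (h : ∀ z, f z = η → IsMax' z) (w : f.fiber η) : IsOpen ({w} : Set (f.fiber η)) := by
  have hmax : ∀ v : f.fiber η, IsMax' v := fun v u hu => (f.fiberι η).isEmbedding.injective
    (h _ (by
      have : f.fiberι η v ∈ f ⁻¹' {η} := by rw [← f.range_fiberι]; exact Set.mem_range_self v
      exact this) _ (hu.map (f.fiberι η).continuous))
  haveI : LocallyOfFiniteType (f.fiberToSpecResidueField η) := MorphismProperty.pullback_snd _ _ inferInstance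
  haveI : IsLocallyNoetherian (f.fiber η) := LocallyOfFiniteType.isLocallyNoetherian (f.fiberToSpecResidueField η)
  obtain ⟨_, ⟨W₀, hW₀, rfl⟩, hwW, -⟩ :=
    (f.fiber η).isBasis_affineOpens.exists_subset_of_mem_open (Set.mem_univ w) isOpen_univ
  obtain ⟨W, rfl⟩ : ∃ W : (f.fiber η).Opens, W = W₀ := ⟨W₀, rfl⟩
  have hW : IsAffineOpen W := hW₀
  haveI : IsAffine W.toScheme := hW
  haveI : IsNoetherian W.toScheme :=
    { toIsLocallyNoetherian := isLocallyNoetherian_of_isOpenImmersion W.ι
      toCompactSpace := isCompact_iff_compactSpace.mp hW.isCompact }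
  have hmaxW : ∀ v : W.toScheme, IsMax' v := fun v u hu => Subtype.ext (hmax v.1 _ (hu.map W.ι.continuous))
  have hT1 : T1Space W.toScheme := ⟨fun v => by
    rw [← closure_subset_iff_isClosed]
    intro u hu
    exact (hmaxW u v (specializes_iff_mem_closure.mpr hu)).symm⟩
  haveI : Finite W.toScheme := by
    have hfin := finite_irreducibleComponents_of_isNoetherian (X := W.toScheme)
    haveI := hfin.to_subtype
    refine Finite.of_injective (fun v : W.toScheme => (⟨closure {v}, (isMax'_iff v).mpr (hmaxW v)⟩ :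
      irreducibleComponents W.toScheme)) fun a b hab => ?_
    have := congrArg Subtype.val hab
    simpa [closure_singleton] using this
  have h1 : IsOpen ({⟨w, hwW⟩} : Set W.toScheme) := isOpen_discrete _
  have := W.ι.isOpenEmbedding.isOpenMap _ h1
  rwa [Set.image_singleton] at this

theorem quasiFiniteAt_of_isMax {η : Y} (h : ∀ z, f z = η → IsMax' z) {x : X} (hx : f x = η) : f.QuasiFiniteAt x := by
  subst hx
  exact Scheme.Hom.quasiFiniteAt_iff_isOpen_singleton_asFiber.mpr (isOpen_singleton f h _)

theorem main (η : Y) (hη : closure {η} ∈ irreducibleComponents ↥Y) :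
    ((∀ x : X, f.base x = η → closure {x} ∈ irreducibleComponents ↥X) ↔
      (∀ x : X, f.base x = η → f.QuasiFiniteAt x)) ∧
    ((∀ x : X, f.base x = η → closure {x} ∈ irreducibleComponents ↥X) ↔
      (∀ x : X, f.base x = η → closure {x} ∈ irreducibleComponents ↥X → f.QuasiFiniteAt x)) := by
  have hηm := (isMax'_iff η).mp hη
  have h31 : (∀ x : X, f.base x = η → closure {x} ∈ irreducibleComponents ↥X → f.QuasiFiniteAt x) →
      ∀ x : X, f.base x = η → closure {x} ∈ irreducibleComponents ↥X := fun h x hx => by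
    have hg := isIrreducible_irreducibleComponent (x := x) |>.isGenericPoint_genericPoint
      isClosed_irreducibleComponent
    have hm := hg.def.symm ▸ irreducibleComponent_mem_irreducibleComponents x
    have hs := hg.specializes (mem_irreducibleComponent (x := x))
    have hfg : f (isIrreducible_irreducibleComponent (x := x)).genericPoint = η :=
      hηm _ (hx ▸ hs.map f.continuous)
    rw [eq_of_quasiFiniteAt f (h _ hfg hm) hs (hx.trans hfg.symm)]
    exact hm
  have h12 : (∀ x : X, f.base x = η → closure {x} ∈ irreducibleComponents ↥X) →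
      ∀ x : X, f.base x = η → f.QuasiFiniteAt x := fun h x hx =>
    quasiFiniteAt_of_isMax f (fun z hz => (isMax'_iff z).mp (h z hz)) hx
  exact ⟨⟨h12, fun h => h31 fun x hx _ => h x hx⟩, ⟨fun h x hx _ => h12 h x hx, h31⟩⟩

theorem flat_lqf [IrreducibleSpace ↥Y] [Flat f] [LocallyQuasiFinite f] (x : X) :
    f.base x = genericPoint Y ↔ closure ({x} : Set ↥X) ∈ irreducibleComponents ↥X := by
  refine ⟨fun h => (isMax'_iff x).mpr fun z hz => ?_, fun h => ?_⟩
  · have h1 : f z ⤳ f x := hz.map f.continuous
    have h2 : f z = f x := (h1.antisymm ((show f x = genericPoint Y from h) ▸ genericPoint_specializes (f z))).eq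
    exact (eq_of_quasiFiniteAt f (f.quasiFiniteAt z) hz h2.symm).symm
  · obtain ⟨z, hz, hfz⟩ := Flat.generalizingMap f (genericPoint_specializes (f x))
    rw [← (isMax'_iff x).mp h z hz]
    exact hfz

end Groth.Agent.Misc9.FibreGen
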