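import Groth.Agent.UnivHomeo.Basic
import Mathlib.AlgebraicGeometry.Morphisms.Finite
import Mathlib.AlgebraicGeometry.Noetherian
import Mathlib.RingTheory.IntegralClosure.Algebra.Basic
import Mathlib.FieldTheory.PurelyInseparable.Basic

/-! Residue degrees of finite universal homeomorphisms. -/

universe u

namespace Groth.Agent.Misc9.FinUHDeg

open AlgebraicGeometry CategoryTheory

theorem finrank_le_card {A B K L : Type u} [CommRing A] [CommRing B] [Field K] [Field L]
    [Algebra A B] [Algebra K L] (ι : A →+* K) (ev : B →+* L)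
    (hc : ∀ a, ev (algebraMap A B a) = algebraMap K L (ι a))
    (G : Finset B) (hG : Submodule.span A (G : Set B) = ⊤) (hgen : ∀ z : L, ∃ b s, ev s ≠ 0 ∧ z * ev s = ev b) :
    Module.finrank K L ≤ G.card ∧ FiniteDimensional K L := by
  classical
  let W := Submodule.span K ((G.image ev : Finset L) : Set L)
  have hev : ∀ b, ev b ∈ W := fun b ↦ by
    have hb : b ∈ Submodule.span A (G : Set B) := hG ▸ Submodule.mem_top
    induction hb using Submodule.span_induction with
    | mem x hx => exact Submodule.subset_span (Finset.mem_image_of_mem ev hx)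
    | zero => rw [map_zero]; exact zero_mem _
    | add x y _ _ hx hy => rw [map_add]; exact add_mem hx hy
    | smul r x _ hx =>
      rw [Algebra.smul_def, map_mul, hc, ← Algebra.smul_def]
      exact W.smul_mem _ hx
  have hone : (1 : L) ∈ W := map_one ev ▸ hev 1
  have hmul : ∀ x y, x ∈ W → y ∈ W → x * y ∈ W := by
    intro x y hx hy
    induction hx using Submodule.span_induction with
    | mem x hx =>
      obtain ⟨g, hg, rfl⟩ := Finset.mem_image.mp hx
      induction hy using Submodule.span_induction with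
      | mem y hy =>
        obtain ⟨g', hg', rfl⟩ := Finset.mem_image.mp hy
        rw [← map_mul]; exact hev _
      | zero => rw [mul_zero]; exact zero_mem _
      | add y z _ _ h1 h2 => rw [mul_add]; exact add_mem h1 h2
      | smul r y _ h => rw [mul_smul_comm]; exact W.smul_mem _ h
    | zero => rw [zero_mul]; exact zero_mem _
    | add x z _ _ h1 h2 => rw [add_mul]; exact add_mem h1 h2
    | smul r x _ h => rw [smul_mul_assoc]; exact W.smul_mem _ h
  let S : Subalgebra K L := W.toSubalgebra hone hmul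
  have : FiniteDimensional K W := FiniteDimensional.span_finset K (G.image ev)
  have : FiniteDimensional K S := this
  have hinv : ∀ x ∈ S, x⁻¹ ∈ S := fun x hx ↦ Subalgebra.inv_mem_of_algebraic S (x := ⟨x, hx⟩)
    (Algebra.IsAlgebraic.isAlgebraic (R := K) (⟨x, hx⟩ : S) |>.algHom S.val)
  have htop : W = ⊤ := eq_top_iff.mpr fun z _ ↦ by
    obtain ⟨b, s, hs, hz⟩ := hgen z
    rw [show z = ev b * (ev s)⁻¹ by rw [← hz, mul_inv_cancel_right₀ hs]]
    exact hmul _ _ (hev b) (hinv _ (hev s))
  refine ⟨?_, Module.Finite.equiv ((LinearEquiv.ofEq W ⊤ htop).trans Submodule.topEquiv)⟩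
  calc Module.finrank K L = Module.finrank K W := by rw [htop, finrank_top]
    _ ≤ (G.image ev).card := finrank_span_finset_le_card _
    _ ≤ G.card := Finset.card_image_le

theorem bound_affine {T' T : Scheme.{u}} (p : T' ⟶ T) [IsFinite p] (U : T.affineOpens) :
    ∃ N : ℕ, ∀ t' : T', p t' ∈ U.1 →
      @Module.finrank (T.residueField (p t')) (T'.residueField t') _ _
          (p.residueFieldMap t').hom.toAlgebra.toModule ≤ N ∧
      @Module.Finite (T.residueField (p t')) (T'.residueField t') _ _
          (p.residueFieldMap t').hom.toAlgebra.toModule := by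
  have hf := p.finite_app U.1 U.2
  letI := (p.app U.1).hom.toAlgebra
  have : Module.Finite Γ(T, U.1) Γ(T', p ⁻¹ᵁ U.1) := hf
  obtain ⟨G, hG⟩ := (Module.finite_def.mp this)
  refine ⟨G.card, fun t' ht ↦ ?_⟩
  letI := (p.residueFieldMap t').hom.toAlgebra
  refine finrank_le_card (T.evaluation U.1 (p t') ht).hom (T'.evaluation (p ⁻¹ᵁ U.1) t' ht).hom ?_ G hG ?_
  · intro a
    exact (Scheme.evaluation_naturality_apply p t' ht a).symm
  · intro z
    obtain ⟨w, rfl⟩ := T'.residue_surjective t' z
    have ht' : t' ∈ p ⁻¹ᵁ U.1 := ht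
    have hV : IsAffineOpen (p ⁻¹ᵁ U.1) := U.2.preimage p
    letI := TopCat.Presheaf.algebra_section_stalk T'.presheaf ⟨t', ht'⟩
    have := hV.isLocalization_stalk ⟨t', ht'⟩
    obtain ⟨⟨b, ⟨s, hs⟩⟩, hbs⟩ := IsLocalization.surj (hV.primeIdealOf ⟨t', ht'⟩).asIdeal.primeCompl w
    refine ⟨b, s, ?_, ?_⟩
    · have hu : IsUnit (algebraMap Γ(T', p ⁻¹ᵁ U.1) (T'.presheaf.stalk t') s) :=
        IsLocalization.map_units (M := (hV.primeIdealOf ⟨t', ht'⟩).asIdeal.primeCompl) (T'.presheaf.stalk t') ⟨s, hs⟩
      exact (hu.map (T'.residue t').hom).ne_zero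
    · exact (map_mul (T'.residue t').hom _ _).symm.trans (congrArg (T'.residue t') hbs)

theorem exists_d {T' T : Scheme.{u}} (p : T' ⟶ T) [IsFinite p] [CompactSpace T]
    (hp : UniversallyInjective p) : ∃ d : ℕ, 0 < d ∧ ∀ t' : T', ∃ e : ℕ,
      @Module.finrank (T.residueField (p t')) (T'.residueField t') _ _
          (p.residueFieldMap t').hom.toAlgebra.toModule =
        ringExpChar (T.residueField (p t')) ^ e ∧
      ringExpChar (T.residueField (p t')) ^ e ∣ d := by
  classical
  obtain ⟨s, hs⟩ := isCompact_univ.elim_finite_subcover (fun U : T.affineOpens ↦ (U.1 : Set T))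
    (fun U ↦ U.1.isOpen) (fun x _ ↦ by
      obtain ⟨U, hU, hxU, -⟩ := TopologicalSpace.Opens.isBasis_iff_nbhd.mp T.isBasis_affineOpens
        (TopologicalSpace.Opens.mem_top x)
      exact Set.mem_iUnion.mpr ⟨⟨U, hU⟩, hxU⟩)
  choose N hN using fun U : T.affineOpens ↦ bound_affine p U
  refine ⟨(s.sup N).factorial, Nat.factorial_pos _, fun t' ↦ ?_⟩
  obtain ⟨U, hU, htU⟩ := Set.mem_iUnion₂.mp (hs (Set.mem_univ (p t')))
  obtain ⟨hle, hfin⟩ := hN U t' htU
  have hpi := (((tfae_universallyInjective p).out 0 2 : UniversallyInjective p ↔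
    Function.Injective p ∧ ∀ x, (p.residueFieldMap x).hom.IsPurelyInseparable).mp hp).2 t'
  algebraize [(p.residueFieldMap t').hom]
  obtain ⟨e, he⟩ := IsPurelyInseparable.finrank_eq_pow (F := T.residueField (p t')) (E := T'.residueField t')
    (ringExpChar (T.residueField (p t')))
  exact ⟨e, he, he ▸ Nat.dvd_factorial Module.finrank_pos (le_trans hle (Finset.le_sup hU))⟩

end Groth.Agent.Misc9.FinUHDeg
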