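import Groth.Prelude.Def_HTop
import Mathlib.AlgebraicGeometry.Sites.Fpqc
import Mathlib.AlgebraicGeometry.Morphisms.QuasiSeparated

/-! fpqc coverings. -/

set_option autoImplicit false
set_option backward.isDefEq.respectTransparency false
universe w w' u
namespace Groth.Agent.Misc9.FpqcBasics
open CategoryTheory CategoryTheory.Limits AlgebraicGeometry

variable {T : Scheme.{u}}

theorem mem_fpqc (E : PreZeroHypercover.{w} T) (hflat : ∀ i, Flat (E.f i))
    (hcov : ∀ t : T, ∃ i x, E.f i x = t) (hqc : QuasiCompactCover E) : E.presieve₀ ∈ Scheme.fpqcPrecoverage T :=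
  ⟨Scheme.presieve₀_mem_qcPrecoverage_iff.2 hqc, (Scheme.presieve₀_mem_precoverage_iff _).2 ⟨hcov, hflat⟩⟩

theorem of_fpqc (E : PreZeroHypercover.{w} T) (h : E.presieve₀ ∈ Scheme.fpqcPrecoverage T) :
    (∀ i, Flat (E.f i)) ∧ (∀ t : T, ∃ i x, E.f i x = t) ∧ QuasiCompactCover E := by
  have h2 := (Scheme.presieve₀_mem_precoverage_iff E).1 h.2
  exact ⟨h2.2, h2.1, Scheme.presieve₀_mem_qcPrecoverage_iff.1 h.1⟩

theorem mem_fpqc_of_refining (E : PreZeroHypercover.{w} T) (hflat : ∀ i, Flat (E.f i))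
    (href : ∀ (Z : Scheme.{u}) [IsAffine Z] (h : Z ⟶ T), ∃ F : PreZeroHypercover.{0} Z, Finite F.I₀ ∧
      (∀ j, IsAffine (F.X j)) ∧ (∀ j, Flat (F.f j)) ∧ (∀ z : Z, ∃ (j : F.I₀) (x : F.X j), F.f j x = z) ∧
      HTop.RefinesOver h F E) : E.presieve₀ ∈ Scheme.fpqcPrecoverage T := by
  refine mem_fpqc E hflat (fun t => ?_) ⟨fun {U} hU => ?_⟩
  · obtain ⟨U, hU, htU, -⟩ := exists_isAffineOpen_mem_and_subset (U := (⊤ : T.Opens)) (x := t) trivial
    haveI : IsAffine (U : Scheme.{u}) := hU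
    obtain ⟨F, -, -, -, hs, hr⟩ := href U U.ι
    obtain ⟨j, x, hx⟩ := hs ⟨t, htU⟩
    obtain ⟨i, k, hk⟩ := hr j
    exact ⟨i, k x, by rw [← Scheme.Hom.comp_apply, hk, Scheme.Hom.comp_apply, hx]; rfl⟩
  · haveI : IsAffine (U : Scheme.{u}) := hU
    obtain ⟨F, hfin, ha, -, hs, hr⟩ := href U U.ι
    choose a k hk using hr
    refine IsCompactOpenCovered.of_comp (a := a) (fun j => ⇑(F.f j ≫ U.ι)) (fun j => ⇑(k j))
      (fun j => Scheme.Hom.continuous _) (fun j => funext fun x => ?_) (fun _ => Scheme.Hom.continuous _) U.2 ?_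
    · rw [← hk]; rfl
    · refine IsCompactOpenCovered.of_finite id (fun _ => ⊤)
        (fun j => by haveI := ha j; exact isCompact_univ) ?_
      ext t
      simp only [Set.mem_iUnion, Set.mem_image]
      constructor
      · rintro ⟨j, x, -, rfl⟩
        exact (F.f j x).2
      · intro ht
        obtain ⟨j, x, hx⟩ := hs ⟨t, ht⟩
        exact ⟨j, x, trivial, congrArg Subtype.val hx⟩

theorem qc_bind {X : Scheme.{u}} (𝒰 : PreZeroHypercover.{w} X) [QuasiCompactCover 𝒰]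
    (f : ∀ (x : 𝒰.I₀), PreZeroHypercover.{w'} (𝒰.X x)) (hf : ∀ x, QuasiCompactCover (f x)) :
    QuasiCompactCover (𝒰.bind f) where
  isCompactOpenCovered_of_isAffineOpen {U} hU := by
    haveI := hf
    obtain ⟨s, hs, V, hcV, hU⟩ := hU.isCompactOpenCovered 𝒰
    have (i) (hi) : IsCompactOpenCovered ((f i).f ·) (V i hi) :=
      QuasiCompactCover.isCompactOpenCovered_of_isCompact (f i) (hcV i hi)
    choose t ht W hcW hV using this
    have : Finite s := hs
    have (i) (hi) : Finite (t i hi) := ht i hi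
    refine .of_finite (κ := Σ (i : s), t i.1 i.2) (fun p ↦ ⟨p.1, p.2⟩) (fun p ↦ W _ p.1.2 _ p.2.2)
      (fun p ↦ hcW ..) ?_
    simpa [← hV, Set.iUnion_sigma, Set.iUnion_subtype, Set.image_iUnion, Set.image_image] using! hU

theorem sigma_iff (E : PreZeroHypercover.{u} T) :
    E.presieve₀ ∈ Scheme.fpqcPrecoverage T ↔ Presieve.singleton (Sigma.desc E.f) ∈ Scheme.fpqcPrecoverage T := by
  let S : PreZeroHypercover.{u} T := PreZeroHypercover.singleton (Sigma.desc E.f)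
  have hS : S.presieve₀ = Presieve.singleton (Sigma.desc E.f) := PreZeroHypercover.presieve₀_singleton _
  rw [← hS]
  let G : S.I₀ → PreZeroHypercover.{u} (∐ E.X) := fun _ => { I₀ := E.I₀, X := E.X, f := Sigma.ι E.X }
  have hG : ∀ j, QuasiCompactCover (G j) := fun _ =>
    QuasiCompactCover.of_isOpenMap (𝒰 := (sigmaOpenCover E.X)) fun i => ((sigmaOpenCover E.X).f i).isOpenEmbedding.isOpenMap
  constructor
  · intro h
    obtain ⟨h1, h2, h3⟩ := of_fpqc E h
    refine mem_fpqc S (fun _ => IsZariskiLocalAtSource.sigmaDesc h1) (fun t => ?_) ?_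
    · obtain ⟨i, x, rfl⟩ := h2 t
      refine ⟨PUnit.unit, Sigma.ι E.X i x, ?_⟩
      show (Sigma.ι E.X i ≫ Sigma.desc E.f) x = _
      rw [Sigma.ι_desc]
    · exact QuasiCompactCover.of_hom (𝒱 := E)
        { s₀ := fun _ => PUnit.unit, h₀ := fun i => Sigma.ι E.X i, w₀ := fun i => Sigma.ι_desc _ _ }
  · intro h
    obtain ⟨h1, h2, h3⟩ := of_fpqc S h
    haveI : Flat (Sigma.desc E.f) := h1 PUnit.unit
    refine mem_fpqc E (fun i => ?_) (fun t => ?_) ?_
    · rw [← Sigma.ι_desc E.f i]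
      infer_instance
    · obtain ⟨-, x, rfl⟩ := h2 t
      obtain ⟨i, y, rfl⟩ := (sigmaOpenCover E.X).exists_eq x
      refine ⟨i, y, ?_⟩
      show _ = (Sigma.ι E.X i ≫ Sigma.desc E.f) y
      rw [Sigma.ι_desc]
    · haveI := h3
      haveI := qc_bind S G hG
      exact QuasiCompactCover.of_hom (𝒱 := S.bind G)
        { s₀ := fun p => p.2, h₀ := fun p => 𝟙 (E.X p.2),
          w₀ := fun p => (Category.id_comp _).trans (Sigma.ι_desc E.f p.2).symm }

theorem of_fpqc_locally (E : PreZeroHypercover.{u} T) (hflat : ∀ i, Flat (E.f i))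
    (𝒱 : Scheme.Cover Scheme.fpqcPrecoverage T)
    (hloc : ∀ j, (E.pullback₁ (𝒱.f j)).presieve₀ ∈ Scheme.fpqcPrecoverage (𝒱.X j)) :
    E.presieve₀ ∈ Scheme.fpqcPrecoverage T := by
  obtain ⟨-, h2, h3⟩ := of_fpqc 𝒱.toPreZeroHypercover 𝒱.mem₀
  refine mem_fpqc E hflat (fun t => ?_) ?_
  · obtain ⟨j, x, rfl⟩ := h2 t
    obtain ⟨i, y, rfl⟩ := (of_fpqc _ (hloc j)).2.1 x
    refine ⟨i, pullback.snd (𝒱.f j) (E.f i) y, ?_⟩
    show (pullback.snd (𝒱.f j) (E.f i) ≫ E.f i) y = (pullback.fst (𝒱.f j) (E.f i) ≫ 𝒱.f j) y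
    rw [pullback.condition]
  · haveI := h3
    haveI := qc_bind 𝒱.toPreZeroHypercover (fun j => E.pullback₁ (𝒱.f j)) (fun j => (of_fpqc _ (hloc j)).2.2)
    exact QuasiCompactCover.of_hom (𝒱 := 𝒱.toPreZeroHypercover.bind fun j => E.pullback₁ (𝒱.f j))
      { s₀ := fun p => p.2, h₀ := fun p => pullback.snd (𝒱.f p.1) (E.f p.2),
        w₀ := fun p => pullback.condition.symm }

theorem qc_iff_nhds [QuasiSeparatedSpace T] (E : PreZeroHypercover.{w} T) :
    QuasiCompactCover E ↔ ∀ t : T, ∃ (n : ℕ) (i : Fin n → E.I₀) (V : ∀ j, (E.X (i j)).Opens),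
      (∀ j, IsCompact (V j : Set (E.X (i j)))) ∧ (⋃ j, ⇑(E.f (i j)) '' (V j : Set (E.X (i j)))) ∈ nhds t := by
  constructor
  · intro h t
    obtain ⟨U, hU, htU, -⟩ := exists_isAffineOpen_mem_and_subset (U := (⊤ : T.Opens)) (x := t) trivial
    obtain ⟨n, i, V, hV, he⟩ := QuasiCompactCover.exists_isAffineOpen_of_isCompact E hU.isCompact
    exact ⟨n, i, V, fun j => (hV j).isCompact, by rw [he]; exact U.2.mem_nhds htU⟩
  · intro h
    refine ⟨fun {U} hU => IsCompactOpenCovered.of_isCompact_of_forall_exists_isCompactOpenCovered hU.isCompact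
      fun x hx => ?_⟩
    obtain ⟨n, i, V, hV, hn⟩ := h x
    obtain ⟨W, hW, hxW, hle⟩ := exists_isAffineOpen_mem_and_subset (x := x)
      (U := (⟨_, U.2.inter isOpen_interior⟩ : T.Opens)) ⟨hx, mem_interior_iff_mem_nhds.2 hn⟩
    refine ⟨W, fun y hy => (hle hy).1, hxW, W.2,
      IsCompactOpenCovered.of_finite i (fun j => V j ⊓ E.f (i j) ⁻¹ᵁ W) (fun j => ?_) ?_⟩
    · haveI : CompactSpace (V j).toScheme := isCompact_iff_compactSpace.mp (hV j)
      haveI : QuasiCompact (((V j).ι ≫ E.f (i j)) ≫ terminal.from T) := by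
        exact HasAffineProperty.iff_of_isAffine.mpr (by infer_instance)
      haveI : QuasiCompact ((V j).ι ≫ E.f (i j)) := QuasiCompact.of_comp _ (terminal.from T)
      have := (((V j).ι ≫ E.f (i j)).isCompact_preimage hW.isCompact).image (V j).ι.continuous
      convert this using 1
      ext y
      constructor
      · rintro ⟨h1, h2⟩
        exact ⟨⟨y, h1⟩, h2, rfl⟩
      · rintro ⟨⟨z, hz⟩, h2, rfl⟩
        exact ⟨hz, h2⟩
    · ext y
      simp only [Set.mem_iUnion, Set.mem_image]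
      constructor
      · rintro ⟨j, z, ⟨-, hz⟩, rfl⟩
        exact hz
      · intro hy
        obtain ⟨j, z, hz, rfl⟩ : ∃ j, ∃ z ∈ (V j : Set _), E.f (i j) z = y := by
          simpa using interior_subset (hle hy).2
        exact ⟨j, z, ⟨hz, hy⟩, rfl⟩

end Groth.Agent.Misc9.FpqcBasics
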