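import Groth.Prelude.Def_Frob
import Groth.Agent.UnivHomeo.Basic
import Mathlib

/-! The absolute and relative Frobenius are integral universal homeomorphisms. -/

universe u

open CategoryTheory CategoryTheory.Limits AlgebraicGeometry

namespace Groth.Agent.Misc9.FrobHom

variable (p : ℕ) [Fact p.Prime]

theorem univInj_iff_res {X Y : Scheme.{u}} (f : X ⟶ Y) :
    UniversallyInjective f ↔ Function.Injective f ∧ ∀ x, (f.residueFieldMap x).hom.IsPurelyInseparable :=
  (tfae_universallyInjective f).out 0 2

theorem univInj_iff_points {X Y : Scheme.{u}} (f : X ⟶ Y) :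
    UniversallyInjective f ↔ ∀ (K : Type u) [Field K], Function.Injective (fun g : Spec (.of K) ⟶ X ↦ g ≫ f) :=
  (tfae_universallyInjective f).out 0 1

section Abs

variable (X : Scheme.{u}) [FrobSch.IsCharP X p]

theorem isIntegralHom_frob : IsIntegralHom (FrobSch.frob X p) :=
  { isAffine_preimage := fun _ hU => hU
    isIntegral_app := fun U _ (s : Γ(X, U)) =>
      ⟨Polynomial.X ^ p - Polynomial.C s, Polynomial.monic_X_pow_sub_C _ (Fact.out : p.Prime).ne_zero, by
        rw [Polynomial.eval₂_sub, Polynomial.eval₂_pow, Polynomial.eval₂_X, Polynomial.eval₂_C]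
        exact sub_self _⟩ }

theorem charP_residueField (x : X) : CharP (X.residueField x) p := by
  refine (CharP.charP_iff_prime_eq_zero Fact.out).2 ?_
  have h := congrArg (X.Γevaluation x).hom (FrobSch.IsCharP.natCast_eq_zero (X := X) (p := p))
  rw [map_natCast, map_zero] at h
  exact h

theorem residueFieldMap_frob (x : X) (z : X.residueField x) :
    (FrobSch.frob X p).residueFieldMap x z = z ^ p := by
  obtain ⟨t, ht⟩ := X.residue_surjective x z
  obtain ⟨U, hxU, s, rfl⟩ := X.presheaf.exists_germ_eq (x := x) t
  have h := Scheme.evaluation_naturality_apply (FrobSch.frob X p) x hxU s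
  subst ht
  refine h.trans ?_
  exact map_pow (X.evaluation U x hxU).hom s p

theorem isPurelyInseparable_frob (x : X) :
    ((FrobSch.frob X p).residueFieldMap x).hom.IsPurelyInseparable := by
  have : CharP (X.residueField ((FrobSch.frob X p) x)) p := charP_residueField p X _
  have : ExpChar (X.residueField ((FrobSch.frob X p) x)) p := ExpChar.prime Fact.out
  letI := ((FrobSch.frob X p).residueFieldMap x).hom.toAlgebra
  refine (isPurelyInseparable_iff_pow_mem (X.residueField ((FrobSch.frob X p) x)) p).2 fun z => ⟨1, z, ?_⟩
  rw [pow_one]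
  exact residueFieldMap_frob p X x z

theorem universallyInjective_frob : UniversallyInjective (FrobSch.frob X p) :=
  (univInj_iff_res _).2 ⟨fun _ _ h => h, isPurelyInseparable_frob p X⟩

theorem surjective_frob : Surjective (FrobSch.frob X p) := ⟨fun x => ⟨x, rfl⟩⟩

theorem isUnivHomeo_frob : FlatMor.IsUnivHomeo (FrobSch.frob X p) :=
  have := isIntegralHom_frob p X
  have := universallyInjective_frob p X
  have := surjective_frob p X
  UnivHomeo.Basic.isUnivHomeo_of _

end Abs

section Rel

variable {X S : Scheme.{u}} [FrobSch.IsCharP S p] (f : X ⟶ S)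

theorem isIntegralHom_relFrob : IsIntegralHom (FrobSch.relFrob f p) := by
  have := FrobSch.IsCharP.of_hom f p
  have := isIntegralHom_frob p S
  have : IsIntegralHom (FrobSch.relFrob f p ≫ pullback.fst f (FrobSch.frob S p)) := by
    rw [FrobSch.relFrob_fst]
    exact isIntegralHom_frob p X
  exact IsIntegralHom.of_comp _ (pullback.fst f (FrobSch.frob S p))

theorem universallyInjective_relFrob : UniversallyInjective (FrobSch.relFrob f p) := by
  have := FrobSch.IsCharP.of_hom f p
  refine (univInj_iff_points _).2 fun K _ g g' h => ?_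
  have h2 := (univInj_iff_points _).1 (universallyInjective_frob p X) K
  refine h2 ?_
  simp only at h ⊢
  rw [← FrobSch.relFrob_fst (f := f) (p := p), reassoc_of% h]

theorem surjective_relFrob : Surjective (FrobSch.relFrob f p) := by
  have := FrobSch.IsCharP.of_hom f p
  have := universallyInjective_frob p S
  have hfst : UniversallyInjective (pullback.fst f (FrobSch.frob S p)) :=
    MorphismProperty.pullback_fst _ _ this
  refine ⟨fun y => ⟨pullback.fst f (FrobSch.frob S p) y, ?_⟩⟩
  apply (pullback.fst f (FrobSch.frob S p)).injective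
  rw [← Scheme.Hom.comp_apply, FrobSch.relFrob_fst, FrobSch.frob_apply]

theorem isUnivHomeo_relFrob : FlatMor.IsUnivHomeo (FrobSch.relFrob f p) :=
  have := isIntegralHom_relFrob p f
  have := universallyInjective_relFrob p f
  have := surjective_relFrob p f
  UnivHomeo.Basic.isUnivHomeo_of _

theorem isPurelyInseparable_relFrob (x : X) :
    ((FrobSch.relFrob f p).residueFieldMap x).hom.IsPurelyInseparable :=
  ((univInj_iff_res _).1 (universallyInjective_relFrob p f)).2 x

theorem isFinite_relFrob [LocallyOfFiniteType f] : IsFinite (FrobSch.relFrob f p) := by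
  have : LocallyOfFiniteType (FrobSch.relFrob f p ≫ pullback.snd f (FrobSch.frob S p)) := by
    rw [FrobSch.relFrob_snd]; infer_instance
  exact (IsFinite.iff_isIntegralHom_and_locallyOfFiniteType _).2
    ⟨isIntegralHom_relFrob p f, locallyOfFiniteType_of_comp _ (pullback.snd f (FrobSch.frob S p))⟩

end Rel

end Groth.Agent.Misc9.FrobHom
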