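import Mathlib

/-! In characteristic `p`, geometric reducedness is detected by the base change along Frobenius. -/

universe u

open CategoryTheory CategoryTheory.Limits AlgebraicGeometry TensorProduct

namespace Groth.Agent.Misc9.FrobReduced

theorem isReduced_tensor (p : ℕ) [Fact p.Prime] (k : Type u) [Field k] [CharP k p] (A : Type u) [CommRing A]
    [Algebra k A] (E : Type u) [Field E] [Algebra k E] (hE : ∀ a : k, ∃ e : E, e ^ p = algebraMap k E a)
    [_root_.IsReduced (E ⊗[k] A)] (K : Type u) [Field K] [Algebra k K] : _root_.IsReduced (K ⊗[k] A) := by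
  rcases subsingleton_or_nontrivial (K ⊗[k] A) with hs | hn
  · exact ⟨fun x _ => Subsingleton.elim x 0⟩
  have : Nontrivial A := by
    rw [← not_subsingleton_iff_nontrivial]
    intro hs
    exact false_of_nontrivial_of_subsingleton (K ⊗[k] A)
  have hp := (Fact.out : p.Prime)
  have : CharP A p := charP_of_injective_algebraMap (algebraMap k A).injective p
  have : CharP E p := charP_of_injective_algebraMap (algebraMap k E).injective p
  have : CharP K p := charP_of_injective_algebraMap (algebraMap k K).injective p
  have : CharP (E ⊗[k] A) p :=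
    charP_of_injective_ringHom (f := (Algebra.TensorProduct.includeRight : A →ₐ[k] E ⊗[k] A).toRingHom)
      (Algebra.TensorProduct.includeRight_injective (algebraMap k E).injective) p
  have : CharP (K ⊗[k] A) p :=
    charP_of_injective_ringHom (f := (Algebra.TensorProduct.includeRight : A →ₐ[k] K ⊗[k] A).toRingHom)
      (Algebra.TensorProduct.includeRight_injective (algebraMap k K).injective) p
  let bb := Module.Free.chooseBasis k A
  -- `p`-th powers of a basis stay independent
  have hML : LinearIndependent k (fun i => bb i ^ p : _ → A) := by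
    rw [linearIndependent_iff']
    intro t a ha i hi
    classical
    choose r hr using fun j => hE (a j)
    let z : E ⊗[k] A := ∑ j ∈ t, r j ⊗ₜ bb j
    have hz : z ^ p = 0 := by
      rw [sum_pow_char p]
      calc ∑ j ∈ t, (r j ⊗ₜ bb j) ^ p = ∑ j ∈ t, (1 : E) ⊗ₜ[k] (a j • bb j ^ p) := by
            refine Finset.sum_congr rfl fun j _ => ?_
            rw [Algebra.TensorProduct.tmul_pow, hr, TensorProduct.tmul_smul, TensorProduct.smul_tmul',
              Algebra.smul_def, mul_one]
        _ = 0 := by rw [← TensorProduct.tmul_sum, ha, TensorProduct.tmul_zero]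
    have hz0 : z = 0 := eq_zero_of_pow_eq_zero hz
    have := congrArg (fun w => TensorProduct.rid k E ((bb.coord i).lTensor E w)) hz0
    simp [z, map_sum, Finsupp.single_apply, hi] at this
    have h := hr i
    rw [this, zero_pow hp.ne_zero] at h
    exact (map_eq_zero _).mp h.symm
  have hzero : ∀ z : K ⊗[k] A, z ^ p = 0 → z = 0 := fun z hz => by
    obtain ⟨c, rfl⟩ := TensorProduct.eq_repr_basis_right bb z
    rw [Finsupp.sum, sum_pow_char p] at hz
    simp only [Algebra.TensorProduct.tmul_pow] at hz
    refine Finset.sum_eq_zero fun i hi => ?_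
    obtain ⟨L, hL⟩ := LinearMap.exists_extend ((Finsupp.lapply i).comp hML.repr)
    have hLb : ∀ j, L (bb j ^ p) = if j = i then 1 else 0 := fun j => by
      classical
      have := DFunLike.congr_fun hL ⟨_, Submodule.subset_span (Set.mem_range_self (f := fun l => bb l ^ p) j)⟩
      simp only [LinearMap.comp_apply, Submodule.coe_subtype, Finsupp.lapply_apply] at this
      rw [hML.repr_eq_single j _ rfl, Finsupp.single_apply] at this
      exact this
    classical
    have := congrArg (fun w => TensorProduct.rid k K (L.lTensor K w)) hz
    simp [map_sum, hLb, Finsupp.mem_support_iff.mp hi] at this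
  refine ⟨fun z ⟨n, hn⟩ => ?_⟩
  induction n using Nat.strong_induction_on with
  | _ n ih =>
    rcases Nat.lt_or_ge 1 n with h1 | h1
    · refine ih (n / 2 + n % 2) (by omega) (hzero _ ?_)
      rw [← pow_mul]
      exact pow_eq_zero_of_le (by calc n ≤ (n / 2 + n % 2) * 2 := by omega
        _ ≤ (n / 2 + n % 2) * p := Nat.mul_le_mul_left _ hp.two_le) hn
    · interval_cases n
      · simpa using congrArg (z * ·) hn
      · simpa using hn

/-- a copy of `k`, seen as a `k`-algebra through Frobenius. -/
def FrobField (k : Type u) [Field k] (p : ℕ) [Fact p.Prime] [CharP k p] : Type u := k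

variable (p : ℕ) [Fact p.Prime] (k : Type u) [Field k] [CharP k p]

noncomputable instance : Field (FrobField k p) := inferInstanceAs (Field k)

noncomputable instance : Algebra k (FrobField k p) := (frobenius k p : k →+* FrobField k p).toAlgebra

theorem aff (K : Type u) [Field K] [Algebra k K] (R : CommRingCat.{u}) (φ : Spec R ⟶ Spec (CommRingCat.of k))
    (h : IsReduced (pullback φ (Spec.map (CommRingCat.ofHom (algebraMap k (FrobField k p)))))) :
    IsReduced (pullback φ (Spec.map (CommRingCat.ofHom (algebraMap k K)))) := by
  obtain ⟨ψ, rfl⟩ := Spec.map_surjective φ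
  letI := ψ.hom.toAlgebra
  have hr₀ : IsReduced (Spec (CommRingCat.of (R ⊗[k] FrobField k p))) :=
    have : IsReduced (pullback (Spec.map (CommRingCat.ofHom (algebraMap k R)))
        (Spec.map (CommRingCat.ofHom (algebraMap k (FrobField k p))))) := h
    isReduced_of_isOpenImmersion (pullbackSpecIso k R (FrobField k p)).inv
  rw [affine_isReduced_iff] at hr₀
  have : _root_.IsReduced (R ⊗[k] FrobField k p) := hr₀
  have : _root_.IsReduced (FrobField k p ⊗[k] R) :=
    isReduced_of_injective (Algebra.TensorProduct.comm k (FrobField k p) R).toAlgHom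
      (Algebra.TensorProduct.comm k (FrobField k p) R).injective
  have := isReduced_tensor p k R (FrobField k p) (fun a => ⟨(a : FrobField k p), rfl⟩) K
  have : _root_.IsReduced (CommRingCat.of (R ⊗[k] K)) :=
    isReduced_of_injective (Algebra.TensorProduct.comm k R K).toAlgHom
      (Algebra.TensorProduct.comm k R K).injective
  exact isReduced_of_isOpenImmersion (pullbackSpecIso k R K).hom

theorem isReduced_iff {X : Scheme.{u}} (f : X ⟶ Spec (CommRingCat.of k)) :
    GeometricallyReduced f ↔
      IsReduced ↑(pullback f (Spec.map (CommRingCat.ofHom (frobenius k p)))) := by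
  constructor
  · intro h
    exact pullback_of_geometrically h.geometrically_isReduced k _
  intro h
  rw [geometricallyReduced_iff, geometrically_iff_of_commRing_of_isClosedUnderIsomorphisms]
  intro K _ _
  let g := Spec.map (CommRingCat.ofHom (algebraMap k K))
  let g₀ : Spec (CommRingCat.of (FrobField k p)) ⟶ Spec (CommRingCat.of k) :=
    Spec.map (CommRingCat.ofHom (algebraMap k (FrobField k p)))
  have h₀ : IsReduced (pullback f g₀) := h
  apply +allowSynthFailures @IsReduced.of_openCover (𝒰 := Scheme.Pullback.openCoverOfLeft X.affineCover f g)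
  intro (i : X.affineCover.I₀)
  change IsReduced (pullback (X.affineCover.f i ≫ f) g)
  exact aff p k K _ (X.affineCover.f i ≫ f)
    (inferInstanceAs (IsReduced ((Scheme.Pullback.openCoverOfLeft X.affineCover f g₀).X i)))

end Groth.Agent.Misc9.FrobReduced
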