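import Mathlib.AlgebraicGeometry.FunctionField
import Mathlib.AlgebraicGeometry.Morphisms.Finite
import Mathlib.AlgebraicGeometry.Morphisms.Integral
import Mathlib.RingTheory.IntegralClosure.Algebra.Basic
import Mathlib.FieldTheory.Minpoly.Field
import Mathlib.FieldTheory.IntermediateField.Adjoin.Basic

/-! Function field extensions of integral and finite dominant morphisms. -/

set_option autoImplicit false
set_option backward.isDefEq.respectTransparency false
universe u
namespace Groth.Agent.Misc9.FunFieldExt
open CategoryTheory CategoryTheory.Limits AlgebraicGeometry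

theorem of_ring {A B K L : Type u} [CommRing A] [CommRing B] [Field K] [Field L] (φ : A →+* B) (ψ : K →+* L)
    (i : A →+* K) (j : B →+* L) (w : j.comp φ = ψ.comp i) (hfrac : ∀ x : L, ∃ a b : B, j b ≠ 0 ∧ x * j b = j a) :
    (φ.IsIntegral → ψ.IsIntegral) ∧ (φ.Finite → ψ.Finite) := by
  algebraize [φ, ψ]
  letI := ((j.comp φ)).toAlgebra
  letI := i.toAlgebra
  haveI : IsScalarTower A K L := IsScalarTower.of_algebraMap_eq' w
  let J : B →ₐ[A] L := { j with commutes' := fun _ => rfl }
  have hint : φ.IsIntegral → ψ.IsIntegral := by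
    intro h x
    have hJ : ∀ b : B, IsIntegral K (j b) := fun b => ((show IsIntegral A b from h b).map J).tower_top
    obtain ⟨a, b, hb, hx⟩ := hfrac x
    have : x = j a * (j b)⁻¹ := by rw [← hx, mul_inv_cancel_right₀ hb]
    rw [this]
    exact (hJ a).mul (hJ b).inv
  refine ⟨hint, fun h => ?_⟩
  haveI : Module.Finite A B := h
  have hi := hint (RingHom.Finite.to_isIntegral h)
  haveI : Algebra.IsIntegral K L := ⟨hi⟩
  obtain ⟨s, hs⟩ := Module.Finite.fg_top (R := A) (M := B)
  classical
  let M : IntermediateField K L := IntermediateField.adjoin K (j '' (s : Set B))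
  haveI : FiniteDimensional K M := IntermediateField.finiteDimensional_adjoin (fun x _ => hi x)
  have hM : ∀ b : B, j b ∈ M := by
    intro b
    have hb : b ∈ Submodule.span A (s : Set B) := hs ▸ Submodule.mem_top
    refine Submodule.span_induction (fun x hx => IntermediateField.subset_adjoin K _ ⟨x, hx, rfl⟩) ?_ ?_ ?_ hb
    · rw [map_zero]; exact M.zero_mem
    · intro x y _ _ hx hy; rw [map_add]; exact M.add_mem hx hy
    · intro r x _ hx
      rw [Algebra.smul_def, map_mul]
      exact M.mul_mem (by rw [show j (algebraMap A B r) = ψ (i r) from DFunLike.congr_fun w r]; exact M.algebraMap_mem (i r)) hx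
  have htop : M = ⊤ := by
    refine eq_top_iff.2 fun x _ => ?_
    obtain ⟨a, b, hb, hx⟩ := hfrac x
    have : x = j a * (j b)⁻¹ := by rw [← hx, mul_inv_cancel_right₀ hb]
    rw [this]
    exact M.mul_mem (hM a) (M.inv_mem (hM b))
  show Module.Finite K L
  exact Module.Finite.equiv ((IntermediateField.equivOfEq htop).trans IntermediateField.topEquiv).toLinearEquiv

theorem stalkMap_generic {X S : Scheme.{u}} [IsIntegral X] [IsIntegral S] (f : X ⟶ S) [IsDominant f] :
    (IsIntegralHom f → (f.stalkMap (genericPoint X)).hom.IsIntegral) ∧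
      (IsFinite f → (f.stalkMap (genericPoint X)).hom.Finite) := by
  have hgen : f (genericPoint X) = genericPoint S :=
    ((genericPoint_spec X).image f.continuous).eq (by
      have h : closure (f '' (Set.univ : Set X)) = Set.univ := by
        rw [Set.image_univ]
        exact f.denseRange.closure_range
      rw [h]
      exact genericPoint_spec S)
  obtain ⟨V, hV, hgV, -⟩ := exists_isAffineOpen_mem_and_subset (U := (⊤ : S.Opens)) (x := f (genericPoint X)) trivial
  have hF : IsField (S.presheaf.stalk (f (genericPoint X))) := by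
    rw [hgen]
    exact Field.toIsField S.functionField
  letI := hF.toField
  have key : ∀ [IsAffineHom f], ((f.app V).hom.IsIntegral → (f.stalkMap (genericPoint X)).hom.IsIntegral) ∧
      ((f.app V).hom.Finite → (f.stalkMap (genericPoint X)).hom.Finite) := by
    intro _
    have hW : IsAffineOpen (f ⁻¹ᵁ V) := hV.preimage f
    haveI : Nonempty (f ⁻¹ᵁ V) := ⟨⟨_, hgV⟩⟩
    haveI := functionField_isFractionRing_of_isAffineOpen X (f ⁻¹ᵁ V) hW
    refine of_ring (L := X.functionField) (f.app V).hom (f.stalkMap (genericPoint X)).hom (S.presheaf.germ V _ hgV).hom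
      (X.presheaf.germ (f ⁻¹ᵁ V) _ hgV).hom ?_ fun x => ?_
    · rw [← CommRingCat.hom_comp, ← CommRingCat.hom_comp, Scheme.Hom.germ_stalkMap]
    · obtain ⟨⟨a, b⟩, hab⟩ := IsLocalization.surj (nonZeroDivisors Γ(X, f ⁻¹ᵁ V)) (x : X.functionField)
      exact ⟨a, b.1, IsFractionRing.to_map_ne_zero_of_mem_nonZeroDivisors b.2, hab⟩
  exact ⟨fun h => key.1 (f.isIntegral_app V hV), fun h => key.2 (f.finite_app V hV)⟩

end Groth.Agent.Misc9.FunFieldExt
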