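import Groth.Agent.Misc9.GenFiniteAlg
import Groth.Agent.Misc9.BiratOpen
import Mathlib.AlgebraicGeometry.Morphisms.Finite
import Mathlib.AlgebraicGeometry.Morphisms.QuasiFinite
import Mathlib.AlgebraicGeometry.Morphisms.QuasiSeparated

/-! Finiteness over a neighbourhood of a maximal point with finite fibre. -/

set_option autoImplicit false
set_option backward.isDefEq.respectTransparency false
universe u
namespace Groth.Agent.Misc9.GenFinite
open AlgebraicGeometry CategoryTheory TopologicalSpace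
open Groth.Agent.Misc9.RatFunBasic Groth.Agent.Misc9.BiratOpen

variable {X Y : Scheme.{u}} (f : X ⟶ Y)

theorem isFinite_resLE_iff {V : Y.Opens} {U : X.Opens} (hV : IsAffineOpen V) (hU : IsAffineOpen U)
    (e : U ≤ f ⁻¹ᵁ V) : IsFinite (f.resLE V U e) ↔ (f.appLE V U e).hom.Finite := by
  haveI : IsAffine V.toScheme := hV
  haveI : IsAffine U.toScheme := hU
  rw [HasAffineProperty.iff_of_isAffine (P := @IsFinite), and_iff_right (by infer_instance),
    RingHom.finite_respectsIso.arrow_mk_iso_iff (arrowResLEAppIso f _ _ e)]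

/-- one affine piece -/
theorem exists_piece [LocallyOfFiniteType f] {V : Y.Opens} (hV : IsAffineOpen V) {U : X.Opens} (hU : IsAffineOpen U)
    (e : U ≤ f ⁻¹ᵁ V) {η : Y} (hη : IsMax' η) (hηV : η ∈ V) (hfin : ((U : Set X) ∩ f ⁻¹' {η}).Finite) :
    ∃ g : Γ(Y, V), η ∈ Y.basicOpen g ∧ ∀ g', g ∣ g' →
      IsAffineOpen (U ⊓ f ⁻¹ᵁ Y.basicOpen g') ∧
        IsFinite (f.resLE (Y.basicOpen g') (U ⊓ f ⁻¹ᵁ Y.basicOpen g') inf_le_right) := by
  letI := (f.appLE V U e).hom.toAlgebra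
  haveI : Algebra.FiniteType Γ(Y, V) Γ(X, U) := LocallyOfFiniteType.finiteType_appLE f hV hU e
  set p := hV.primeIdealOf ⟨η, hηV⟩
  have hpη : hV.fromSpec p = η := hV.fromSpec_primeIdealOf _
  have hmin : p.asIdeal ∈ minimalPrimes Γ(Y, V) := ⟨⟨p.isPrime, bot_le⟩, fun J hJ hle => by
    have h1 : hV.fromSpec ⟨J, hJ.1⟩ = η := hη _ (hpη ▸ ((PrimeSpectrum.le_iff_specializes _ p).mp hle).map hV.fromSpec.continuous)
    exact (congrArg PrimeSpectrum.asIdeal (hV.fromSpec.isOpenEmbedding.injective (h1.trans hpη.symm))).ge⟩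
  have hfin' : (PrimeSpectrum.comap (algebraMap Γ(Y, V) Γ(X, U)) ⁻¹' {(⟨p.asIdeal, hmin.1.1⟩ : PrimeSpectrum Γ(Y, V))}).Finite := by
    refine Set.Finite.of_finite_image (f := hU.fromSpec) (hfin.subset ?_) hU.fromSpec.isOpenEmbedding.injective.injOn
    rintro _ ⟨q, hq, rfl⟩
    refine ⟨?_, ?_⟩
    · rw [← hU.range_fromSpec]; exact Set.mem_range_self q
    · have h1 : f (hU.fromSpec q) = hV.fromSpec (Spec.map (f.appLE V U e) q) := by
        rw [← Scheme.Hom.comp_apply, ← Scheme.Hom.comp_apply, IsAffineOpen.SpecMap_appLE_fromSpec f hV hU e]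
      change f (hU.fromSpec q) = η
      rw [h1, ← hpη]
      exact congrArg hV.fromSpec hq
  obtain ⟨g, hg, hg'⟩ := GenFiniteAlg.exists_integral p.asIdeal hmin hfin'
  refine ⟨g, ?_, fun g' hgg => ?_⟩
  · rw [← hpη]
    change p ∈ hV.fromSpec ⁻¹ᵁ Y.basicOpen g
    rw [hV.fromSpec_preimage_basicOpen]
    exact hg
  · have hUg : U ⊓ f ⁻¹ᵁ Y.basicOpen g' = X.basicOpen (f.appLE V U e g') := (Scheme.basicOpen_appLE f U V e g').symm
    have haff : IsAffineOpen (U ⊓ f ⁻¹ᵁ Y.basicOpen g') := hUg ▸ hU.basicOpen _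
    refine ⟨haff, (isFinite_resLE_iff f (hV.basicOpen g') haff _).mpr ?_⟩
    letI : Algebra Γ(X, U) Γ(X, U ⊓ f ⁻¹ᵁ Y.basicOpen g') := (X.presheaf.map (homOfLE inf_le_left).op).hom.toAlgebra
    haveI := hV.isLocalization_basicOpen g'
    haveI : IsLocalization.Away (algebraMap Γ(Y, V) Γ(X, U) g') Γ(X, U ⊓ f ⁻¹ᵁ Y.basicOpen g') :=
      hU.isLocalization_of_eq_basicOpen _ _ hUg
    exact hg' g' hgg _ _ _ fun a => by
      change (Y.presheaf.map (homOfLE (Y.basicOpen_le g')).op ≫ f.appLE _ _ _) a =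
        (f.appLE V U e ≫ X.presheaf.map (homOfLE inf_le_left).op) a
      rw [Scheme.Hom.map_appLE, Scheme.Hom.appLE_map]

/-- `η` is not in the closure of the image of a closed subset of a quasi-compact piece missing the fibre -/
theorem not_mem_closure {V : Y.Opens} (hV : IsAffineOpen V) {W : X.Opens} (hWc : IsCompact (W : Set X))
    (e : W ≤ f ⁻¹ᵁ V) {Z : Set X} (hZ : IsClosed Z) {η : Y} (hη : IsMax' η) (hηV : η ∈ V)
    (hmiss : ∀ z ∈ W, z ∈ Z → f z ≠ η) : η ∉ closure (f '' ((W : Set X) ∩ Z)) := by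
  intro hmem
  haveI : IsAffine V.toScheme := hV
  haveI : CompactSpace W.toScheme := isCompact_iff_compactSpace.mp hWc
  haveI : QuasiCompact (f.resLE V W e) := HasAffineProperty.iff_of_isAffine.mpr (by infer_instance)
  have hη' : IsMax' (⟨η, hηV⟩ : V.toScheme) := fun z hz => Subtype.ext (hη _ (hz.map V.ι.continuous))
  have himg : f '' ((W : Set X) ∩ Z) ⊆ V.ι '' ((f.resLE V W e) '' (W.ι ⁻¹' Z)) := by
    rintro _ ⟨z, ⟨hzW, hzZ⟩, rfl⟩
    exact ⟨_, ⟨⟨z, hzW⟩, hzZ, rfl⟩, Scheme.Hom.coe_resLE_apply _ _ _⟩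
  have h1 : (⟨η, hηV⟩ : V.toScheme) ∈ closure ((f.resLE V W e) '' (W.ι ⁻¹' Z)) := by
    rw [V.ι.isOpenEmbedding.isInducing.closure_eq_preimage_closure_image]
    exact closure_mono himg hmem
  obtain ⟨w, hw, hwη⟩ := mem_image_of_mem_closure (f.resLE V W e) (hZ.preimage W.ι.continuous) hη' h1
  refine hmiss w.1 w.2 hw ?_
  have := congrArg Subtype.val hwη
  rwa [Scheme.Hom.coe_resLE_apply] at this

/-- gluing finite disjoint pieces -/
theorem isFinite_of_disjoint_pieces [LocallyOfFiniteType f] {V : Y.Opens} (hV : IsAffineOpen V) {ι : Type u} [Finite ι]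
    (P : ι → X.Opens) (hP : ∀ i, IsAffineOpen (P i)) (e : ∀ i, P i ≤ f ⁻¹ᵁ V)
    (hfin : ∀ i, IsFinite (f.resLE V (P i) (e i))) (hd : Pairwise (Function.onFun Disjoint P))
    (hcov : f ⁻¹ᵁ V ≤ iSup P) : IsFinite (f ∣_ V) := by
  classical
  haveI := Fintype.ofFinite ι
  have hW : iSup P = f ⁻¹ᵁ V := le_antisymm (iSup_le e) hcov
  have haff : IsAffineOpen (f ⁻¹ᵁ V) := hW ▸ IsAffineOpen.iSup_of_disjoint hP hd
  rw [← Scheme.Hom.resLE_eq_morphismRestrict, isFinite_resLE_iff f hV haff]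
  have hint : (f.appLE V (f ⁻¹ᵁ V) le_rfl).hom.IsIntegral := by
    intro b
    have hi : ∀ i, ∃ p : Polynomial Γ(Y, V), p.Monic ∧
        Polynomial.eval₂ (f.appLE V (P i) (e i)).hom (X.presheaf.map (homOfLE (e i)).op b) p = 0 := fun i =>
      ((isFinite_resLE_iff f hV (hP i) (e i)).mp (hfin i)).to_isIntegral _
    choose p hp hp0 using hi
    refine ⟨∏ i, p i, Polynomial.monic_prod_of_monic _ _ (fun i _ => hp i), ?_⟩
    refine X.sheaf.eq_of_locally_eq' P (f ⁻¹ᵁ V) (fun i => homOfLE (e i)) hcov _ _ fun i => ?_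
    change (X.presheaf.map (homOfLE (e i)).op).hom _ = (X.presheaf.map (homOfLE (e i)).op).hom _
    rw [map_zero, Polynomial.hom_eval₂, ← CommRingCat.hom_comp, Scheme.Hom.appLE_map,
      Polynomial.eval₂_finsetProd]
    exact Finset.prod_eq_zero (Finset.mem_univ i) (hp0 i)
  exact hint.to_finite (LocallyOfFiniteType.finiteType_appLE f hV haff le_rfl)

/-- the main gluing statement -/
theorem exists_finite_nhd [LocallyOfFiniteType f] {η : Y} (hη : IsMax' η) (hfib : (f ⁻¹' {η}).Finite)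
    {V : Y.Opens} (hV : IsAffineOpen V) (hηV : η ∈ V)
    (U : ↥(f ⁻¹' {η}) → X.Opens) (hU : ∀ x, IsAffineOpen (U x)) (hUV : ∀ x, U x ≤ f ⁻¹ᵁ V)
    (hdis : ∀ x x', x ≠ x' → η ∉ closure (f '' ((U x : Set X) ∩ U x')))
    (hcov : η ∉ closure (f '' (((f ⁻¹ᵁ V : X.Opens) : Set X) ∩ (⋃ x, (U x : Set X))ᶜ))) :
    ∃ V' : Y.Opens, IsAffineOpen V' ∧ η ∈ V' ∧ V' ≤ V ∧ IsFinite (f ∣_ V') := by
  classical
  haveI := hfib.to_subtype
  haveI : Fintype ↥(f ⁻¹' {η}) := Fintype.ofFinite _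
  choose g hηg hg using fun x => exists_piece f hV (hU x) (hUV x) hη hηV (hfib.subset Set.inter_subset_right)
  let O : Y.Opens := ⟨(closure (f '' (((f ⁻¹ᵁ V : X.Opens) : Set X) ∩ (⋃ x, (U x : Set X))ᶜ)) ∪
      ⋃ p : {p : ↥(f ⁻¹' {η}) × ↥(f ⁻¹' {η}) // p.1 ≠ p.2}, closure (f '' ((U p.1.1 : Set X) ∩ U p.1.2)))ᶜ,
    (isClosed_closure.union (isClosed_iUnion_of_finite fun _ => isClosed_closure)).isOpen_compl⟩
  have hηO : η ∈ O := by
    rintro (h | h)
    · exact hcov h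
    · obtain ⟨p, hp⟩ := Set.mem_iUnion.mp h
      exact hdis _ _ p.2 hp
  obtain ⟨h, hhO, hηh⟩ := hV.exists_basicOpen_le (V := O) ⟨η, hηO⟩ hηV
  let G := h * ∏ x, g x
  have hηG : η ∈ Y.basicOpen G := by
    rw [Y.mem_basicOpen _ η hηV, map_mul, IsUnit.mul_iff, map_prod]
    refine ⟨(Y.mem_basicOpen _ η hηV).mp hηh, ?_⟩
    rw [IsUnit.prod_iff]
    exact fun x _ => (Y.mem_basicOpen _ η hηV).mp (hηg x)
  have hGO : Y.basicOpen G ≤ O := by rw [Scheme.basicOpen_mul]; exact inf_le_left.trans hhO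
  refine ⟨Y.basicOpen G, hV.basicOpen G, hηG, Y.basicOpen_le G, ?_⟩
  refine isFinite_of_disjoint_pieces f (hV.basicOpen G) (fun x => U x ⊓ f ⁻¹ᵁ Y.basicOpen G)
    (fun x => (hg x G (dvd_mul_of_dvd_right (Finset.dvd_prod_of_mem g (Finset.mem_univ x)) h)).1)
    (fun x => inf_le_right)
    (fun x => (hg x G (dvd_mul_of_dvd_right (Finset.dvd_prod_of_mem g (Finset.mem_univ x)) h)).2)
    (fun x x' hne => ?_) (fun z hz => ?_)
  · refine disjoint_iff.mpr (eq_bot_iff.mpr fun z hz => ?_)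
    exact (hGO hz.1.2 (Or.inr (Set.mem_iUnion.mpr ⟨⟨(x, x'), hne⟩, subset_closure ⟨z, ⟨hz.1.1, hz.2.1⟩, rfl⟩⟩))).elim
  · by_contra hn
    refine hGO hz (Or.inl (subset_closure ⟨z, ⟨Y.basicOpen_le G hz, fun hzU => hn ?_⟩, rfl⟩))
    obtain ⟨x, hx⟩ := Set.mem_iUnion.mp hzU
    exact Opens.mem_iSup.mpr ⟨x, hx, hz⟩

theorem exists_isOpen_separating [LocallyOfFiniteType f] {η : Y} (hfib : (f ⁻¹' {η}).Finite) {x : X} (hx : f x = η) :
    ∃ O : X.Opens, x ∈ O ∧ ∀ z ∈ O, f z = η → z = x := by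
  subst hx
  haveI : Finite (f.fiber (f x)) := (f.fiberHomeo (f x)).finite_iff.mpr hfib
  have h1 : IsOpen ({⟨x, rfl⟩} : Set ↥(f ⁻¹' {f x})) := by
    have := (f.fiberHomeo (f x)).isOpenMap _ (isOpen_discrete {f.asFiber x})
    simpa [Scheme.Hom.asFiber] using this
  obtain ⟨O, hO, hOx⟩ := isOpen_induced_iff.mp h1
  refine ⟨⟨O, hO⟩, ?_, fun z hz hzη => ?_⟩
  · change (⟨x, rfl⟩ : ↥(f ⁻¹' {f x})).1 ∈ O
    exact (hOx.symm ▸ rfl : (⟨x, rfl⟩ : ↥(f ⁻¹' {f x})) ∈ Subtype.val ⁻¹' O)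
  · have h2 : (⟨z, hzη⟩ : ↥(f ⁻¹' {f x})) ∈ Subtype.val ⁻¹' O := hz
    rw [hOx] at h2
    exact congrArg Subtype.val h2

theorem exists_affine_piece [LocallyOfFiniteType f] {η : Y} (hfib : (f ⁻¹' {η}).Finite) {V : Y.Opens} (hηV : η ∈ V)
    (O : X.Opens) {x : X} (hx : f x = η) (hxO : x ∈ O) :
    ∃ U : X.Opens, IsAffineOpen U ∧ x ∈ U ∧ U ≤ f ⁻¹ᵁ V ∧ U ≤ O ∧ ∀ z ∈ U, f z = η → z = x := by
  obtain ⟨S, hxS, hS⟩ := exists_isOpen_separating f hfib hx
  obtain ⟨_, ⟨U, hU, rfl⟩, hxU, hle⟩ := X.isBasis_affineOpens.exists_subset_of_mem_open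
    (show x ∈ ((f ⁻¹ᵁ V ⊓ O ⊓ S : X.Opens) : Set X) from ⟨⟨show f x ∈ V from hx.symm ▸ hηV, hxO⟩, hxS⟩)
    (f ⁻¹ᵁ V ⊓ O ⊓ S).isOpen
  exact ⟨U, hU, hxU, fun z hz => (hle hz).1.1, fun z hz => (hle hz).1.2, fun z hz => hS z (hle hz).2⟩

theorem cover_missing [QuasiCompact f] {η : Y} (hη : IsMax' η) {V : Y.Opens} (hV : IsAffineOpen V) (hηV : η ∈ V)
    (U : ↥(f ⁻¹' {η}) → X.Opens) (hxU : ∀ x, x.1 ∈ U x) :
    η ∉ closure (f '' (((f ⁻¹ᵁ V : X.Opens) : Set X) ∩ (⋃ x, (U x : Set X))ᶜ)) :=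
  not_mem_closure f hV (f.isCompact_preimage hV.isCompact) le_rfl
    (isOpen_iUnion fun x => (U x).isOpen).isClosed_compl hη hηV
    fun z _ hz hzη => hz (Set.mem_iUnion.mpr ⟨⟨z, hzη⟩, hxU ⟨z, hzη⟩⟩)

theorem finite_preimage_iff [LocallyOfFiniteType f] [QuasiCompact f] [QuasiSeparated f] {η : Y} (hη : IsMax' η) :
    (f ⁻¹' {η}).Finite ↔ ∃ V : Y.Opens, IsAffineOpen V ∧ η ∈ V ∧ IsFinite (f ∣_ V) := by
  constructor
  · intro hfib
    obtain ⟨_, ⟨V, hV, rfl⟩, hηV, -⟩ := Y.isBasis_affineOpens.exists_subset_of_mem_open (Set.mem_univ η) isOpen_univ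
    choose U hU hxU hUV _ hsep using fun x : ↥(f ⁻¹' {η}) => exists_affine_piece f hfib hηV ⊤ x.2 trivial
    have hdis : ∀ x x', x ≠ x' → η ∉ closure (f '' ((U x : Set X) ∩ U x')) := fun x x' hne => by
      have hc : IsCompact ((U x : Set X) ∩ U x') :=
        (f.isQuasiSeparated_preimage hV.isQuasiSeparated) _ _ (hUV x) (U x).isOpen (hU x).isCompact
          (hUV x') (U x').isOpen (hU x').isCompact
      have := not_mem_closure f hV (W := U x ⊓ U x') hc (inf_le_left.trans (hUV x)) (Z := Set.univ)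
        isClosed_univ hη hηV (fun z hz _ hzη => hne (Subtype.ext ((hsep x z hz.1 hzη).symm.trans (hsep x' z hz.2 hzη))))
      rwa [Set.inter_univ] at this
    obtain ⟨V', h1, h2, -, h3⟩ := exists_finite_nhd f hη hfib hV hηV U hU hUV hdis
      (cover_missing f hη hV hηV U hxU)
    exact ⟨V', h1, h2, h3⟩
  · rintro ⟨V, -, hηV, hfin⟩
    have h := Scheme.Hom.finite_preimage_singleton (f ∣_ V) ⟨η, hηV⟩
    refine (h.image (f ⁻¹ᵁ V).ι).subset fun z hz => ?_
    have hzV : z ∈ f ⁻¹ᵁ V := show f z ∈ V from (show f z = η from hz).symm ▸ hηV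
    exact ⟨⟨z, hzV⟩, Subtype.ext (by rw [morphismRestrict_base_coe]; exact hz), rfl⟩

theorem exists_dense_finite [LocallyOfFiniteType f] [QuasiCompact f]
    (hX : (irreducibleComponents (X : Type u)).Finite) (hY : (irreducibleComponents (Y : Type u)).Finite)
    (hgen : ∀ x : X, closure {x} ∈ irreducibleComponents (X : Type u) ↔
      closure {f.base x} ∈ irreducibleComponents (Y : Type u)) :
    ∃ V : Y.Opens, Dense (V : Set Y) ∧ IsFinite (f ∣_ V) := by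
  classical
  obtain ⟨O, hO, hO'⟩ := exists_opens hX
  have hmaxfin : {x : X | IsMax' x}.Finite := by
    refine (hX.preimage (f := fun x : X => closure {x}) ?_).subset fun x hx => (isMax'_iff x).mpr hx
    intro a _ b _ hab
    exact ((specializes_iff_closure_subset.mpr hab.ge).antisymm (specializes_iff_closure_subset.mpr hab.le)).eq
  have key : ∀ η : {η : Y // IsMax' η}, ∃ V : Y.Opens, η.1 ∈ V ∧ IsFinite (f ∣_ V) := by
    rintro ⟨η, hη⟩
    have hfm : ∀ x, f x = η → IsMax' x := fun x hx =>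
      (isMax'_iff x).mp ((hgen x).mpr (by rw [hx]; exact (isMax'_iff η).mpr hη))
    have hfib : (f ⁻¹' {η}).Finite := hmaxfin.subset fun x hx => hfm x hx
    obtain ⟨_, ⟨V, hV, rfl⟩, hηV, -⟩ := Y.isBasis_affineOpens.exists_subset_of_mem_open (Set.mem_univ η) isOpen_univ
    choose U hU hxU hUV hUO _ using fun x : ↥(f ⁻¹' {η}) =>
      exists_affine_piece f hfib hηV (O x.1) x.2 (hO _ (hfm _ x.2))
    have hdis : ∀ x x', x ≠ x' → η ∉ closure (f '' ((U x : Set X) ∩ U x')) := fun x x' hne => by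
      have : (U x : Set X) ∩ U x' = ∅ := by
        rw [Set.eq_empty_iff_forall_notMem]
        rintro z ⟨hz, hz'⟩
        have hg := isIrreducible_irreducibleComponent (x := z) |>.isGenericPoint_genericPoint
          isClosed_irreducibleComponent
        have hm := (isMax'_iff _).mp (hg.def.symm ▸ irreducibleComponent_mem_irreducibleComponents z)
        have hs := hg.specializes (mem_irreducibleComponent (x := z))
        exact hne (Subtype.ext ((hO' _ _ _ (hUO x hz) (hfm _ x.2) hm hs).symm.trans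
          (hO' _ _ _ (hUO x' hz') (hfm _ x'.2) hm hs)))
      simp [this]
    obtain ⟨V', -, h2, -, h3⟩ := exists_finite_nhd f hη hfib hV hηV U hU hUV hdis
      (cover_missing f hη hV hηV U hxU)
    exact ⟨V', h2, h3⟩

  choose V hηV hVfin using key
  obtain ⟨OY, hOY, hOY'⟩ := exists_opens hY
  refine ⟨⨆ η, V η, (dense_iff hY (⨆ η, V η).isOpen).mpr fun η hη => Opens.mem_iSup.mpr ⟨⟨η, hη⟩, hηV _⟩, ?_⟩
  refine IsZariskiLocalAtTarget.of_iSup_eq_top (P := @IsFinite) (fun η => (⨆ η, V η).ι ⁻¹ᵁ V η) ?_ fun η => ?_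
  · rw [← Scheme.Hom.preimage_iSup, Scheme.Opens.ι_preimage_self]
  · refine (MorphismProperty.arrow_mk_iso_iff @IsFinite
      (morphismRestrictRestrict f _ _ ≪≫ morphismRestrictEq f ?_)).mpr (hVfin η)
    rw [Scheme.Hom.image_preimage_eq_opensRange_inf, Scheme.Opens.opensRange_ι, inf_eq_right]
    exact le_iSup V η

end Groth.Agent.Misc9.GenFinite
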