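import Mathlib.RingTheory.QuasiFinite.Basic
import Mathlib.RingTheory.RingHom.FiniteType
import Mathlib.RingTheory.RingHom.Finite
import Mathlib.RingTheory.Localization.Integral
import Mathlib.RingTheory.IntegralClosure.IntegrallyClosed
import Mathlib.RingTheory.Jacobson.Ring
import Mathlib.Tactic.Ring

/-! Generic finiteness over a minimal prime. -/

set_option autoImplicit false
universe u
namespace Groth.Agent.Misc9.GenFiniteAlg
open Polynomial
open scoped TensorProduct

theorem exists_integral {A B : Type u} [CommRing A] [CommRing B] [Algebra A B] [Algebra.FiniteType A B]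
    (p : Ideal A) (hp : p ∈ minimalPrimes A)
    (hfin : (PrimeSpectrum.comap (algebraMap A B) ⁻¹' {(⟨p, hp.1.1⟩ : PrimeSpectrum A)}).Finite) :
    ∃ g : A, g ∉ p ∧ ∀ g' : A, g ∣ g' → ∀ (A' B' : Type u) [CommRing A'] [CommRing B'] [Algebra A A'] [Algebra B B']
      [IsLocalization.Away g' A'] [IsLocalization.Away (algebraMap A B g') B'] (ψ : A' →+* B'),
      (∀ a, ψ (algebraMap A A' a) = algebraMap B B' (algebraMap A B a)) → ψ.Finite := by
  classical
  haveI := hp.1.1
  let κ := p.ResidueField
  let C := p.Fiber B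
  haveI : Finite (PrimeSpectrum C) := (PrimeSpectrum.preimageEquivFiber A B ⟨p, hp.1.1⟩).finite_iff.mp hfin
  haveI : Algebra.FiniteType κ C := inferInstance
  haveI : IsJacobsonRing C := isJacobsonRing_of_finiteType (A := κ)
  haveI : Module.Finite κ C := by
    rw [Module.finite_iff_isArtinianRing, isArtinianRing_iff_isNoetherianRing_krullDimLE_zero]
    exact ⟨Algebra.FiniteType.isNoetherianRing κ _,
      (PrimeSpectrum.discreteTopology_iff_finite_and_krullDimLE_zero.mp inferInstance).right⟩
  have hb : ∀ b : B, ∃ (m t : A) (Q : A[X]) (N : ℕ), m ∉ p ∧ t ∉ p ∧ Q.Monic ∧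
      algebraMap A B t * aeval (algebraMap A B m * b) Q ^ N = 0 := by
    intro b
    let c : C := Algebra.TensorProduct.includeRight b
    have hc : IsIntegral κ c := IsIntegral.of_finite κ c
    haveI : IsScalarTower (A ⧸ p) κ C := IsScalarTower.of_algebraMap_eq' rfl
    obtain ⟨⟨m, hm⟩, hint⟩ := IsIntegral.exists_multiple_integral_of_isLocalization
      (R := A ⧸ p) (M := nonZeroDivisors (A ⧸ p)) (Rₘ := κ) c hc
    obtain ⟨m, rfl⟩ := Ideal.Quotient.mk_surjective m
    have hmp : m ∉ p := fun h => nonZeroDivisors.ne_zero hm (Ideal.Quotient.eq_zero_iff_mem.mpr h)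
    obtain ⟨Q', hQ', hQ'0⟩ := hint
    obtain ⟨Q, hQ, -, hQm⟩ := Polynomial.lifts_and_natDegree_eq_and_monic
      (f := Ideal.Quotient.mk p) (p := Q') (Polynomial.map_surjective _ Ideal.Quotient.mk_surjective Q') hQ'
    let z := aeval (algebraMap A B m * b) Q
    have hz : (Algebra.TensorProduct.includeRight : B →ₐ[A] C) z = 0 := by
      rw [← Polynomial.aeval_algHom_apply]
      have e1 : (Algebra.TensorProduct.includeRight : B →ₐ[A] C) (algebraMap A B m * b) =
          algebraMap (A ⧸ p) C (Ideal.Quotient.mk p m) * c := by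
        rw [map_mul, AlgHom.commutes, ← Ideal.Quotient.algebraMap_eq p, ← IsScalarTower.algebraMap_apply]
      rw [e1, ← Polynomial.aeval_map_algebraMap (A ⧸ p), Ideal.Quotient.algebraMap_eq, hQ]
      rw [← Algebra.smul_def]
      exact hQ'0
    have hprimes : ∀ q : Ideal B, q.IsPrime → q.comap (algebraMap A B) = p → z ∈ q := by
      intro q hq hqp
      let e := PrimeSpectrum.preimageEquivFiber A B ⟨p, hp.1.1⟩
      let qq : PrimeSpectrum.comap (algebraMap A B) ⁻¹' {(⟨p, hp.1.1⟩ : PrimeSpectrum A)} :=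
        ⟨⟨q, hq⟩, PrimeSpectrum.ext hqp⟩
      have h1 : (e.symm (e qq)).1 = ⟨q, hq⟩ := by rw [e.symm_apply_apply]
      have h2 : z ∈ (e.symm (e qq)).1.asIdeal := by
        change (Algebra.TensorProduct.includeRight : B →ₐ[A] C) z ∈ (e qq).asIdeal
        rw [hz]; exact Ideal.zero_mem _
      rw [h1] at h2
      exact h2
    have hnil : ∃ (t : A) (N : ℕ), t ∉ p ∧ algebraMap A B t * z ^ N = 0 := by
      by_contra hne
      push Not at hne
      let S : Submonoid B := Algebra.algebraMapSubmonoid B p.primeCompl ⊔ Submonoid.powers z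
      have hd : Disjoint ((⊥ : Ideal B) : Set B) (S : Set B) := by
        rw [Set.disjoint_left]
        intro w hw hwS
        obtain ⟨_, ⟨t, ht, rfl⟩, _, ⟨N, rfl⟩, rfl⟩ := Submonoid.mem_sup.mp hwS
        exact hne t N ht (by simpa using hw)
      obtain ⟨q, hq, -, hqd⟩ := Ideal.exists_le_prime_disjoint _ S hd
      have hqp : q.comap (algebraMap A B) = p := by
        have hle : q.comap (algebraMap A B) ≤ p := fun a ha => by
          by_contra hap
          exact Set.disjoint_left.mp hqd ha (Submonoid.mem_sup_left ⟨a, hap, rfl⟩)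
        exact le_antisymm hle (hp.2 ⟨Ideal.comap_isPrime _ q, bot_le⟩ hle)
      exact Set.disjoint_left.mp hqd (hprimes q hq hqp) (Submonoid.mem_sup_right (Submonoid.mem_powers z))
    obtain ⟨t, N, ht, htz⟩ := hnil
    exact ⟨m, t, Q, N, hmp, ht, hQm, htz⟩
  choose m t Q N hm ht hQ hz using hb
  obtain ⟨G, hG⟩ := Algebra.FiniteType.out (R := A) (A := B)
  refine ⟨∏ b ∈ G, m b * t b, fun h => ?_, ?_⟩
  · obtain ⟨b, -, hb⟩ := Ideal.IsPrime.prod_mem_iff.mp h
    exact (Ideal.IsPrime.mem_or_mem inferInstance hb).elim (hm b) (ht b)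
  intro g' hg' A' B' _ _ _ _ _ _ ψ hψ
  letI := ψ.toAlgebra
  have hψalg : ∀ a, algebraMap A' B' (algebraMap A A' a) = algebraMap B B' (algebraMap A B a) := hψ
  letI : Algebra A B' := ((algebraMap B B').comp (algebraMap A B)).toAlgebra
  haveI : IsScalarTower A B B' := IsScalarTower.of_algebraMap_eq fun a => rfl
  haveI : IsScalarTower A A' B' := IsScalarTower.of_algebraMap_eq fun a => (hψalg a).symm
  have hint : ∀ b ∈ G, IsIntegral A' (algebraMap B B' b) := by
    intro b hb
    have hd : m b * t b ∣ ∏ b ∈ G, m b * t b := Finset.dvd_prod_of_mem (fun b => m b * t b) hb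
    have hmu : IsUnit (algebraMap A A' (m b)) :=
      isUnit_of_dvd_unit (map_dvd _ (((dvd_mul_right _ _).trans hd).trans hg')) (IsLocalization.Away.algebraMap_isUnit _)
    have htu : IsUnit (algebraMap B B' (algebraMap A B (t b))) :=
      isUnit_of_dvd_unit (map_dvd _ (map_dvd _ (((dvd_mul_left _ _).trans hd).trans hg'))) (IsLocalization.Away.algebraMap_isUnit _)
    have h1 : aeval (algebraMap B B' (algebraMap A B (m b) * b)) (Q b) ^ N b = 0 := by
      rw [Polynomial.aeval_algebraMap_apply]
      refine htu.mul_right_eq_zero.mp ?_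
      rw [← map_pow, ← map_mul, hz b, map_zero]
    have h2 : IsIntegral A (algebraMap B B' (algebraMap A B (m b) * b)) :=
      ⟨(Q b) ^ N b, (hQ b).pow _, by rw [← Polynomial.aeval_def, map_pow, h1]⟩
    have h3 : IsIntegral A' (algebraMap B B' (algebraMap A B (m b) * b)) := h2.tower_top
    obtain ⟨w, hw⟩ := hmu.exists_left_inv
    have h4 := (isIntegral_algebraMap (R := A') (x := w) (A := B')).mul h3
    rwa [map_mul (algebraMap B B'), ← hψalg, ← mul_assoc, ← map_mul, hw, map_one, one_mul] at h4
  have hall : ∀ b : B, IsIntegral A' (algebraMap B B' b) := by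
    intro b
    have hb : b ∈ Algebra.adjoin A (G : Set B) := hG ▸ Algebra.mem_top
    induction hb using Algebra.adjoin_induction with
    | mem y hy => exact hint y hy
    | algebraMap r => rw [← hψalg]; exact isIntegral_algebraMap
    | add y z _ _ hy hz => rw [map_add]; exact hy.add hz
    | mul y z _ _ hy hz => rw [map_mul]; exact hy.mul hz
  haveI : Algebra.IsIntegral A' B' := ⟨fun w => by
    obtain ⟨⟨b, _, n, rfl⟩, hw⟩ := IsLocalization.surj (Submonoid.powers (algebraMap A B g')) w
    obtain ⟨v, hv⟩ := (IsLocalization.Away.algebraMap_isUnit (S := A') g').exists_left_inv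
    have e : w = algebraMap A' B' (v ^ n) * algebraMap B B' b := by
      rw [← hw, map_pow (algebraMap B B'), ← hψalg, ← mul_assoc, mul_comm _ w, mul_assoc, ← map_pow, ← map_mul,
        ← mul_pow, hv, one_pow, map_one, mul_one]
    rw [e]
    exact isIntegral_algebraMap.mul (hall b)⟩
  haveI : Algebra.FiniteType B B' := IsLocalization.finiteType_of_monoid_fg
    (Submonoid.powers (algebraMap A B g')) B'
  haveI : Algebra.FiniteType A B' := Algebra.FiniteType.trans (S := B) inferInstance inferInstance
  haveI : Algebra.FiniteType A' B' := Algebra.FiniteType.of_restrictScalars_finiteType A A' B'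
  exact Algebra.IsIntegral.finite

end Groth.Agent.Misc9.GenFiniteAlg
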