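import Groth.Agent.Misc9.WeightPiece

set_option autoImplicit false
universe u
open MvPolynomial

namespace Groth.Agent.Misc9.WeightGen

variable {k : Type u} [Field k] {σ : Type*} {M : Type*} [AddCommGroup M] (w : σ → M)

theorem decomp {ι : Type*} [Fintype ι] (G : ι → MvPolynomial σ k) (P : Ideal (MvPolynomial σ k)) (ν : M)
    (h : ∀ d : σ →₀ ℕ, Finsupp.weight w d = ν → ∃ a : ι → MvPolynomial σ k,
      (∀ i, a i ∈ weightedHomogeneousSubmodule k w 0) ∧ monomial d 1 - ∑ i, a i * G i ∈ P)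
    (f : MvPolynomial σ k) (hf : f ∈ weightedHomogeneousSubmodule k w ν) :
    ∃ a : ι → MvPolynomial σ k, (∀ i, a i ∈ weightedHomogeneousSubmodule k w 0) ∧ f - ∑ i, a i * G i ∈ P := by
  classical
  have h' : ∀ d ∈ f.support, ∃ a : ι → MvPolynomial σ k,
      (∀ i, a i ∈ weightedHomogeneousSubmodule k w 0) ∧ monomial d 1 - ∑ i, a i * G i ∈ P :=
    fun d hd => h d (hf (mem_support_iff.1 hd))
  choose a ha hP using h'
  refine ⟨fun i => ∑ d ∈ f.support.attach, coeff d.1 f • a d.1 d.2 i,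
    fun i => Submodule.sum_mem _ fun d _ => Submodule.smul_mem _ _ (ha d.1 d.2 i), ?_⟩
  have e : f - ∑ i, (∑ d ∈ f.support.attach, coeff d.1 f • a d.1 d.2 i) * G i =
      ∑ d ∈ f.support.attach, coeff d.1 f • (monomial d.1 1 - ∑ i, a d.1 d.2 i * G i) := by
    conv_lhs => arg 1; rw [f.as_sum, ← Finset.sum_attach]
    simp only [Finset.sum_mul, smul_sub, Finset.sum_sub_distrib, Finset.smul_sum, smul_monomial, smul_eq_mul, mul_one]
    rw [Finset.sum_comm]
    congr 1
    exact Finset.sum_congr rfl fun d _ => Finset.sum_congr rfl fun i _ => by rw [smul_mul_assoc]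
  rw [e]
  refine Ideal.sum_mem _ fun d _ => ?_
  rw [smul_eq_C_mul]
  exact P.mul_mem_left _ (hP d.1 d.2)

theorem factor {ν : M} {d e : σ →₀ ℕ} (he : e ≤ d) (hd : Finsupp.weight w d = ν) (hw : Finsupp.weight w e = ν) :
    ∃ c : MvPolynomial σ k, c ∈ weightedHomogeneousSubmodule k w 0 ∧ monomial d (1 : k) = c * monomial e 1 := by
  refine ⟨monomial (d - e) 1, ?_, by rw [monomial_mul, tsub_add_cancel_of_le he, mul_one]⟩
  refine isWeightedHomogeneous_monomial w _ _ ?_
  have h := congrArg (Finsupp.weight w) (tsub_add_cancel_of_le he)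
  rw [map_add, hd, hw] at h
  exact add_eq_right.1 h

end Groth.Agent.Misc9.WeightGen
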