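import Groth.Prelude.Def_W4c2invhilbsl2HJ
import Groth.Agent.Misc9.WeightGen
import Mathlib.RingTheory.Coprime.Basic
import Mathlib.Tactic.FieldSimp
import Mathlib.Tactic.Linarith
import Mathlib.Tactic.LinearCombination
import Mathlib.Tactic.Push

set_option autoImplicit false
universe u
open W4c2invhilbsl2 MvPolynomial

namespace Groth.Agent.Misc9.HJ

/-- Euclidean remainders of the expansion -/
def R (b t : ℤ) (c : List ℤ) (i : ℕ) : ℤ := t * hjP c i - b * hjQ c i

/-- hypotheses on a Hirzebruch-Jung expansion -/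
structure Dat (b t : ℤ) (c : List ℤ) : Prop where
  t_pos : 0 < t
  t_lt : t < b
  cop : IsCoprime b t
  dig : ∀ x ∈ c, (2 : ℤ) ≤ x
  val : HJFrac.hjVal c = (b : ℚ) / t

lemma R_rec (b t : ℤ) (c : List ℤ) (i : ℕ) : R b t c (i + 2) = c.getD i 0 * R b t c (i + 1) - R b t c i := by
  simp only [R, hjP, hjQ]; ring

lemma R_zero (b t : ℤ) (c : List ℤ) : R b t c 0 = b := by simp [R, hjP, hjQ]
lemma R_one (b t : ℤ) (c : List ℤ) : R b t c 1 = t := by simp [R, hjP, hjQ]

lemma wr (c : List ℤ) : ∀ i, hjP c i * hjQ c (i + 1) - hjP c (i + 1) * hjQ c i = 1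
  | 0 => by simp [hjP, hjQ]
  | i + 1 => by
    have := wr c i
    show hjP c (i + 1) * hjQ c (i + 2) - hjP c (i + 2) * hjQ c (i + 1) = 1
    simp only [hjP, hjQ]
    linear_combination this

lemma one_lt_hjVal : ∀ l : List ℤ, l ≠ [] → (∀ x ∈ l, (2 : ℤ) ≤ x) → 1 < HJFrac.hjVal l
  | [], h, _ => absurd rfl h
  | a :: l, _, h => by
    have ha : (2 : ℚ) ≤ a := by exact_mod_cast h a (by simp)
    show 1 < (a : ℚ) - (HJFrac.hjVal l)⁻¹
    rcases eq_or_ne l [] with rfl | hl
    · simp [HJFrac.hjVal]; linarith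
    · have := inv_lt_one_of_one_lt₀ (one_lt_hjVal l hl fun x hx => h x (List.mem_cons_of_mem _ hx))
      linarith

variable {b t : ℤ} {c : List ℤ} (h : Dat b t c)
include h

lemma ne_nil : c ≠ [] := by
  rintro rfl
  have h1 := h.val
  have : (0 : ℚ) < (b : ℚ) / t := div_pos (by exact_mod_cast h.t_pos.trans h.t_lt) (by exact_mod_cast h.t_pos)
  rw [← h1] at this
  exact lt_irrefl (0 : ℚ) this

lemma getD_ge {i : ℕ} (hi : i < c.length) : (2 : ℤ) ≤ c.getD i 0 := by
  rw [List.getD_eq_getElem _ _ hi]; exact h.dig _ (List.getElem_mem hi)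

lemma R_step : ∀ i, i < c.length → 0 < R b t c (i + 1) ∧
    (R b t c i : ℚ) = HJFrac.hjVal (c.drop i) * R b t c (i + 1)
  | 0, _ => ⟨by rw [R_one]; exact h.t_pos, by
      rw [R_one, R_zero, List.drop_zero, h.val, div_mul_cancel₀]; exact_mod_cast h.t_pos.ne'⟩
  | i + 1, hi => by
    obtain ⟨hp, he⟩ := R_step i (by omega)
    rw [List.drop_eq_getElem_cons (by omega : i < c.length)] at he
    have hne : c.drop (i + 1) ≠ [] := by simp; omega
    have h1 := one_lt_hjVal _ hne fun x hx => h.dig x (List.mem_of_mem_drop hx)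
    have e2 : (R b t c (i + 2) : ℚ) = (HJFrac.hjVal (c.drop (i + 1)))⁻¹ * R b t c (i + 1) := by
      rw [R_rec, List.getD_eq_getElem _ _ (by omega : i < c.length)]
      push_cast
      rw [show HJFrac.hjVal (c[i] :: c.drop (i + 1)) = (c[i] : ℚ) - (HJFrac.hjVal (c.drop (i + 1)))⁻¹ from rfl] at he
      linear_combination -he
    refine ⟨?_, ?_⟩
    · have : (0 : ℚ) < R b t c (i + 2) := by
        rw [e2]; exact mul_pos (inv_pos.2 (by linarith)) (by exact_mod_cast hp)
      exact_mod_cast this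
    · rw [e2, ← mul_assoc, mul_inv_cancel₀ (by linarith), one_mul]

lemma R_pos {i : ℕ} (hi : i ≤ c.length) : 0 < R b t c i := by
  cases i with
  | zero => rw [R_zero]; exact h.t_pos.trans h.t_lt
  | succ i => exact (R_step h i (by omega)).1

lemma R_end : R b t c (c.length + 1) = 0 := by
  obtain ⟨i, hi⟩ : ∃ i, c.length = i + 1 := ⟨c.length - 1, by have := List.length_pos_of_ne_nil (ne_nil h); omega⟩
  have he := (R_step h i (by omega)).2
  rw [List.drop_eq_getElem_cons (by omega : i < c.length), List.drop_eq_nil_of_le (by omega : c.length ≤ i + 1)] at he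
  rw [hi]
  show R b t c (i + 2) = 0
  rw [R_rec, List.getD_eq_getElem _ _ (by omega : i < c.length)]
  simp [HJFrac.hjVal] at he
  have : (R b t c i : ℤ) = c[i] * R b t c (i + 1) := by exact_mod_cast he
  omega

lemma R_lt {i : ℕ} (hi : i ≤ c.length) : R b t c (i + 1) < R b t c i := by
  rcases eq_or_lt_of_le hi with rfl | hi'
  · rw [R_end h]; exact R_pos h le_rfl
  · obtain ⟨hp, he⟩ := R_step h i hi'
    have h1 := one_lt_hjVal (c.drop i) (by simp; omega) fun x hx => h.dig x (List.mem_of_mem_drop hx)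
    have : (R b t c (i + 1) : ℚ) < R b t c i := by
      rw [he]; exact lt_mul_of_one_lt_left (by exact_mod_cast hp) h1
    exact_mod_cast this

lemma R_le_b : ∀ i, i ≤ c.length + 1 → R b t c i ≤ b
  | 0, _ => (R_zero b t c).le
  | i + 1, hi => (R_lt h (by omega)).le.trans (R_le_b i (by omega))

lemma R_nonneg {i : ℕ} (hi : i ≤ c.length + 1) : 0 ≤ R b t c i := by
  rcases eq_or_lt_of_le hi with rfl | hi'
  · rw [R_end h]
  · exact (R_pos h (by omega)).le

lemma R_last : R b t c c.length = 1 := by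
  have key : ∀ j, j ≤ c.length → R b t c c.length ∣ R b t c (c.length - j) ∧ R b t c c.length ∣ R b t c (c.length - j + 1) := by
    intro j
    induction j with
    | zero => exact fun _ => ⟨by simp, by rw [Nat.sub_zero, R_end h]; exact dvd_zero _⟩
    | succ j ih =>
      intro hj
      obtain ⟨h1, h2⟩ := ih (by omega)
      obtain ⟨i, hi⟩ : ∃ i, c.length - (j + 1) = i := ⟨_, rfl⟩
      rw [show c.length - j = i + 1 by omega] at h1 h2
      rw [hi]
      refine ⟨?_, h1⟩
      have : R b t c i = c.getD i 0 * R b t c (i + 1) - R b t c (i + 2) := by rw [R_rec]; ring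
      rw [this]
      exact dvd_sub (dvd_mul_of_dvd_right h1 _) h2
  obtain ⟨h1, h2⟩ := key c.length le_rfl
  rw [Nat.sub_self, R_zero] at h1
  rw [Nat.sub_self, R_one] at h2
  rcases Int.isUnit_iff.1 (h.cop.isUnit_of_dvd' h1 h2) with e | e
  · exact e
  · have := R_pos h (le_refl c.length); omega

lemma P_lt : ∀ i, i ≤ c.length → 0 ≤ hjP c i ∧ hjP c i < hjP c (i + 1)
  | 0, _ => by simp [hjP]
  | i + 1, hi => by
    obtain ⟨h0, h1⟩ := P_lt i (by omega)
    refine ⟨by omega, ?_⟩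
    show _ < c.getD i 0 * hjP c (i + 1) - hjP c i
    have := mul_le_mul_of_nonneg_right (getD_ge h (show i < c.length by omega)) (show 0 ≤ hjP c (i + 1) by omega)
    linarith

lemma P_pos {i : ℕ} (h1 : 1 ≤ i) (hi : i ≤ c.length + 1) : 0 < hjP c i := by
  obtain ⟨j, rfl⟩ : ∃ j, i = j + 1 := ⟨i - 1, by omega⟩
  have := P_lt h j (by omega); omega

lemma small {j : ℕ} (hj : j + 1 ≤ c.length + 1) {x y : ℤ} (hx0 : 0 < x) (hx : x < hjP c (j + 1))
    (hw : 0 < t * x - b * y) : R b t c j ≤ t * x - b * y := by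
  obtain ⟨hP', hPlt⟩ := P_lt h j (by omega)
  have hdet := wr c j
  set u := x * hjQ c (j + 1) - y * hjP c (j + 1)
  set v := y * hjP c j - x * hjQ c j
  have ex : x = u * hjP c j + v * hjP c (j + 1) := by simp only [u, v]; linear_combination (-x) * hdet
  have ew : t * x - b * y = u * R b t c j + v * R b t c (j + 1) := by
    simp only [u, v, R]; linear_combination (-(t * x) + b * y) * hdet
  have hR := R_lt h (show j ≤ c.length by omega)
  have hR0 := R_nonneg h (show j + 1 ≤ c.length + 1 by omega)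
  rcases lt_trichotomy u 0 with hu | hu | hu
  · exfalso
    have hv : 1 ≤ v := by
      by_contra hv
      push_neg at hv
      nlinarith
    have hvu : v ≤ -u := by
      by_contra hvu
      push_neg at hvu
      have h2 : (-u) * hjP c (j + 1) ≤ (v - 1) * hjP c (j + 1) := mul_le_mul_of_nonneg_right (by omega) (by omega)
      have h3 : (-u) * hjP c j ≤ (-u) * hjP c (j + 1) := mul_le_mul_of_nonneg_left hPlt.le (by omega)
      nlinarith
    have h4 : v * R b t c (j + 1) ≤ (-u) * R b t c (j + 1) := mul_le_mul_of_nonneg_right hvu hR0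
    have h5 : (-u) * R b t c (j + 1) ≤ (-u) * R b t c j := mul_le_mul_of_nonneg_left hR.le (by omega)
    linarith
  · exfalso
    rw [hu, zero_mul, zero_add] at ex
    rcases le_or_gt v 0 with hv | hv
    · nlinarith
    · nlinarith
  · have hv : v ≤ 0 := by
      by_contra hv
      push_neg at hv
      nlinarith
    have hvu : -v ≤ u - 1 := by
      by_contra hvu
      push_neg at hvu
      have h2 : u * hjP c (j + 1) ≤ (-v) * hjP c (j + 1) := mul_le_mul_of_nonneg_right (by omega) (by omega)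
      have h3 : u * hjP c j ≤ u * hjP c (j + 1) := mul_le_mul_of_nonneg_left hPlt.le (by omega)
      nlinarith
    have h4 : (-v) * R b t c (j + 1) ≤ (u - 1) * R b t c (j + 1) := mul_le_mul_of_nonneg_right hvu hR0
    have h5 : (u - 1) * R b t c (j + 1) ≤ (u - 1) * R b t c j := mul_le_mul_of_nonneg_left hR.le (by omega)
    linarith

lemma y_le {X Y : ℤ} (hX : 0 ≤ X) (hW : -b < t * X - b * Y) : Y ≤ X := by
  have h1 := h.t_lt; have h0 := h.t_pos
  by_contra hY
  push_neg at hY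
  nlinarith

lemma le_y {X Y : ℤ} (hX : X ≤ 0) (hW : t * X - b * Y < b) : X ≤ Y := by
  have h1 := h.t_lt; have h0 := h.t_pos
  by_contra hY
  push_neg at hY
  nlinarith

lemma Q_le {i : ℕ} (hi : i ≤ c.length + 1) : hjQ c i ≤ hjP c i := by
  have h0 := R_nonneg h hi
  have hb := h.t_pos.trans h.t_lt
  have hP : 0 ≤ hjP c i := by
    rcases Nat.eq_zero_or_pos i with rfl | hi0
    · simp [hjP]
    · exact (P_pos h hi0 hi).le
  exact y_le h hP (by show -b < R b t c i; omega)

lemma large {j : ℕ} (hj : j + 1 ≤ c.length + 1) {x y : ℤ} (hx : 0 < x) (hw0 : 0 < t * x - b * y)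
    (hw1 : t * x - b * y < R b t c j) :
    hjP c (j + 1) ≤ x ∧ y - hjQ c (j + 1) ≤ x - hjP c (j + 1) := by
  have hxP : hjP c (j + 1) ≤ x := by
    by_contra hx'
    have := small h hj hx (by omega) hw0
    omega
  refine ⟨hxP, y_le h (by omega) ?_⟩
  have h1 := R_le_b h (j + 1) hj
  have h2 : t * (x - hjP c (j + 1)) - b * (y - hjQ c (j + 1)) = t * x - b * y - R b t c (j + 1) := by
    simp only [R]; ring
  omega

omit h

section Num

variable {p q m : ℕ} (hp : 0 < p) (hpq : p < q) (hcop : Nat.Coprime p q) (hm : 0 < m) (hnt : ¬ (q - p ∣ m))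
include hm

lemma g_pos : 0 < gcdK p q m := Nat.gcd_pos_of_pos_left _ hm

include hpq
omit hm in
lemma gb : (gcdK p q m : ℤ) * bB p q m = (q : ℤ) - p := by
  rw [← Nat.cast_sub hpq.le, ← Nat.cast_mul]
  exact congrArg _ (Nat.mul_div_cancel' (Nat.gcd_dvd_right m (q - p)))

omit hm in
lemma gt : (gcdK p q m : ℤ) * tT p q m = ((alpha p q m + 1 : ℕ) : ℤ) * ((q : ℤ) - p) - m * p := by
  have hdvd : gcdK p q m ∣ q - p - m * p % (q - p) :=
    Nat.dvd_sub (Nat.gcd_dvd_right _ _) ((Nat.dvd_mod_iff (Nat.gcd_dvd_right _ _)).2 (dvd_mul_of_dvd_left (Nat.gcd_dvd_left _ _) _))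
  rw [← Nat.cast_mul, tT, Nat.mul_div_cancel' hdvd, Nat.cast_sub (Nat.mod_lt _ (by omega)).le]
  have h2 := Nat.div_add_mod (m * p) (q - p)
  have h3 : ((q - p : ℕ) : ℤ) * (alpha p q m : ℤ) + ((m * p % (q - p) : ℕ) : ℤ) = ((m * p : ℕ) : ℤ) := by exact_mod_cast h2
  push_cast [Nat.cast_sub hpq.le] at h3 ⊢
  linear_combination -h3

omit hm in
lemma nN_eq (c : List ℤ) (i : ℕ) : nN p q m c i = gcdK p q m * R (bB p q m) (tT p q m) c i := by
  have h1 := gb (m := m) hpq
  have h2 := gt (m := m) hpq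
  rw [nN, eE, lL, R]
  push_cast at h2 ⊢
  linear_combination (-(hjP c i)) * h2 + hjQ c i * h1

omit hm in
lemma d0_eq (x δ : ℤ) : (p : ℤ) * m * x - ((q : ℤ) - p) * δ =
    -(gcdK p q m : ℤ) * ((tT p q m : ℤ) * x - (bB p q m : ℤ) * (((alpha p q m + 1 : ℕ) : ℤ) * x - δ)) := by
  have h1 := gb (m := m) hpq
  have h2 := gt (m := m) hpq
  linear_combination x * h2 - (((alpha p q m + 1 : ℕ) : ℤ) * x - δ) * h1

include hp hcop hnt hm in
theorem dat {c : List ℤ} (hc : IsHJDigits p q m c) : Dat (bB p q m : ℤ) (tT p q m : ℤ) c := by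
  have hg := g_pos (p := p) (q := q) hm
  have h1 := gb (m := m) hpq
  have h2 := gt (m := m) hpq
  have hcpr : Nat.Coprime p (q - p) := (Nat.coprime_sub_self_right hpq.le).2 hcop
  have hmod : 0 < m * p % (q - p) := by
    refine Nat.pos_of_ne_zero fun h0 => hnt ?_
    exact hcpr.symm.dvd_of_dvd_mul_right (Nat.dvd_of_mod_eq_zero h0)
  have hlt := Nat.mod_lt (m * p) (show q - p > 0 by omega)
  have hdvd : gcdK p q m ∣ q - p - m * p % (q - p) :=
    Nat.dvd_sub (Nat.gcd_dvd_right _ _) ((Nat.dvd_mod_iff (Nat.gcd_dvd_right _ _)).2 (dvd_mul_of_dvd_left (Nat.gcd_dvd_left _ _) _))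
  have e1 : gcdK p q m * tT p q m = q - p - m * p % (q - p) := Nat.mul_div_cancel' hdvd
  have e2 : gcdK p q m * bB p q m = q - p := Nat.mul_div_cancel' (Nat.gcd_dvd_right m (q - p))
  refine ⟨?_, ?_, ?_, hc.1, hc.2.trans (by push_cast; rfl)⟩
  · rcases Nat.eq_zero_or_pos (tT p q m) with h0 | h0
    · rw [h0, mul_zero] at e1; omega
    · exact_mod_cast h0
  · have : gcdK p q m * tT p q m < gcdK p q m * bB p q m := by omega
    exact_mod_cast Nat.lt_of_mul_lt_mul_left this
  · have hab : Nat.Coprime (bB p q m) (m / gcdK p q m) := (Nat.coprime_div_gcd_div_gcd hg).symm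
    have hbp : Nat.Coprime (bB p q m) p := (hcpr.coprime_dvd_right ⟨gcdK p q m, by rw [mul_comm]; exact e2.symm⟩).symm
    have hco : IsCoprime (bB p q m : ℤ) (((m / gcdK p q m * p : ℕ)) : ℤ) :=
      Nat.isCoprime_iff_coprime.2 (hab.mul_right hbp)
    have et : (tT p q m : ℤ) = -(((m / gcdK p q m * p : ℕ)) : ℤ) + (bB p q m : ℤ) * ((alpha p q m + 1 : ℕ) : ℤ) := by
      refine mul_left_cancel₀ (show (gcdK p q m : ℤ) ≠ 0 by omega) ?_
      have hgm : (gcdK p q m : ℤ) * ((m / gcdK p q m : ℕ) : ℤ) = m := by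
        exact_mod_cast Nat.mul_div_cancel' (Nat.gcd_dvd_left m (q - p))
      rw [h2, Nat.cast_mul]
      linear_combination (-((alpha p q m + 1 : ℕ) : ℤ)) * h1 + (p : ℤ) * hgm
    rw [et]
    exact hco.neg_right.add_mul_left_right _

include hp hcop hnt in
theorem gen_num {c : List ℤ} (hc : IsHJDigits p q m c) {i : ℕ} (hi : 1 ≤ i) (hir : i ≤ c.length) (D0 D1 D2 : ℕ)
    (hw : (((D0 : ℤ) - p * D1 + q * D2, (((D2 : ℤ) - D1 : ℤ) : ZMod m)) : ℤ × ZMod m) = (nN p q m c i, 0)) :
    (nN p q m c i).toNat ≤ D0 ∨ ((eE p q m c i).toNat ≤ D1 ∧ (lL p q m c i).toNat ≤ D2) := by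
  obtain ⟨h0, h1⟩ := Prod.ext_iff.1 hw
  simp only at h0 h1
  obtain ⟨x, hx⟩ := (ZMod.intCast_zmod_eq_zero_iff_dvd _ m).1 h1
  by_cases hD : nN p q m c i ≤ D0
  · exact .inl (by omega)
  push_neg at hD
  right
  obtain ⟨j, rfl⟩ : ∃ j, i = j + 1 := ⟨i - 1, by omega⟩
  have H := dat hp hpq hcop hm hnt hc
  have hg : (0 : ℤ) < gcdK p q m := by exact_mod_cast g_pos (p := p) (q := q) hm
  have hn := nN_eq (m := m) hpq c (j + 1)
  have hd := d0_eq (m := m) hpq (-x) (D2 : ℤ)
  set A : ℤ := ((alpha p q m + 1 : ℕ) : ℤ) with hA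
  have hA1 : 1 ≤ A := by rw [hA]; push_cast; omega
  set B : ℤ := (bB p q m : ℤ)
  set T : ℤ := (tT p q m : ℤ)
  set RI : ℤ := R B T c (j + 1) with hRI
  set y : ℤ := A * (-x) - D2 with hy
  have eD : (D0 : ℤ) = gcdK p q m * (RI - (T * (-x) - B * y)) := by
    linear_combination h0 + hn + hd - (p : ℤ) * hx
  have hwpos : 0 < T * (-x) - B * y := by
    have : (gcdK p q m : ℤ) * (RI - (T * (-x) - B * y)) < gcdK p q m * RI := by rw [← eD, ← hn]; exact hD
    have := lt_of_mul_lt_mul_left this hg.le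
    omega
  have hwle : T * (-x) - B * y ≤ RI := by
    have : 0 ≤ (gcdK p q m : ℤ) * (RI - (T * (-x) - B * y)) := by rw [← eD]; positivity
    have := nonneg_of_mul_nonneg_right this hg
    omega
  have hlt := R_lt H (show j ≤ c.length by omega)
  rw [← hRI] at hlt
  have hxpos : 0 < -x := by
    by_contra hx0
    push_neg at hx0
    have hb : RI < B := lt_of_lt_of_le hlt (R_le_b H j (by omega))
    have hxy := le_y H (X := -x) (Y := y) (by omega) (by omega)
    have hD1 : (D1 : ℤ) = (A + m) * (-x) - y := by rw [hy]; linear_combination -hx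
    rcases eq_or_lt_of_le hx0 with e | e
    · rw [e, mul_zero, zero_sub] at hwpos
      rw [e] at hxy
      nlinarith [H.t_pos, H.t_lt]
    · have : (A + m) * (-x) < 1 * (-x) := mul_lt_mul_of_neg_right (by omega) e
      omega
  obtain ⟨hxP, hyQ⟩ := large H (show j + 1 ≤ c.length + 1 by omega) hxpos hwpos (by omega)
  have hX : 0 ≤ -x - hjP c (j + 1) := by omega
  have h2 : lL p q m c (j + 1) ≤ D2 := by
    have : (D2 : ℤ) - lL p q m c (j + 1) = (A - 1) * (-x - hjP c (j + 1)) + ((-x - hjP c (j + 1)) - (y - hjQ c (j + 1))) := by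
      rw [lL, hy, ← hA]; ring
    have := mul_nonneg (show 0 ≤ A - 1 by omega) hX
    omega
  have h3 : eE p q m c (j + 1) ≤ D1 := by
    have hA' : (((alpha p q m + 1 + m : ℕ)) : ℤ) = A + m := by rw [hA]; push_cast; ring
    have : (D1 : ℤ) - eE p q m c (j + 1) =
        (A + m - 1) * (-x - hjP c (j + 1)) + ((-x - hjP c (j + 1)) - (y - hjQ c (j + 1))) := by
      rw [eE, hy, hA']; linear_combination -hx
    have := mul_nonneg (show 0 ≤ A + m - 1 by omega) hX
    omega
  omega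

include hp hcop hnt in
theorem nonneg {c : List ℤ} (hc : IsHJDigits p q m c) {i : ℕ} (hir : i ≤ c.length + 1) :
    0 ≤ nN p q m c i ∧ 0 ≤ eE p q m c i ∧ 0 ≤ lL p q m c i := by
  have H := dat hp hpq hcop hm hnt hc
  have hQ := Q_le H hir
  have hP : 0 ≤ hjP c i := by
    rcases Nat.eq_zero_or_pos i with rfl | hi0
    · simp [hjP]
    · exact (P_pos H hi0 hir).le
  refine ⟨?_, ?_, ?_⟩
  · rw [nN_eq hpq]; exact mul_nonneg (by positivity) (R_nonneg H hir)
  · rw [eE]
    have := mul_le_mul_of_nonneg_right (show (1 : ℤ) ≤ ((alpha p q m + 1 + m : ℕ) : ℤ) by push_cast; omega) hP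
    omega
  · rw [lL]
    have := mul_le_mul_of_nonneg_right (show (1 : ℤ) ≤ ((alpha p q m + 1 : ℕ) : ℤ) by push_cast; omega) hP
    omega

end Num

end Groth.Agent.Misc9.HJ
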