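import Groth.Agent.Misc9.HJ
import Mathlib.LinearAlgebra.Dimension.StrongRankCondition
import Mathlib.LinearAlgebra.Dimension.FreeAndStrongRankCondition
import Mathlib.LinearAlgebra.Basis.VectorSpace

set_option autoImplicit false
set_option maxHeartbeats 1000000
universe u
open W4c2invhilbsl2 MvPolynomial

namespace Groth.Agent.Misc9.HJRank

lemma weight3 (p q m : ℕ) (d : Fin 3 →₀ ℕ) :
    Finsupp.weight (wt3 p q m) d = ((d 0 : ℤ) - p * d 1 + q * d 2, (((d 2 : ℤ) - d 1 : ℤ) : ZMod m)) := by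
  rw [Finsupp.weight_apply, Finsupp.sum_fintype _ _ (by simp), Fin.sum_univ_three]
  ext <;> simp [wt3] <;> push_cast <;> ring

theorem rank_le {k : Type u} [Field k] {p q m : ℕ} (hp : 0 < p) (hpq : p < q) (hcop : Nat.Coprime p q) (hm : 0 < m)
    (hnt : ¬ (q - p ∣ m)) {c : List ℤ} (hc : IsHJDigits p q m c) {i : ℕ} (hi : 1 ≤ i) (hir : i ≤ c.length)
    (s : k) (ν : ℤ × ZMod m) :
    Module.rank k (piece k (wt3 p q m) (idealL k p q m c i s) ν) ≤ 1 := by
  classical
  obtain ⟨j, rfl⟩ : ∃ j, i = j + 1 := ⟨i - 1, by omega⟩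
  set I := idealL k p q m c (j + 1) s with hI
  set π := Ideal.Quotient.mk I with hπ
  let F : ℕ → ℕ → ℕ → MvPolynomial (Fin 3) k ⧸ I := fun a b' c' => π (X 0 ^ a * X 1 ^ b' * X 2 ^ c')
  have H := HJ.dat hp hpq hcop hm hnt hc
  obtain ⟨hn0, he0, hl0⟩ := HJ.nonneg hp hpq hcop hm hnt hc (show j + 1 ≤ c.length + 1 by omega)
  obtain ⟨hn0', -, -⟩ := HJ.nonneg hp hpq hcop hm hnt hc (show j ≤ c.length + 1 by omega)
  set N := (nN p q m c (j + 1)).toNat with hN
  set E := (eE p q m c (j + 1)).toNat with hE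
  set L := (lL p q m c (j + 1)).toNat with hL
  have hFmul : ∀ a b' c' a' b'' c'', F (a + a') (b' + b'') (c' + c'') = F a b' c' * F a' b'' c'' := by
    intro a b' c' a' b'' c''
    show π _ = π _ * π _
    rw [← map_mul]; congr 1; ring
  have hbig : ∀ a b' c' : ℕ, nN p q m c j ≤ a → F a b' c' = 0 := by
    intro a b' c' ha
    obtain ⟨a', rfl⟩ := Nat.le.dest (show (nN p q m c j).toNat ≤ a by omega)
    refine Ideal.Quotient.eq_zero_iff_mem.2 ?_
    rw [pow_add]
    refine Ideal.mul_mem_right _ _ (Ideal.mul_mem_right _ _ (Ideal.mul_mem_right _ _ (Ideal.mem_sup_left ?_)))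
    exact Ideal.subset_span (by simp)
  have hK : ∀ a b' c' : ℕ, (a ≠ 0 ∨ b' ≠ 0 ∨ c' ≠ 0) → (a : ℤ) - p * b' + q * c' = 0 → (m : ℤ) ∣ (c' : ℤ) - b' → F a b' c' = 0 := by
    intro a b' c' hne hw hd
    refine Ideal.Quotient.eq_zero_iff_mem.2 (Ideal.mem_sup_right (Ideal.subset_span
      ⟨Finsupp.single 0 a + Finsupp.single 1 b' + Finsupp.single 2 c', ?_, ?_, ?_⟩))
    · intro h
      have h0 := DFunLike.congr_fun h 0
      have h1 := DFunLike.congr_fun h 1
      have h2 := DFunLike.congr_fun h 2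
      simp at h0 h1 h2
      omega
    · rw [weight3]
      refine Prod.ext (by simpa using hw) ?_
      simpa using (ZMod.intCast_zmod_eq_zero_iff_dvd _ m).2 hd
    · simp [MvPolynomial.X_pow_eq_monomial, MvPolynomial.monomial_mul]
  have hrel : F 0 E L = s • F N 0 0 := by
    show π _ = s • (Ideal.Quotient.mkₐ k I) _
    rw [← map_smul, Ideal.Quotient.mkₐ_eq_mk, MvPolynomial.smul_eq_C_mul]
    refine (Ideal.Quotient.eq.2 (Ideal.mem_sup_left (Ideal.subset_span ?_))).symm
    simp [hN, hE, hL]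
  have hg : (0 : ℤ) < gcdK p q m := by exact_mod_cast HJ.g_pos (p := p) (q := q) hm
  set A : ℤ := ((alpha p q m + 1 : ℕ) : ℤ) with hA
  have hA1 : 1 ≤ A := by rw [hA]; push_cast; omega
  set B : ℤ := (bB p q m : ℤ)
  set T : ℤ := (tT p q m : ℤ)
  have key : ∀ (M : ℕ) (d0 d1 d2 e0 e1 e2 : ℕ) (x : ℤ), x.natAbs = M →
      ((d2 : ℤ) - d1) - ((e2 : ℤ) - e1) = m * (-x) →
      (d0 : ℤ) - p * d1 + q * d2 = (e0 : ℤ) - p * e1 + q * e2 →
      F d0 d1 d2 ≠ 0 → F e0 e1 e2 ≠ 0 → F d0 d1 d2 ∈ Submodule.span k {F e0 e1 e2} := by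
    intro M
    induction M using Nat.strong_induction_on with
    | _ M ih =>
    have main : ∀ (d0 d1 d2 e0 e1 e2 : ℕ) (x : ℤ), x.natAbs = M → 0 ≤ x →
        ((d2 : ℤ) - d1) - ((e2 : ℤ) - e1) = m * (-x) →
        (d0 : ℤ) - p * d1 + q * d2 = (e0 : ℤ) - p * e1 + q * e2 →
        F d0 d1 d2 ≠ 0 → F e0 e1 e2 ≠ 0 → F d0 d1 d2 ∈ Submodule.span k {F e0 e1 e2} := by
      intro d0 d1 d2 e0 e1 e2 x hxM hx hcls hn hd he
      have hd0 : (d0 : ℤ) < nN p q m c j := by
        by_contra hh; exact hd (hbig _ _ _ (by omega))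
      have he0' : (e0 : ℤ) < nN p q m c j := by
        by_contra hh; exact he (hbig _ _ _ (by omega))
      set δ : ℤ := (d2 : ℤ) - e2 with hδ
      set y : ℤ := A * x - δ with hy
      have eD : (d0 : ℤ) - e0 = -(gcdK p q m : ℤ) * (T * x - B * y) := by
        rw [hy, hA, ← HJ.d0_eq hpq x δ]
        linear_combination hn - (p : ℤ) * hcls
      have eD1 : (d1 : ℤ) - e1 = (A + m) * x - y := by rw [hy, hδ]; linear_combination -hcls
      have eD2 : (d2 : ℤ) - e2 = A * x - y := by rw [hy, hδ]; ring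
      rw [HJ.nN_eq hpq] at hd0 he0'
      have hRb : HJ.R B T c j ≤ B := HJ.R_le_b H j (by omega)
      have hwlo : -HJ.R B T c j < T * x - B * y := by
        by_contra hh
        push_neg at hh
        have := mul_le_mul_of_nonneg_left hh hg.le
        linarith
      have hwhi : T * x - B * y < HJ.R B T c j := by
        by_contra hh
        push_neg at hh
        have := mul_le_mul_of_nonneg_left hh hg.le
        linarith
      rcases le_or_gt (T * x - B * y) 0 with hw | hw
      · have hyx : y ≤ x := HJ.y_le H hx (by omega)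
        rcases eq_or_lt_of_le hx with hx0 | hx0
        · subst hx0
          have hy0 : y = 0 := by
            rcases lt_trichotomy y 0 with h' | h' | h'
            · nlinarith [H.t_pos, H.t_lt]
            · exact h'
            · omega
          rw [hy0] at eD eD1 eD2
          simp at eD eD1 eD2
          have : d0 = e0 ∧ d1 = e1 ∧ d2 = e2 := by omega
          obtain ⟨rfl, rfl, rfl⟩ := this
          exact Submodule.mem_span_singleton_self _
        · exfalso
          have h2 : x ≤ A * x := le_mul_of_one_le_left hx hA1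
          have h1 : (A + m) * x = A * x + m * x := by ring
          have hmx : 0 < (m : ℤ) * x := mul_pos (by exact_mod_cast hm) hx0
          have h0 : e0 ≤ d0 := by
            have := mul_nonpos_of_nonneg_of_nonpos hg.le hw
            linarith
          apply hd
          obtain ⟨a, rfl⟩ := Nat.le.dest h0
          obtain ⟨b', rfl⟩ := Nat.le.dest (show e1 ≤ d1 by omega)
          obtain ⟨c', rfl⟩ := Nat.le.dest (show e2 ≤ d2 by omega)
          rw [hFmul, hK a b' c' ?_ ?_ ?_, mul_zero]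
          · push_cast at eD1; omega
          · push_cast at hn; linear_combination hn
          · exact ⟨-x, by push_cast at hcls; linear_combination hcls⟩
      · have hxpos : 0 < x := by
          rcases eq_or_lt_of_le hx with hx0 | hx0
          · subst hx0
            have : y < 0 := by nlinarith [H.t_pos, H.t_lt]
            nlinarith [H.t_pos, H.t_lt]
          · exact hx0
        obtain ⟨hxP, hyQ⟩ := HJ.large H (show j + 1 ≤ c.length + 1 by omega) hxpos hw hwhi
        have hX : 0 ≤ x - hjP c (j + 1) := by omega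
        have hL2 : lL p q m c (j + 1) ≤ d2 := by
          have : (d2 : ℤ) - e2 - lL p q m c (j + 1) = (A - 1) * (x - hjP c (j + 1)) + ((x - hjP c (j + 1)) - (y - hjQ c (j + 1))) := by
            rw [lL, eD2, ← hA]; ring
          have := mul_nonneg (show 0 ≤ A - 1 by omega) hX
          omega
        have hE1 : eE p q m c (j + 1) ≤ d1 := by
          have hA' : (((alpha p q m + 1 + m : ℕ)) : ℤ) = A + m := by rw [hA]; push_cast; ring
          have : (d1 : ℤ) - e1 - eE p q m c (j + 1) =
              (A + m - 1) * (x - hjP c (j + 1)) + ((x - hjP c (j + 1)) - (y - hjQ c (j + 1))) := by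
            rw [eE, eD1, hA']; ring
          have := mul_nonneg (show 0 ≤ A + m - 1 by omega) hX
          omega
        have hEz : (E : ℤ) = eE p q m c (j + 1) := Int.toNat_of_nonneg he0
        have hLz : (L : ℤ) = lL p q m c (j + 1) := Int.toNat_of_nonneg hl0
        have hNz : (N : ℤ) = nN p q m c (j + 1) := Int.toNat_of_nonneg hn0
        have hle : eE p q m c (j + 1) - lL p q m c (j + 1) = m * hjP c (j + 1) := by
          simp only [eE, lL]; push_cast; ring
        obtain ⟨b', rfl⟩ := Nat.le.dest (show E ≤ d1 by omega)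
        obtain ⟨c', rfl⟩ := Nat.le.dest (show L ≤ d2 by omega)
        have hstep : F d0 (E + b') (L + c') = s • F (N + d0) b' c' := by
          have e1 := hFmul 0 E L d0 b' c'
          have e2 := hFmul N 0 0 d0 b' c'
          rw [zero_add] at e1
          rw [zero_add, zero_add] at e2
          rw [e1, hrel, e2]
          exact smul_mul_assoc s _ _
        rw [hstep] at hd ⊢
        refine Submodule.smul_mem _ s ?_
        refine ih (x - hjP c (j + 1)).natAbs ?_ _ _ _ _ _ _ (x - hjP c (j + 1)) rfl ?_ ?_ (fun h0 => hd (by rw [h0, smul_zero])) he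
        · have := HJ.P_pos H (show 1 ≤ j + 1 by omega) (show j + 1 ≤ c.length + 1 by omega)
          omega
        · push_cast at hcls ⊢
          linear_combination hcls + hEz - hLz + hle
        · have hnn : nN p q m c (j + 1) = -(p : ℤ) * eE p q m c (j + 1) + q * lL p q m c (j + 1) := rfl
          push_cast at hn ⊢
          linear_combination hn + hNz + hnn + (p : ℤ) * hEz - (q : ℤ) * hLz
    intro d0 d1 d2 e0 e1 e2 x hxM hcls hn hd he
    rcases le_or_gt 0 x with hx | hx
    · exact main d0 d1 d2 e0 e1 e2 x hxM hx hcls hn hd he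
    · obtain ⟨a, ha⟩ := Submodule.mem_span_singleton.1
        (main e0 e1 e2 d0 d1 d2 (-x) (by omega) (by omega) (by linear_combination -hcls) hn.symm he hd)
      have ha0 : a ≠ 0 := fun h0 => he (by rw [← ha, h0, zero_smul])
      exact Submodule.mem_span_singleton.2 ⟨a⁻¹, by rw [← ha, inv_smul_smul₀ ha0]⟩
  refine (rank_submodule_le_one_iff' _).2 ?_
  have hmon : ∀ (d : Fin 3 →₀ ℕ) (a : k), π (monomial d a) = a • F (d 0) (d 1) (d 2) := by
    intro d a
    show (Ideal.Quotient.mkₐ k I) _ = a • (Ideal.Quotient.mkₐ k I) _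
    rw [← map_smul, monomial_eq, Finsupp.prod_fintype _ _ (fun i => pow_zero _), Fin.prod_univ_three, MvPolynomial.smul_eq_C_mul]
  obtain ⟨v₀, hv₀⟩ : ∃ v₀, ∀ d : Fin 3 →₀ ℕ, Finsupp.weight (wt3 p q m) d = ν → F (d 0) (d 1) (d 2) ∈ Submodule.span k {v₀} := by
    by_cases hex : ∃ e : Fin 3 →₀ ℕ, Finsupp.weight (wt3 p q m) e = ν ∧ F (e 0) (e 1) (e 2) ≠ 0
    · obtain ⟨e, he, hF⟩ := hex
      refine ⟨F (e 0) (e 1) (e 2), fun d hd => ?_⟩
      by_cases hdF : F (d 0) (d 1) (d 2) = 0
      · rw [hdF]; exact Submodule.zero_mem _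
      · have h := hd.trans he.symm
        rw [weight3, weight3] at h
        obtain ⟨h0, h1⟩ := Prod.ext_iff.1 h
        obtain ⟨x, hx⟩ := (ZMod.intCast_eq_intCast_iff_dvd_sub _ _ m).1 h1
        exact key _ _ _ _ _ _ _ x rfl (by linear_combination -hx) h0 hdF hF
    · push_neg at hex
      exact ⟨0, fun d hd => by rw [hex d hd]; exact Submodule.zero_mem _⟩
  refine ⟨v₀, ?_⟩
  rintro _ ⟨f, hf, rfl⟩
  show Ideal.Quotient.mkₐ k I f ∈ _
  rw [f.as_sum, map_sum]
  refine Submodule.sum_mem _ fun d hd => ?_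
  rw [Ideal.Quotient.mkₐ_eq_mk, hmon]
  exact Submodule.smul_mem _ _ (hv₀ d (hf (mem_support_iff.1 hd)))

end Groth.Agent.Misc9.HJRank
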