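import Groth.Prelude.Def_QuadGrp
import Mathlib.LinearAlgebra.Matrix.ToLin
import Mathlib.LinearAlgebra.Determinant
import Mathlib.GroupTheory.Perm.Cycle.Type
import Mathlib.Data.ZMod.Basic

/-!
The half-discriminant: twice it is the discriminant in odd rank, and its transformation law.
-/

open Matrix

namespace Groth.Agent.Misc9.HalfDisc

universe u v

theorem det_eq_zero_of_two_eq_zero {S : Type*} [CommRing S] (h2 : (2 : S) = 0) {n : ℕ} (hn : Odd n)
    (M : Matrix (Fin n) (Fin n) S) (hs : ∀ i j, M i j = M j i) (hd : ∀ i, M i i = 0) : M.det = 0 := by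
  rw [Matrix.det_apply']
  have hsgn : ∀ (σ : Equiv.Perm (Fin n)), ((Equiv.Perm.sign σ : ℤ) : S) = 1 := fun σ => by
    rcases Int.units_eq_one_or (Equiv.Perm.sign σ) with h | h <;> rw [h]
    · simp
    · simp
      linear_combination -h2
  simp only [hsgn, one_mul]
  have hinv : ∀ σ : Equiv.Perm (Fin n), ∏ i, M (σ⁻¹ i) i = ∏ i, M (σ i) i := fun σ => by
    rw [← Equiv.prod_comp σ]
    exact Finset.prod_congr rfl fun i _ => by rw [← Equiv.Perm.mul_apply, inv_mul_cancel, Equiv.Perm.one_apply, hs]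
  have hfix : ∀ σ : Equiv.Perm (Fin n), σ⁻¹ = σ → ∏ i, M (σ i) i = 0 := by
    intro σ hσ
    haveI : Fact (Nat.Prime 2) := ⟨Nat.prime_two⟩
    obtain ⟨i, hi⟩ := Equiv.Perm.exists_fixed_point_of_prime (p := 2) (n := 1) (σ := σ)
      (by rw [Fintype.card_fin]; exact hn.not_two_dvd_nat) (by
        rw [pow_one, pow_two]
        nth_rw 1 [← hσ]
        exact inv_mul_cancel σ)
    exact Finset.prod_eq_zero (Finset.mem_univ i) (by rw [hi, hd])
  refine Finset.sum_involution (fun σ _ => σ⁻¹) (fun σ _ => ?_) (fun σ _ hne hσ => hne (hfix σ hσ))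
    (fun σ _ => Finset.mem_univ _) (fun σ _ => inv_inv σ)
  rw [hinv, ← two_mul, h2, zero_mul]

theorem two_mul_halfDiscUniv {n : ℕ} (hn : Odd n) :
    2 * QuadGrp.halfDiscUniv n = QuadGrp.discUniv n := by
  ext s
  rw [two_mul, MvPolynomial.coeff_add, QuadGrp.coeff_halfDiscUniv]
  have h0 : MvPolynomial.map (Int.castRingHom (ZMod 2)) (QuadGrp.discUniv n) = 0 := by
    rw [QuadGrp.discUniv, RingHom.map_det]
    have h2 : (2 : MvPolynomial (Sym2 (Fin n)) (ZMod 2)) = 0 := by
      rw [show (2 : MvPolynomial (Sym2 (Fin n)) (ZMod 2)) = MvPolynomial.C (2 : ZMod 2) by simp [map_ofNat],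
        show (2 : ZMod 2) = 0 from rfl, map_zero]
    refine det_eq_zero_of_two_eq_zero h2 hn _ (fun i j => ?_) fun i => ?_
    · simp only [RingHom.mapMatrix_apply, Matrix.map_apply, QuadGrp.univPolarMat, Matrix.of_apply]
      by_cases h : i = j
      · subst h; rfl
      · rw [if_neg h, if_neg (Ne.symm h), Sym2.eq_swap]
    · simp [QuadGrp.univPolarMat, h2]
  have h1 := congrArg (MvPolynomial.coeff s) h0
  rw [MvPolynomial.coeff_map, MvPolynomial.coeff_zero, eq_intCast, ZMod.intCast_zmod_eq_zero_iff_dvd] at h1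
  obtain ⟨c, hc⟩ := h1
  push_cast at hc
  rw [hc]
  omega

/-- The coefficients of the quadratic form of a bilinear form. -/
def cf {n : ℕ} {R : Type*} [CommRing R] (B : Matrix (Fin n) (Fin n) R) : Sym2 (Fin n) → R :=
  Sym2.lift ⟨fun i j => if i = j then B i i else B i j + B j i, fun i j => by
    by_cases h : i = j
    · subst h; rfl
    · dsimp only; rw [if_neg h, if_neg (Ne.symm h), add_comm]⟩

/-- The half-discriminant as a function of a bilinear lift. -/
noncomputable def hd {n : ℕ} {R : Type*} [CommRing R] (B : Matrix (Fin n) (Fin n) R) : R :=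
  MvPolynomial.eval₂ (Int.castRingHom R) (cf B) (QuadGrp.halfDiscUniv n)

theorem hd_map {n : ℕ} {R S : Type*} [CommRing R] [CommRing S] (f : R →+* S)
    (B : Matrix (Fin n) (Fin n) R) : hd (B.map f) = f (hd B) := by
  rw [hd, hd, MvPolynomial.eval₂_comp_left]
  congr 1
  · exact RingHom.ext_int _ _
  · funext s
    induction s with
    | h i j => by_cases h : i = j <;> simp [cf, h]

theorem two_mul_hd {n : ℕ} (hn : Odd n) {R : Type*} [CommRing R] (B : Matrix (Fin n) (Fin n) R) :
    2 * hd B = (B + Bᵀ).det := by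
  rw [hd, show (2 : R) = MvPolynomial.eval₂Hom (Int.castRingHom R) (cf B) 2 by rw [map_ofNat],
    ← MvPolynomial.coe_eval₂Hom, ← map_mul, two_mul_halfDiscUniv hn, QuadGrp.discUniv, RingHom.map_det]
  congr 1
  ext i j
  by_cases h : i = j
  · subst h; simp [QuadGrp.univPolarMat, cf, two_mul]
  · simp [QuadGrp.univPolarMat, cf, h]

theorem hd_conj {n : ℕ} (hn : Odd n) {R : Type*} [CommRing R] (B g : Matrix (Fin n) (Fin n) R) :
    hd (gᵀ * B * g) = g.det ^ 2 * hd B := by
  let σ := (Fin n × Fin n) ⊕ (Fin n × Fin n)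
  let B0 : Matrix (Fin n) (Fin n) (MvPolynomial σ ℤ) := Matrix.of fun i j => MvPolynomial.X (Sum.inl (i, j))
  let g0 : Matrix (Fin n) (Fin n) (MvPolynomial σ ℤ) := Matrix.of fun i j => MvPolynomial.X (Sum.inr (i, j))
  let f : MvPolynomial σ ℤ →+* R := MvPolynomial.eval₂Hom (Int.castRingHom R)
    (Sum.elim (fun p => B p.1 p.2) fun p => g p.1 p.2)
  have hB : B0.map f = B := by ext i j; simp [B0, f]
  have hg : g0.map f = g := by ext i j; simp [g0, f]
  have key : hd (g0ᵀ * B0 * g0) = g0.det ^ 2 * hd B0 := by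
    apply mul_left_cancel₀ (show (2 : MvPolynomial σ ℤ) ≠ 0 by rw [← map_ofNat (MvPolynomial.C (σ := σ) (R := ℤ)), Ne, MvPolynomial.C_eq_zero]; decide)
    rw [two_mul_hd hn, mul_left_comm, two_mul_hd hn]
    rw [show g0ᵀ * B0 * g0 + (g0ᵀ * B0 * g0)ᵀ = g0ᵀ * (B0 + B0ᵀ) * g0 by
      simp [Matrix.transpose_mul, Matrix.mul_add, Matrix.add_mul, Matrix.mul_assoc],
      Matrix.det_mul, Matrix.det_mul, Matrix.det_transpose]
    ring
  have := congrArg f key
  rw [map_mul, map_pow, ← hd_map, ← hd_map, RingHom.map_det, RingHom.mapMatrix_apply, Matrix.map_mul,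
    Matrix.map_mul, Matrix.transpose_map, hB, hg] at this
  exact this

theorem halfDisc_eq {n : ℕ} {R : Type u} [CommRing R] {M : Type v} [AddCommGroup M] [Module R M]
    (b : Module.Basis (Fin n) R M) (Q : QuadraticForm R M) (L : LinearMap.BilinMap R M R)
    (hL : L.toQuadraticMap = Q) :
    QuadGrp.halfDisc b (LinearEquiv.refl R R) Q = hd (Matrix.of fun i j => L (b i) (b j)) := by
  rw [QuadGrp.halfDisc, hd]
  congr 1
  funext s
  induction s with
  | h i j =>
    rw [QuadGrp.coeffs_mk, ← hL]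
    by_cases h : i = j
    · subst h; simp [cf]
    · simp [cf, h, LinearMap.BilinMap.polar_toQuadraticMap]

theorem halfDisc_comp {n : ℕ} (hn : Odd n) {R : Type u} [CommRing R] {M : Type v} [AddCommGroup M]
    [Module R M] (b : Module.Basis (Fin n) R M) (Q : QuadraticForm R M) (g : M →ₗ[R] M) :
    QuadGrp.halfDisc b (LinearEquiv.refl R R) (Q.comp g) =
      LinearMap.det g ^ 2 * QuadGrp.halfDisc b (LinearEquiv.refl R R) Q := by
  have : Module.Free R M := Module.Free.of_basis b
  obtain ⟨L, hL⟩ := LinearMap.BilinMap.toQuadraticMap_surjective Q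
  rw [halfDisc_eq b Q L hL, halfDisc_eq b (Q.comp g) (L.compl₁₂ g g) (by ext x; simp [← hL]),
    ← LinearMap.det_toMatrix b, ← hd_conj hn]
  congr 1
  ext i j
  rw [Matrix.of_apply, LinearMap.compl₁₂_apply, ← b.sum_repr (g (b i)), ← b.sum_repr (g (b j))]
  simp only [map_sum, map_smul, LinearMap.sum_apply, LinearMap.smul_apply, Matrix.mul_apply,
    Matrix.transpose_apply, LinearMap.toMatrix_apply, Matrix.of_apply, Finset.sum_mul, smul_eq_mul,
    Finset.mul_sum]
  exact Finset.sum_congr rfl fun a _ => Finset.sum_congr rfl fun c _ => by ring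

end Groth.Agent.Misc9.HalfDisc
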