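import Mathlib.RingTheory.Invariant.Galois
import Mathlib.NumberTheory.RamificationInertia.Galois
import Mathlib.RingTheory.RamificationInertia.Ramification
import Mathlib.GroupTheory.PGroup
import Mathlib.GroupTheory.SpecificGroups.Cyclic
import Mathlib.RingTheory.RootsOfUnity.Basic
import Mathlib.RingTheory.RootsOfUnity.PrimitiveRoots
import Mathlib.RingTheory.Filtration
import Mathlib.RingTheory.DedekindDomain.Ideal.Lemmas
import Mathlib.FieldTheory.Separable

/-! Wild and tame inertia. -/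

open scoped Pointwise
open Polynomial

namespace Groth.Agent.Misc9.InertiaWild

universe u

variable {B : Type u} [CommRing B] [IsDedekindDomain B] {G : Type u} [Group G] [MulSemiringAction G B]
  {m : Ideal B} [m.IsMaximal] {π : B}

theorem cancel (n : ℕ) {c x : B} (hc : c ∉ m) (hx : x ∈ m ^ n) (hcx : c * x ∈ m ^ (n + 1)) :
    x ∈ m ^ (n + 1) := by
  obtain ⟨r, z, hz, hrz⟩ := Ideal.IsMaximal.exists_inv ‹m.IsMaximal› hc
  have : x = r * (c * x) + z * x := by linear_combination (-x) * hrz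
  rw [this]
  refine (m ^ (n + 1)).add_mem ((m ^ (n + 1)).mul_mem_left r hcx) ?_
  rw [pow_succ']
  exact Ideal.mul_mem_mul hz hx

theorem smul_sub_mem_succ {σ : G} (h2 : σ ∈ (m ^ 2).inertia G) :
    ∀ (i : ℕ) (x : B), x ∈ m ^ i → σ • x - x ∈ m ^ (i + 1) := by
  intro i
  induction i with
  | zero =>
    intro x _
    exact Ideal.pow_le_pow_right (by omega) (h2 x)
  | succ i ih =>
    intro x hx
    rw [pow_succ] at hx
    refine Submodule.mul_induction_on hx (fun a ha b hb ↦ ?_) (fun a b ha hb ↦ ?_)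
    · have h1 : σ • b ∈ m := by
        have := Ideal.pow_le_self (I := m) two_ne_zero (h2 b)
        simpa using m.add_mem this hb
      have : σ • (a * b) - a * b = (σ • a - a) * σ • b + a * (σ • b - b) := by
        rw [smul_mul']; ring
      rw [this]
      refine Ideal.add_mem _ ?_ ?_
      · rw [show i + 1 + 1 = (i + 1) + 1 from rfl, pow_succ]
        exact Ideal.mul_mem_mul (ih a ha) h1
      · rw [show i + 1 + 1 = i + 2 from rfl, pow_add]
        exact Ideal.mul_mem_mul ha (h2 b)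
    · have : σ • (a + b) - (a + b) = (σ • a - a) + (σ • b - b) := by rw [smul_add]; ring
      rw [this]
      exact Ideal.add_mem _ ha hb

theorem eq_one_of_prime_order [FaithfulSMul G B] {σ : G} (h2 : σ ∈ (m ^ 2).inertia G) {q : ℕ}
    (hq : σ ^ q = 1) (hqm : (q : B) ∉ m) : σ = 1 := by
  refine FaithfulSMul.eq_of_smul_eq_smul fun b : B ↦ ?_
  rw [one_smul, ← sub_eq_zero]
  have key : ∀ i, σ • b - b ∈ m ^ i := by
    intro i
    induction i with
    | zero => simp
    | succ i ih =>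
      have hpow : ∀ j : ℕ, (σ ^ j) • b - b - (j : B) * (σ • b - b) ∈ m ^ (i + 1) := by
        intro j
        induction j with
        | zero => simp
        | succ j hj =>
          have h3 : ∀ k : ℕ, (σ ^ k) • (σ • b - b) - (σ • b - b) ∈ m ^ (i + 1) := fun k ↦
            smul_sub_mem_succ (Subgroup.pow_mem _ h2 k) i _ ih
          have : (σ ^ (j + 1)) • b - b - ((j + 1 : ℕ) : B) * (σ • b - b) =
              ((σ ^ j) • b - b - (j : B) * (σ • b - b)) +
                ((σ ^ j) • (σ • b - b) - (σ • b - b)) := by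
            rw [pow_succ, mul_smul, smul_sub]; push_cast; ring
          rw [this]
          exact Ideal.add_mem _ hj (h3 j)
      have := hpow q
      rw [hq, one_smul, sub_self, zero_sub, neg_mem_iff] at this
      exact cancel i hqm ih this
  have h : σ • b - b ∈ ⨅ i, m ^ i := Submodule.mem_iInf _ |>.mpr key
  rw [Ideal.iInf_pow_eq_bot_of_isDomain m (Ideal.IsMaximal.ne_top ‹_›)] at h
  exact h

theorem exists_uniformizer (hm : m ≠ ⊥) : ∃ π ∈ m, π ∉ m ^ 2 ∧
    ∀ x ∈ m, ∃ c, x - c * π ∈ m ^ 2 := by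
  have hlt : m ^ 2 < m := by
    have := Ideal.pow_succ_lt_pow hm 1
    rwa [pow_one] at this
  obtain ⟨π, hπ, hπ2⟩ := SetLike.exists_of_lt hlt
  refine ⟨π, hπ, hπ2, fun x hx ↦ ?_⟩
  have hJ : Ideal.span {π} ⊔ m ^ 2 = m := by
    have h1 : Ideal.span {π} ⊔ m ^ 2 ≤ m ^ 1 := by
      rw [pow_one]
      exact sup_le (by simpa [Ideal.span_singleton_le_iff_mem] using hπ) hlt.le
    have h2 : m ^ (1 + 1) < Ideal.span {π} ⊔ m ^ 2 := lt_of_le_of_ne le_sup_right (fun e ↦ hπ2 (by
      have : π ∈ Ideal.span {π} ⊔ m ^ 2 := Ideal.mem_sup_left (Ideal.mem_span_singleton_self π)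
      rwa [← e] at this))
    exact (Ideal.eq_prime_pow_of_succ_lt_of_le hm h2 h1).trans (pow_one m)
  rw [← hJ] at hx
  obtain ⟨y, hy, z, hz, rfl⟩ := Submodule.mem_sup.mp hx
  obtain ⟨c, rfl⟩ := Ideal.mem_span_singleton'.mp hy
  exact ⟨c, by simpa using hz⟩

theorem smul_mem_pow {σ : G} (hσ : σ ∈ m.inertia G) (n : ℕ) {x : B} (hx : x ∈ m ^ n) :
    σ • x ∈ m ^ n := by
  have : σ • (m ^ n) = m ^ n := by
    have h : σ • m = m := Ideal.inertia_le_stabilizer (M := G) m hσ
    clear hx
    induction n with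
    | zero => rw [pow_zero]; exact smul_one σ
    | succ n ih => rw [pow_succ, smul_mul', ih, h]
  rw [← this]
  exact Ideal.smul_mem_pointwise_smul σ x _ hx

theorem smul_mem_self {σ : G} (hσ : σ ∈ m.inertia G) {x : B} (hx : x ∈ m) : σ • x ∈ m := by
  simpa using smul_mem_pow hσ 1 (by rwa [pow_one] : x ∈ m ^ 1)

theorem coef_unique (hπ : π ∈ m) (hπ2 : π ∉ m ^ 2) {y c d : B} (hc : y - c * π ∈ m ^ 2)
    (hd : y - d * π ∈ m ^ 2) : c - d ∈ m := by
  by_contra h
  refine hπ2 (cancel (m := m) 1 h (by rwa [pow_one]) ?_)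
  rw [show (c - d) * π = (y - d * π) - (y - c * π) by ring]
  exact Ideal.sub_mem _ hd hc

/-- coefficient of `σ π` along `π` -/
noncomputable def coef (hπ : π ∈ m) (hgen : ∀ x ∈ m, ∃ c, x - c * π ∈ m ^ 2) (σ : m.inertia G) : B :=
  (hgen ((σ : G) • π) (smul_mem_self σ.2 hπ)).choose

theorem coef_spec (hπ : π ∈ m) (hgen : ∀ x ∈ m, ∃ c, x - c * π ∈ m ^ 2) (σ : m.inertia G) :
    (σ : G) • π - coef hπ hgen σ * π ∈ m ^ 2 :=
  (hgen ((σ : G) • π) (smul_mem_self σ.2 hπ)).choose_spec

/-- the tame character -/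
noncomputable def theta (hπ : π ∈ m) (hπ2 : π ∉ m ^ 2) (hgen : ∀ x ∈ m, ∃ c, x - c * π ∈ m ^ 2) :
    m.inertia G →* B ⧸ m where
  toFun σ := Ideal.Quotient.mk m (coef hπ hgen σ)
  map_one' := by
    rw [← (Ideal.Quotient.mk m).map_one, Ideal.Quotient.eq]
    refine coef_unique hπ hπ2 (coef_spec hπ hgen 1) ?_
    simp
  map_mul' σ τ := by
    rw [← (Ideal.Quotient.mk m).map_mul, Ideal.Quotient.eq]
    refine coef_unique hπ hπ2 (coef_spec hπ hgen (σ * τ)) ?_
    have h1 := coef_spec hπ hgen σ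
    have h4 := smul_mem_pow σ.2 2 (coef_spec hπ hgen τ)
    rw [smul_sub, smul_mul'] at h4
    generalize coef hπ hgen σ = cs at h1 ⊢
    generalize coef hπ hgen τ = ct at h4 ⊢
    have h5 : ((σ : G) • ct - ct) * ((σ : G) • π) ∈ m ^ 2 := by
      rw [pow_two]
      exact Ideal.mul_mem_mul (σ.2 ct) (smul_mem_self σ.2 hπ)
    rw [Subgroup.coe_mul, mul_smul]
    have e : (σ : G) • (τ : G) • π - cs * ct * π =
        ((σ : G) • (τ : G) • π - (σ : G) • ct * (σ : G) • π)
          + ((σ : G) • ct - ct) * ((σ : G) • π) + ct * ((σ : G) • π - cs * π) := by ring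
    rw [e]
    exact Ideal.add_mem _ (Ideal.add_mem _ h4 h5) (Ideal.mul_mem_left _ ct h1)

theorem theta_eq_one_iff {A : Type u} [CommRing A] [Algebra A B] [SMulCommClass G A B]
    [Algebra.IsIntegral A B] [(m.comap (algebraMap A B)).IsMaximal]
    [Algebra.IsSeparable (A ⧸ m.comap (algebraMap A B)) (B ⧸ m)]
    (hπ : π ∈ m) (hπ2 : π ∉ m ^ 2) (hgen : ∀ x ∈ m, ∃ c, x - c * π ∈ m ^ 2) (σ : m.inertia G) :
    theta hπ hπ2 hgen σ = 1 ↔ (σ : G) ∈ (m ^ 2).inertia G := by
  have h := coef_spec hπ hgen σ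
  show Ideal.Quotient.mk m (coef hπ hgen σ) = 1 ↔ _
  rw [← (Ideal.Quotient.mk m).map_one, Ideal.Quotient.eq]
  generalize coef hπ hgen σ = c at h ⊢
  constructor
  · intro hc
    have hπfix : (σ : G) • π - π ∈ m ^ 2 := by
      have : (σ : G) • π - π = ((σ : G) • π - c * π) + (c - 1) * π := by ring
      rw [this]
      exact Ideal.add_mem _ h (by rw [pow_two]; exact Ideal.mul_mem_mul hc hπ)
    have hm2 : ∀ x ∈ m, (σ : G) • x - x ∈ m ^ 2 := by
      intro x hx
      obtain ⟨d, hd⟩ := hgen x hx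
      have hd' := smul_mem_pow σ.2 2 hd
      rw [smul_sub, smul_mul'] at hd'
      have : (σ : G) • x - x = ((σ : G) • x - (σ : G) • d * (σ : G) • π) - (x - d * π) +
          ((σ : G) • d - d) * ((σ : G) • π) + d * ((σ : G) • π - π) := by ring
      rw [this]
      refine Ideal.add_mem _ (Ideal.add_mem _ (Ideal.sub_mem _ hd' hd) ?_)
        (Ideal.mul_mem_left _ d hπfix)
      rw [pow_two]
      exact Ideal.mul_mem_mul (σ.2 d) (smul_mem_self σ.2 hπ)
    intro b
    letI : Field (A ⧸ m.comap (algebraMap A B)) := Ideal.Quotient.field _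
    have hsep := Algebra.IsSeparable.isSeparable (A ⧸ m.comap (algebraMap A B)) (Ideal.Quotient.mk m b)
    obtain ⟨g, hg⟩ := Polynomial.map_surjective (Ideal.Quotient.mk (m.comap (algebraMap A B)))
      Ideal.Quotient.mk_surjective (minpoly (A ⧸ m.comap (algebraMap A B)) (Ideal.Quotient.mk m b))
    have key : ∀ r : A[X], Ideal.Quotient.mk m (aeval b r) =
        aeval (Ideal.Quotient.mk m b) (r.map (Ideal.Quotient.mk (m.comap (algebraMap A B)))) := by
      intro r
      rw [Polynomial.aeval_def, Polynomial.aeval_def, Polynomial.hom_eval₂, Polynomial.eval₂_map]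
      rfl
    have hgm : aeval b g ∈ m := by
      rw [← Ideal.Quotient.eq_zero_iff_mem, key, hg, minpoly.aeval]
    have hg' : aeval b (derivative g) ∉ m := by
      rw [← Ideal.Quotient.eq_zero_iff_mem, key, ← derivative_map, hg]
      exact hsep.aeval_derivative_ne_zero (minpoly.aeval _ _)
    obtain ⟨k, hk⟩ := Polynomial.binomExpansion (g.map (algebraMap A B)) b ((σ : G) • b - b)
    rw [add_sub_cancel, derivative_map, eval_map_algebraMap, eval_map_algebraMap,
      eval_map_algebraMap] at hk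
    have hσg : (σ : G) • aeval b g = aeval ((σ : G) • b) g :=
      (Polynomial.aeval_algHom_apply (MulSemiringAction.toAlgHom A B (σ : G)) b g).symm
    have hδ : (σ : G) • b - b ∈ m := σ.2 b
    refine cancel (m := m) 1 hg' (by rwa [pow_one]) ?_
    have : aeval b (derivative g) * ((σ : G) • b - b) =
        ((σ : G) • aeval b g - aeval b g) - k * ((σ : G) • b - b) ^ 2 := by
      rw [hσg, hk]; ring
    rw [this]
    exact Ideal.sub_mem _ (hm2 _ hgm) (Ideal.mul_mem_left _ k (Ideal.pow_mem_pow hδ 2))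
  · intro hσ
    by_contra hc
    refine hπ2 (cancel (m := m) 1 hc (by rwa [pow_one]) ?_)
    have : (c - 1) * π = ((σ : G) • π - π) - ((σ : G) • π - c * π) := by ring
    rw [this]
    exact Ideal.sub_mem _ (hσ π) h

end Groth.Agent.Misc9.InertiaWild
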