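import Mathlib

/-!
# The Krull–Akizuki theorem
-/

namespace Misc9.KA

variable {B : Type*} [CommRing B] [IsDomain B] [IsNoetherianRing B] [Ring.KrullDimLE 1 B]

/-- A finitely generated module killed by a nonzero element has finite length. -/
theorem isFiniteLength_of_smul_eq_zero {M : Type*} [AddCommGroup M] [Module B M] [Module.Finite B M]
    {g : B} (hg : g ≠ 0) (h : ∀ x : M, g • x = 0) : IsFiniteLength B M := by
  obtain ⟨n, s, hs⟩ := Module.Finite.exists_fin (R := B) (M := M)
  let J : Ideal B := Ideal.span {g}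
  have hJ : IsFiniteLength B (B ⧸ J) :=
    isFiniteLength_quotient_span_singleton B (mem_nonZeroDivisors_of_ne_zero hg)
  obtain ⟨_, _⟩ := isFiniteLength_iff_isNoetherian_isArtinian.1 hJ
  let ψ (i : Fin n) : (B ⧸ J) →ₗ[B] M :=
    J.liftQ (LinearMap.toSpanSingleton B M (s i)) (by
      rw [Submodule.span_singleton_le_iff_mem, LinearMap.mem_ker, LinearMap.toSpanSingleton_apply, h])
  let Ψ : (Fin n → B ⧸ J) →ₗ[B] M := LinearMap.lsum B _ B ψ
  have hsurj : Function.Surjective Ψ := by
    rw [← LinearMap.range_eq_top, eq_top_iff, ← hs, Submodule.span_le]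
    rintro _ ⟨i, rfl⟩
    refine ⟨Pi.single i (Submodule.Quotient.mk 1), ?_⟩
    rw [LinearMap.lsum_piSingle]
    exact one_smul B (s i)
  exact IsFiniteLength.of_surjective
    (isFiniteLength_iff_isNoetherian_isArtinian.2 ⟨inferInstance, inferInstance⟩) hsurj

/-- If `F ≤ M` with `M / F` torsion and `M` finitely generated, then `M / f M` is not longer than
`F / f F`. -/
theorem length_quotient_smul_le {N : Type*} [AddCommGroup N] [Module B N] [Module.Finite B N]
    {r : ℕ} (e : (Fin r → B) →ₗ[B] N) (he : Function.Injective e)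
    (htor : ∀ x : N, ∃ g : B, g ≠ 0 ∧ g • x ∈ LinearMap.range e)
    {f : B} (hinj : Function.Injective (LinearMap.lsmul B N f)) :
    Module.length B (N ⧸ LinearMap.range (LinearMap.lsmul B N f)) ≤
      Module.length B ((Fin r → B) ⧸ LinearMap.range (LinearMap.lsmul B (Fin r → B) f)) := by
  let F : Submodule B N := LinearMap.range e
  let φ : N →ₗ[B] N := LinearMap.lsmul B N f
  let G : Submodule B N := F.map φ
  -- `N / F` has finite length
  have hQ : IsFiniteLength B (N ⧸ F) := by
    obtain ⟨n, s, hs⟩ := Module.Finite.exists_fin (R := B) (M := N)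
    choose g hg0 hg using fun i => htor (s i)
    refine isFiniteLength_of_smul_eq_zero (g := ∏ i, g i) (Finset.prod_ne_zero_iff.2 fun i _ => hg0 i) ?_
    intro x
    obtain ⟨y, rfl⟩ := F.mkQ_surjective x
    rw [← map_smul, Submodule.mkQ_apply, Submodule.Quotient.mk_eq_zero]
    have hy : y ∈ F.comap (LinearMap.lsmul B N (∏ i, g i)) := by
      refine (eq_top_iff.1 hs).trans ?_ (Submodule.mem_top (x := y))
      rw [Submodule.span_le]
      rintro _ ⟨i, rfl⟩
      obtain ⟨c, hc⟩ := Finset.dvd_prod_of_mem g (Finset.mem_univ i)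
      rw [SetLike.mem_coe, Submodule.mem_comap, LinearMap.lsmul_apply, hc, mul_comm, mul_smul]
      exact F.smul_mem c (hg i)
    exact hy
  have hQ' : Module.length B (N ⧸ F) ≠ ⊤ := Module.length_ne_top_iff.2 hQ
  have hGF : G ≤ F := by
    rintro _ ⟨x, hx, rfl⟩
    exact F.smul_mem f hx
  -- `0 → N/F → N/fF → N/fN → 0`
  let a : (N ⧸ F) →ₗ[B] N ⧸ G := F.mapQ G φ (Submodule.le_comap_map φ F)
  let b : (N ⧸ G) →ₗ[B] N ⧸ LinearMap.range φ := Submodule.factor LinearMap.map_le_range
  have ha : Function.Injective a := by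
    rw [← LinearMap.ker_eq_bot, eq_bot_iff]
    intro x hx
    obtain ⟨y, rfl⟩ := F.mkQ_surjective x
    obtain ⟨z, hz, hzy⟩ := (Submodule.Quotient.mk_eq_zero G).1 (LinearMap.mem_ker.1 hx)
    rw [Submodule.mem_bot, Submodule.mkQ_apply, Submodule.Quotient.mk_eq_zero, ← hinj hzy]
    exact hz
  have hb : Function.Surjective b := fun x => by
    obtain ⟨y, rfl⟩ := Submodule.mkQ_surjective _ x
    exact ⟨Submodule.Quotient.mk y, rfl⟩
  have hab : Function.Exact a b := by
    intro x
    obtain ⟨y, rfl⟩ := Submodule.mkQ_surjective _ x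
    constructor
    · intro h
      obtain ⟨z, hz⟩ := (Submodule.Quotient.mk_eq_zero _).1 h
      exact ⟨Submodule.Quotient.mk z, congrArg Submodule.Quotient.mk hz⟩
    · rintro ⟨z, hz⟩
      obtain ⟨z, rfl⟩ := Submodule.mkQ_surjective _ z
      rw [← hz]
      exact (Submodule.Quotient.mk_eq_zero _).2 ⟨z, rfl⟩
  -- `0 → F/fF → N/fF → N/F → 0`
  let c : ((Fin r → B) ⧸ LinearMap.range (LinearMap.lsmul B (Fin r → B) f)) →ₗ[B] N ⧸ G :=
    Submodule.mapQ _ G e (by
      rintro _ ⟨x, rfl⟩
      exact ⟨e x, ⟨x, rfl⟩, (map_smul e f x).symm⟩)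
  let d : (N ⧸ G) →ₗ[B] N ⧸ F := Submodule.factor hGF
  have hc : Function.Injective c := by
    rw [← LinearMap.ker_eq_bot, eq_bot_iff]
    intro x hx
    obtain ⟨y, rfl⟩ := Submodule.mkQ_surjective _ x
    obtain ⟨_, ⟨z, rfl⟩, hzy⟩ := (Submodule.Quotient.mk_eq_zero G).1 (LinearMap.mem_ker.1 hx)
    rw [Submodule.mem_bot, Submodule.mkQ_apply, Submodule.Quotient.mk_eq_zero]
    exact ⟨z, he (by rw [← hzy]; exact map_smul e f z)⟩
  have hd : Function.Surjective d := fun x => by
    obtain ⟨y, rfl⟩ := Submodule.mkQ_surjective _ x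
    exact ⟨Submodule.Quotient.mk y, rfl⟩
  have hcd : Function.Exact c d := by
    intro x
    obtain ⟨y, rfl⟩ := Submodule.mkQ_surjective _ x
    constructor
    · intro h
      obtain ⟨z, hz⟩ := (Submodule.Quotient.mk_eq_zero _).1 h
      exact ⟨Submodule.Quotient.mk z, congrArg Submodule.Quotient.mk hz⟩
    · rintro ⟨z, hz⟩
      obtain ⟨z, rfl⟩ := Submodule.mkQ_surjective _ z
      rw [← hz]
      exact (Submodule.Quotient.mk_eq_zero _).2 ⟨z, rfl⟩
  have e1 := Module.length_eq_add_of_exact a b ha hb hab
  have e2 := Module.length_eq_add_of_exact c d hc hd hcd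
  rw [e1, add_comm] at e2
  exact ((ENat.add_left_injective_of_ne_top hQ') e2).le

/-- The Krull–Akizuki finiteness: for a torsion-free module of finite rank over a one-dimensional
Noetherian domain, `M / f M` has finite length. -/
theorem isFiniteLength_quotient_smul {M : Type*} [AddCommGroup M] [Module B M]
    {r : ℕ} (e : (Fin r → B) →ₗ[B] M) (he : Function.Injective e)
    (htor : ∀ x : M, ∃ g : B, g ≠ 0 ∧ g • x ∈ LinearMap.range e)
    {f : B} (hf : f ≠ 0) (hinj : Function.Injective (LinearMap.lsmul B M f)) :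
    IsFiniteLength B (M ⧸ LinearMap.range (LinearMap.lsmul B M f)) := by
  set L := Module.length B ((Fin r → B) ⧸ LinearMap.range (LinearMap.lsmul B (Fin r → B) f)) with hL
  have hLtop : L ≠ ⊤ := by
    rw [hL, Module.length_ne_top_iff]
    refine isFiniteLength_of_smul_eq_zero hf fun x => ?_
    obtain ⟨y, rfl⟩ := Submodule.mkQ_surjective _ x
    rw [← map_smul, Submodule.mkQ_apply, Submodule.Quotient.mk_eq_zero]
    exact ⟨y, rfl⟩
  set T := LinearMap.range (LinearMap.lsmul B M f)
  have key : ∀ P : Submodule B (M ⧸ T), P.FG → Module.length B P ≤ L := by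
    intro P hP
    obtain ⟨s, hs⟩ := hP
    choose t ht using fun x : M ⧸ T => T.mkQ_surjective x
    let N : Submodule B M := Submodule.span B (t '' s) ⊔ LinearMap.range e
    have : Module.Finite B N := Module.Finite.iff_fg.2
      (Submodule.FG.sup (Submodule.fg_span (s.finite_toSet.image t))
        (Module.Finite.iff_fg.1 inferInstance))
    let e' : (Fin r → B) →ₗ[B] N := e.codRestrict N fun x => Submodule.mem_sup_right ⟨x, rfl⟩
    have h1 := length_quotient_smul_le (f := f) e' (fun x y h => he (congrArg Subtype.val h))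
      (fun x => by
        obtain ⟨g, hg, z, hz⟩ := htor x
        exact ⟨g, hg, z, Subtype.ext hz⟩)
      (fun x y h => Subtype.ext (hinj (congrArg Subtype.val h)))
    let ψ : (N ⧸ LinearMap.range (LinearMap.lsmul B N f)) →ₗ[B] M ⧸ T :=
      Submodule.mapQ _ T N.subtype (by
        rintro _ ⟨x, rfl⟩
        exact ⟨x, rfl⟩)
    have hP : P ≤ LinearMap.range ψ := by
      rw [← hs, Submodule.span_le]
      intro x hx
      exact ⟨Submodule.Quotient.mk ⟨t x, Submodule.mem_sup_left (Submodule.subset_span ⟨x, hx, rfl⟩)⟩,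
        ht x⟩
    exact ((Module.length_le_of_injective (Submodule.inclusion hP) (Submodule.inclusion_injective hP)).trans
      (Module.length_le_of_surjective ψ.rangeRestrict ψ.surjective_rangeRestrict)).trans h1
  obtain ⟨Lm, hLm⟩ := ENat.ne_top_iff_exists.1 hLtop
  let S : Set ℕ := {n | ∃ P : Submodule B (M ⧸ T), P.FG ∧ Module.length B P = n}
  have hSb : BddAbove S := ⟨Lm, fun n ⟨P, hP, hn⟩ => by
    have := key P hP
    rw [hn, ← hLm] at this
    exact_mod_cast this⟩
  have hS0 : S.Nonempty := ⟨0, ⊥, Submodule.fg_bot, by simp⟩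
  obtain ⟨P, hP, hPn⟩ := Nat.sSup_mem hS0 hSb
  have htop : P = ⊤ := by
    refine eq_top_iff.2 fun y _ => ?_
    have hP' : (P ⊔ Submodule.span B {y}).FG := hP.sup (Submodule.fg_span_singleton y)
    have hfin : Module.length B ↥(P ⊔ Submodule.span B {y}) ≠ ⊤ :=
      ne_top_of_le_ne_top hLtop (key _ hP')
    obtain ⟨m, hm⟩ := ENat.ne_top_iff_exists.1 hfin
    have hle : m ≤ sSup S := le_csSup hSb ⟨_, hP', hm.symm⟩
    by_contra hy
    obtain ⟨_, _⟩ := isFiniteLength_iff_isNoetherian_isArtinian.1 (Module.length_ne_top_iff.1 hfin)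
    have hne : P.comap (P ⊔ Submodule.span B {y}).subtype ≠ ⊤ := fun h =>
      hy ((h ▸ Submodule.mem_top : (⟨y, Submodule.mem_sup_right (Submodule.mem_span_singleton_self y)⟩ :
        ↥(P ⊔ Submodule.span B {y})) ∈ P.comap (P ⊔ Submodule.span B {y}).subtype))
    have hlt := Submodule.length_lt hne
    rw [(Submodule.comapSubtypeEquivOfLe le_sup_left).length_eq, hPn, ← hm] at hlt
    exact absurd (Nat.cast_lt.1 hlt) (not_lt.2 hle)
  rw [← Module.length_ne_top_iff]
  rw [htop, Module.length_top] at hPn
  rw [hPn]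
  exact ENat.natCast_ne_top _

/-- Krull–Akizuki for a domain `C` over `B` inside a finite extension of a fraction field of `B`. -/
theorem isFiniteLength_quotient_span {C : Type*} [CommRing C] [IsDomain C] [Algebra B C]
    (K L : Type*) [Field K] [Algebra B K] [IsFractionRing B K] [Field L] [Algebra K L]
    [FiniteDimensional K L] [Algebra B L] [IsScalarTower B K L] [Algebra C L]
    [IsScalarTower B C L] [FaithfulSMul C L] {f : B} (hf : f ≠ 0) :
    IsFiniteLength B (C ⧸ Ideal.span {algebraMap B C f}) := by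
  have hCL : Function.Injective (algebraMap C L) := FaithfulSMul.algebraMap_injective C L
  have hBL : Function.Injective (algebraMap B L) := by
    rw [IsScalarTower.algebraMap_eq B K L]
    exact (algebraMap K L).injective.comp (IsFractionRing.injective B K)
  have hBC : Function.Injective (algebraMap B C) := by
    rw [IsScalarTower.algebraMap_eq B C L] at hBL
    exact Function.Injective.of_comp hBL
  let im : Set L := Set.range (algebraMap C L)
  obtain ⟨b, hb, hspan, hli⟩ := exists_linearIndependent K im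
  have : Fintype b := hli.setFinite.fintype
  choose t ht using fun x : b => hb x.2
  let v : Fin (Fintype.card b) → C := fun i => t ((Fintype.equivFin b).symm i)
  have hv : LinearIndependent B v := by
    have h1 : LinearIndependent B (fun x : b => (x : L)) :=
      hli.restrict_scalars (by
        intro x y h
        simp only [Algebra.smul_def, mul_one] at h
        exact IsFractionRing.injective B K h)
    refine LinearIndependent.of_comp (IsScalarTower.toAlgHom B C L).toLinearMap ?_
    convert h1.comp _ (Fintype.equivFin b).symm.injective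
    funext i
    exact ht _
  let e : (Fin (Fintype.card b) → B) →ₗ[B] C := Fintype.linearCombination B v
  have htor : ∀ x : C, ∃ g : B, g ≠ 0 ∧ g • x ∈ LinearMap.range e := by
    intro x
    have hx : algebraMap C L x ∈ Submodule.span K b := hspan ▸ Submodule.subset_span ⟨x, rfl⟩
    obtain ⟨⟨g, hg⟩, hgx⟩ := multiple_mem_span_of_mem_localization_span (nonZeroDivisors B) K b _ hx
    refine ⟨g, nonZeroDivisors.ne_zero hg, ?_⟩
    rw [Fintype.range_linearCombination]
    have hb' : b = (IsScalarTower.toAlgHom B C L).toLinearMap '' Set.range v := by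
      rw [← Set.range_comp]
      ext z
      refine ⟨fun hz => ⟨Fintype.equivFin b ⟨z, hz⟩, ?_⟩, ?_⟩
      · simp only [Function.comp_apply, v, Equiv.symm_apply_apply]
        exact ht ⟨z, hz⟩
      · rintro ⟨i, rfl⟩
        simp only [Function.comp_apply, v]
        rw [AlgHom.toLinearMap_apply, IsScalarTower.coe_toAlgHom', ht]
        exact Subtype.coe_prop _
    rw [hb', Submodule.span_image] at hgx
    obtain ⟨y, hy, hyx⟩ := hgx
    have : y = g • x := hCL (by
      simpa [Algebra.smul_def, Submonoid.smul_def, ← IsScalarTower.algebraMap_apply] using hyx)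
    exact this ▸ hy
  have hinj : Function.Injective (LinearMap.lsmul B C f) := fun x y h => by
    simp only [LinearMap.lsmul_apply, Algebra.smul_def] at h
    exact mul_left_cancel₀ (fun h0 => hf (hBC (by rw [h0, map_zero]))) h
  have h := isFiniteLength_quotient_smul e (hv.fintypeLinearCombination_injective) htor hf hinj
  refine IsFiniteLength.of_surjective h (f := Submodule.mapQ _
    ((Ideal.span {algebraMap B C f}).restrictScalars B) LinearMap.id ?_) ?_
  · rintro _ ⟨x, rfl⟩
    simp only [Submodule.mem_comap, LinearMap.id_coe, id_eq, Submodule.restrictScalars_mem, LinearMap.lsmul_apply, Algebra.smul_def]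
    exact Ideal.mem_span_singleton'.2 ⟨x, mul_comm _ _⟩
  · intro x
    obtain ⟨y, rfl⟩ := Submodule.mkQ_surjective _ x
    exact ⟨Submodule.Quotient.mk y, rfl⟩

end Misc9.KA
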