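import Mathlib.RingTheory.Flat.Basic
import Mathlib.RingTheory.Flat.Stability
import Mathlib.RingTheory.Ideal.Quotient.Operations
import Mathlib.RingTheory.LocalRing.MaximalIdeal.Basic
import Mathlib.LinearAlgebra.TensorProduct.RightExactness
import Mathlib.RingTheory.TensorProduct.Basic
import Mathlib.LinearAlgebra.TensorProduct.Tower
import Mathlib.RingTheory.Artinian.Ring
import Groth.Agent.Flat.SqZero

/-!
Flat lifts of a closed subscheme across a small extension: the difference map and translations.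
-/

open scoped TensorProduct

namespace Groth.Agent.Misc9.LiftTorsor

universe u

variable {C' : Type u} [CommRing C'] {J : Ideal C'} {A' : Type u} [CommRing A'] [Algebra C' A']
  (I : Ideal (A' ⧸ J.map (algebraMap C' A')))

/-- Multiplication `A' ⊗ J → A'`. -/
noncomputable def mu (z : A' ⊗[C'] ↥J) : A' :=
  TensorProduct.rid C' A' (LinearMap.lTensor A' (Submodule.subtype J) z)

/-- Reduction `A' ⊗ J → B ⊗ J`. -/
noncomputable def pi (z : A' ⊗[C'] ↥J) : ((A' ⧸ J.map (algebraMap C' A')) ⧸ I) ⊗[C'] ↥J :=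
  LinearMap.rTensor ↥J
    (IsScalarTower.toAlgHom C' A' ((A' ⧸ J.map (algebraMap C' A')) ⧸ I)).toLinearMap z


theorem mu_tmul (a : A') (j : J) : mu (a ⊗ₜ[C'] j) = (j : C') • a := by simp [mu]

theorem mu_add (z w : A' ⊗[C'] ↥J) : mu (z + w) = mu z + mu w := by simp [mu]

theorem mu_sub (z w : A' ⊗[C'] ↥J) : mu (z - w) = mu z - mu w := by simp [mu]

theorem mu_zero : mu (0 : A' ⊗[C'] ↥J) = 0 := by simp [mu]

theorem mu_smul (a : A') (z : A' ⊗[C'] ↥J) : mu (a • z) = a * mu z := by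
  induction z using TensorProduct.induction_on with
  | zero => simp [mu_zero]
  | tmul x j => simp [TensorProduct.smul_tmul', mu_tmul]
  | add x y hx hy => simp [smul_add, mu_add, hx, hy, mul_add]

theorem pi_smul (a : A') (z : A' ⊗[C'] ↥J) : pi I (a • z) = a • pi I z := by
  induction z using TensorProduct.induction_on with
  | zero => simp [pi]
  | tmul x j =>
    simp only [pi, TensorProduct.smul_tmul', LinearMap.rTensor_tmul]
    congr 1
  | add x y hx hy =>
    have h : ∀ u v, pi I (u + v) = pi I u + pi I v := fun u v => map_add _ u v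
    rw [smul_add, h, h, hx, hy, smul_add]

theorem pi_surjective : Function.Surjective (pi I) :=
  LinearMap.rTensor_surjective _ fun b => by
    obtain ⟨b, rfl⟩ := Ideal.Quotient.mk_surjective b
    obtain ⟨b, rfl⟩ := Ideal.Quotient.mk_surjective b
    exact ⟨b, rfl⟩

theorem mem_range_mu {a : A'} (ha : (Ideal.Quotient.mk (J.map (algebraMap C' A'))) a = 0) : ∃ z : A' ⊗[C'] ↥J, mu z = a := by
  rw [Ideal.Quotient.eq_zero_iff_mem] at ha
  refine Submodule.span_induction ?_ ⟨0, mu_zero⟩ ?_ ?_ ha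
  · rintro _ ⟨j, hj, rfl⟩
    exact ⟨1 ⊗ₜ[C'] ⟨j, hj⟩, by simp [mu_tmul, Algebra.smul_def]⟩
  · rintro _ _ _ _ ⟨z, rfl⟩ ⟨w, rfl⟩
    exact ⟨z + w, mu_add z w⟩
  · rintro b _ _ ⟨z, rfl⟩
    exact ⟨b • z, mu_smul b z⟩

theorem q_mu (z : A' ⊗[C'] ↥J) : (Ideal.Quotient.mk (J.map (algebraMap C' A'))) (mu z) = 0 := by
  induction z using TensorProduct.induction_on with
  | zero => simp [mu_zero]
  | tmul x j =>
    rw [mu_tmul, Algebra.smul_def, map_mul,
      Ideal.Quotient.eq_zero_iff_mem.2 (Ideal.mem_map_of_mem _ j.2), zero_mul]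
  | add x y hx hy => rw [mu_add, map_add, hx, hy, add_zero]

theorem mu_injective [Module.Flat C' A'] : Function.Injective (mu : A' ⊗[C'] ↥J → A') :=
  (TensorProduct.rid C' A').injective.comp
    (Module.Flat.lTensor_preserves_injective_linearMap _ J.injective_subtype)

/-- A multiple of `J` lying in a flat lift reduces to zero. -/
theorem pi_eq_zero_of_mem (I' : Ideal A') [Module.Flat C' (A' ⧸ I')] (hI' : I'.map (Ideal.Quotient.mk (J.map (algebraMap C' A'))) = I)
    {z : A' ⊗[C'] ↥J} (hz : mu z ∈ I') : pi I z = 0 := by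
  let g := (Ideal.Quotient.mkₐ C' I').toLinearMap
  have h1 : ∀ z : A' ⊗[C'] ↥J, TensorProduct.rid C' (A' ⧸ I')
      (LinearMap.lTensor (A' ⧸ I') J.subtype (LinearMap.rTensor ↥J g z)) = g (mu z) := by
    intro z
    induction z using TensorProduct.induction_on with
    | zero => simp [mu_zero]
    | tmul x j => simp [mu_tmul, g, Algebra.smul_def]
    | add x y hx hy => simp only [map_add, hx, hy, mu_add]
  have h2 : LinearMap.rTensor ↥J g z = 0 := by
    apply ((TensorProduct.rid C' (A' ⧸ I')).injective.comp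
      (Module.Flat.lTensor_preserves_injective_linearMap _ J.injective_subtype))
    simp only [Function.comp_apply, map_zero]
    rw [h1]
    exact Ideal.Quotient.eq_zero_iff_mem.2 hz
  let f := Ideal.Quotient.liftₐ I'
    (IsScalarTower.toAlgHom C' A' ((A' ⧸ J.map (algebraMap C' A')) ⧸ I)) fun a ha => by
      show Ideal.Quotient.mk I ((Ideal.Quotient.mk (J.map (algebraMap C' A'))) a) = 0
      exact Ideal.Quotient.eq_zero_iff_mem.2 (hI' ▸ Ideal.mem_map_of_mem _ ha)
  have h3 : pi I z = LinearMap.rTensor ↥J f.toLinearMap (LinearMap.rTensor ↥J g z) := by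
    rw [← LinearMap.rTensor_comp_apply]
    rfl
  rw [h3, h2, map_zero]

theorem mu_tmul_eq_zero (hJ2 : ∀ a ∈ J, ∀ b ∈ J, a * b = 0) (w : A' ⊗[C'] ↥J) (j : J) :
    mu w ⊗ₜ[C'] j = 0 := by
  induction w using TensorProduct.induction_on with
  | zero => simp [mu_zero]
  | tmul x i =>
    rw [mu_tmul, TensorProduct.smul_tmul,
      show (i : C') • j = 0 from Subtype.ext (by simpa using hJ2 _ i.2 _ j.2), TensorProduct.tmul_zero]
  | add x y hx hy => rw [mu_add, TensorProduct.add_tmul, hx, hy, add_zero]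

theorem exists_decomp (K : Ideal A') (hK : K.map (Ideal.Quotient.mk (J.map (algebraMap C' A'))) = I) {a : A'} (ha : (Ideal.Quotient.mk (J.map (algebraMap C' A'))) a ∈ I) :
    ∃ y ∈ K, ∃ w : A' ⊗[C'] ↥J, a = y + mu w := by
  rw [← hK, Ideal.mem_map_iff_of_surjective _ Ideal.Quotient.mk_surjective] at ha
  obtain ⟨y, hy, hya⟩ := ha
  obtain ⟨w, hw⟩ := mem_range_mu (J := J) (a := a - y) (by rw [map_sub, hya, sub_self])
  exact ⟨y, hy, w, by rw [hw]; ring⟩

/-- The kernel of `pi` is spanned by `y ⊗ j` with `y` in any lift. -/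
theorem apply_eq_zero_of_pi_eq_zero (hJ2 : ∀ a ∈ J, ∀ b ∈ J, a * b = 0) (K : Ideal A')
    (hK : K.map (Ideal.Quotient.mk (J.map (algebraMap C' A'))) = I) {P : Type*} [AddCommGroup P] [Module C' P] (f : A' ⊗[C'] ↥J →ₗ[C'] P)
    (hf : ∀ y ∈ K, ∀ j : J, f (y ⊗ₜ j) = 0) {z : A' ⊗[C'] ↥J} (hz : pi I z = 0) : f z = 0 := by
  let π := (IsScalarTower.toAlgHom C' A' ((A' ⧸ J.map (algebraMap C' A')) ⧸ I)).toLinearMap
  have hπ : Function.Surjective π := fun b => by
    obtain ⟨b, rfl⟩ := Ideal.Quotient.mk_surjective b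
    obtain ⟨b, rfl⟩ := Ideal.Quotient.mk_surjective b
    exact ⟨b, rfl⟩
  obtain ⟨t, rfl⟩ := (rTensor_exact (↥J) π.exact_subtype_ker_map hπ z).1 hz
  clear hz
  induction t using TensorProduct.induction_on with
  | zero => simp
  | tmul a j =>
    have ha : (Ideal.Quotient.mk (J.map (algebraMap C' A'))) (a : A') ∈ I := Ideal.Quotient.eq_zero_iff_mem.1 (a.2 : π (a : A') = 0)
    obtain ⟨y, hy, w, hw⟩ := exists_decomp I K hK ha
    rw [LinearMap.rTensor_tmul, Submodule.coe_subtype, hw, TensorProduct.add_tmul,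
      mu_tmul_eq_zero hJ2, add_zero, hf y hy j]
  | add x y hx hy => rw [map_add, map_add, hx, hy, add_zero]

theorem mu_mem_of_pi_eq_zero (hJ2 : ∀ a ∈ J, ∀ b ∈ J, a * b = 0) (K : Ideal A')
    (hK : K.map (Ideal.Quotient.mk (J.map (algebraMap C' A'))) = I) {z : A' ⊗[C'] ↥J} (hz : pi I z = 0) : mu z ∈ K := by
  rw [← Ideal.Quotient.eq_zero_iff_mem]
  exact apply_eq_zero_of_pi_eq_zero I hJ2 K hK
    ((Ideal.Quotient.mkₐ C' K).toLinearMap ∘ₗ (TensorProduct.rid C' A').toLinearMap ∘ₗ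
      LinearMap.lTensor A' J.subtype)
    (fun y hy j => by
      simp [Algebra.smul_def, Ideal.Quotient.eq_zero_iff_mem.2 hy]) hz

section diff

variable [Module.Flat C' A'] (I' I'' : Ideal A') [Module.Flat C' (A' ⧸ I')]
  [Module.Flat C' (A' ⧸ I'')] (hI' : I'.map (Ideal.Quotient.mk (J.map (algebraMap C' A'))) = I) (hI'' : I''.map (Ideal.Quotient.mk (J.map (algebraMap C' A'))) = I)

include hI' hI''

theorem diff_wd {x' y' x'' y'' : A'} (hx' : x' ∈ I') (hy' : y' ∈ I') (hx'' : x'' ∈ I'')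
    (hy'' : y'' ∈ I'') (hxy : (Ideal.Quotient.mk (J.map (algebraMap C' A'))) x' = (Ideal.Quotient.mk (J.map (algebraMap C' A'))) y') (hx : (Ideal.Quotient.mk (J.map (algebraMap C' A'))) x' = (Ideal.Quotient.mk (J.map (algebraMap C' A'))) x'') (hy : (Ideal.Quotient.mk (J.map (algebraMap C' A'))) y' = (Ideal.Quotient.mk (J.map (algebraMap C' A'))) y'')
    {z w : A' ⊗[C'] ↥J} (hz : mu z = x'' - x') (hw : mu w = y'' - y') : pi I z = pi I w := by
  obtain ⟨a, ha⟩ := mem_range_mu (J := J) (a := y' - x') (by rw [map_sub, hxy, sub_self])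
  obtain ⟨b, hb⟩ := mem_range_mu (J := J) (a := y'' - x'')
    (by rw [map_sub, ← hx, hxy, hy, sub_self])
  have h : w = z + b - a := mu_injective (by rw [mu_sub, mu_add, hz, hw, ha, hb]; ring)
  have h1 : pi I a = 0 := pi_eq_zero_of_mem I I' hI' (by rw [ha]; exact sub_mem hy' hx')
  have h2 : pi I b = 0 := pi_eq_zero_of_mem I I'' hI'' (by rw [hb]; exact sub_mem hy'' hx'')
  rw [h]
  simp only [pi, map_sub, map_add] at h1 h2 ⊢
  rw [h1, h2]
  simp

theorem existsUnique_diff :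
    ∃! φ : ↥I →ₗ[A'] (((A' ⧸ J.map (algebraMap C' A')) ⧸ I) ⊗[C'] ↥J),
      ∀ (x : (A' ⧸ J.map (algebraMap C' A'))) (hx : x ∈ I) (x' x'' : A'), x' ∈ I' → x'' ∈ I'' →
        (Ideal.Quotient.mk (J.map (algebraMap C' A'))) x' = x → (Ideal.Quotient.mk (J.map (algebraMap C' A'))) x'' = x → ∀ z : A' ⊗[C'] ↥J, mu z = x'' - x' → pi I z = φ ⟨x, hx⟩ := by
  have hch : ∀ x : I, ∃ x' ∈ I', ∃ x'' ∈ I'', (Ideal.Quotient.mk (J.map (algebraMap C' A'))) x' = (x : A' ⧸ J.map (algebraMap C' A')) ∧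
      (Ideal.Quotient.mk (J.map (algebraMap C' A'))) x'' = (x : A' ⧸ J.map (algebraMap C' A')) ∧ ∃ z : A' ⊗[C'] ↥J, mu z = x'' - x' := by
    intro x
    obtain ⟨a, ha, ha'⟩ := (Ideal.mem_map_iff_of_surjective _ Ideal.Quotient.mk_surjective).1
      (hI' ▸ x.2 : (x : A' ⧸ J.map (algebraMap C' A')) ∈ I'.map (Ideal.Quotient.mk (J.map (algebraMap C' A'))))
    obtain ⟨b, hb, hb'⟩ := (Ideal.mem_map_iff_of_surjective _ Ideal.Quotient.mk_surjective).1
      (hI'' ▸ x.2 : (x : A' ⧸ J.map (algebraMap C' A')) ∈ I''.map (Ideal.Quotient.mk (J.map (algebraMap C' A'))))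
    exact ⟨a, ha, b, hb, ha', hb', mem_range_mu (by rw [map_sub, ha', hb', sub_self])⟩
  choose l' hl' l'' hl'' e' e'' Z hZ using hch
  have key : ∀ (x : I) (x' x'' : A') (z : A' ⊗[C'] ↥J), x' ∈ I' → x'' ∈ I'' →
      (Ideal.Quotient.mk (J.map (algebraMap C' A'))) x' = (x : A' ⧸ J.map (algebraMap C' A')) → (Ideal.Quotient.mk (J.map (algebraMap C' A'))) x'' = (x : A' ⧸ J.map (algebraMap C' A')) →
      mu z = x'' - x' → pi I z = pi I (Z x) :=
    fun x x' x'' z h1 h2 h3 h4 h5 => diff_wd I I' I'' hI' hI'' h1 (hl' x) h2 (hl'' x)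
      (h3.trans (e' x).symm) (h3.trans h4.symm) ((e' x).trans (e'' x).symm) h5 (hZ x)
  let φ : ↥I →ₗ[A'] (((A' ⧸ J.map (algebraMap C' A')) ⧸ I) ⊗[C'] ↥J) :=
    { toFun := fun x => pi I (Z x)
      map_add' := fun x y => by
        rw [← key (x + y) (l' x + l' y) (l'' x + l'' y) (Z x + Z y)
          (add_mem (hl' x) (hl' y)) (add_mem (hl'' x) (hl'' y)) (by simp [e']) (by simp [e''])
          (by rw [mu_add, hZ, hZ]; ring)]
        exact map_add _ _ _
      map_smul' := fun a x => by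
        rw [← key (a • x) (a * l' x) (a * l'' x) (a • Z x)
          (I'.mul_mem_left a (hl' x)) (I''.mul_mem_left a (hl'' x))
          (by simp [e', Algebra.smul_def]) (by simp [e'', Algebra.smul_def])
          (by rw [mu_smul, hZ]; ring), pi_smul]
        rfl }
  refine ⟨φ, fun x hx x' x'' h1 h2 h3 h4 z h5 => key ⟨x, hx⟩ x' x'' z h1 h2 h3 h4 h5, ?_⟩
  intro ψ hψ
  ext x
  exact (hψ x.1 x.2 (l' x) (l'' x) (hl' x) (hl'' x) (e' x) (e'' x) (Z x) (hZ x)).symm

end diff

section translate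

variable [Module.Flat C' A'] (I' : Ideal A') [Module.Flat C' (A' ⧸ I')] (hI' : I'.map (Ideal.Quotient.mk (J.map (algebraMap C' A'))) = I)
  (φ : ↥I →ₗ[A'] (((A' ⧸ J.map (algebraMap C' A')) ⧸ I) ⊗[C'] ↥J))

/-- The translate of the lift `I'` by `φ`. -/
def translate : Ideal A' where
  carrier := {y | ∃ x' ∈ I', ∃ (h : (Ideal.Quotient.mk (J.map (algebraMap C' A'))) x' ∈ I) (z : A' ⊗[C'] ↥J),
    pi I z = φ ⟨(Ideal.Quotient.mk (J.map (algebraMap C' A'))) x', h⟩ ∧ y = x' + mu z}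
  add_mem' := by
    rintro _ _ ⟨x, hx, h, z, hz, rfl⟩ ⟨x1, hx1, h1, z1, hz1, rfl⟩
    have h2 : (Ideal.Quotient.mk (J.map (algebraMap C' A'))) (x + x1) ∈ I := by rw [map_add]; exact add_mem h h1
    refine ⟨x + x1, add_mem hx hx1, h2, z + z1, ?_, ?_⟩
    · have e : (⟨(Ideal.Quotient.mk (J.map (algebraMap C' A'))) (x + x1), h2⟩ : I) = ⟨(Ideal.Quotient.mk (J.map (algebraMap C' A'))) x, h⟩ + ⟨(Ideal.Quotient.mk (J.map (algebraMap C' A'))) x1, h1⟩ := Subtype.ext (map_add (Ideal.Quotient.mk (J.map (algebraMap C' A'))) x x1)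
      rw [e, map_add, ← hz, ← hz1]
      exact map_add _ _ _
    · rw [mu_add]; ring
  zero_mem' := by
    refine ⟨0, zero_mem _, by simp, 0, ?_, by simp [mu_zero]⟩
    have e : (⟨(Ideal.Quotient.mk (J.map (algebraMap C' A'))) 0, by simp⟩ : I) = 0 := Subtype.ext (map_zero (Ideal.Quotient.mk (J.map (algebraMap C' A'))))
    rw [e, map_zero]
    exact map_zero _
  smul_mem' := by
    rintro a _ ⟨x, hx, h, z, hz, rfl⟩
    have h2 : (Ideal.Quotient.mk (J.map (algebraMap C' A'))) (a * x) ∈ I := by rw [map_mul]; exact I.mul_mem_left _ h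
    refine ⟨a * x, I'.mul_mem_left a hx, h2, a • z, ?_, ?_⟩
    · have e : (⟨(Ideal.Quotient.mk (J.map (algebraMap C' A'))) (a * x), h2⟩ : I) = a • ⟨(Ideal.Quotient.mk (J.map (algebraMap C' A'))) x, h⟩ :=
        Subtype.ext (by simp [Algebra.smul_def])
      rw [e, map_smul, ← hz, pi_smul]
    · rw [smul_eq_mul, mu_smul]; ring

include hI'

omit [Module.Flat C' A'] [Module.Flat C' (A' ⧸ I')] in
theorem map_translate : (translate I I' φ).map (Ideal.Quotient.mk (J.map (algebraMap C' A'))) = I := by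
  apply le_antisymm
  · rw [Ideal.map_le_iff_le_comap]
    rintro _ ⟨x, -, h, z, -, rfl⟩
    rw [Ideal.mem_comap, map_add, q_mu, add_zero]
    exact h
  · intro x hx
    obtain ⟨a, ha, rfl⟩ := (Ideal.mem_map_iff_of_surjective (Ideal.Quotient.mk (J.map (algebraMap C' A'))) Ideal.Quotient.mk_surjective).1
      (hI'.symm ▸ hx : x ∈ I'.map (Ideal.Quotient.mk (J.map (algebraMap C' A'))))
    have h : (Ideal.Quotient.mk (J.map (algebraMap C' A'))) a ∈ I := hI' ▸ Ideal.mem_map_of_mem _ ha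
    obtain ⟨z, hz⟩ := pi_surjective I (φ ⟨(Ideal.Quotient.mk (J.map (algebraMap C' A'))) a, h⟩)
    have hm : a + mu z ∈ translate I I' φ := ⟨a, ha, h, z, hz, rfl⟩
    have := Ideal.mem_map_of_mem (Ideal.Quotient.mk (J.map (algebraMap C' A'))) hm
    rwa [map_add, q_mu, add_zero] at this

theorem translate_prop (x : A' ⧸ J.map (algebraMap C' A')) (hx : x ∈ I) (x' x'' : A')
    (h1 : x' ∈ I') (h2 : x'' ∈ translate I I' φ) (h3 : (Ideal.Quotient.mk (J.map (algebraMap C' A'))) x' = x) (h4 : (Ideal.Quotient.mk (J.map (algebraMap C' A'))) x'' = x)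
    (z : A' ⊗[C'] ↥J) (h5 : mu z = x'' - x') : pi I z = φ ⟨x, hx⟩ := by
  obtain ⟨a, ha, h, w, hw, rfl⟩ := h2
  rw [map_add, q_mu, add_zero] at h4
  obtain ⟨t, ht⟩ := mem_range_mu (J := J) (a := a - x') (by rw [map_sub, h3, h4, sub_self])
  have e : z = t + w := mu_injective (by rw [h5, mu_add, ht]; ring)
  have ht0 : pi I t = 0 := pi_eq_zero_of_mem I I' hI' (by rw [ht]; exact sub_mem ha h1)
  have e2 : (⟨x, hx⟩ : I) = ⟨(Ideal.Quotient.mk (J.map (algebraMap C' A'))) a, h⟩ := Subtype.ext h4.symm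
  rw [e, e2, ← hw]
  simp only [pi, map_add] at ht0 ⊢
  rw [ht0, zero_add]

theorem flat_translate [Module.Flat (C' ⧸ J) ((A' ⧸ J.map (algebraMap C' A')) ⧸ I)]
    (hJ2 : ∀ a ∈ J, ∀ b ∈ J, a * b = 0) : Module.Flat C' (A' ⧸ translate I I' φ) := by
  let K := translate I I' φ
  have hK : K.map (Ideal.Quotient.mk (J.map (algebraMap C' A'))) = I := map_translate I I' hI' φ
  let h : (A' ⧸ K) →ₗ[C'] ((A' ⧸ J.map (algebraMap C' A')) ⧸ I) :=
    (Ideal.Quotient.liftₐ K
      (IsScalarTower.toAlgHom C' A' ((A' ⧸ J.map (algebraMap C' A')) ⧸ I)) fun a ha => by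
        show Ideal.Quotient.mk I ((Ideal.Quotient.mk (J.map (algebraMap C' A'))) a) = 0
        exact Ideal.Quotient.eq_zero_iff_mem.2 (hK ▸ Ideal.mem_map_of_mem _ ha)).toLinearMap
  have hone : ∀ t : (C' ⧸ J) ⊗[C'] (A' ⧸ K), ∃ m, t = 1 ⊗ₜ[C'] m := by
    intro t
    induction t using TensorProduct.induction_on with
    | zero => exact ⟨0, by simp⟩
    | tmul c m =>
      obtain ⟨c, rfl⟩ := Ideal.Quotient.mk_surjective c
      refine ⟨c • m, ?_⟩
      rw [← TensorProduct.smul_tmul, Algebra.smul_def, mul_one]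
      rfl
    | add a b ha hb =>
      obtain ⟨m, rfl⟩ := ha
      obtain ⟨m', rfl⟩ := hb
      exact ⟨m + m', by rw [TensorProduct.tmul_add]⟩
  let g := h.liftBaseChange (C' ⧸ J)
  have hg : Function.Bijective g := by
    constructor
    · rw [injective_iff_map_eq_zero]
      intro t ht
      obtain ⟨m, rfl⟩ := hone t
      obtain ⟨a, rfl⟩ := Ideal.Quotient.mk_surjective m
      rw [LinearMap.liftBaseChange_tmul, one_smul] at ht
      obtain ⟨y, hy, w, rfl⟩ := exists_decomp I K hK (a := a)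
        (Ideal.Quotient.eq_zero_iff_mem.1 (ht : Ideal.Quotient.mk I ((Ideal.Quotient.mk (J.map (algebraMap C' A'))) a) = 0))
      rw [map_add, Ideal.Quotient.eq_zero_iff_mem.2 hy, zero_add]
      clear ht hy
      induction w using TensorProduct.induction_on with
      | zero => simp [mu_zero]
      | tmul x j =>
        rw [mu_tmul, show Ideal.Quotient.mk K ((j : C') • x) = (j : C') • Ideal.Quotient.mk K x
          from map_smul (Ideal.Quotient.mkₐ C' K) _ _, ← TensorProduct.smul_tmul,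
          Algebra.smul_def, mul_one, Ideal.Quotient.algebraMap_eq,
          Ideal.Quotient.eq_zero_iff_mem.2 j.2, TensorProduct.zero_tmul]
      | add u v hu hv => rw [mu_add, map_add, TensorProduct.tmul_add, hu, hv, add_zero]
    · intro b
      obtain ⟨b, rfl⟩ := Ideal.Quotient.mk_surjective b
      obtain ⟨b, rfl⟩ := Ideal.Quotient.mk_surjective b
      exact ⟨1 ⊗ₜ Ideal.Quotient.mk K b, by rw [LinearMap.liftBaseChange_tmul, one_smul]; rfl⟩
  have : Module.Flat (C' ⧸ J) ((C' ⧸ J) ⊗[C'] (A' ⧸ K)) :=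
    Module.Flat.of_linearEquiv (LinearEquiv.ofBijective g hg)
  refine Flat.SqZero.flat_of_sq_zero J ?_ (A' ⧸ K) ?_
  · rw [pow_two, eq_bot_iff, Ideal.mul_le]
    exact fun a ha b hb => by rw [Ideal.mem_bot, hJ2 a ha b hb]
  · rw [injective_iff_map_eq_zero]
    intro t ht
    let g1 := (Ideal.Quotient.mkₐ C' K).toLinearMap
    let e : A' ⊗[C'] ↥J →ₗ[C'] ↥J ⊗[C'] (A' ⧸ K) :=
      (TensorProduct.comm C' (A' ⧸ K) ↥J).toLinearMap ∘ₗ LinearMap.rTensor ↥J g1
    have he : Function.Surjective e := (TensorProduct.comm C' (A' ⧸ K) ↥J).surjective.comp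
      (LinearMap.rTensor_surjective _ Ideal.Quotient.mk_surjective)
    obtain ⟨z, rfl⟩ := he t
    have h1 : ∀ z, TensorProduct.lid C' (A' ⧸ K) (J.subtype.rTensor (A' ⧸ K) (e z)) =
        g1 (mu z) := by
      intro z
      induction z using TensorProduct.induction_on with
      | zero => simp [mu_zero]
      | tmul x j => simp [e, g1, mu_tmul, Algebra.smul_def]
      | add x y hx hy => simp only [map_add, hx, hy, mu_add]
    have h2 : mu z ∈ K := by
      rw [← Ideal.Quotient.eq_zero_iff_mem]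
      show g1 (mu z) = 0
      rw [← h1, ht, map_zero]
    obtain ⟨x, hx, hxI, w, hw, hzw⟩ := h2
    have hx0 : (Ideal.Quotient.mk (J.map (algebraMap C' A'))) x = 0 := by
      have := congrArg (Ideal.Quotient.mk (J.map (algebraMap C' A'))) hzw
      rwa [q_mu, map_add, q_mu, add_zero, eq_comm] at this
    have hw0 : pi I w = 0 := by
      rw [hw, show (⟨(Ideal.Quotient.mk (J.map (algebraMap C' A'))) x, hxI⟩ : I) = 0 from Subtype.ext hx0, map_zero]
    have hzw0 : pi I (z - w) = 0 := pi_eq_zero_of_mem I I' hI'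
      (by rw [mu_sub, hzw]; simpa using hx)
    have hz0 : pi I z = 0 := by
      simp only [pi, map_sub] at hzw0 hw0 ⊢
      rwa [hw0, sub_zero] at hzw0
    exact apply_eq_zero_of_pi_eq_zero I hJ2 K hK e
      (fun y hy j => by simp [e, g1, Ideal.Quotient.eq_zero_iff_mem.2 hy]) hz0

theorem existsUnique_translate [Module.Flat (C' ⧸ J) ((A' ⧸ J.map (algebraMap C' A')) ⧸ I)]
    (hJ2 : ∀ a ∈ J, ∀ b ∈ J, a * b = 0) :
    ∃! I'' : Ideal A', Module.Flat C' (A' ⧸ I'') ∧ I''.map (Ideal.Quotient.mk (J.map (algebraMap C' A'))) = I ∧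
      ∀ (x : (A' ⧸ J.map (algebraMap C' A'))) (hx : x ∈ I) (x' x'' : A'), x' ∈ I' → x'' ∈ I'' →
        (Ideal.Quotient.mk (J.map (algebraMap C' A'))) x' = x → (Ideal.Quotient.mk (J.map (algebraMap C' A'))) x'' = x → ∀ z : A' ⊗[C'] ↥J, mu z = x'' - x' → pi I z = φ ⟨x, hx⟩ := by
  refine ⟨translate I I' φ, ⟨flat_translate I I' hI' φ hJ2, map_translate I I' hI' φ,
    translate_prop I I' hI' φ⟩, ?_⟩
  rintro K ⟨-, hK, hP⟩
  apply le_antisymm
  · intro y hy
    have h : (Ideal.Quotient.mk (J.map (algebraMap C' A'))) y ∈ I := hK ▸ Ideal.mem_map_of_mem _ hy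
    obtain ⟨a, ha, ha'⟩ := (Ideal.mem_map_iff_of_surjective _ Ideal.Quotient.mk_surjective).1
      (hI' ▸ h : (Ideal.Quotient.mk (J.map (algebraMap C' A'))) y ∈ I'.map (Ideal.Quotient.mk (J.map (algebraMap C' A'))))
    obtain ⟨z, hz⟩ := mem_range_mu (J := J) (a := y - a) (by rw [map_sub, ha', sub_self])
    refine ⟨a, ha, ha' ▸ h, z, ?_, by rw [hz]; ring⟩
    rw [hP ((Ideal.Quotient.mk (J.map (algebraMap C' A'))) y) h a y ha hy ha' rfl z hz]
    exact congrArg φ (Subtype.ext ha'.symm)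
  · rintro _ ⟨a, ha, h, z, hz, rfl⟩
    obtain ⟨b, hb, hb'⟩ := (Ideal.mem_map_iff_of_surjective _ Ideal.Quotient.mk_surjective).1
      (hK ▸ h : (Ideal.Quotient.mk (J.map (algebraMap C' A'))) a ∈ K.map (Ideal.Quotient.mk (J.map (algebraMap C' A'))))
    obtain ⟨w, hw⟩ := mem_range_mu (J := J) (a := b - a) (by rw [map_sub, hb', sub_self])
    have hzw : pi I (z - w) = 0 := by
      have hw' := hP ((Ideal.Quotient.mk (J.map (algebraMap C' A'))) a) h a b ha hb rfl hb' w hw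
      simp only [pi, map_sub] at hz hw' ⊢
      rw [hz, hw', sub_self]
    have hm := mu_mem_of_pi_eq_zero I hJ2 K hK hzw
    rw [mu_sub, hw] at hm
    have := add_mem hm hb
    convert this using 1
    ring

end translate

end Groth.Agent.Misc9.LiftTorsor
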