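import Mathlib
universe u
open CategoryTheory MonoidalCategory TensorProduct
namespace Groth.Agent.Misc9.LinFunctor

variable (K : Type u) [Field K] (L : FGModuleCat.{u} K ⥤ ModuleCat.{u} K) [L.Additive] [Functor.Linear K L]

noncomputable def fv (V : FGModuleCat.{u} K) : V.obj →ₗ[K] (FGModuleCat.of K K ⟶ V) where
  toFun v := FGModuleCat.ofHom (LinearMap.toSpanSingleton K V.obj v)
  map_add' v w := FGModuleCat.hom_ext (LinearMap.ext fun c => smul_add c v w)
  map_smul' r v := FGModuleCat.hom_ext (LinearMap.ext fun c => smul_comm c r v)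

noncomputable def compMap (V : FGModuleCat.{u} K) :
    (L.obj (FGModuleCat.of K K)) ⊗[K] V.obj →ₗ[K] L.obj V :=
  TensorProduct.lift ((ModuleCat.homLinearEquiv (S := K)).toLinearMap.comp ((L.mapLinearMap K).comp (fv K V))).flip

theorem compMap_tmul (V : FGModuleCat.{u} K) (x : L.obj (FGModuleCat.of K K)) (v : V.obj) :
    compMap K L V (x ⊗ₜ v) = L.map (fv K V v) x := rfl

theorem nonempty_iso :
    Nonempty (L ≅ (ModuleCat.isFG.{u} K).ι ⋙ MonoidalCategory.tensorLeft (L.obj (FGModuleCat.of K K))) := by
  classical
  have hbij : ∀ V, Function.Bijective (compMap K L V) := by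
    intro V
    let b := Module.finBasis K V.obj
    let c : Fin (Module.finrank K V.obj) → (V ⟶ FGModuleCat.of K K) := fun i => FGModuleCat.ofHom (b.coord i)
    let inv : L.obj V →ₗ[K] (L.obj (FGModuleCat.of K K)) ⊗[K] V.obj :=
      ∑ i, ((TensorProduct.mk K _ _).flip (b i)).comp (L.map (c i)).hom
    have h1 : ∀ y, compMap K L V (inv y) = y := by
      intro y
      simp only [inv, LinearMap.sum_apply, map_sum, LinearMap.comp_apply, LinearMap.flip_apply, TensorProduct.mk_apply,
        compMap_tmul]
      simp only [← ModuleCat.comp_apply, ← L.map_comp]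
      rw [← LinearMap.sum_apply, ← ModuleCat.hom_sum, ← L.map_sum]
      have : ∑ i, c i ≫ fv K V (b i) = 𝟙 V := by
        refine FGModuleCat.hom_ext (LinearMap.ext fun v => ?_)
        change ((∑ i, c i ≫ fv K V (b i)).hom).hom v = v
        rw [show (∑ i, c i ≫ fv K V (b i)).hom = ∑ i, (c i ≫ fv K V (b i)).hom from map_sum (AddMonoidHom.mk' (fun f : V ⟶ V => f.hom) fun _ _ => rfl) _ _, ModuleCat.hom_sum, LinearMap.sum_apply]
        exact b.sum_repr v
      rw [this, L.map_id]
      rfl
    refine ⟨fun a a' e => ?_, fun y => ⟨inv y, h1 y⟩⟩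
    have h2 : ∀ a, inv (compMap K L V a) = a := by
      intro a
      induction a using TensorProduct.induction_on with
      | zero => simp
      | add x y hx hy => rw [map_add, map_add, hx, hy]
      | tmul x v =>
        simp only [inv, compMap_tmul, LinearMap.sum_apply, LinearMap.comp_apply, LinearMap.flip_apply, TensorProduct.mk_apply]
        have : ∀ i, L.map (fv K V v ≫ c i) x = b.coord i v • x := by
          intro i
          have h : fv K V v ≫ c i = b.coord i v • 𝟙 _ := by
            refine FGModuleCat.hom_ext (LinearMap.ext_ring ?_)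
            change b.coord i ((1 : K) • v) = b.coord i v • (1 : K)
            rw [one_smul, smul_eq_mul, mul_one]
          rw [h, L.map_smul, L.map_id]
          rfl
        simp only [L.map_comp, ModuleCat.comp_apply] at this
        simp only [this, TensorProduct.smul_tmul, ← TensorProduct.tmul_sum]
        exact congrArg _ (b.sum_repr v)
    rw [← h2 a, e, h2 a']
  refine ⟨(NatIso.ofComponents (fun V => (LinearEquiv.ofBijective (compMap K L V) (hbij V)).toModuleIso) ?_).symm⟩
  intro V W g
  refine ModuleCat.hom_ext (TensorProduct.ext' fun x v => ?_)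
  change compMap K L W (x ⊗ₜ g.hom v) = L.map g (compMap K L V (x ⊗ₜ v))
  rw [compMap_tmul, compMap_tmul, ← ModuleCat.comp_apply, ← L.map_comp]
  have : fv K W (g.hom v) = fv K V v ≫ g := FGModuleCat.hom_ext (LinearMap.ext fun c => (g.hom.hom.map_smul c v).symm)
  exact congrArg (fun t => L.map t x) this

end Groth.Agent.Misc9.LinFunctor
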