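import Mathlib.RingTheory.Localization.AtPrime.Basic
import Mathlib.RingTheory.Localization.Away.Basic
import Mathlib.RingTheory.FinitePresentation
import Mathlib.RingTheory.RingHom.FinitePresentation
import Mathlib.RingTheory.RingHom.FiniteType
import Mathlib.Tactic.LinearCombination
import Mathlib.Tactic.Ring

/-! Spreading out surjectivity / bijectivity of a map of local rings. -/

set_option autoImplicit false
universe u
namespace Groth.Agent.Misc9.LocIsoAlg

variable {A B Ay Bx : Type u} [CommRing A] [CommRing B] [Algebra A B] [CommRing Ay] [CommRing Bx]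
  [Algebra A Ay] [Algebra B Bx] (p : Ideal A) [p.IsPrime] (q : Ideal B) [q.IsPrime]
  [IsLocalization.AtPrime Ay p] [IsLocalization.AtPrime Bx q]
  (s : Ay →+* Bx) [IsLocalHom s]
  (hs : ∀ a, s (algebraMap A Ay a) = algebraMap B Bx (algebraMap A B a))

/-- the induced map on localizations -/
def IsSurj (α : A) (β : B) : Prop :=
  ∀ (A' B' : Type u) [CommRing A'] [CommRing B'] [Algebra A A'] [Algebra B B']
    [IsLocalization.Away α A'] [IsLocalization.Away β B'] (ψ : A' →+* B'),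
    (∀ a, ψ (algebraMap A A' a) = algebraMap B B' (algebraMap A B a)) → Function.Surjective ψ

def IsInj (α : A) (β : B) : Prop :=
  ∀ a : A, (∃ m : ℕ, β ^ m * algebraMap A B a = 0) → ∃ n : ℕ, α ^ n * a = 0

include p q hs in
theorem exists_isSurj [Algebra.FiniteType A B] (hsurj : Function.Surjective s) (s₀ : A) (hs₀ : s₀ ∉ p) :
    ∃ (α : A) (β : B), α ∉ p ∧ β ∉ q ∧ s₀ ∣ α ∧ (∃ N, algebraMap A B α ∣ β ^ N) ∧ IsSurj α β := by
  classical
  have hq : ∀ a, a ∉ p → algebraMap A B a ∉ q := fun a ha => by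
    have := ((IsLocalization.AtPrime.isUnit_to_map_iff Ay p a).mpr ha).map s
    rw [hs] at this
    exact (IsLocalization.AtPrime.isUnit_to_map_iff Bx q _).mp this
  have hp : ∀ a, algebraMap A B a ∉ q → a ∉ p := fun a ha => by
    have := (IsLocalization.AtPrime.isUnit_to_map_iff Bx q _).mpr ha
    rw [← hs] at this
    exact (IsLocalization.AtPrime.isUnit_to_map_iff Ay p a).mp (IsLocalHom.map_nonunit _ this)
  have hmul : ∀ {W : Type u} [CommRing W] (I : Ideal W) [I.IsPrime] {x y : W}, x ∉ I → y ∉ I → x * y ∉ I :=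
    fun I _ _ _ hx hy h => (Ideal.IsPrime.mem_or_mem inferInstance h).elim hx hy
  have hb : ∀ b : B, ∃ (a t : A) (c : B), t ∉ p ∧ c ∉ q ∧ c * (algebraMap A B t * b - algebraMap A B a) = 0 := by
    intro b
    obtain ⟨z, hz⟩ := hsurj (algebraMap B Bx b)
    obtain ⟨a, t, rfl⟩ := IsLocalization.exists_mk'_eq p.primeCompl z
    have h1 : algebraMap B Bx (algebraMap A B t * b) = algebraMap B Bx (algebraMap A B a) := by
      rw [map_mul, ← hz, ← hs, ← hs, ← map_mul, IsLocalization.mk'_spec']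
    obtain ⟨⟨c, hc⟩, hce⟩ := (IsLocalization.eq_iff_exists q.primeCompl Bx).mp h1
    exact ⟨a, t, c, t.2, hc, by rw [mul_sub, sub_eq_zero]; exact hce⟩
  choose a t c ht hc hct using hb
  obtain ⟨G, hG⟩ := Algebra.FiniteType.out (R := A) (A := B)
  let S₁ := s₀ * ∏ b ∈ G, t b
  let C := ∏ b ∈ G, c b
  have hS₁ : S₁ ∉ p := hmul p hs₀ fun h => by
    obtain ⟨b, _, hb⟩ := Ideal.IsPrime.prod_mem_iff.mp h
    exact ht b hb
  have hC : C ∉ q := fun h => by
    obtain ⟨b, _, hb⟩ := Ideal.IsPrime.prod_mem_iff.mp h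
    exact hc b hb
  have hgen : ∀ b : B, ∃ (a' : A) (n m : ℕ), C ^ m * (algebraMap A B S₁ ^ n * b - algebraMap A B a') = 0 := by
    intro b
    have hb : b ∈ Algebra.adjoin A (G : Set B) := hG ▸ Algebra.mem_top
    induction hb using Algebra.adjoin_induction with
    | mem y hy =>
      obtain ⟨w, hw⟩ : t y ∣ S₁ := dvd_mul_of_dvd_right (Finset.dvd_prod_of_mem t hy) _
      obtain ⟨d, hd⟩ : c y ∣ C := Finset.dvd_prod_of_mem c hy
      refine ⟨a y * w, 1, 1, ?_⟩
      rw [pow_one, pow_one, hw, hd, map_mul, map_mul]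
      linear_combination (d * algebraMap A B w) * hct y
    | algebraMap r => exact ⟨r, 0, 0, by simp⟩
    | add y z _ _ hy hz =>
      obtain ⟨a₁, n₁, m₁, h₁⟩ := hy
      obtain ⟨a₂, n₂, m₂, h₂⟩ := hz
      refine ⟨a₁ * S₁ ^ n₂ + a₂ * S₁ ^ n₁, n₁ + n₂, m₁ + m₂, ?_⟩
      simp only [map_add, map_mul, map_pow] at h₁ h₂ ⊢
      rw [pow_add, pow_add]
      linear_combination (C ^ m₂ * algebraMap A B S₁ ^ n₂) * h₁ + (C ^ m₁ * algebraMap A B S₁ ^ n₁) * h₂
    | mul y z _ _ hy hz =>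
      obtain ⟨a₁, n₁, m₁, h₁⟩ := hy
      obtain ⟨a₂, n₂, m₂, h₂⟩ := hz
      refine ⟨a₁ * a₂, n₁ + n₂, m₁ + m₂, ?_⟩
      simp only [map_mul] at h₁ h₂ ⊢
      rw [pow_add, pow_add]
      linear_combination (C ^ m₂ * algebraMap A B S₁ ^ n₂ * z) * h₁ + (C ^ m₁ * algebraMap A B a₁) * h₂
  obtain ⟨γ, k, l, hγ⟩ := hgen C
  have hγp : γ ∉ p := by
    apply hp
    intro h
    have h1 : C ^ l * (algebraMap A B S₁ ^ k * C) ∈ q := by
      have : C ^ l * (algebraMap A B S₁ ^ k * C) = C ^ l * algebraMap A B γ := by linear_combination hγ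
      rw [this]; exact Ideal.mul_mem_left _ _ h
    exact hmul q (fun h' => hC (Ideal.IsPrime.mem_of_pow_mem inferInstance _ h'))
      (hmul q (fun h' => hq S₁ hS₁ (Ideal.IsPrime.mem_of_pow_mem inferInstance _ h')) hC) h1
  refine ⟨S₁ * γ, C * algebraMap A B (S₁ * γ), hmul p hS₁ hγp, hmul q hC (hq _ (hmul p hS₁ hγp)),
    dvd_mul_of_dvd_left (dvd_mul_right _ _) _, ⟨1, by rw [pow_one]; exact dvd_mul_left _ _⟩, ?_⟩
  intro A' B' _ _ _ _ _ _ ψ hψ
  let R := ψ.range
  set g := algebraMap B B'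
  have hunit : ∀ w, w ∣ C * algebraMap A B (S₁ * γ) → IsUnit (g w) := fun w hw =>
    isUnit_of_dvd_unit (map_dvd g hw) (IsLocalization.Away.algebraMap_isUnit _)
  have hinv : ∀ w : A, w ∣ S₁ * γ → ∃ z : A', ψ z * g (algebraMap A B w) = 1 := fun w hw => by
    have hu : IsUnit (algebraMap A A' w) :=
      isUnit_of_dvd_unit (map_dvd _ hw) (IsLocalization.Away.algebraMap_isUnit _)
    obtain ⟨z, hz⟩ := hu.exists_left_inv
    exact ⟨z, by rw [← hψ, ← map_mul, hz, map_one]⟩
  have hCu : IsUnit (g C) := hunit C (dvd_mul_right _ _)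
  obtain ⟨zS, hzS⟩ := hinv S₁ (dvd_mul_right _ _)
  have hmem : ∀ b : B, ∃ z, ψ z = g b := fun b => by
    obtain ⟨a', n, m, h⟩ := hgen b
    refine ⟨algebraMap A A' a' * zS ^ n, ?_⟩
    have h1 := congrArg g h
    rw [map_mul, map_zero, map_sub, map_mul, map_pow, map_pow, (hCu.pow m).mul_right_eq_zero, sub_eq_zero] at h1
    rw [map_mul, map_pow, hψ, ← h1, mul_comm, ← mul_assoc, ← mul_pow, hzS, one_pow, one_mul]
  intro b'
  obtain ⟨⟨b, _, n, rfl⟩, hb'⟩ := IsLocalization.surj (Submonoid.powers (C * algebraMap A B (S₁ * γ))) b'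
  obtain ⟨zα, hzα⟩ := hinv (S₁ * γ) dvd_rfl
  obtain ⟨zγ, hzγ⟩ := hinv γ (dvd_mul_left _ _)
  obtain ⟨z, hz⟩ := hmem b
  refine ⟨z * (zγ * algebraMap A A' S₁ ^ k * zα) ^ n, ?_⟩
  have hC1 : ψ (zγ * algebraMap A A' S₁ ^ k) * g C = 1 := by
    have h1 := congrArg g hγ
    rw [map_mul, map_zero, map_sub, map_mul, map_pow, map_pow, (hCu.pow l).mul_right_eq_zero, sub_eq_zero] at h1
    rw [map_mul, map_pow, hψ, mul_assoc, h1, hzγ]
  rw [map_mul, hz, ← hb', map_pow, map_mul]
  have h2 : g (C * algebraMap A B (S₁ * γ)) * (ψ (zγ * algebraMap A A' S₁ ^ k) * ψ zα) = 1 := by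
    rw [map_mul g]; linear_combination (g (algebraMap A B (S₁ * γ)) * ψ zα) * hC1 + hzα
  rw [← map_mul g C, map_pow ψ, map_mul ψ, mul_assoc, ← mul_pow, h2, one_pow, mul_one]

include p q hs in
theorem exists_bij_of_germ [Algebra.FiniteType A B] (hbij : Function.Bijective s) (s₀ : A) (hs₀ : s₀ ∉ p)
    (hgerm : ∀ a : A, algebraMap A Ay a = 0 → ∃ n : ℕ, s₀ ^ n * a = 0) :
    ∃ (α : A) (β : B), α ∉ p ∧ β ∉ q ∧ (∃ N, algebraMap A B α ∣ β ^ N) ∧ IsSurj α β ∧ IsInj α β := by
  obtain ⟨α, β, hα, hβ, hd, hN, hS⟩ := exists_isSurj p q s hs hbij.2 s₀ hs₀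
  refine ⟨α, β, hα, hβ, hN, hS, fun a ⟨m, hm⟩ => ?_⟩
  have h1 : algebraMap A Ay a = 0 := by
    apply hbij.1
    rw [map_zero, hs]
    have h2 := congrArg (algebraMap B Bx) hm
    rw [map_mul, map_zero, map_pow] at h2
    exact (((IsLocalization.AtPrime.isUnit_to_map_iff Bx q β).mpr hβ).pow m).mul_right_eq_zero.mp h2
  obtain ⟨n, hn⟩ := hgerm a h1
  obtain ⟨w, rfl⟩ := hd
  exact ⟨n, by rw [mul_pow, mul_assoc, mul_comm (w ^ n), ← mul_assoc, hn, zero_mul]⟩

include p q hs in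
theorem exists_bij_of_fp [Algebra.FinitePresentation A B] (hbij : Function.Bijective s) :
    ∃ (α : A) (β : B), α ∉ p ∧ β ∉ q ∧ (∃ N, algebraMap A B α ∣ β ^ N) ∧ IsSurj α β ∧ IsInj α β := by
  classical
  obtain ⟨α, β, hα, hβ, -, ⟨N, hN⟩, hS⟩ := exists_isSurj p q s hs hbij.2 1 (fun h => ‹p.IsPrime›.ne_top ((Ideal.eq_top_iff_one p).mpr h))
  let A' := Localization.Away α
  let B' := Localization.Away β
  have hu : IsUnit (algebraMap A B' α) := by
    rw [IsScalarTower.algebraMap_apply A B B']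
    exact isUnit_of_dvd_unit (map_dvd _ hN) (by rw [map_pow]; exact (IsLocalization.Away.algebraMap_isUnit β).pow N)
  let ψ : A' →+* B' := IsLocalization.Away.lift α hu
  letI : Algebra A' B' := ψ.toAlgebra
  haveI : IsScalarTower A A' B' := IsScalarTower.of_algebraMap_eq fun a => (IsLocalization.Away.lift_eq α hu a).symm
  haveI : Algebra.FinitePresentation B B' := IsLocalization.Away.finitePresentation β
  haveI : Algebra.FinitePresentation A B' := Algebra.FinitePresentation.trans A B B'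
  haveI : Algebra.FiniteType A A' := IsLocalization.finiteType_of_monoid_fg (Submonoid.powers α) A'
  haveI : Algebra.FinitePresentation A' B' := Algebra.FinitePresentation.of_restrict_scalars_finitePresentation A A' B'
  have hψ : ∀ a, ψ (algebraMap A A' a) = algebraMap B B' (algebraMap A B a) := fun a => by
    rw [IsLocalization.Away.lift_eq]; exact IsScalarTower.algebraMap_apply A B B' a
  have hsur : Function.Surjective ψ := hS A' B' ψ hψ
  obtain ⟨F, hF⟩ := Algebra.FinitePresentation.ker_fG_of_surjective (Algebra.ofId A' B') hsur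
  have hkill : ∀ z : A', ψ z = 0 → ∃ t : A, t ∉ p ∧ algebraMap A A' t * z = 0 := by
    intro z hz
    obtain ⟨a, u, rfl⟩ := IsLocalization.exists_mk'_eq (Submonoid.powers α) z
    have h1 : ψ (algebraMap A A' a) = 0 := by
      rw [← IsLocalization.mk'_spec A' a u, map_mul, hz, zero_mul]
    rw [hψ, IsLocalization.map_eq_zero_iff (Submonoid.powers β)] at h1
    obtain ⟨⟨_, m, rfl⟩, hm⟩ := h1
    have h2 : algebraMap A Ay a = 0 := by
      apply hbij.1
      rw [map_zero, hs]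
      have h3 := congrArg (algebraMap B Bx) hm
      rw [map_mul, map_zero, map_pow] at h3
      exact (((IsLocalization.AtPrime.isUnit_to_map_iff Bx q β).mpr hβ).pow m).mul_right_eq_zero.mp h3
    obtain ⟨⟨t, ht⟩, hta⟩ := (IsLocalization.map_eq_zero_iff p.primeCompl Ay a).mp h2
    refine ⟨t, ht, ?_⟩
    rw [IsLocalization.mk'_eq_mul_mk'_one a, ← mul_assoc, ← map_mul, hta, map_zero, zero_mul]
  choose! t ht htz using hkill
  let T := ∏ z ∈ F, t z
  have hFker : ∀ z ∈ F, ψ z = 0 := fun z hz => by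
    have : z ∈ RingHom.ker (Algebra.ofId A' B').toRingHom := hF ▸ Ideal.subset_span hz
    exact this
  have hT : T ∉ p := fun h => by
    obtain ⟨z, hz, hz'⟩ := Ideal.IsPrime.prod_mem_iff.mp h
    exact ht z (hFker z hz) hz'
  have hTk : ∀ z : A', ψ z = 0 → algebraMap A A' T * z = 0 := by
    intro z hz
    have hz' : z ∈ Ideal.span (F : Set A') := hF ▸ (show z ∈ RingHom.ker (Algebra.ofId A' B').toRingHom from hz)
    induction hz' using Submodule.span_induction with
    | mem y hy =>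
      obtain ⟨w, hw⟩ : t y ∣ T := Finset.dvd_prod_of_mem t hy
      rw [hw, map_mul, mul_comm (algebraMap A A' (t y)), mul_assoc, htz y (hFker y hy), mul_zero]
    | zero => rw [mul_zero]
    | add y z hy' hz'' h1 h2 =>
      rw [mul_add, h1 (show y ∈ RingHom.ker ψ from (hF ▸ hy' : y ∈ RingHom.ker (Algebra.ofId A' B').toRingHom)),
        h2 (show z ∈ RingHom.ker ψ from (hF ▸ hz'' : z ∈ RingHom.ker (Algebra.ofId A' B').toRingHom)), add_zero]
    | smul r y hy' h1 =>
      rw [smul_eq_mul, mul_left_comm,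
        h1 (show y ∈ RingHom.ker ψ from (hF ▸ hy' : y ∈ RingHom.ker (Algebra.ofId A' B').toRingHom)), mul_zero]
  have hqT : algebraMap A B T ∉ q := by
    have := ((IsLocalization.AtPrime.isUnit_to_map_iff Ay p T).mpr hT).map s
    rw [hs] at this
    exact (IsLocalization.AtPrime.isUnit_to_map_iff Bx q _).mp this
  refine ⟨α * T, β * algebraMap A B T, fun h => (‹p.IsPrime›.mem_or_mem h).elim hα hT,
    fun h => (‹q.IsPrime›.mem_or_mem h).elim hβ hqT, ⟨N + 1, ?_⟩, ?_, ?_⟩
  · rw [map_mul, pow_succ, mul_pow]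
    exact dvd_trans (mul_dvd_mul (dvd_mul_of_dvd_left hN _) dvd_rfl)
      (by rw [mul_comm β]; exact mul_dvd_mul_left _ (dvd_mul_right _ _))
  · intro A'' B'' _ _ _ _ _ _ ψ'' hψ''
    have hαu : IsUnit (algebraMap A A'' α) :=
      isUnit_of_dvd_unit (map_dvd _ (dvd_mul_right α T)) (IsLocalization.Away.algebraMap_isUnit _)
    have hβu : IsUnit (algebraMap B B'' β) :=
      isUnit_of_dvd_unit (map_dvd _ (dvd_mul_right β (algebraMap A B T))) (IsLocalization.Away.algebraMap_isUnit _)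
    have hTu : IsUnit (algebraMap A A'' T) :=
      isUnit_of_dvd_unit (map_dvd _ (dvd_mul_left T α)) (IsLocalization.Away.algebraMap_isUnit _)
    let iA : A' →+* A'' := IsLocalization.Away.lift α hαu
    let iB : B' →+* B'' := IsLocalization.Away.lift β hβu
    have hcomm : ψ''.comp iA = iB.comp ψ := IsLocalization.ringHom_ext (Submonoid.powers α) <| RingHom.ext fun a => by
      simp [iA, iB, IsLocalization.Away.lift_eq, hψ, hψ'']
    intro b''
    obtain ⟨⟨b, _, n, rfl⟩, hb⟩ := IsLocalization.surj (Submonoid.powers (β * algebraMap A B T)) b''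
    obtain ⟨z, hz⟩ := hsur (algebraMap B B' b)
    obtain ⟨w, hw⟩ := hTu.exists_left_inv
    obtain ⟨v, hv⟩ := (IsLocalization.Away.algebraMap_isUnit (S := B') β).exists_left_inv
    obtain ⟨zv, hzv⟩ := hsur v
    refine ⟨iA (z * zv ^ n) * w ^ n, ?_⟩
    rw [map_mul, map_pow, ← RingHom.comp_apply, hcomm, RingHom.comp_apply, map_mul, map_pow, hz, hzv, map_mul, map_pow]
    have e1 : iB v * algebraMap B B'' β = 1 := by
      rw [← IsLocalization.Away.lift_eq (S := B') β hβu β, ← map_mul, hv, map_one]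
    have e2 : ψ'' w * algebraMap B B'' (algebraMap A B T) = 1 := by
      rw [← hψ'', ← map_mul, hw, map_one]
    have e3 : iB (algebraMap B B' b) = algebraMap B B'' b := IsLocalization.Away.lift_eq (S := B') β hβu b
    rw [e3, ← hb, map_pow, map_mul, mul_assoc, ← mul_pow, mul_assoc, ← mul_pow]
    have e4 : algebraMap B B'' β * algebraMap B B'' (algebraMap A B T) * (iB v * ψ'' w) = 1 := by
      linear_combination (algebraMap B B'' (algebraMap A B T) * ψ'' w) * e1 + e2
    rw [e4, one_pow, mul_one]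
  · rintro a ⟨m, hm⟩
    have h1 : ψ (algebraMap A A' (T ^ m * a)) = 0 := by
      rw [hψ, IsLocalization.map_eq_zero_iff (Submonoid.powers β)]
      exact ⟨⟨β ^ m, m, rfl⟩, by rw [← hm, map_mul, map_pow]; ring⟩
    have h2 := hTk _ h1
    rw [← map_mul, IsLocalization.map_eq_zero_iff (Submonoid.powers α)] at h2
    obtain ⟨⟨_, n, rfl⟩, hn⟩ := h2
    refine ⟨n + m + 1, ?_⟩
    calc (α * T) ^ (n + m + 1) * a = α ^ (m + 1) * T ^ n * (α ^ n * (T * (T ^ m * a))) := by ring
      _ = 0 := by rw [hn, mul_zero]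

theorem bijective_of {α : A} {β : B} (hS : IsSurj α β) (hI : IsInj α β)
    (A' B' : Type u) [CommRing A'] [CommRing B'] [Algebra A A'] [Algebra B B']
    [IsLocalization.Away α A'] [IsLocalization.Away β B'] (ψ : A' →+* B')
    (hψ : ∀ a, ψ (algebraMap A A' a) = algebraMap B B' (algebraMap A B a)) : Function.Bijective ψ := by
  refine ⟨(injective_iff_map_eq_zero _).mpr fun z hz => ?_, hS A' B' ψ hψ⟩
  obtain ⟨a, u, rfl⟩ := IsLocalization.exists_mk'_eq (Submonoid.powers α) z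
  have h1 : ψ (algebraMap A A' a) = 0 := by rw [← IsLocalization.mk'_spec A' a u, map_mul, hz, zero_mul]
  rw [hψ, IsLocalization.map_eq_zero_iff (Submonoid.powers β)] at h1
  obtain ⟨⟨_, m, rfl⟩, hm⟩ := h1
  obtain ⟨n, hn⟩ := hI a ⟨m, hm⟩
  exact (IsLocalization.mk'_eq_zero_iff a u).mpr ⟨⟨_, n, rfl⟩, hn⟩

end Groth.Agent.Misc9.LocIsoAlg
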