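import Mathlib.AlgebraicGeometry.Morphisms.SchemeTheoreticallyDominant
import Mathlib.AlgebraicGeometry.Morphisms.Separated
import Mathlib.AlgebraicGeometry.Morphisms.ClosedImmersion
import Mathlib.AlgebraicGeometry.Pullbacks
import Mathlib.Algebra.Category.Ring.Constructions

/-!
Scheme-theoretically dominant morphisms: cancellation against separated targets, factorization
through closed immersions, and dominance of base changes of split injective algebra maps.
-/

universe u

set_option maxHeartbeats 400000

open CategoryTheory CategoryTheory.Limits AlgebraicGeometry TensorProduct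

namespace Groth.Agent.Misc9.SchDom

lemma isIso_of_factors {W' W Z : Scheme.{u}} (i : W' ⟶ W) [IsSchemeTheoreticallyDominant i]
    (e : Z ⟶ W) [IsClosedImmersion e] (s : W' ⟶ Z) (h : s ≫ e = i) : IsIso e := by
  rw [IsClosedImmersion.isIso_iff_ker_eq_bot, eq_bot_iff]
  calc e.ker ≤ (s ≫ e).ker := s.le_ker_comp e
    _ = ⊥ := by rw [h]; exact i.ker_eq_bot

/-- morphisms into a separated target are determined on a scheme-theoretically dominant source -/
theorem ext_of_schDom {W' W X S : Scheme.{u}} (p : X ⟶ S) [IsSeparated p] (i : W' ⟶ W)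
    [IsSchemeTheoreticallyDominant i] {f g : W ⟶ X} (w : f ≫ p = g ≫ p) (h : i ≫ f = i ≫ g) :
    f = g := by
  let e := pullback.fst (pullback.lift f g w) (pullback.diagonal p)
  have hs : i ≫ pullback.lift f g w = (i ≫ f) ≫ pullback.diagonal p := by
    apply pullback.hom_ext
    · rw [Category.assoc, pullback.lift_fst, Category.assoc, pullback.diagonal_fst, Category.comp_id]
    · rw [Category.assoc, pullback.lift_snd, Category.assoc, pullback.diagonal_snd, Category.comp_id, h]
  have : IsIso e := isIso_of_factors i e (pullback.lift i (i ≫ f) hs) (pullback.lift_fst _ _ _)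
  have hc : e ≫ pullback.lift f g w =
      pullback.snd (pullback.lift f g w) (pullback.diagonal p) ≫ pullback.diagonal p := pullback.condition
  have h1 := congrArg (· ≫ pullback.fst p p) hc
  have h2 := congrArg (· ≫ pullback.snd p p) hc
  simp only [Category.assoc, pullback.lift_fst, pullback.diagonal_fst, Category.comp_id] at h1
  simp only [Category.assoc, pullback.lift_snd, pullback.diagonal_snd, Category.comp_id] at h2
  exact (cancel_epi e).mp (h1.trans h2.symm)

/-- factorization through a closed immersion is detected on a scheme-theoretically dominant source -/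
theorem exists_lift_of_schDom {W' W X Z : Scheme.{u}} (j : Z ⟶ X) [IsClosedImmersion j]
    (i : W' ⟶ W) [IsSchemeTheoreticallyDominant i] (φ : W ⟶ X) (ψ : W' ⟶ Z) (h : ψ ≫ j = i ≫ φ) :
    ∃ l : W ⟶ Z, l ≫ j = φ := by
  let e := pullback.fst φ j
  have : IsIso e := isIso_of_factors i e (pullback.lift i ψ h.symm) (pullback.lift_fst _ _ _)
  refine ⟨inv e ≫ pullback.snd φ j, ?_⟩
  rw [Category.assoc, ← pullback.condition]
  simp [e]

/-- scheme-theoretic dominance is local on the target -/
theorem of_openCover {W' W : Scheme.{u}} (i : W' ⟶ W) (𝒰 : W.OpenCover)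
    (h : ∀ j, IsSchemeTheoreticallyDominant (pullback.snd i (𝒰.f j))) :
    IsSchemeTheoreticallyDominant i := by
  have : IsIso i.imageι := by
    apply IsZariskiLocalAtTarget.of_openCover (P := MorphismProperty.isomorphisms Scheme.{u}) 𝒰
    intro j
    have := h j
    haveI : IsClosedImmersion (pullback.snd i.imageι (𝒰.f j)) :=
      MorphismProperty.pullback_snd _ _ inferInstance
    exact isIso_of_factors (pullback.snd i (𝒰.f j)) (pullback.snd i.imageι (𝒰.f j))
      (pullback.lift (pullback.fst i (𝒰.f j) ≫ i.toImage) (pullback.snd i (𝒰.f j))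
        (by rw [Category.assoc, Scheme.Hom.toImage_imageι, pullback.condition]))
      (pullback.lift_snd _ _ _)
  refine ⟨?_⟩
  have h2 := IsClosedImmersion.isIso_iff_ker_eq_bot.mp this
  rwa [Scheme.Hom.imageι, Scheme.IdealSheafData.ker_subschemeι] at h2

lemma schDom_of_injective {A B : CommRingCat.{u}} (φ : A ⟶ B) (h : Function.Injective φ.hom) :
    IsSchemeTheoreticallyDominant (Spec.map φ) := by
  refine ⟨Scheme.IdealSheafData.ext_of_isAffine ?_⟩
  rw [(Spec.map φ).ker_apply ⟨⊤, isAffineOpen_top _⟩]
  simp only [Scheme.IdealSheafData.ideal_bot, Pi.bot_apply]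
  rw [← RingHom.injective_iff_ker_eq_bot]
  show Function.Injective (Spec.map φ).appTop.hom
  have h2 := Scheme.ΓSpecIso_naturality φ
  intro x y hxy
  have h3 : ∀ z, (Scheme.ΓSpecIso B).hom.hom ((Spec.map φ).appTop.hom z) =
      φ.hom ((Scheme.ΓSpecIso A).hom.hom z) := fun z => ConcreteCategory.congr_hom h2 z
  apply (ConcreteCategory.bijective_of_isIso (Scheme.ΓSpecIso A).hom).1
  apply h
  show φ.hom ((Scheme.ΓSpecIso A).hom.hom x) = φ.hom ((Scheme.ΓSpecIso A).hom.hom y)
  rw [← h3, ← h3, hxy]

/-- For an algebra map `φ : B → B'` split injective as a module map, the base change of `Spec φ`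
along the projection of `Spec B ×_{Spec k} T` is scheme-theoretically dominant. -/
theorem schDom_baseChange {k B B' : Type u} [CommRing k] [CommRing B] [CommRing B'] [Algebra k B]
    [Algebra k B'] (φ : B →ₐ[k] B') (r : B' →ₗ[k] B) (hr : ∀ b, r (φ b) = b)
    {T W W' : Scheme.{u}} {q : W ⟶ Spec (.of B)} {p : W ⟶ T} {t : T ⟶ Spec (.of k)}
    (hW : IsPullback q p (Spec.map (CommRingCat.ofHom (algebraMap k B))) t)
    {i : W' ⟶ W} {q' : W' ⟶ Spec (.of B')}
    (hi : IsPullback q' i (Spec.map (CommRingCat.ofHom φ.toRingHom)) q) :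
    IsSchemeTheoreticallyDominant i := by
  refine of_openCover i (T.affineCover.pullback₁ p) fun j => ?_
  obtain ⟨R, str, u', hu', hstr⟩ : ∃ (R : CommRingCat.{u}) (str : CommRingCat.of k ⟶ R)
      (u' : Spec R ⟶ T) (e : T.affineCover.X j ≅ Spec R),
      e.hom ≫ u' = T.affineCover.f j ∧ u' ≫ t = Spec.map str :=
    ⟨_, Spec.preimage (T.affineCover.f j ≫ t), T.affineCover.f j, Iso.refl _, Category.id_comp _,
      (Spec.map_preimage _).symm⟩
  letI : Algebra k R := str.hom.toAlgebra
  -- the piece of the cover
  have hU : IsPullback (pullback.fst p (T.affineCover.f j) ≫ q)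
      (pullback.snd p (T.affineCover.f j) ≫ hu'.hom)
      (Spec.map (CommRingCat.ofHom (algebraMap k B))) (Spec.map str) := by
    have h1 : IsPullback (pullback.fst p (T.affineCover.f j))
        (pullback.snd p (T.affineCover.f j) ≫ hu'.hom) p u' :=
      (IsPullback.of_hasPullback p (T.affineCover.f j)).of_iso (Iso.refl _) (Iso.refl _) hu' (Iso.refl _)
        (by simp) (by simp) (by simp) (by simp [hstr.1])
    rw [← hstr.2]
    exact h1.paste_horiz hW
  have hB : IsPullback (Spec.map (CommRingCat.ofHom (Algebra.TensorProduct.includeLeftRingHom (A := B) (B := R))))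
      (Spec.map (CommRingCat.ofHom ((Algebra.TensorProduct.includeRight : (R : Type u) →ₐ[k] B ⊗[k] R)).toRingHom))
      (Spec.map (CommRingCat.ofHom (algebraMap k B))) (Spec.map str) := by
    have h := isPullback_SpecMap_of_isPushout _ _ _ _ (CommRingCat.isPushout_tensorProduct k B R)
    exact h
  let ψ : B ⊗[k] R →ₐ[k] B' ⊗[k] R := Algebra.TensorProduct.map φ (AlgHom.id k R)
  have hψ : Function.Injective ψ := by
    intro x y hxy
    have h : ∀ z : B ⊗[k] R, TensorProduct.map r (LinearMap.id (R := k) (M := R)) (ψ z) = z := by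
      intro z
      induction z using TensorProduct.induction_on with
      | zero => simp
      | tmul b c => simp [ψ, hr]
      | add a b ha hb => simp [map_add, ha, hb]
    rw [← h x, ← h y, hxy]
  have hP : IsPushout (CommRingCat.ofHom φ.toRingHom)
      (CommRingCat.ofHom (Algebra.TensorProduct.includeLeftRingHom (A := B) (B := R)))
      (CommRingCat.ofHom (Algebra.TensorProduct.includeLeftRingHom (A := B') (B := R)))
      (CommRingCat.ofHom ψ.toRingHom) := by
    refine IsPushout.of_left (h₁₁ := CommRingCat.ofHom (algebraMap k B))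
      (h₂₁ := CommRingCat.ofHom ((Algebra.TensorProduct.includeRight : (R : Type u) →ₐ[k] B ⊗[k] R)).toRingHom)
      ?_ ?_ (CommRingCat.isPushout_tensorProduct k B R)
    · convert CommRingCat.isPushout_tensorProduct k B' R using 1
      · exact CommRingCat.hom_ext (RingHom.ext fun c => φ.commutes c)
      · exact CommRingCat.hom_ext (RingHom.ext fun c => by simp [ψ])
    · exact CommRingCat.hom_ext (RingHom.ext fun b => by simp [ψ])
  have hS := (isPullback_SpecMap_of_isPushout _ _ _ _ hP)
  let E := hU.isoIsPullback _ _ hB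
  have hE : E.hom ≫ Spec.map (CommRingCat.ofHom (Algebra.TensorProduct.includeLeftRingHom (A := B) (B := R)))
      = pullback.fst p (T.affineCover.f j) ≫ q := hU.isoIsPullback_hom_fst _ _ hB
  have hS' : IsPullback (Spec.map (CommRingCat.ofHom (Algebra.TensorProduct.includeLeftRingHom (A := B') (B := R))))
      (Spec.map (CommRingCat.ofHom ψ.toRingHom) ≫ E.inv)
      (Spec.map (CommRingCat.ofHom φ.toRingHom)) (pullback.fst p (T.affineCover.f j) ≫ q) :=
    hS.of_iso (Iso.refl _) (Iso.refl _) E.symm (Iso.refl _) (by simp) (by simp) (by simp)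
      (by simp [← hE])
  have hi' : IsPullback (pullback.fst i (pullback.fst p (T.affineCover.f j)) ≫ q')
      (pullback.snd i (pullback.fst p (T.affineCover.f j)))
      (Spec.map (CommRingCat.ofHom φ.toRingHom)) (pullback.fst p (T.affineCover.f j) ≫ q) :=
    (IsPullback.of_hasPullback i (pullback.fst p (T.affineCover.f j))).paste_horiz hi
  have hd : IsSchemeTheoreticallyDominant (Spec.map (CommRingCat.ofHom ψ.toRingHom)) :=
    schDom_of_injective _ hψ
  have key := hi'.isoIsPullback_hom_snd _ _ hS'
  show IsSchemeTheoreticallyDominant (pullback.snd i (pullback.fst p (T.affineCover.f j)))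
  rw [← key]
  infer_instance

end Groth.Agent.Misc9.SchDom
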