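import Groth.Prelude.Def_Magnet2
import Groth.Prelude.Def_Magnet3
import Groth.Agent.Misc9.SchDom

/-!
Schematic dominance of the morphisms of diagonalizable monoid schemes and consequences for attractors.
-/

universe u v₁ u₁

set_option maxHeartbeats 400000
set_option synthInstance.maxHeartbeats 40000

open CategoryTheory CategoryTheory.Limits MonoidalCategory CartesianMonoidalCategory MonObj AlgebraicGeometry Opposite
open Magnet Magnet.MonAct

namespace Groth.Agent.Misc9.MagnetDom

section General

variable {C : Type u₁} [Category.{v₁} C] [CartesianMonoidalCategory C]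

/-- restricted to the acting monoid, an equivariant family is the orbit map of its value at the unit -/
lemma whiskerRight_comp_eq {A B X : C} [MonObj A] [MonObj B] (ii : A ⟶ B) [IsMonHom ii] (a : MonAct A X)
    {T : C} (φ : B ⊗ T ⟶ X) (hφ : IsEquivariant (((regular B).restrict ii).prod (MonAct.trivial A T)) a φ) :
    (ii ▷ T) ≫ φ = (A ◁ (lift (toUnit T ≫ η[B]) (𝟙 T) ≫ φ)) ≫ a.act := by
  apply hom_ext_lift₂
  intro T' g t
  have h := (mem_eqvHom_iff φ).mp hφ T' g (1 : T' ⟶ B) t
  rw [lift_restrict_act, lift_regular_act, _root_.mul_one] at h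
  rw [lift_whiskerRight_assoc, h, lift_whiskerLeft_assoc]
  congr 2
  rw [← Category.assoc t, comp_lift, Category.comp_id, ← Category.assoc, comp_toUnit, ← Hom.one_def]

end General

variable {S : Scheme.{u}}

lemma isPullback_whiskerRight_left {A B : Over S} (f : A ⟶ B) (T : Over S) :
    IsPullback (fst A T).left (f ▷ T).left f.left (fst B T).left := by
  have hA : IsPullback (fst A T).left (snd A T).left A.hom T.hom := IsPullback.of_hasPullback _ _
  have hB : IsPullback (fst B T).left (snd B T).left B.hom T.hom := IsPullback.of_hasPullback _ _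
  have e1 : (f ▷ T).left ≫ (snd B T).left = (snd A T).left := by
    rw [← Over.comp_left, whiskerRight_snd]
  have e2 : (fst A T).left ≫ f.left = (f ▷ T).left ≫ (fst B T).left := by
    rw [← Over.comp_left, ← Over.comp_left, whiskerRight_fst]
  refine IsPullback.of_bot ?_ e2 hB
  rw [e1, Over.w f]
  exact hA

section AMon

variable {M N : Type} [AddCommMonoid M] [AddCommMonoid N]

/-- the map of diagonalizable monoid schemes dual to an injective map, times any base, is scheme-theoretically dominant -/
theorem schDom_map_whiskerRight (f : N →+ M) (hf : Function.Injective f) (T : Over S) :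
    IsSchemeTheoreticallyDominant (AMonS.map S f ▷ T).left := by
  classical
  let t := Limits.IsTerminal.from specULiftZIsTerminal S
  let φ := (MonoidAlgebra.mapDomainBialgHom (ULift.{u} ℤ) (AddMonoidHom.toMultiplicative f)).toAlgHom
  let r : MonoidAlgebra (ULift.{u} ℤ) (Multiplicative M) →ₗ[ULift.{u} ℤ]
      MonoidAlgebra (ULift.{u} ℤ) (Multiplicative N) :=
    (MonoidAlgebra.basis (Multiplicative M) (ULift.{u} ℤ)).constr (ULift.{u} ℤ)
      fun m => MonoidAlgebra.single (Function.invFun (AddMonoidHom.toMultiplicative f) m) 1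
  have hfi : Function.Injective (AddMonoidHom.toMultiplicative f) :=
    fun a b h => hf h
  have hr : ∀ b, r (φ b) = b := by
    intro b
    suffices r.comp φ.toLinearMap = LinearMap.id from LinearMap.congr_fun this b
    refine (MonoidAlgebra.basis (Multiplicative N) (ULift.{u} ℤ)).ext fun n => ?_
    have h1 : φ (MonoidAlgebra.single n (1 : ULift.{u} ℤ)) =
        MonoidAlgebra.basis (Multiplicative M) (ULift.{u} ℤ) (AddMonoidHom.toMultiplicative f n) := by
      simp [φ, MonoidAlgebra.basis_apply]
    rw [MonoidAlgebra.basis_apply]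
    show r (φ (MonoidAlgebra.single n 1)) = MonoidAlgebra.single n 1
    rw [h1]
    simp only [r, Module.Basis.constr_basis]
    rw [Function.leftInverse_invFun hfi n]
  have hA : ∀ (P : Type) [AddCommMonoid P], IsPullback (pullback.fst (AMon (ULift.{u} ℤ) P).hom t)
      (AMonS S P).hom (AMon (ULift.{u} ℤ) P).hom t :=
    fun P _ => IsPullback.of_hasPullback _ _
  have hW : IsPullback ((fst (AMonS S N) T).left ≫ pullback.fst (AMon (ULift.{u} ℤ) N).hom t)
      (snd (AMonS S N) T).left
      (Spec.map (CommRingCat.ofHom (algebraMap (ULift.{u} ℤ) (MonoidAlgebra (ULift.{u} ℤ) (Multiplicative N)))))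
      (T.hom ≫ t) := by
    have h1 : IsPullback (fst (AMonS S N) T).left (snd (AMonS S N) T).left (AMonS S N).hom T.hom :=
      IsPullback.of_hasPullback _ _
    exact (h1.flip.paste_vert (hA N).flip).flip
  have hg : IsPullback (pullback.fst (AMon (ULift.{u} ℤ) M).hom t) (AMonS.map S f).left
      (AMon.map (ULift.{u} ℤ) f).left (pullback.fst (AMon (ULift.{u} ℤ) N).hom t) := by
    refine IsPullback.of_bot ?_ ?_ (hA N)
    · rw [Over.w (AMon.map (ULift.{u} ℤ) f), Over.w (AMonS.map S f)]
      exact hA M
    · exact (pullback.lift_fst _ _ _).symm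
  have hi : IsPullback ((fst (AMonS S M) T).left ≫ pullback.fst (AMon (ULift.{u} ℤ) M).hom t)
      (AMonS.map S f ▷ T).left (Spec.map (CommRingCat.ofHom φ.toRingHom))
      ((fst (AMonS S N) T).left ≫ pullback.fst (AMon (ULift.{u} ℤ) N).hom t) :=
    (isPullback_whiskerRight_left (AMonS.map S f) T).paste_horiz hg
  exact SchDom.schDom_baseChange φ r hr hW hi

lemma schDom_subtype_whiskerRight (N : AddSubmonoid M) (T : Over S) :
    IsSchemeTheoreticallyDominant (AMonS.map S N.subtype ▷ T).left :=
  schDom_map_whiskerRight (S := S) N.subtype Subtype.val_injective T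

lemma schDom_inclusion_whiskerRight {N L : AddSubmonoid M} (h : N ≤ L) (T : Over S) :
    IsSchemeTheoreticallyDominant (AMonS.map S (AddSubmonoid.inclusion h) ▷ T).left :=
  schDom_map_whiskerRight (S := S) (AddSubmonoid.inclusion h) (fun a b e => Subtype.ext (congrArg (fun x : L => (x : M)) e)) T

/-- maps to a separated object are determined after a scheme-theoretically dominant map -/
lemma over_ext {W' W X : Over S} [IsSeparated X.hom] (i : W' ⟶ W)
    (hi : IsSchemeTheoreticallyDominant i.left) {f g : W ⟶ X} (h : i ≫ f = i ≫ g) : f = g := by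
  ext1
  exact SchDom.ext_of_schDom X.hom i.left ((Over.w f).trans (Over.w g).symm)
    (by rw [← Over.comp_left, h, Over.comp_left])

/-- factorization through a closed immersion over `S` -/
lemma over_lift {W' W X Z : Over S} (j : Z ⟶ X) [IsClosedImmersion j.left] (i : W' ⟶ W)
    (hi : IsSchemeTheoreticallyDominant i.left) (φ : W ⟶ X) (ψ : W' ⟶ Z) (h : ψ ≫ j = i ≫ φ) :
    ∃ l : W ⟶ Z, l ≫ j = φ := by
  obtain ⟨l, hl⟩ := SchDom.exists_lift_of_schDom j.left i.left φ.left ψ.left
    (by rw [← Over.comp_left, h, Over.comp_left])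
  refine ⟨Over.homMk l ?_, by ext1; exact hl⟩
  rw [← Over.w j, ← Category.assoc, hl, Over.w φ]

lemma mono_of_closedImmersion {X Z : Over S} (j : Z ⟶ X) [IsClosedImmersion j.left] : Mono j :=
  (Over.forget S).mono_of_mono_map (show Mono j.left from inferInstance)

theorem attrToX_injective {X : Over S} [IsSeparated X.hom] (a : MonAct (AMonS S M) X) (N : AddSubmonoid M)
    (T : Over S) : Function.Injective (fun φ => (attrToX a N).app (op T) φ) := by
  intro φ ψ h
  apply Subtype.ext
  refine over_ext (AMonS.map S N.subtype ▷ T) (schDom_subtype_whiskerRight N T) ?_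
  refine ((whiskerRight_comp_eq (AMonS.map S N.subtype) a φ.1 φ.2).trans ?_).trans
    (whiskerRight_comp_eq (AMonS.map S N.subtype) a ψ.1 ψ.2).symm
  exact congrArg (fun z => (AMonS S M ◁ z) ≫ a.act) h

theorem attrMap_injective {X : Over S} [IsSeparated X.hom] (a : MonAct (AMonS S M) X) {N L : AddSubmonoid M}
    (h : N ≤ L) (T : Over S) : Function.Injective (fun φ => (attrMap a h).app (op T) φ) := by
  intro φ ψ e
  apply Subtype.ext
  refine over_ext (AMonS.map S (AddSubmonoid.inclusion h) ▷ T) (schDom_inclusion_whiskerRight h T) ?_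
  exact congrArg Subtype.val e

end AMon

end Groth.Agent.Misc9.MagnetDom

namespace Groth.Agent.Misc9.MagnetDom

lemma flat_to_field {k : Type u} [Field k] {X : Scheme.{u}} (f : X ⟶ Spec (CommRingCat.of k)) : Flat f := by
  rw [IsZariskiLocalAtSource.iff_of_openCover (P := @Flat) X.affineCover]
  intro i
  obtain ⟨φ, hφ⟩ : ∃ φ, Spec.map φ = X.affineCover.f i ≫ f := ⟨_, Spec.map_preimage _⟩
  have h : ∀ {R : CommRingCat.{u}} (ψ : CommRingCat.of k ⟶ R), Flat (Spec.map ψ) := by
    intro R ψ
    rw [HasRingHomProperty.Spec_iff (P := @Flat)]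
    algebraize [ψ.hom]
    exact inferInstanceAs (Module.Flat k R)
  exact hφ ▸ h φ

/-- over a field, scheme-theoretically dominant quasi-compact maps stay so after any product -/
lemma schDom_whiskerRight_field {k : Type u} [Field k] {A B : Over (Spec (CommRingCat.of k))} (f : A ⟶ B)
    [QuasiCompact f.left] [IsSchemeTheoreticallyDominant f.left] (T : Over (Spec (CommRingCat.of k))) :
    IsSchemeTheoreticallyDominant (f ▷ T).left := by
  haveI : Flat T.hom := flat_to_field _
  haveI : Flat (fst B T).left := inferInstanceAs (Flat (pullback.fst B.hom T.hom))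
  exact IsSchemeTheoreticallyDominant.of_isPullback (isPullback_whiskerRight_left f T)

end Groth.Agent.Misc9.MagnetDom
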