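import Groth.Agent.Misc9.MagnetPts
import Groth.Agent.Misc9.MagnetDom
import Mathlib.RingTheory.Polynomial.Basic
import Mathlib.RingTheory.LocalProperties.Basic
import Mathlib.AlgebraicGeometry.Morphisms.Flat
import Mathlib.AlgebraicGeometry.Morphisms.UniversallyOpen
import Mathlib.AlgebraicGeometry.PullbackCarrier

/-!
Two `G_m`-equivariant maps out of `A¹ × Y` which agree on all nilpotent points are equal.
-/

universe u

set_option maxHeartbeats 800000
set_option synthInstance.maxHeartbeats 40000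

open CategoryTheory CategoryTheory.Limits MonoidalCategory CartesianMonoidalCategory MonObj AlgebraicGeometry Opposite
open Magnet Magnet.MonAct

namespace Groth.Agent.Misc9.MagnetFormal

open MagnetPts Polynomial

attribute [local instance] ULift.algebra'

/-- the magnet of the affine line -/
abbrev NN : AddSubmonoid ℤ := AddSubmonoid.multiples (1 : ℤ)

/-- the generator -/
def gen : Multiplicative NN := Multiplicative.ofAdd ⟨1, ⟨1, one_nsmul _⟩⟩

lemma nn_nonneg (n : NN) : (0 : ℤ) ≤ n := by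
  obtain ⟨k, hk⟩ := n.2
  rw [← hk]
  simp

/-- the exponent -/
def deg (n : Multiplicative NN) : ℕ := ((Multiplicative.toAdd n : NN) : ℤ).toNat

lemma deg_mul (a b : Multiplicative NN) : deg (a * b) = deg a + deg b :=
  Int.toNat_add (nn_nonneg _) (nn_nonneg _)

lemma gen_pow_deg (n : Multiplicative NN) : gen ^ deg n = n := by
  apply Multiplicative.toAdd.injective
  apply Subtype.ext
  simp [gen, deg, toAdd_pow, nn_nonneg]

lemma deg_gen : deg gen = 1 := by simp [deg, gen]

/-- the character `n ↦ c ^ n` -/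
def powChar {K : Type u} [CommMonoid K] (c : K) : Multiplicative NN →* K where
  toFun n := c ^ deg n
  map_one' := pow_zero c
  map_mul' a b := by rw [deg_mul, pow_add]

lemma powChar_apply {K : Type u} [CommMonoid K] (c : K) (n : Multiplicative NN) : powChar c n = c ^ deg n := rfl

lemma eq_powChar {K : Type u} [CommMonoid K] (χ : Multiplicative NN →* K) : χ = powChar (χ gen) := by
  refine MonoidHom.ext fun n => ?_
  rw [powChar_apply, ← map_pow, gen_pow_deg]

lemma comp_powChar {K L : Type u} [CommMonoid K] [CommMonoid L] (f : K →* L) (c : K) :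
    f.comp (powChar c) = powChar (f c) := by
  ext n
  show f (c ^ deg n) = f c ^ deg n
  rw [map_pow]

variable {k : Type u} [Field k] {Y : Over (Spec (CommRingCat.of k))}

local notation "Sk" => Spec (CommRingCat.of k)
local notation "A1" => AMonS (Spec (CommRingCat.of k)) NN

/-- the chart `Spec R[X] ⟶ A¹ × Y` attached to `v : Spec R ⟶ Y` -/
noncomputable def chart (R : CommRingCat.{u}) (v : Spec R ⟶ Y.left) :
    Over.mk (Spec.map (CommRingCat.ofHom (C : R →+* (R : Type u)[X])) ≫ v ≫ Y.hom) ⟶ A1 ⊗ Y :=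
  lift (chiPt (K := CommRingCat.of (R : Type u)[X]) _ (powChar X))
    ((Over.homMk (Spec.map (CommRingCat.ofHom (C : R →+* (R : Type u)[X]))) rfl :
        Over.mk (Spec.map (CommRingCat.ofHom (C : R →+* (R : Type u)[X])) ≫ v ≫ Y.hom) ⟶ Over.mk (v ≫ Y.hom)) ≫
      Over.homMk v rfl)

lemma comp_chart {R K : CommRingCat.{u}} (v : Spec R ⟶ Y.left) (ρ : CommRingCat.of (R : Type u)[X] ⟶ K) :
    (Over.homMk (Spec.map ρ) rfl :
        Over.mk (Spec.map ρ ≫ Spec.map (CommRingCat.ofHom (C : R →+* (R : Type u)[X])) ≫ v ≫ Y.hom) ⟶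
          Over.mk (Spec.map (CommRingCat.ofHom (C : R →+* (R : Type u)[X])) ≫ v ≫ Y.hom)) ≫ chart R v =
      lift (chiPt _ (powChar (ρ.hom X)))
        (Over.homMk (Spec.map ρ ≫ Spec.map (CommRingCat.ofHom (C : R →+* (R : Type u)[X])) ≫ v)
          (by simp [Over.mk])) := by
  rw [chart, comp_lift, comp_chiPt]
  congr 1
  · exact congrArg _ (comp_powChar ρ.hom.toMonoidHom X)

lemma isPullback_chart (R : CommRingCat.{u}) (v : Spec R ⟶ Y.left) :
    IsPullback (chart R v).left (Spec.map (CommRingCat.ofHom (C : R →+* (R : Type u)[X]))) (snd A1 Y).left v := by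
  let t := trm Sk
  let B := MonoidAlgebra (ULift.{u} ℤ) (Multiplicative NN)
  have hA : IsPullback (pullback.fst (AMon (ULift.{u} ℤ) NN).hom t) (A1).hom (AMon (ULift.{u} ℤ) NN).hom t :=
    IsPullback.of_hasPullback _ _
  have h1 : IsPullback (fst A1 Y).left (snd A1 Y).left (A1).hom Y.hom := IsPullback.of_hasPullback _ _
  have hW := (h1.flip.paste_vert hA.flip).flip
  let str : CommRingCat.of (ULift.{u} ℤ) ⟶ R := CommRingCat.ofHom (algebraMap (ULift.{u} ℤ) R)
  have hP : IsPullback (Spec.map (CommRingCat.ofHom (ev (K := CommRingCat.of (R : Type u)[X]) (powChar X))))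
      (Spec.map (CommRingCat.ofHom (C : R →+* (R : Type u)[X])))
      (Spec.map (CommRingCat.ofHom (algebraMap (ULift.{u} ℤ) B))) (Spec.map str) := by
    apply isPullback_SpecMap_of_isPushout
    let φC : (R : Type u) →ₐ[ULift.{u} ℤ] (R : Type u)[X] :=
      ⟨(C : R →+* (R : Type u)[X]), fun r => RingHom.congr_fun (hom_from_base_ext (K := CommRingCat.of (R : Type u)[X])
          ((C : R →+* (R : Type u)[X]).comp (algebraMap _ _)) (algebraMap _ _)) r⟩
    let θ : TensorProduct (ULift.{u} ℤ) B R →ₐ[ULift.{u} ℤ] (R : Type u)[X] :=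
      Algebra.TensorProduct.lift (MonoidAlgebra.lift (ULift.{u} ℤ) (R : Type u)[X] (Multiplicative NN) (powChar X))
        φC fun _ _ => .all _ _
    have hθt : ∀ (b : B) (r : R), θ (b ⊗ₜ r) =
        MonoidAlgebra.lift (ULift.{u} ℤ) (R : Type u)[X] (Multiplicative NN) (powChar X) b * C r :=
      fun b r => Algebra.TensorProduct.lift_tmul _ _ _ b r
    let inv : (R : Type u)[X] →+* TensorProduct (ULift.{u} ℤ) B R :=
      eval₂RingHom (Algebra.TensorProduct.includeRight : (R : Type u) →ₐ[ULift.{u} ℤ] TensorProduct (ULift.{u} ℤ) B R).toRingHom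
        (Algebra.TensorProduct.includeLeftRingHom (A := B) (B := R) (MonoidAlgebra.single gen 1 : B))
    have hθ : Function.Bijective θ := by
      have e1 : ∀ p, θ (inv p) = p := by
        intro p
        refine RingHom.congr_fun (?_ : θ.toRingHom.comp inv = RingHom.id _) p
        apply Polynomial.ringHom_ext
        · intro r
          simp [inv, hθt]
        · simp [inv, hθt, powChar_apply, deg_gen]
      have e2 : ∀ z, inv (θ z) = z := by
        intro z
        induction z using TensorProduct.induction_on with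
        | zero => simp
        | add a b ha hb => rw [map_add, map_add, ha, hb]
        | tmul b r =>
          have hb : inv (MonoidAlgebra.lift (ULift.{u} ℤ) (R : Type u)[X] (Multiplicative NN) (powChar X) b) =
              Algebra.TensorProduct.includeLeftRingHom b := by
            refine RingHom.congr_fun (algebra_hom_ext (K := CommRingCat.of (TensorProduct (ULift.{u} ℤ) B R))
              (φ := inv.comp (MonoidAlgebra.lift (ULift.{u} ℤ) (R : Type u)[X] (Multiplicative NN) (powChar X)).toRingHom)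
              (ψ := Algebra.TensorProduct.includeLeftRingHom) fun n => ?_) b
            conv_rhs => rw [← gen_pow_deg n]
            simp [inv, powChar_apply]
            rw [MonoidAlgebra.single_pow, one_pow]
          rw [hθt, map_mul, hb]
          simp [inv]
      exact ⟨Function.LeftInverse.injective e2, Function.RightInverse.surjective e1⟩
    refine (CommRingCat.isPushout_tensorProduct (ULift.{u} ℤ) B R).of_iso (Iso.refl _) (Iso.refl _) (Iso.refl _)
      (RingEquiv.ofBijective θ.toRingHom hθ).toCommRingCatIso (by simp) (by simp [str]) ?_ ?_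
    · refine CommRingCat.hom_ext (RingHom.ext fun b => ?_)
      show θ (b ⊗ₜ 1) = _
      simp [hθt, ev]
      rfl
    · refine CommRingCat.hom_ext (RingHom.ext fun r => ?_)
      show θ (1 ⊗ₜ r) = _
      simp [hθt]
  refine IsPullback.of_right ?_ ?_ hW
  · have e : (chart R v).left ≫ (fst A1 Y).left ≫ pullback.fst (AMon (ULift.{u} ℤ) NN).hom t =
        Spec.map (CommRingCat.ofHom (ev (K := CommRingCat.of (R : Type u)[X]) (powChar X))) := by
      refine (Category.assoc _ _ _).symm.trans ((congrArg (· ≫ _) ?_).trans (chiPt_left_fst _ _))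
      exact congrArg Over.Hom.left (lift_fst _ _)
    have e3 : Spec.map str = v ≫ Y.hom ≫ t := specULiftZIsTerminal.hom_ext _ _
    rw [e3] at hP
    exact e.symm ▸ hP
  · rw [← Over.comp_left, chart, lift_snd]
    rfl

instance isOpenImmersion_chart (R : CommRingCat.{u}) (v : Spec R ⟶ Y.left) [IsOpenImmersion v] :
    IsOpenImmersion (chart R v).left :=
  MorphismProperty.of_isPullback (P := @IsOpenImmersion) (isPullback_chart R v).flip inferInstance

variable {X : Over (Spec (CommRingCat.of k))}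

/-- agreement on nilpotent points -/
def AgreeNilp (γ₁ γ₂ : A1 ⊗ Y ⟶ X) : Prop :=
  ∀ (K : CommRingCat.{u}) (s : Spec K ⟶ Sk) (c : K) (t : Over.mk s ⟶ Y), IsNilpotent c →
    lift (chiPt s (powChar c)) t ≫ γ₁ = lift (chiPt s (powChar c)) t ≫ γ₂

lemma agree_chart {γ₁ γ₂ : A1 ⊗ Y ⟶ X} (h : AgreeNilp γ₁ γ₂) {R K : CommRingCat.{u}} (v : Spec R ⟶ Y.left)
    (ρ : CommRingCat.of (R : Type u)[X] ⟶ K) (hρ : IsNilpotent (ρ.hom Polynomial.X)) :
    Spec.map ρ ≫ (chart R v).left ≫ γ₁.left = Spec.map ρ ≫ (chart R v).left ≫ γ₂.left := by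
  have h1 := congrArg (fun z => Over.Hom.left z) (h K _ (ρ.hom Polynomial.X)
    (Over.homMk (Spec.map ρ ≫ Spec.map (CommRingCat.ofHom (C : R →+* (R : Type u)[X])) ≫ v)
          (by simp [Over.mk]) :
        Over.mk (Spec.map ρ ≫ Spec.map (CommRingCat.ofHom (C : R →+* (R : Type u)[X])) ≫ v ≫ Y.hom) ⟶ Y) hρ)
  rw [← comp_chart v ρ] at h1
  simpa using h1

lemma isUnit_mul_add {P : Type u} [CommRing P] (I : Ideal P) {x y w : P} (n : ℕ) (hx : x ^ n ∈ I)
    (hw : IsUnit (Ideal.Quotient.mk I w)) : IsUnit (Ideal.Quotient.mk I (x * y + w)) := by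
  have h : IsNilpotent (Ideal.Quotient.mk I (x * y)) :=
    ⟨n, by rw [← map_pow, Ideal.Quotient.eq_zero_iff_mem, mul_pow]; exact I.mul_mem_right _ hx⟩
  rw [map_add]
  exact IsNilpotent.isUnit_add_right_of_commute h hw (Commute.all _ _)

lemma exists_lift_away {A L P : Type u} [CommRing A] [CommRing L] [CommRing P] [Algebra A L] (a : A)
    [IsLocalization.Away a L] (ψ : A →+* P) (h : IsUnit (ψ a)) :
    ∃ κ : L →+* P, κ.comp (algebraMap A L) = ψ := by
  have hy : ∀ y : Submonoid.powers a, IsUnit (ψ y) := by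
    rintro ⟨_, n, rfl⟩
    rw [map_pow]
    exact h.pow n
  exact ⟨IsLocalization.lift hy, IsLocalization.lift_comp hy⟩

lemma exists_factor {A L P : Type u} [CommRing A] [CommRing L] [CommRing P] [Algebra A L] (a : A)
    [IsLocalization.Away a L] (φ : A →+* P) (I : Ideal P) (h : IsUnit (Ideal.Quotient.mk I (φ a))) :
    ∃ κ : L →+* P ⧸ I, κ.comp (algebraMap A L) = (Ideal.Quotient.mk I).comp φ :=
  exists_lift_away (P := P ⧸ I) a _ h

lemma eq_zero_of_forall {R : Type u} [CommRing R] (f0 : R) (L : Type u) [CommRing L] [Algebra R[X] L]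
    (g : R[X]) [IsLocalization.Away g L] (hg : C f0 ∣ g) (z : L)
    (κ : ∀ n : ℕ, L →+* ((Localization.Away f0)[X] ⧸ Ideal.span {(Polynomial.X : (Localization.Away f0)[X]) ^ (n + 1)}))
    (hκ : ∀ n, (κ n).comp (algebraMap R[X] L) =
      (Ideal.Quotient.mk _).comp (mapRingHom (algebraMap R (Localization.Away f0))))
    (hz : ∀ n, z ∈ RingHom.ker (κ n)) : z = 0 := by
  classical
  obtain ⟨⟨g', ⟨_, m, rfl⟩⟩, e⟩ := IsLocalization.surj (Submonoid.powers g) z
  simp only at e
  have h0 : g'.map (algebraMap R (Localization.Away f0)) = 0 := by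
    ext d
    have h1 : (Ideal.Quotient.mk (Ideal.span {(Polynomial.X : (Localization.Away f0)[X]) ^ (d + 1)}))
        (g'.map (algebraMap R (Localization.Away f0))) = 0 := by
      have := congrArg (κ d) e
      rw [map_mul, RingHom.mem_ker.mp (hz d)] at this
      have h' := (MulZeroClass.zero_mul _).symm.trans this
      rw [← RingHom.comp_apply (κ d) (algebraMap R[X] L), hκ] at h'
      exact h'.symm
    rw [Ideal.Quotient.eq_zero_iff_mem, Ideal.mem_span_singleton, X_pow_dvd_iff] at h1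
    simpa using h1 d (Nat.lt_succ_self d)
  have h2 : ∀ d, ∃ N : ℕ, f0 ^ N * g'.coeff d = 0 := by
    intro d
    have h3 : algebraMap R (Localization.Away f0) (g'.coeff d) = 0 := by
      rw [← coeff_map, h0, coeff_zero]
    rw [IsLocalization.map_eq_zero_iff (Submonoid.powers f0)] at h3
    obtain ⟨⟨_, N, rfl⟩, hN⟩ := h3
    exact ⟨N, hN⟩
  choose Nd hNd using h2
  let N := g'.support.sup Nd
  have h4 : C f0 ^ N * g' = 0 := by
    ext d
    rw [← C_pow, coeff_C_mul, coeff_zero]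
    by_cases hd : d ∈ g'.support
    · exact pow_mul_eq_zero_of_le (Finset.le_sup hd) (hNd d)
    · rw [notMem_support_iff.mp hd, MulZeroClass.mul_zero]
  have hu : IsUnit (algebraMap R[X] L (g ^ m)) :=
    IsLocalization.map_units L (⟨g ^ m, m, rfl⟩ : Submonoid.powers g)
  have hu2 : IsUnit (algebraMap R[X] L (C f0 ^ N)) := by
    rw [map_pow]
    exact (isUnit_of_dvd_unit ((algebraMap R[X] L).map_dvd hg)
      (IsLocalization.map_units L (⟨g, Submonoid.mem_powers g⟩ : Submonoid.powers g))).pow N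
  have h5 : algebraMap R[X] L g' = 0 := by
    have := congrArg (algebraMap R[X] L) h4
    rw [map_mul, map_zero] at this
    exact hu2.mul_right_eq_zero.mp this
  rw [h5] at e
  exact hu.mul_left_eq_zero.mp e

lemma exists_nhd {γ₁ γ₂ : A1 ⊗ Y ⟶ X} (h : AgreeNilp γ₁ γ₂) (R : CommRingCat.{u}) (v : Spec R ⟶ Y.left)
    [IsOpenImmersion v] (q : Spec R) :
    ∃ W : (A1 ⊗ Y).left.Opens, W.ι ≫ γ₁.left = W.ι ≫ γ₂.left ∧
      (chart R v).left (Spec.map (CommRingCat.ofHom (evalRingHom (0 : R))) q) ∈ W := by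
  let ev0 : CommRingCat.of (R : Type u)[X] ⟶ R := CommRingCat.ofHom (evalRingHom (0 : R))
  let p0 := Spec.map ev0 q
  have h0 := agree_chart h v ev0 (by simp [ev0])
  obtain ⟨U, hU, hxU⟩ : ∃ U : X.left.Opens, IsAffineOpen U ∧ ((chart R v).left ≫ γ₁.left) p0 ∈ U := by
    obtain ⟨_, ⟨U, hU, rfl⟩, hxU, -⟩ := X.left.isBasis_affineOpens.exists_subset_of_mem_open
      (Set.mem_univ (((chart R v).left ≫ γ₁.left) p0)) isOpen_univ
    exact ⟨U, hU, hxU⟩
  have hmem : p0 ∈ ((chart R v).left ≫ γ₁.left) ⁻¹ᵁ U ⊓ ((chart R v).left ≫ γ₂.left) ⁻¹ᵁ U := by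
    refine ⟨hxU, ?_⟩
    show ((chart R v).left ≫ γ₂.left) p0 ∈ U
    rw [show ((chart R v).left ≫ γ₂.left) p0 = ((chart R v).left ≫ γ₁.left) p0 from by
      exact congrArg (fun w => (w : Spec R ⟶ X.left) q) h0.symm]
    exact hxU
  obtain ⟨_, ⟨f, rfl⟩, hpf, hfU⟩ := PrimeSpectrum.isTopologicalBasis_basic_opens.exists_subset_of_mem_open hmem
    (((chart R v).left ≫ γ₁.left) ⁻¹ᵁ U ⊓ ((chart R v).left ≫ γ₂.left) ⁻¹ᵁ U).isOpen
  let f0 : R := evalRingHom 0 f
  let g : (R : Type u)[X] := f * C f0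
  have hf0 : f0 ∉ q.asIdeal := hpf
  have hpg : p0 ∈ PrimeSpectrum.basicOpen g := by
    show evalRingHom (0 : R) g ∉ q.asIdeal
    simp only [g, map_mul, coe_evalRingHom, eval_C]
    exact fun hh => (q.isPrime.mem_or_mem hh).elim hf0 hf0
  let L := Localization.Away g
  let loc : CommRingCat.of (R : Type u)[X] ⟶ CommRingCat.of L := CommRingCat.ofHom (algebraMap (R : Type u)[X] L)
  have hr : ∀ x : Spec (CommRingCat.of (R : Type u)[X]), x ∈ Set.range (Spec.map loc) ↔ g ∉ x.asIdeal :=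
    fun x => Set.ext_iff.mp (PrimeSpectrum.localization_away_comap_range L g) x
  haveI : IsOpenImmersion (Spec.map loc) := IsOpenImmersion.of_isLocalization g
  let ω := Spec.map loc ≫ (chart R v).left
  have hsub : PrimeSpectrum.basicOpen g ≤ PrimeSpectrum.basicOpen f := PrimeSpectrum.basicOpen_mul_le_left _ _
  have hri : ∀ γ ∈ [γ₁, γ₂], Set.range (ω ≫ γ.left) ⊆ Set.range U.ι := by
    rintro γ hγ _ ⟨z, rfl⟩
    rw [Scheme.Opens.range_ι]
    have hz : Spec.map loc z ∈ PrimeSpectrum.basicOpen f := hsub ((hr _).mp ⟨z, rfl⟩)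
    have := hfU hz
    simp only [List.mem_cons, List.not_mem_nil, or_false] at hγ
    rcases hγ with rfl | rfl
    · exact this.1
    · exact this.2
  haveI : IsAffine (U : Scheme) := hU
  let u₁ := IsOpenImmersion.lift U.ι (ω ≫ γ₁.left) (hri γ₁ (by simp))
  let u₂ := IsOpenImmersion.lift U.ι (ω ≫ γ₂.left) (hri γ₂ (by simp))
  obtain ⟨ψ₁, hψ₁⟩ : ∃ ψ, Spec.map ψ = u₁ ≫ (U : Scheme).isoSpec.hom := ⟨_, Spec.map_preimage _⟩
  obtain ⟨ψ₂, hψ₂⟩ : ∃ ψ, Spec.map ψ = u₂ ≫ (U : Scheme).isoSpec.hom := ⟨_, Spec.map_preimage _⟩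
  have hψ : ψ₁ = ψ₂ := by
    refine CommRingCat.hom_ext (RingHom.ext fun a => ?_)
    rw [← sub_eq_zero]
    have hunit : ∀ n : ℕ, IsUnit ((Ideal.Quotient.mk (Ideal.span
        {(Polynomial.X : (Localization.Away f0)[X]) ^ (n + 1)})) (g.map (algebraMap R (Localization.Away f0)))) := by
      intro n
      have hu0 : IsUnit (algebraMap R (Localization.Away f0) f0) :=
        IsLocalization.map_units _ (⟨f0, Submonoid.mem_powers f0⟩ : Submonoid.powers f0)
      simp only [g, Polynomial.map_mul, map_mul, map_C]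
      refine IsUnit.mul ?_ ((hu0.map C).map _)
      rw [show f.map (algebraMap R (Localization.Away f0)) =
        Polynomial.X * (f.divX.map (algebraMap R (Localization.Away f0))) + C (algebraMap R _ f0) from by
          conv_lhs => rw [← X_mul_divX_add f]
          simp [f0, coeff_zero_eq_eval_zero] <;> rfl]
      exact isUnit_mul_add _ (n + 1) (Ideal.mem_span_singleton_self _) ((hu0.map C).map _)
    have hex := fun n : ℕ => exists_factor (L := L) g (mapRingHom (algebraMap R (Localization.Away f0)))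
      (Ideal.span {(Polynomial.X : (Localization.Away f0)[X]) ^ (n + 1)}) (hunit n)
    choose κ hκ using hex
    refine eq_zero_of_forall f0 L g (dvd_mul_left _ _) _ κ hκ fun n => ?_
    have e : Spec.map (loc ≫ CommRingCat.ofHom (κ n)) ≫ (chart R v).left ≫ γ₁.left =
        Spec.map (loc ≫ CommRingCat.ofHom (κ n)) ≫ (chart R v).left ≫ γ₂.left := by
      refine agree_chart h v _ ⟨n + 1, ?_⟩
      show (κ n) (algebraMap (R : Type u)[X] L Polynomial.X) ^ (n + 1) = 0
      rw [← RingHom.comp_apply, hκ, RingHom.comp_apply, coe_mapRingHom, map_X, ← map_pow,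
        Ideal.Quotient.eq_zero_iff_mem]
      exact Ideal.mem_span_singleton_self _
    rw [Spec.map_comp, Category.assoc, Category.assoc] at e
    have e1 : Spec.map (CommRingCat.ofHom (κ n)) ≫ u₁ = Spec.map (CommRingCat.ofHom (κ n)) ≫ u₂ := by
      rw [← cancel_mono U.ι, Category.assoc, Category.assoc, IsOpenImmersion.lift_fac, IsOpenImmersion.lift_fac]
      simpa [ω] using e
    have e2 : ψ₁ ≫ CommRingCat.ofHom (κ n) = ψ₂ ≫ CommRingCat.ofHom (κ n) := by
      apply Spec.map_injective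
      rw [Spec.map_comp, Spec.map_comp, hψ₁, hψ₂, reassoc_of% e1]
    rw [RingHom.mem_ker, map_sub, sub_eq_zero]
    exact ConcreteCategory.congr_hom e2 a
  have hu : u₁ = u₂ := by
    rw [← cancel_mono (U : Scheme).isoSpec.hom, ← hψ₁, ← hψ₂, hψ]
  have key : ω ≫ γ₁.left = ω ≫ γ₂.left := by
    rw [← IsOpenImmersion.lift_fac U.ι (ω ≫ γ₁.left) (hri γ₁ (by simp)),
      ← IsOpenImmersion.lift_fac U.ι (ω ≫ γ₂.left) (hri γ₂ (by simp))]
    exact congrArg (· ≫ U.ι) hu
  refine ⟨ω.opensRange, ?_, ?_⟩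
  · rw [← cancel_epi ω.isoOpensRange.hom]
    simpa [← Category.assoc] using key
  · obtain ⟨z, hz⟩ := (hr p0).mpr hpg
    exact ⟨z, congrArg (chart R v).left hz⟩

/-- two morphisms agree on the union of all opens where they agree -/
lemma exists_agree_open {Z T : Scheme.{u}} (f g : Z ⟶ T) :
    ∃ W : Z.Opens, W.ι ≫ f = W.ι ≫ g ∧ ∀ V : Z.Opens, V.ι ≫ f = V.ι ≫ g → V ≤ W := by
  refine ⟨⨆ V : {V : Z.Opens // V.ι ≫ f = V.ι ≫ g}, V.1, ?_, fun V hV => le_iSup
    (fun V : {V : Z.Opens // V.ι ≫ f = V.ι ≫ g} => V.1) ⟨V, hV⟩⟩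
  refine Scheme.hom_ext_of_forall _ _ fun x => ?_
  obtain ⟨⟨V, hV⟩, hx⟩ := TopologicalSpace.Opens.mem_iSup.mp x.2
  refine ⟨(⨆ V : {V : Z.Opens // V.ι ≫ f = V.ι ≫ g}, V.1).ι ⁻¹ᵁ V, hx, ?_⟩
  simp only [← Category.assoc, ← morphismRestrict_ι]
  simp only [Category.assoc, hV]

lemma exists_open {γ₁ γ₂ : A1 ⊗ Y ⟶ X} (h : AgreeNilp γ₁ γ₂) :
    ∃ W : (A1 ⊗ Y).left.Opens, W.ι ≫ γ₁.left = W.ι ≫ γ₂.left ∧
      ∀ (K : CommRingCat.{u}) (_ : IsField K) (s : Spec K ⟶ Sk) (t : Over.mk s ⟶ Y) (x : Spec K),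
        (lift (chiPt s (powChar (0 : K))) t).left x ∈ W := by
  obtain ⟨W, hW, hmax⟩ := exists_agree_open γ₁.left γ₂.left
  refine ⟨W, hW, fun K hK s t x => ?_⟩
  obtain ⟨_, ⟨V, hV, rfl⟩, hyV, -⟩ := Y.left.isBasis_affineOpens.exists_subset_of_mem_open
    (Set.mem_univ (t.left x)) isOpen_univ
  haveI : IsOpenImmersion hV.fromSpec := inferInstance
  have hsub : Set.range t.left ⊆ Set.range hV.fromSpec := by
    haveI : Subsingleton (Spec K) := by
      letI := hK.toField
      exact inferInstanceAs (Subsingleton (PrimeSpectrum K))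
    rintro _ ⟨(z : Spec K), rfl⟩
    rw [hV.range_fromSpec, show z = x from Subsingleton.elim (α := Spec K) z x]
    exact hyV
  obtain ⟨τ, hτ⟩ : ∃ τ, Spec.map τ = IsOpenImmersion.lift hV.fromSpec t.left hsub := ⟨_, Spec.map_preimage _⟩
  obtain ⟨W', hW', hmem⟩ := exists_nhd h _ hV.fromSpec (Spec.map τ x)
  refine hmax W' hW' ?_
  let R := Γ(Y.left, V)
  let ρ : CommRingCat.of (R : Type u)[X] ⟶ K := CommRingCat.ofHom (evalRingHom (0 : R)) ≫ τ
  have h1 : Spec.map ρ ≫ Spec.map (CommRingCat.ofHom (C : R →+* (R : Type u)[X])) ≫ hV.fromSpec = t.left := by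
    rw [← Spec.map_comp_assoc, show CommRingCat.ofHom (C : R →+* (R : Type u)[X]) ≫ ρ = τ from
      CommRingCat.hom_ext (RingHom.ext fun r => by simp [ρ]), hτ, IsOpenImmersion.lift_fac]
  have hs : Spec.map ρ ≫ Spec.map (CommRingCat.ofHom (C : R →+* (R : Type u)[X])) ≫ hV.fromSpec ≫ Y.hom = s := by
    rw [← Category.assoc (Spec.map (CommRingCat.ofHom _)), ← Category.assoc (Spec.map ρ), h1]
    exact Over.w t
  subst hs
  have h2 := comp_chart hV.fromSpec ρ
  have e : ρ.hom Polynomial.X = 0 := by simp [ρ]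
  rw [e] at h2
  have ht : t = Over.homMk (Spec.map ρ ≫ Spec.map (CommRingCat.ofHom (C : R →+* (R : Type u)[X])) ≫ hV.fromSpec)
      (by simp [Over.mk]) := by
    ext1
    exact h1.symm
  rw [← ht] at h2
  rw [← h2]
  show (chart _ hV.fromSpec).left (Spec.map ρ x) ∈ W'
  rw [show Spec.map ρ x = Spec.map (CommRingCat.ofHom (evalRingHom (0 : R))) (Spec.map τ x) from by
    rw [← Scheme.Hom.comp_apply, ← Spec.map_comp]]
  exact hmem

/-- the character of `ℤ` attached to a unit -/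
noncomputable def unitChar {K : Type u} [CommMonoid K] (c : Kˣ) : Multiplicative ℤ →* K :=
  (Units.coeHom K).comp (zpowersHom Kˣ c)

lemma unitChar_comp {K : Type u} [CommMonoid K] (c : Kˣ) :
    (unitChar c).comp (AddMonoidHom.toMultiplicative (NN).subtype) = powChar (c : K) := by
  refine MonoidHom.ext fun n => ?_
  show ((c ^ ((Multiplicative.toAdd n : NN) : ℤ) : Kˣ) : K) = (c : K) ^ deg n
  rw [← Units.val_pow_eq_pow_val, ← zpow_natCast, deg, Int.toNat_of_nonneg (nn_nonneg _)]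

theorem ext_of_agreeNilp (a : AlgGrp.Action (Red.DS Sk ℤ) X) {γ₁ γ₂ : A1 ⊗ Y ⟶ X}
    (h₁ : IsEquivariant ((subAct Sk ℤ NN).prod (MonAct.trivial _ Y)) (MonAct.ofAction a) γ₁)
    (h₂ : IsEquivariant ((subAct Sk ℤ NN).prod (MonAct.trivial _ Y)) (MonAct.ofAction a) γ₂)
    (h : AgreeNilp γ₁ γ₂) : γ₁ = γ₂ := by
  classical
  let G : Over Sk := AMonS Sk ℤ
  let ρ := ((subAct Sk ℤ NN).prod (MonAct.trivial G Y))
  obtain ⟨W, hW, hzero⟩ := exists_open h
  -- the translation map is flat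
  have hshear : Flat ρ.act.left := by
    let inv : Red.DS Sk ℤ ⊗ (A1 ⊗ Y) ⟶ G := (fst (Red.DS Sk ℤ) (A1 ⊗ Y))⁻¹
    have hinv : ∀ (T : Over Sk) (z : T ⟶ G ⊗ (A1 ⊗ Y)), (z ≫ inv) * (z ≫ fst _ _) = 1 ∧
        (z ≫ fst _ _) * (z ≫ inv) = 1 := by
      intro T z
      have e1 : (z ≫ (fst (Red.DS Sk ℤ) (A1 ⊗ Y))⁻¹) * (z ≫ fst (Red.DS Sk ℤ) (A1 ⊗ Y)) = 1 := by
        rw [GrpObj.comp_inv, inv_mul_cancel]
      have e2 : (z ≫ fst (Red.DS Sk ℤ) (A1 ⊗ Y)) * (z ≫ (fst (Red.DS Sk ℤ) (A1 ⊗ Y))⁻¹) = 1 := by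
        rw [GrpObj.comp_inv, mul_inv_cancel]
      exact ⟨e1, e2⟩
    let σ : G ⊗ (A1 ⊗ Y) ⟶ G ⊗ (A1 ⊗ Y) := lift (fst _ _) ρ.act
    let τ : G ⊗ (A1 ⊗ Y) ⟶ G ⊗ (A1 ⊗ Y) := lift (fst _ _) (lift inv (snd _ _) ≫ ρ.act)
    have hzρ : ∀ {T : Over Sk} (z : T ⟶ G ⊗ (A1 ⊗ Y)), z ≫ ρ.act = lift (z ≫ fst _ _) (z ≫ snd _ _) ≫ ρ.act := by
      intro T z
      rw [lift_comp_fst_snd]
    have hz : ∀ {T : Over Sk} (g : T ⟶ G) (w : T ⟶ A1 ⊗ Y), lift g w ≫ σ = lift g (lift g w ≫ ρ.act) ∧
        lift g w ≫ τ = lift g (lift (lift g w ≫ inv) w ≫ ρ.act) := by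
      intro T g w
      constructor
      · rw [comp_lift, lift_fst]
      · rw [comp_lift, lift_fst, comp_lift_assoc, lift_snd]
    have hinvg : ∀ {T : Over Sk} (g : T ⟶ G) (w w' : T ⟶ A1 ⊗ Y), lift g w ≫ inv = lift g w' ≫ inv := by
      intro T g w w'
      have e : ∀ w, lift g w ≫ (fst (Red.DS Sk ℤ) (A1 ⊗ Y))⁻¹ = (show T ⟶ Red.DS Sk ℤ from g)⁻¹ := fun w => by
        rw [GrpObj.comp_inv]
        exact congrArg _ (lift_fst _ _)
      exact (e w).trans (e w').symm
    have hgi : ∀ {T : Over Sk} (g : T ⟶ G) (w : T ⟶ A1 ⊗ Y), (lift g w ≫ inv) * g = 1 ∧ g * (lift g w ≫ inv) = 1 := by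
      intro T g w
      have := hinv T (lift g w)
      rwa [lift_fst] at this
    have hστ : σ ≫ τ = 𝟙 _ := by
      apply hom_ext_lift₂
      intro T g w
      rw [← Category.assoc, (hz g w).1, (hz g _).2, Category.comp_id, hinvg g _ w, ← ρ.lift_mul_act,
        (hgi g w).1, ρ.lift_one_act]
    have hτσ : τ ≫ σ = 𝟙 _ := by
      apply hom_ext_lift₂
      intro T g w
      rw [← Category.assoc, (hz g w).2, (hz g _).1, Category.comp_id, ← ρ.lift_mul_act, (hgi g w).2, ρ.lift_one_act]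
    haveI : IsIso σ := ⟨τ, hστ, hτσ⟩
    haveI : IsIso σ.left := inferInstanceAs (IsIso ((Over.forget _).map σ))
    haveI : Flat G.hom := MagnetDom.flat_to_field _
    haveI : Flat (snd G (A1 ⊗ Y)).left := MorphismProperty.pullback_snd (P := @Flat) G.hom (A1 ⊗ Y).hom inferInstance
    have e : σ ≫ snd G (A1 ⊗ Y) = ρ.act := lift_snd _ _
    rw [← e, Over.comp_left]
    infer_instance
  haveI := hshear
  let Ω : (G ⊗ (A1 ⊗ Y)).left.Opens := (snd G (A1 ⊗ Y)).left ⁻¹ᵁ W
  let α := Ω.ι ≫ ρ.act.left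
  haveI : Flat α := inferInstanceAs (Flat (Ω.ι ≫ ρ.act.left))
  haveI : Surjective α := by
    refine ⟨fun p => ?_⟩
    let Kp := (A1 ⊗ Y).left.residueField p
    let s : Spec Kp ⟶ Sk := (A1 ⊗ Y).left.fromSpecResidueField p ≫ (A1 ⊗ Y).hom
    let e : Over.mk s ⟶ A1 ⊗ Y := Over.homMk ((A1 ⊗ Y).left.fromSpecResidueField p) rfl
    obtain ⟨χ, hχ⟩ := chiPt_surjective s (e ≫ fst _ _)
    let c : Kp := χ gen
    have he : e = lift (chiPt s (powChar c)) (e ≫ snd _ _) := by
      rw [← eq_powChar χ, hχ, lift_comp_fst_snd]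
    let x0 : Spec Kp := IsLocalRing.closedPoint _
    have hp : e.left x0 = p := (A1 ⊗ Y).left.fromSpecResidueField_apply p _
    -- it suffices to find a translate inside `W`
    suffices hh : ∃ (L : CommRingCat.{u}) (sL : Spec L ⟶ Sk) (g : Over.mk sL ⟶ G) (w : Over.mk sL ⟶ A1 ⊗ Y)
        (z : Spec L), w.left z ∈ W ∧ (lift g w ≫ ρ.act).left z = p by
      obtain ⟨L, sL, g, w, z, hwW, hgw⟩ := hh
      have hmem : (lift g w).left z ∈ Ω := by
        show (snd G (A1 ⊗ Y)).left ((lift g w).left z) ∈ W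
        rw [← Scheme.Hom.comp_apply, ← Over.comp_left, lift_snd]
        exact hwW
      refine ⟨⟨_, hmem⟩, ?_⟩
      show ρ.act.left ((lift g w).left z) = p
      rw [← Scheme.Hom.comp_apply, ← Over.comp_left]
      exact hgw
    by_cases hc : c = 0
    · refine ⟨Kp, s, 1, e, x0, ?_, ?_⟩
      · rw [he, hc]
        exact hzero Kp (Field.toIsField _) s _ x0
      · rw [ρ.lift_one_act]
        exact hp
    let L : CommRingCat.{u} := CommRingCat.of (FractionRing (Polynomial Kp))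
    let θ0 : Kp ⟶ CommRingCat.of (Polynomial Kp) := CommRingCat.ofHom C
    let θ1 : CommRingCat.of (Polynomial Kp) ⟶ L := CommRingCat.ofHom (algebraMap (Polynomial Kp) (FractionRing (Polynomial Kp)))
    let x : L := θ1.hom Polynomial.X
    let sP := Spec.map θ0 ≫ s
    let wP : Over.mk sP ⟶ A1 ⊗ Y := lift (chiPt sP (powChar (Polynomial.X : Polynomial Kp)))
      ((Over.homMk (Spec.map θ0) rfl : Over.mk sP ⟶ Over.mk s) ≫ e ≫ snd _ _)
    let sL := Spec.map θ1 ≫ sP
    let m1 : Over.mk sL ⟶ Over.mk sP := Over.homMk (Spec.map θ1) rfl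
    have hwL : m1 ≫ wP = lift (chiPt sL (powChar x))
        ((m1 ≫ (Over.homMk (Spec.map θ0) rfl : Over.mk sP ⟶ Over.mk s)) ≫ e ≫ snd _ _) := by
      rw [comp_lift, comp_chiPt, Category.assoc]
      congr 2
      exact comp_powChar θ1.hom.toMonoidHom _
    have hinj := IsFractionRing.injective (Polynomial Kp) (FractionRing (Polynomial Kp))
    have hx : x ≠ 0 := fun hh => Polynomial.X_ne_zero (hinj (hh.trans (map_zero _).symm))
    have hcL : θ1.hom (θ0.hom c) ≠ 0 := fun hh => hc (Polynomial.C_eq_zero.mp (hinj (hh.trans (map_zero _).symm)))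
    let lam : (FractionRing (Polynomial Kp))ˣ :=
      Units.mk0 (θ1.hom (θ0.hom c)) hcL * (Units.mk0 x hx)⁻¹
    let z0 : Spec L := IsLocalRing.closedPoint (FractionRing (Polynomial Kp))
    refine ⟨L, sL, chiPt (K := L) sL (unitChar lam), m1 ≫ wP, z0, ?_, ?_⟩
    · -- the generic point lies in every non-empty open
      have h0 : wP.left (Spec.map (CommRingCat.ofHom (evalRingHom (0 : Kp))) x0) ∈ W := by
        rw [← Scheme.Hom.comp_apply]
        let ev : CommRingCat.of (Polynomial Kp) ⟶ Kp := CommRingCat.ofHom (evalRingHom (0 : Kp))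
        let m0 : Over.mk (Spec.map ev ≫ sP) ⟶ Over.mk sP := Over.homMk (Spec.map ev) rfl
        have := hzero Kp (Field.toIsField _) (Spec.map ev ≫ sP)
          (m0 ≫ (Over.homMk (Spec.map θ0) rfl : Over.mk sP ⟶ Over.mk s) ≫ e ≫ snd _ _) x0
        show (m0 ≫ wP).left x0 ∈ W
        rw [comp_lift, comp_chiPt, comp_powChar ev.hom.toMonoidHom]
        have e0 : powChar (ev.hom.toMonoidHom (Polynomial.X : Polynomial Kp)) = powChar (0 : Kp) :=
          congrArg powChar (Polynomial.eval_X (x := (0 : Kp)))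
        erw [e0]
        exact this
      rw [Over.comp_left, Scheme.Hom.comp_apply]
      refine (show Spec.map θ1 z0 ⤳ Spec.map (CommRingCat.ofHom (evalRingHom (0 : Kp))) x0 from ?_).mem_open
        (wP.left ⁻¹ᵁ W).isOpen h0
      apply (PrimeSpectrum.le_iff_specializes _ _).mp
      intro q hq
      change algebraMap (Polynomial Kp) (FractionRing (Polynomial Kp)) q ∈ IsLocalRing.maximalIdeal _ at hq
      rw [IsLocalRing.maximalIdeal_eq_bot, Ideal.mem_bot,
        map_eq_zero_iff _ (IsFractionRing.injective (Polynomial Kp) (FractionRing (Polynomial Kp)))] at hq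
      rw [hq]
      exact Submodule.zero_mem _
    · rw [hwL]
      rw [lift_prod_act, lift_trivial_act, subAct, lift_restrict_act, lift_regular_act, chiPt_comp_map, chiPt_mul,
        unitChar_comp]
      have hmul : powChar (K := L) ((lam : FractionRing (Polynomial Kp))) * powChar x = powChar (θ1.hom (θ0.hom c)) := by
        refine MonoidHom.ext fun n => ?_
        rw [MonoidHom.mul_apply, powChar_apply, powChar_apply, powChar_apply, ← mul_pow]
        congr 1
        simp [lam, hx]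
      rw [hmul]
      let m : Over.mk sL ⟶ Over.mk s := m1 ≫ (Over.homMk (Spec.map θ0) rfl : Over.mk sP ⟶ Over.mk s)
      have hm : lift (chiPt sL (powChar (θ1.hom (θ0.hom c)))) (m ≫ e ≫ snd _ _) = m ≫ e := by
        conv_rhs => rw [he, comp_lift]
        congr 1
        rw [Category.assoc, comp_chiPt, comp_chiPt]
        congr 1
        rw [comp_powChar θ0.hom.toMonoidHom, comp_powChar θ1.hom.toMonoidHom]
        rfl
      rw [hm, Over.comp_left, Scheme.Hom.comp_apply]
      exact (A1 ⊗ Y).left.fromSpecResidueField_apply p _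
  haveI : Epi α := Flat.epi_of_flat_of_surjective α
  ext1
  rw [← cancel_epi α]
  have key : ∀ γ : A1 ⊗ Y ⟶ X, IsEquivariant ρ (MonAct.ofAction a) γ →
      α ≫ γ.left = (Ω.ι ≫ (G ◁ γ).left) ≫ a.act.left := by
    intro γ hγ
    unfold IsEquivariant at hγ
    show (Ω.ι ≫ ρ.act.left) ≫ γ.left = _
    rw [Category.assoc, Category.assoc, ← Over.comp_left, ← Over.comp_left, hγ]
    rfl
  rw [key γ₁ h₁, key γ₂ h₂]
  congr 1
  apply pullback.hom_ext
  · rw [Category.assoc, Category.assoc, Over.whiskerLeft_left_fst, Over.whiskerLeft_left_fst]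
  · rw [Category.assoc, Category.assoc, Over.whiskerLeft_left_snd, Over.whiskerLeft_left_snd]
    obtain ⟨r, hr⟩ : ∃ r : (Ω : Scheme) ⟶ W, r ≫ W.ι = Ω.ι ≫ (snd G (A1 ⊗ Y)).left :=
      ⟨(snd G (A1 ⊗ Y)).left ∣_ W, morphismRestrict_ι _ _⟩
    show Ω.ι ≫ (snd G (A1 ⊗ Y)).left ≫ γ₁.left = Ω.ι ≫ (snd G (A1 ⊗ Y)).left ≫ γ₂.left
    rw [← reassoc_of% hr, ← reassoc_of% hr, hW]

end Groth.Agent.Misc9.MagnetFormal
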