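import Groth.Agent.Misc9.FerrandTensor
import Groth.Agent.Misc9.MagnetDom
import Groth.Prelude.Def_Magnet4

/-!
Push-outs of diagonalizable monoid schemes along faces.
-/

universe u

set_option maxHeartbeats 800000
set_option synthInstance.maxHeartbeats 40000

open CategoryTheory CategoryTheory.Limits MonoidalCategory CartesianMonoidalCategory MonObj AlgebraicGeometry Opposite
open Magnet Magnet.MonAct

namespace Groth.Agent.Misc9.MagnetPush

variable {M : Type} [AddCommMonoid M] {N N' L L' : AddSubmonoid M}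

/-- the base ring -/
abbrev Zu : Type u := ULift.{u} ℤ

/-- algebra map of an inclusion -/
noncomputable abbrev incl (R : Type u) [CommRing R] {N L : AddSubmonoid M} (h : N ≤ L) :
    MonoidAlgebra R (Multiplicative N) →ₐ[R] MonoidAlgebra R (Multiplicative L) :=
  (MonoidAlgebra.mapDomainBialgHom R (AddMonoidHom.toMultiplicative (AddSubmonoid.inclusion h))).toAlgHom

lemma incl_single (R : Type u) [CommRing R] {N L : AddSubmonoid M} (h : N ≤ L) (n : N) :
    incl R h (MonoidAlgebra.single (Multiplicative.ofAdd n) 1) =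
      MonoidAlgebra.single (Multiplicative.ofAdd (⟨n, h n.2⟩ : L)) 1 := by
  simp [incl]
  rfl

/-- the fibre product of monoid algebras along a face -/
lemma exists_splitFP (R : Type u) [CommRing R] (hNL : N ≤ L) (hN'L' : N' ≤ L') (hL : IsFace L' L) (hN : IsFace N' N)
    (hdiff : (N' : Set M) = (L' : Set M) \ ((L : Set M) \ (N : Set M))) :
    Nonempty (FerrandTensor.SplitFP (faceAlgHom R hN) (incl R hN'L') (incl R hNL) (faceAlgHom R hL)) := by
  classical
  have memN' : ∀ m ∈ L', m ∉ L → m ∈ N' := fun m hm hmL => by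
    rw [← SetLike.mem_coe, hdiff]; exact ⟨hm, fun h => hmL h.1⟩
  have notL : ∀ m ∈ N', m ∉ N → m ∉ L := fun m hm hmN hmL => by
    rw [← SetLike.mem_coe, hdiff] at hm; exact hm.2 ⟨hmL, hmN⟩
  let rb : MonoidAlgebra R (Multiplicative N) →ₗ[R] MonoidAlgebra R (Multiplicative N') := (incl R hN.le).toLinearMap
  let e : MonoidAlgebra R (Multiplicative L) →ₗ[R] MonoidAlgebra R (Multiplicative L') := (incl R hL.le).toLinearMap
  let ra : MonoidAlgebra R (Multiplicative L') →ₗ[R] MonoidAlgebra R (Multiplicative N') :=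
    (MonoidAlgebra.basis (Multiplicative L') R).constr R fun m =>
      if h : ((Multiplicative.toAdd m : L') : M) ∈ L then 0 else
        MonoidAlgebra.single (Multiplicative.ofAdd (⟨_, memN' _ (Multiplicative.toAdd m).2 h⟩ : N')) 1
  have ra_single : ∀ m : L', ra (MonoidAlgebra.single (Multiplicative.ofAdd m) 1) =
      if h : (m : M) ∈ L then 0 else MonoidAlgebra.single (Multiplicative.ofAdd (⟨_, memN' _ m.2 h⟩ : N')) 1 := by
    intro m
    rw [← MonoidAlgebra.basis_apply]
    simp only [ra, Module.Basis.constr_basis]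
    rfl
  have ext' : ∀ {G : AddSubmonoid M} {V : Type u} [AddCommGroup V] [Module R V]
      (f g : MonoidAlgebra R (Multiplicative G) →ₗ[R] V),
      (∀ m : G, f (MonoidAlgebra.single (Multiplicative.ofAdd m) 1) = g (MonoidAlgebra.single (Multiplicative.ofAdd m) 1)) →
      ∀ x, f x = g x := by
    intro G V _ _ f g h x
    refine LinearMap.congr_fun ((MonoidAlgebra.basis (Multiplicative G) R).ext fun m => ?_) x
    rw [MonoidAlgebra.basis_apply]
    exact h (Multiplicative.toAdd m)
  refine ⟨{ rb := rb, ra := ra, e := e, comm := ?_, id_P := ?_, u_rb := ?_, u_ra := ?_, v_rb := ?_, v_ra := ?_, p_e := ?_ }⟩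
  · refine AlgHom.toLinearMap_injective (LinearMap.ext (ext' _ _ fun m => ?_))
    show incl R hNL (faceAlgHom R hN _) = faceAlgHom R hL (incl R hN'L' _)
    rw [incl_single]
    by_cases hm : (m : M) ∈ N
    · rw [faceAlgHom_single_of_mem R hN m hm, incl_single, faceAlgHom_single_of_mem R hL _ (hNL hm)]
    · rw [faceAlgHom_single_of_not_mem R hN m hm, map_zero, faceAlgHom_single_of_not_mem R hL _ (notL _ m.2 hm)]
  · refine ext' (rb ∘ₗ (faceAlgHom R hN).toLinearMap + ra ∘ₗ (incl R hN'L').toLinearMap) LinearMap.id fun m => ?_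
    show rb (faceAlgHom R hN _) + ra (incl R hN'L' _) = MonoidAlgebra.single _ 1
    rw [incl_single, ra_single]
    by_cases hm : (m : M) ∈ N
    · rw [faceAlgHom_single_of_mem R hN m hm, dif_pos (hNL hm), add_zero]
      exact incl_single R hN.le _
    · rw [faceAlgHom_single_of_not_mem R hN m hm, map_zero, dif_neg (notL _ m.2 hm), zero_add]
  · refine ext' ((faceAlgHom R hN).toLinearMap ∘ₗ rb) LinearMap.id fun m => ?_
    show faceAlgHom R hN (incl R hN.le _) = MonoidAlgebra.single _ 1
    rw [incl_single, faceAlgHom_single_of_mem R hN _ m.2]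
  · refine ext' ((faceAlgHom R hN).toLinearMap ∘ₗ ra) 0 fun m => ?_
    show faceAlgHom R hN (ra _) = 0
    rw [ra_single]
    split
    · exact map_zero _
    · next h => exact faceAlgHom_single_of_not_mem R hN _ (fun hn => h (hNL hn)) 1
  · refine ext' ((incl R hN'L').toLinearMap ∘ₗ rb) (e ∘ₗ (incl R hNL).toLinearMap) fun m => ?_
    show incl R hN'L' (incl R hN.le _) = incl R hL.le (incl R hNL _)
    rw [incl_single, incl_single, incl_single, incl_single]
  · refine ext' ((incl R hN'L').toLinearMap ∘ₗ ra) (LinearMap.id - e ∘ₗ (faceAlgHom R hL).toLinearMap) fun m => ?_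
    show incl R hN'L' (ra _) = MonoidAlgebra.single _ 1 - incl R hL.le (faceAlgHom R hL _)
    rw [ra_single]
    by_cases hm : (m : M) ∈ L
    · rw [dif_pos hm, map_zero, faceAlgHom_single_of_mem R hL m hm, incl_single, sub_self]
    · rw [dif_neg hm, faceAlgHom_single_of_not_mem R hL m hm, map_zero, sub_zero, incl_single]
  · refine ext' ((faceAlgHom R hL).toLinearMap ∘ₗ e) LinearMap.id fun m => ?_
    show faceAlgHom R hL (incl R hL.le _) = MonoidAlgebra.single _ 1
    rw [incl_single, faceAlgHom_single_of_mem R hL _ m.2]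

variable {S : Scheme.{u}}

lemma map_left_fst {G G' : Type} [AddCommMonoid G] [AddCommMonoid G'] (f : G →+ G') :
    (AMonS.map S f).left ≫ pullback.fst (AMon Zu.{u} G).hom _ =
      pullback.fst (AMon Zu.{u} G').hom _ ≫ (AMon.map Zu.{u} f).left :=
  pullback.lift_fst _ _ _

lemma faceMap_left_fst (hF : IsFace L' L) :
    (AMonS.faceMap S hF).left ≫ pullback.fst (AMon Zu.{u} L').hom _ =
      pullback.fst (AMon Zu.{u} L).hom _ ≫ (AMon.faceMap Zu.{u} hF).left :=
  pullback.lift_fst _ _ _

variable (hNL : N ≤ L) (hN'L' : N' ≤ L') (hL : IsFace L' L) (hN : IsFace N' N)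
  (hdiff : (N' : Set M) = (L' : Set M) \ ((L : Set M) \ (N : Set M)))

include hdiff in
theorem isPushout :
    IsPushout (AMonS.faceMap S hL) (AMonS.map S (AddSubmonoid.inclusion hNL))
      (AMonS.map S (AddSubmonoid.inclusion hN'L')) (AMonS.faceMap S hN) := by
  obtain ⟨h⟩ := exists_splitFP Zu.{u} hNL hN'L' hL hN hdiff
  refine IsPushout.of_map (Over.forget S) ?_ (FerrandTensor.isPushout_of_splitFP h
    (t := Limits.IsTerminal.from specULiftZIsTerminal S)
    (IsPullback.of_hasPullback (AMon Zu.{u} N').hom _) (IsPullback.of_hasPullback (AMon Zu.{u} N).hom _)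
    (IsPullback.of_hasPullback (AMon Zu.{u} L').hom _) (IsPullback.of_hasPullback (AMon Zu.{u} L).hom _)
    _ _ _ _ (faceMap_left_fst hL) (Over.w _) (map_left_fst _) (Over.w _) (map_left_fst _) (Over.w _)
    (faceMap_left_fst hN) (Over.w _))
  ext1
  have h1 := (AMonS.faceMap S hL ≫ AMonS.map S (AddSubmonoid.inclusion hN'L')).w
  apply pullback.hom_ext
  · rw [Over.comp_left, Over.comp_left, Category.assoc, Category.assoc, map_left_fst, faceMap_left_fst,
      reassoc_of% faceMap_left_fst, reassoc_of% map_left_fst, AMon.map_left, AMon.map_left, AMon.faceMap_left,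
      AMon.faceMap_left]
    refine congrArg (pullback.fst _ _ ≫ ·) ?_
    refine (Spec.map_comp _ _).symm.trans (Eq.trans (congrArg Spec.map ?_) (Spec.map_comp _ _))
    exact CommRingCat.hom_ext (congrArg AlgHom.toRingHom h.comm).symm
  · exact (AMonS.faceMap S hL ≫ AMonS.map S (AddSubmonoid.inclusion hN'L')).w.trans
      (AMonS.map S (AddSubmonoid.inclusion hNL) ≫ AMonS.faceMap S hN).w.symm

include hdiff in
theorem isPushout_whiskerRight (T : Over S) :
    IsPushout (AMonS.faceMap S hL ▷ T) (AMonS.map S (AddSubmonoid.inclusion hNL) ▷ T)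
      (AMonS.map S (AddSubmonoid.inclusion hN'L') ▷ T) (AMonS.faceMap S hN ▷ T) := by
  obtain ⟨h⟩ := exists_splitFP Zu.{u} hNL hN'L' hL hN hdiff
  let t := Limits.IsTerminal.from specULiftZIsTerminal S
  have hW : ∀ (G : AddSubmonoid M), IsPullback ((fst (AMonS S G) T).left ≫ pullback.fst (AMon Zu.{u} G).hom t)
      (snd (AMonS S G) T).left (Spec.map (CommRingCat.ofHom (algebraMap Zu.{u} (MonoidAlgebra Zu.{u} (Multiplicative G))))) (T.hom ≫ t) := by
    intro G
    have h1 : IsPullback (fst (AMonS S G) T).left (snd (AMonS S G) T).left (AMonS S G).hom T.hom :=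
      IsPullback.of_hasPullback _ _
    exact (h1.flip.paste_vert (IsPullback.of_hasPullback (AMon Zu.{u} G).hom t).flip).flip
  have e1 : ∀ {A B : Over S} (f : A ⟶ B), (f ▷ T).left ≫ (fst B T).left = (fst A T).left ≫ f.left := by
    intro A B f
    rw [← Over.comp_left, whiskerRight_fst, Over.comp_left]
  have e2 : ∀ {A B : Over S} (f : A ⟶ B), (f ▷ T).left ≫ (snd B T).left = (snd A T).left := by
    intro A B f
    rw [← Over.comp_left, whiskerRight_snd]
  refine IsPushout.of_map (Over.forget S) ?_ (FerrandTensor.isPushout_of_splitFP h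
    (hW N') (hW N) (hW L') (hW L) _ _ _ _ ?_ (e2 _) ?_ (e2 _) ?_ (e2 _) ?_ (e2 _))
  · rw [← MonoidalCategory.comp_whiskerRight, ← MonoidalCategory.comp_whiskerRight,
      (isPushout hNL hN'L' hL hN hdiff).w]
  · exact ((Category.assoc _ _ _).symm.trans (congrArg (· ≫ _) (e1 _))).trans
      ((Category.assoc _ _ _).trans ((congrArg (_ ≫ ·) (faceMap_left_fst _)).trans (Category.assoc _ _ _).symm))
  · exact ((Category.assoc _ _ _).symm.trans (congrArg (· ≫ _) (e1 _))).trans
      ((Category.assoc _ _ _).trans ((congrArg (_ ≫ ·) (map_left_fst _)).trans (Category.assoc _ _ _).symm))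
  · exact ((Category.assoc _ _ _).symm.trans (congrArg (· ≫ _) (e1 _))).trans
      ((Category.assoc _ _ _).trans ((congrArg (_ ≫ ·) (map_left_fst _)).trans (Category.assoc _ _ _).symm))
  · exact ((Category.assoc _ _ _).symm.trans (congrArg (· ≫ _) (e1 _))).trans
      ((Category.assoc _ _ _).trans ((congrArg (_ ≫ ·) (faceMap_left_fst _)).trans (Category.assoc _ _ _).symm))

include hdiff in
theorem isPullback_attr {X : Over S} (a : MonAct (AMonS S M) X) :
    IsPullback (attrMap a hN'L') (attrFace a hN) (attrFace a hL) (attrMap a hNL) := by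
  refine IsPullback.of_forall_isPullback_app fun T => ?_
  rw [CategoryTheory.Limits.Types.isPullback_iff]
  have hp := isPushout_whiskerRight hNL hN'L' hL hN hdiff (unop T)
  refine ⟨?_, ?_, ?_⟩
  · refine ConcreteCategory.hom_ext _ _ fun φ => Subtype.ext ?_
    show (AMonS.faceMap S hL ▷ unop T) ≫ (AMonS.map S (AddSubmonoid.inclusion hN'L') ▷ unop T) ≫ φ.1 =
      (AMonS.map S (AddSubmonoid.inclusion hNL) ▷ unop T) ≫ (AMonS.faceMap S hN ▷ unop T) ≫ φ.1
    rw [← Category.assoc, hp.w, Category.assoc]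
  · rintro φ ψ ⟨h1, h2⟩
    exact Subtype.ext (hp.hom_ext (congrArg Subtype.val h1) (congrArg Subtype.val h2))
  · intro φ ψ hw
    let Φ := hp.desc φ.1 ψ.1 (congrArg Subtype.val hw)
    have hΦ1 : (AMonS.map S (AddSubmonoid.inclusion hN'L') ▷ unop T) ≫ Φ = φ.1 := hp.inl_desc _ _ _
    have hΦ2 : (AMonS.faceMap S hN ▷ unop T) ≫ Φ = ψ.1 := hp.inr_desc _ _ _
    refine ⟨⟨Φ, ?_⟩, Subtype.ext hΦ1, Subtype.ext hΦ2⟩
    let G := AMonS S M
    let T'' := G ⊗ unop T
    have hp' := isPushout_whiskerRight (S := S) hNL hN'L' hL hN hdiff T''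
    let σ : AMonS S N' ⊗ T'' ⟶ G ⊗ (AMonS S N' ⊗ unop T) :=
      lift (snd _ _ ≫ fst _ _) (lift (fst _ _) (snd _ _ ≫ snd _ _))
    let σ' : G ⊗ (AMonS S N' ⊗ unop T) ⟶ AMonS S N' ⊗ T'' :=
      lift (snd _ _ ≫ fst _ _) (lift (fst _ _) (snd _ _ ≫ snd _ _))
    have hσ : σ' ≫ σ = 𝟙 _ := by
      apply hom_ext_lift₂
      intro T' g z
      rw [← lift_comp_fst_snd z]
      simp [σ, σ', comp_lift, ← Category.assoc]
    unfold MonAct.IsEquivariant
    suffices key : σ ≫ ((subAct S M N').prod (MonAct.trivial G (unop T))).act ≫ Φ = σ ≫ (G ◁ Φ) ≫ a.act by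
      have := congrArg (σ' ≫ ·) key
      simpa [← Category.assoc, hσ] using this
    have nat : ∀ {G' : AddSubmonoid M} (c : AMonS S G' ⟶ AMonS S N')
        (hc : IsEquivariant (subAct S M G') (subAct S M N') c)
        (χ : AMonS S G' ⊗ unop T ⟶ X) (hχ : IsEquivariant ((subAct S M G').prod (MonAct.trivial G (unop T))) a χ),
        (c ▷ unop T) ≫ Φ = χ →
        (c ▷ T'') ≫ σ ≫ ((subAct S M N').prod (MonAct.trivial G (unop T))).act ≫ Φ =
          (c ▷ T'') ≫ σ ≫ (G ◁ Φ) ≫ a.act := by
      intro G' c hc χ hχ hcΦ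
      apply hom_ext_lift₂
      intro T' w z
      rw [← lift_comp_fst_snd z]
      generalize z ≫ fst _ _ = g
      generalize z ≫ snd _ _ = t
      have e : lift (w ≫ c) (lift g t) ≫ σ = lift g (lift (w ≫ c) t) := by
        simp only [σ, T'', comp_lift, lift_fst, lift_snd, lift_snd_assoc, lift_fst_assoc]
      rw [lift_whiskerRight_assoc, lift_whiskerRight_assoc, reassoc_of% e, reassoc_of% e, lift_prod_act_assoc,
        lift_trivial_act, lift_whiskerLeft_assoc]
      have h1 := (isEquivariant_iff _ _ _).mp hc T' g w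
      rw [← h1, ← Category.assoc (lift g w), ← lift_whiskerRight_assoc, hcΦ, (mem_eqvHom_iff χ).mp hχ,
        ← hcΦ, ← lift_whiskerRight_assoc]
    refine hp'.hom_ext ?_ ?_
    · exact nat _ (isEquivariant_restrict_regular _ _ _ (by rw [← AMonS.map_comp]; rfl)) φ.1 φ.2 hΦ1
    · exact nat _ (isEquivariant_faceMapS S hN) ψ.1 ψ.2 hΦ2

end Groth.Agent.Misc9.MagnetPush
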