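import Groth.Prelude.Def_Magnet
import Mathlib.CategoryTheory.Sites.Subcanonical

/-!
The functor of equivariant maps and the fixed-point subfunctor are sheaves for every subcanonical
topology.
-/

universe v₁ u₁

open CategoryTheory MonoidalCategory CartesianMonoidalCategory MonObj Opposite
open Magnet Magnet.MonAct

namespace Groth.Agent.Misc9.MagnetSheaf

variable {C : Type u₁} [Category.{v₁} C] [CartesianMonoidalCategory C]
variable {A B X : C} [MonObj A]
variable (J : GrothendieckTopology C) [J.Subcanonical]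

/-- maps into a representable are determined on a covering sieve -/
lemma hom_ext_of_sieve {T : C} {R : Sieve T} (hR : R ∈ J T) {f g : T ⟶ X}
    (h : ∀ ⦃Z : C⦄ (t : Z ⟶ T), R t → t ≫ f = t ≫ g) : f = g :=
  ((GrothendieckTopology.Subcanonical.isSheaf_of_isRepresentable (J := J) (yoneda.obj X)) R hR).isSeparatedFor.ext
    fun _ t ht => h t ht

theorem isSheaf_fixedPsh (a : MonAct A X) : Presheaf.IsSheaf J (fixedPsh a) := by
  rw [isSheaf_iff_isSheaf_of_type]
  intro T R hR x hx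
  have hS := (GrothendieckTopology.Subcanonical.isSheaf_of_isRepresentable (J := J) (yoneda.obj X)) R hR
  let y : Presieve.FamilyOfElements (yoneda.obj X) (R : Presieve T) := fun Z f hf => (x f hf).1
  have hy : y.Compatible := fun Y₁ Y₂ Z g₁ g₂ f₁ f₂ h₁ h₂ w => congrArg Subtype.val (hx g₁ g₂ h₁ h₂ w)
  obtain ⟨φ, hφ, -⟩ := hS y hy
  have hφ' : ∀ ⦃Z : C⦄ (t : Z ⟶ T) (ht : R t), t ≫ φ = (x t ht).1 := hφ
  refine ⟨⟨φ, ?_⟩, fun Z f hf => Subtype.ext (hφ' f hf), ?_⟩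
  · intro T' t g
    change T' ⟶ T at t
    refine hom_ext_of_sieve J (J.pullback_stable t hR) fun Z h hh => ?_
    rw [← Category.assoc, comp_lift, ← Category.assoc, hφ' _ hh]
    simpa using (x (h ≫ t) hh).2 Z (𝟙 Z) (h ≫ g)
  · intro z hz
    refine Subtype.ext (hom_ext_of_sieve J hR fun Z t ht => ?_)
    exact (congrArg Subtype.val (hz t ht)).trans (hφ' t ht).symm

theorem isSheaf_eqvHom (ρ : MonAct A B) (a : MonAct A X)
    (hJ : ∀ (T : C) (R : Sieve T), R ∈ J T → R.pullback (snd B T) ∈ J (B ⊗ T)) :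
    Presheaf.IsSheaf J (eqvHom ρ a) := by
  rw [isSheaf_iff_isSheaf_of_type]
  intro T R hR x hx
  have hR' := hJ T R hR
  have hS := (GrothendieckTopology.Subcanonical.isSheaf_of_isRepresentable (J := J) (yoneda.obj X))
    (R.pullback (snd B T)) hR'
  have hxr : ∀ ⦃Z W : C⦄ (t : Z ⟶ T) (ht : R t) (g : W ⟶ Z),
      (x (g ≫ t) (R.downward_closed ht g)).1 = (B ◁ g) ≫ (x t ht).1 := by
    intro Z W t ht g
    have := hx (𝟙 W) g (R.downward_closed ht g) ht (by simp)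
    have h2 := congrArg Subtype.val this
    simpa using h2
  have hc : ∀ ⦃Z : C⦄ (t t' : Z ⟶ T) (ht : R t) (ht' : R t'), t = t' → (x t ht).1 = (x t' ht').1 := by
    intro Z t t' ht ht' h; subst h; rfl
  let y : Presieve.FamilyOfElements (yoneda.obj X) ((R.pullback (snd B T)) : Presieve (B ⊗ T)) :=
    fun Z f hf => lift (f ≫ fst B T) (𝟙 Z) ≫ (x (f ≫ snd B T) hf).1
  have hy : y.Compatible := by
    rw [Presieve.compatible_iff_sieveCompatible]
    intro Y Z f g hf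
    show lift ((g ≫ f) ≫ fst B T) (𝟙 Z) ≫ (x ((g ≫ f) ≫ snd B T) _).1
      = g ≫ lift (f ≫ fst B T) (𝟙 Y) ≫ (x (f ≫ snd B T) hf).1
    rw [hc _ (g ≫ f ≫ snd B T) _ (R.downward_closed hf g) (Category.assoc g f _)]
    rw [hxr _ hf g, Category.assoc, lift_whiskerLeft_assoc, Category.id_comp, comp_lift_assoc, Category.comp_id]
  obtain ⟨φ, hφ, -⟩ := hS y hy
  have hφ' : ∀ ⦃Z : C⦄ (b : Z ⟶ B) (t : Z ⟶ T) (ht : R t),
      lift b t ≫ φ = lift b (𝟙 Z) ≫ (x t ht).1 := by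
    intro Z b t ht
    have hmem : R.pullback (snd B T) (lift b t) := by simpa using ht
    have h : lift b t ≫ φ = lift (lift b t ≫ fst B T) (𝟙 Z) ≫ (x (lift b t ≫ snd B T) hmem).1 := hφ _ hmem
    rw [h, lift_fst, hc _ t _ ht (lift_snd b t)]
  have hres : ∀ ⦃Z : C⦄ (t : Z ⟶ T) (ht : R t), (B ◁ t) ≫ φ = (x t ht).1 := by
    intro Z t ht
    apply hom_ext_lift₂
    intro W b z
    rw [lift_whiskerLeft_assoc, hφ' b (z ≫ t) (R.downward_closed ht z), hxr t ht z, lift_whiskerLeft_assoc,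
      Category.id_comp]
  refine ⟨⟨φ, ?_⟩, fun Z f hf => Subtype.ext (hres f hf), ?_⟩
  · rw [mem_eqvHom_iff]
    intro T' g b t
    change T' ⟶ T at t
    refine hom_ext_of_sieve J (J.pullback_stable t hR) fun Z h hh => ?_
    have heq := (mem_eqvHom_iff (x (h ≫ t) hh).1).mp (x (h ≫ t) hh).2 Z (h ≫ g) (h ≫ b) (𝟙 Z)
    simp only [comp_lift_assoc]
    rw [hφ' _ _ hh, heq, hφ' _ _ hh]
  · intro z hz
    refine Subtype.ext (hom_ext_of_sieve J hR' fun Z f hf => ?_)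
    have h1 : z.1 = z.1 := rfl
    have h2 : (B ◁ (f ≫ snd B T)) ≫ z.1 = (x (f ≫ snd B T) hf).1 := congrArg Subtype.val (hz _ hf)
    have h3 : f = lift (f ≫ fst B T) (𝟙 Z) ≫ (B ◁ (f ≫ snd B T)) := by
      rw [lift_whiskerLeft, Category.id_comp, lift_comp_fst_snd]
    calc f ≫ z.1 = lift (f ≫ fst B T) (𝟙 Z) ≫ (B ◁ (f ≫ snd B T)) ≫ z.1 := by
            rw [← Category.assoc, ← h3]
      _ = lift (f ≫ fst B T) (𝟙 Z) ≫ (x (f ≫ snd B T) hf).1 := by rw [h2]
      _ = f ≫ φ := by rw [← hres _ hf, ← Category.assoc, ← h3]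

end Groth.Agent.Misc9.MagnetSheaf
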