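import Groth.Agent.Misc9.MagnetPts
import Groth.Agent.Misc9.MagnetDom
import Mathlib.AlgebraicGeometry.Sites.Fpqc
import Mathlib.RingTheory.Flat.FaithfullyFlat.Basic
import Mathlib.RingTheory.RingHom.FaithfullyFlat

/-!
Attractors of subgroups are fixed points: descent along `A(M) ⟶ A(Z)`.
-/

universe u

set_option maxHeartbeats 800000
set_option synthInstance.maxHeartbeats 40000

open CategoryTheory CategoryTheory.Limits MonoidalCategory CartesianMonoidalCategory MonObj AlgebraicGeometry Opposite
open Magnet Magnet.MonAct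

namespace Groth.Agent.Misc9.MagnetSub

open MagnetPts

variable {S : Scheme.{u}}

/-- morphisms over `S` are determined on affine test objects -/
lemma ext_of_affine {T W : Over S} {f g : T ⟶ W}
    (h : ∀ (K : CommRingCat.{u}) (s : Spec K ⟶ S) (t : Over.mk s ⟶ T), t ≫ f = t ≫ g) : f = g := by
  ext1
  refine T.left.affineCover.hom_ext _ _ fun i => ?_
  exact congrArg Over.Hom.left (h _ (T.left.affineCover.f i ≫ T.hom) (Over.homMk (T.left.affineCover.f i) rfl))

variable {M : Type} [AddCommGroup M] (Z : AddSubgroup M)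

lemma faithfullyFlat_subgroup (R : Type u) [CommRing R] :
    (MonoidAlgebra.mapDomainBialgHom R
      (AddMonoidHom.toMultiplicative Z.toAddSubmonoid.subtype)).toAlgHom.toRingHom.FaithfullyFlat := by
  classical
  let φ := (MonoidAlgebra.mapDomainBialgHom R
      (AddMonoidHom.toMultiplicative Z.toAddSubmonoid.subtype)).toAlgHom
  let B := MonoidAlgebra R (Multiplicative Z.toAddSubmonoid)
  let B' := MonoidAlgebra R (Multiplicative M)
  letI : Algebra B B' := φ.toRingHom.toAlgebra
  have hφ : ∀ n : Multiplicative Z.toAddSubmonoid, φ (MonoidAlgebra.single n 1) =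
      MonoidAlgebra.single (Multiplicative.ofAdd ((Multiplicative.toAdd n : Z.toAddSubmonoid) : M)) 1 := by
    intro n; simp [φ]
  let σ : M ⧸ Z → M := Quotient.out
  have hσ : ∀ q, (QuotientAddGroup.mk (σ q) : M ⧸ Z) = q := fun q => Quotient.out_eq q
  let v : M ⧸ Z → B' := fun q => MonoidAlgebra.single (Multiplicative.ofAdd (σ q)) 1
  let κ : M ⧸ Z → (B' →ₗ[R] B) := fun q =>
    (MonoidAlgebra.basis (Multiplicative M) R).constr R fun m =>
      if hm : (Multiplicative.toAdd m) - σ q ∈ Z then
        MonoidAlgebra.single (Multiplicative.ofAdd (⟨(Multiplicative.toAdd m) - σ q, hm⟩ : Z.toAddSubmonoid)) 1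
      else 0
  have hκ : ∀ q q' (b : B), κ q (φ b * v q') = if q' = q then b else 0 := by
    intro q q' b
    induction b using MonoidAlgebra.induction_linear with
    | zero => simp
    | add x y hx hy => rw [map_add, add_mul, map_add, hx, hy]; split <;> simp
    | single n r =>
      have h1 : (MonoidAlgebra.single n r : B) = r • MonoidAlgebra.single n 1 := by simp
      rw [h1, map_smul, smul_mul_assoc, map_smul, hφ, MonoidAlgebra.single_mul_single, _root_.one_mul]
      have h2 : κ q (MonoidAlgebra.single ((Multiplicative.ofAdd ((Multiplicative.toAdd n : Z.toAddSubmonoid) : M)) *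
          Multiplicative.ofAdd (σ q')) 1) = if q' = q then MonoidAlgebra.single n 1 else 0 := by
        rw [← MonoidAlgebra.basis_apply]
        simp only [κ, Module.Basis.constr_basis]
        by_cases hq : q' = q
        · subst hq
          rw [if_pos rfl, dif_pos (by simp)]
          congr 1
          apply Multiplicative.toAdd.injective
          apply Subtype.ext
          simp
        · rw [if_neg hq, dif_neg]
          intro hm
          refine hq ?_
          rw [← hσ q', ← hσ q, QuotientAddGroup.eq_iff_sub_mem]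
          have hn : ((Multiplicative.toAdd n : Z.toAddSubmonoid) : M) ∈ Z := (Multiplicative.toAdd n).2
          simpa [toAdd_mul, add_sub_assoc] using Z.sub_mem hm hn
      rw [h2]
      split
      · rfl
      · simp
  have hli : LinearIndependent B v := by
    rw [linearIndependent_iff']
    intro s g hg q hq
    have h := congrArg (κ q) hg
    rw [map_sum, map_zero] at h
    simp only [Algebra.smul_def, RingHom.algebraMap_toAlgebra] at h
    simp only [AlgHom.toRingHom_eq_coe, RingHom.coe_coe, hκ] at h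
    simpa [hq] using h
  have hsp : ⊤ ≤ Submodule.span B (Set.range v) := by
    intro x _
    induction x using MonoidAlgebra.induction_linear with
    | zero => exact Submodule.zero_mem _
    | add x y hx hy => exact Submodule.add_mem _ (hx trivial) (hy trivial)
    | single m r =>
      let q : M ⧸ Z := QuotientAddGroup.mk (Multiplicative.toAdd m)
      have hm : Multiplicative.toAdd m - σ q ∈ Z := by
        rw [← QuotientAddGroup.eq_iff_sub_mem, hσ]
      have e : (MonoidAlgebra.single m r : B') =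
          (r • MonoidAlgebra.single (Multiplicative.ofAdd (⟨_, hm⟩ : Z.toAddSubmonoid)) 1 : B) • v q := by
        rw [Algebra.smul_def, RingHom.algebraMap_toAlgebra]
        show _ = φ _ * _
        rw [map_smul, hφ, smul_mul_assoc, MonoidAlgebra.single_mul_single, _root_.one_mul]
        simp [v, ← ofAdd_add]
      rw [e]
      exact Submodule.smul_mem _ _ (Submodule.subset_span ⟨q, rfl⟩)
  have : Module.Free B B' := Module.Free.of_basis (Module.Basis.mk hli hsp)
  rcases subsingleton_or_nontrivial R with hR | hR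
  · have : Subsingleton B := Module.subsingleton R B
    have : Subsingleton B' := Module.subsingleton R B'
    show Module.FaithfullyFlat B B'
    exact ⟨fun m hm => absurd (Subsingleton.elim _ _) hm.ne_top⟩
  · show Module.FaithfullyFlat B B'
    infer_instance

lemma flat_surj_qc_map_whiskerRight (T : Over S) :
    Flat (AMonS.map S Z.toAddSubmonoid.subtype ▷ T).left ∧
      Surjective (AMonS.map S Z.toAddSubmonoid.subtype ▷ T).left ∧
      QuasiCompact (AMonS.map S Z.toAddSubmonoid.subtype ▷ T).left := by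
  let t := trm S
  let f := Z.toAddSubmonoid.subtype
  have hA : ∀ (P : Type) [AddCommMonoid P], IsPullback (pullback.fst (AMon (ULift.{u} ℤ) P).hom t)
      (AMonS S P).hom (AMon (ULift.{u} ℤ) P).hom t :=
    fun P _ => IsPullback.of_hasPullback _ _
  have hg : IsPullback (pullback.fst (AMon (ULift.{u} ℤ) M).hom t) (AMonS.map S f).left
      (AMon.map (ULift.{u} ℤ) f).left (pullback.fst (AMon (ULift.{u} ℤ) Z.toAddSubmonoid).hom t) := by
    refine IsPullback.of_bot ?_ ?_ (hA Z.toAddSubmonoid)
    · rw [Over.w (AMon.map (ULift.{u} ℤ) f), Over.w (AMonS.map S f)]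
      exact hA M
    · exact (pullback.lift_fst _ _ _).symm
  have hi := (MagnetDom.isPullback_whiskerRight_left (AMonS.map S f) T).paste_horiz hg
  have hff := faithfullyFlat_subgroup Z (ULift.{u} ℤ)
  have hflat : Flat (AMon.map (ULift.{u} ℤ) f).left := by
    rw [AMon.map_left]
    exact (HasRingHomProperty.Spec_iff (P := @Flat)).mpr hff.flat
  have hsurj : Surjective (AMon.map (ULift.{u} ℤ) f).left := by
    rw [AMon.map_left]
    exact ⟨((RingHom.FaithfullyFlat.iff_flat_and_comap_surjective).mp hff).2⟩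
  have hqc : QuasiCompact (AMon.map (ULift.{u} ℤ) f).left := by
    rw [AMon.map_left]
    exact (show ∀ {A B : CommRingCat.{u}} (g : A ⟶ B), QuasiCompact (Spec.map g) from fun g => inferInstance) _
  exact ⟨MorphismProperty.of_isPullback (P := @Flat) hi hflat,
    MorphismProperty.of_isPullback (P := @Surjective) hi hsurj,
    MorphismProperty.of_isPullback (P := @QuasiCompact) hi hqc⟩

variable {X : Over S} (a : MonAct (AMonS S M) X)

lemma map_mk_comp_subtype :
    AMonS.map S (QuotientAddGroup.mk' Z) ≫ AMonS.map S Z.toAddSubmonoid.subtype = 1 := by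
  refine ext_of_affine fun K s t => ?_
  obtain ⟨χ, rfl⟩ := chiPt_surjective s t
  rw [← Category.assoc, chiPt_comp_map, chiPt_comp_map, MonObj.comp_one, ← chiPt_one]
  congr 1
  refine MonoidHom.ext fun n => ?_
  show χ (Multiplicative.ofAdd ((QuotientAddGroup.mk ((Multiplicative.toAdd n : Z.toAddSubmonoid) : M)) : M ⧸ Z)) = 1
  rw [(QuotientAddGroup.eq_zero_iff _).mpr (Multiplicative.toAdd n).2, ofAdd_zero, map_one]

/-- the evaluation at the unit lands in the fixed points -/
noncomputable def toFixed :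
    attr a Z.toAddSubmonoid ⟶ fixedPsh (a.restrict (AMonS.map S (QuotientAddGroup.mk' Z))) where
  app T := TypeCat.ofHom fun φ => ⟨(attrToX a Z.toAddSubmonoid).app T φ, fun T' t g => by
    have h := (mem_eqvHom_iff φ.1).mp φ.2 T' (g ≫ AMonS.map S (QuotientAddGroup.mk' Z)) 1 t
    simp only [subAct, lift_restrict_act, lift_regular_act, Category.assoc, map_mk_comp_subtype,
      MonObj.comp_one, _root_.mul_one] at h
    have e : t ≫ (attrToX a Z.toAddSubmonoid).app T φ = lift (1 : T' ⟶ _) t ≫ φ.1 := by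
      show t ≫ lift (toUnit _ ≫ η) (𝟙 _) ≫ φ.1 = _
      rw [comp_lift_assoc, Category.comp_id, ← Category.assoc, comp_toUnit, ← Hom.one_def]
    rw [lift_restrict_act, e]
    exact h.symm⟩
  naturality T T' t := ConcreteCategory.hom_ext _ _ fun φ =>
    Subtype.ext (ConcreteCategory.congr_hom ((attrToX a Z.toAddSubmonoid).naturality t) φ)

lemma toFixed_comp : toFixed Z a ≫ fixedPshι _ = attrToX a Z.toAddSubmonoid := by
  ext T φ
  rfl

lemma exists_of_fixed (T : Over S)
    (x : (fixedPsh (a.restrict (AMonS.map S (QuotientAddGroup.mk' Z)))).obj (op T)) :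
    ∃ φ : (attr a Z.toAddSubmonoid).obj (op T), (toFixed Z a).app (op T) φ = x := by
  classical
  obtain ⟨x, hx⟩ := x
  let N := Z.toAddSubmonoid
  let j := AMonS.map S N.subtype
  let jT := j ▷ T
  obtain ⟨h1, h2, h3⟩ := flat_surj_qc_map_whiskerRight Z T
  let β : AMonS S M ⊗ T ⟶ X := (AMonS S M ◁ x) ≫ a.act
  have hker : ∀ {P : Over S} (g₁ g₂ : P ⟶ AMonS S M ⊗ T), g₁ ≫ jT = g₂ ≫ jT → g₁ ≫ β = g₂ ≫ β := by
    intro P g₁ g₂ h
    refine ext_of_affine fun K s t => ?_
    rw [← Category.assoc t g₁ β, ← Category.assoc t g₂ β]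
    have h' : (t ≫ g₁) ≫ jT = (t ≫ g₂) ≫ jT := by rw [Category.assoc, Category.assoc, h]
    generalize t ≫ g₁ = u₁ at h' ⊢
    generalize t ≫ g₂ = u₂ at h' ⊢
    have hsnd : u₁ ≫ snd _ _ = u₂ ≫ snd _ _ := by
      have := congrArg (· ≫ snd _ _) h'
      simpa [jT] using this
    obtain ⟨χ₁, hχ₁⟩ := chiPt_surjective s (u₁ ≫ fst _ _)
    obtain ⟨χ₂, hχ₂⟩ := chiPt_surjective s (u₂ ≫ fst _ _)
    have hfst : chiPt s χ₁ ≫ j = chiPt s χ₂ ≫ j := by
      rw [hχ₁, hχ₂, Category.assoc, Category.assoc]
      have := congrArg (· ≫ fst _ _) h'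
      simpa [jT] using this
    have hres : ∀ z : M, z ∈ Z → χ₁ (Multiplicative.ofAdd z) = χ₂ (Multiplicative.ofAdd z) := by
      intro z hz
      rw [chiPt_comp_map, chiPt_comp_map] at hfst
      have h5 := congrArg (fun m : Over.mk s ⟶ AMonS S N => m.left ≫ pullback.fst _ _) hfst
      simp only [chiPt_left_fst] at h5
      have h6 := RingHom.congr_fun (congrArg CommRingCat.Hom.hom (Spec.map_injective h5))
        (MonoidAlgebra.single (Multiplicative.ofAdd (⟨z, hz⟩ : N)) 1)
      simpa [ev_single] using h6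
    let ψ : M → K := fun m => χ₂ (Multiplicative.ofAdd m) * χ₁ (Multiplicative.ofAdd (-m))
    have hψadd : ∀ m m', ψ (m + m') = ψ m * ψ m' := by
      intro m m'
      simp only [ψ, neg_add, ofAdd_add, map_mul]
      ring
    have hψZ : ∀ z ∈ Z, ψ z = 1 := by
      intro z hz
      simp only [ψ]
      rw [← hres z hz, ← map_mul, ← ofAdd_add, add_neg_cancel, ofAdd_zero, map_one]
    have hwd : ∀ m m' : M, (QuotientAddGroup.mk m : M ⧸ Z) = QuotientAddGroup.mk m' → ψ m = ψ m' := by
      intro m m' hmm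
      have hz : m - m' ∈ Z := (QuotientAddGroup.eq_iff_sub_mem).mp hmm
      conv_lhs => rw [show m = (m - m') + m' by abel, hψadd, hψZ _ hz, _root_.one_mul]
    let ψ' : Multiplicative (M ⧸ Z) →* K :=
      { toFun := fun q => ψ (Quotient.out (Multiplicative.toAdd q))
        map_one' := by
          refine (hwd _ 0 ((Quotient.out_eq _).trans rfl)).trans ?_
          exact hψZ 0 Z.zero_mem
        map_mul' := fun q q' => by
          rw [← hψadd]
          refine hwd _ _ ?_
          have ho : ∀ q : M ⧸ Z, (QuotientAddGroup.mk (Quotient.out q) : M ⧸ Z) = q := fun q => Quotient.out_eq q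
          rw [ho, QuotientAddGroup.mk_add, ho, ho]
          exact toAdd_mul q q' }
    have hχ : χ₂ = χ₁ * ψ'.comp (AddMonoidHom.toMultiplicative (QuotientAddGroup.mk' Z)) := by
      refine MonoidHom.ext fun m => ?_
      show χ₂ m = χ₁ m * ψ (Quotient.out (QuotientAddGroup.mk (Multiplicative.toAdd m) : M ⧸ Z))
      rw [hwd _ (Multiplicative.toAdd m) (Quotient.out_eq _)]
      show χ₂ m = χ₁ m * (χ₂ m * χ₁ (Multiplicative.ofAdd (-(Multiplicative.toAdd m))))
      rw [mul_left_comm, ← map_mul]
      conv_rhs => rw [show m * Multiplicative.ofAdd (-(Multiplicative.toAdd m)) = 1 from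
        Multiplicative.toAdd.injective (add_neg_cancel _), map_one, _root_.mul_one]
    have hu₁ : u₁ = lift (chiPt s χ₁) (u₁ ≫ snd _ _) := by rw [hχ₁, lift_comp_fst_snd]
    have hu₂ : u₂ = lift (chiPt s χ₂) (u₁ ≫ snd _ _) := by rw [hχ₂, hsnd, lift_comp_fst_snd]
    rw [hu₁, hu₂]
    show lift _ _ ≫ (AMonS S M ◁ x) ≫ a.act = lift _ _ ≫ (AMonS S M ◁ x) ≫ a.act
    rw [lift_whiskerLeft_assoc, lift_whiskerLeft_assoc, hχ, ← chiPt_mul, ← chiPt_comp_map, a.lift_mul_act]
    have := hx _ (u₁ ≫ snd _ _) (chiPt s ψ')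
    rw [lift_restrict_act] at this
    rw [this]
  have hdesc : ∀ {W : Scheme.{u}} (g₁ g₂ : W ⟶ (AMonS S M ⊗ T).left), g₁ ≫ jT.left = g₂ ≫ jT.left →
      g₁ ≫ β.left = g₂ ≫ β.left := by
    intro W g₁ g₂ h
    have hs : g₂ ≫ (AMonS S M ⊗ T).hom = g₁ ≫ (AMonS S M ⊗ T).hom := by
      rw [← Over.w jT, ← Category.assoc, ← h, Category.assoc]
    exact congrArg Over.Hom.left (hker (P := Over.mk (g₁ ≫ (AMonS S M ⊗ T).hom)) (Over.homMk g₁ rfl)
      (Over.homMk g₂ hs) (Over.OverMorphism.ext h))
  haveI := h1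
  haveI := h2
  haveI := h3
  let φ0 : (AMonS S N ⊗ T).left ⟶ X.left := EffectiveEpi.desc jT.left β.left hdesc
  have hφ0 : jT.left ≫ φ0 = β.left := EffectiveEpi.fac jT.left β.left hdesc
  haveI : Epi jT.left := Flat.epi_of_flat_of_surjective _
  let φ : AMonS S N ⊗ T ⟶ X := Over.homMk φ0 (by
    rw [← cancel_epi jT.left, ← Category.assoc, hφ0, Over.w, Over.w])
  have hφ : jT ≫ φ = β := by
    ext1
    exact hφ0
  refine ⟨⟨φ, ?_⟩, ?_⟩
  · -- equivariance
    have hpb : IsPullback (AMonS S M ◁ jT).left (snd (AMonS S M) (AMonS S M ⊗ T)).left (snd (AMonS S M) (AMonS S N ⊗ T)).left jT.left := by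
      have hQ : IsPullback (fst (AMonS S M) (AMonS S N ⊗ T)).left (snd (AMonS S M) (AMonS S N ⊗ T)).left
          (AMonS S M).hom (AMonS S N ⊗ T).hom := IsPullback.of_hasPullback _ _
      have hQ' : IsPullback (fst (AMonS S M) (AMonS S M ⊗ T)).left (snd (AMonS S M) (AMonS S M ⊗ T)).left
          (AMonS S M).hom (AMonS S M ⊗ T).hom := IsPullback.of_hasPullback _ _
      refine IsPullback.of_right ?_ ?_ hQ
      · rw [← Over.comp_left, whiskerLeft_fst, Over.w jT]; exact hQ'
      · rw [← Over.comp_left, ← Over.comp_left, whiskerLeft_snd]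
    haveI : Flat (AMonS S M ◁ jT).left := MorphismProperty.of_isPullback (P := @Flat) hpb.flip h1
    haveI : Surjective (AMonS S M ◁ jT).left := MorphismProperty.of_isPullback (P := @Surjective) hpb.flip h2
    haveI : Epi (AMonS S M ◁ jT).left := Flat.epi_of_flat_of_surjective _
    haveI : Epi (AMonS S M ◁ jT) := (Over.forget S).epi_of_epi_map (show Epi (AMonS S M ◁ jT).left from inferInstance)
    show MonAct.IsEquivariant _ _ φ
    unfold MonAct.IsEquivariant
    rw [← cancel_epi (AMonS S M ◁ jT)]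
    apply hom_ext_lift₂
    intro T' g z
    rw [← lift_comp_fst_snd z]
    generalize z ≫ fst _ _ = m
    generalize z ≫ snd _ _ = t
    rw [lift_whiskerLeft_assoc, lift_whiskerLeft_assoc, lift_whiskerLeft_assoc]
    simp only [jT, lift_whiskerRight, lift_prod_act_assoc, lift_trivial_act, subAct, lift_restrict_act,
      lift_regular_act]
    rw [lift_regular_act, ← MonObj.mul_comp, ← lift_whiskerRight_assoc (g * m) t j, ← lift_whiskerRight m t j, Category.assoc, hφ]
    show lift (g * m) t ≫ (AMonS S M ◁ x) ≫ a.act = lift g (lift m t ≫ (AMonS S M ◁ x) ≫ a.act) ≫ a.act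
    rw [lift_whiskerLeft_assoc, lift_whiskerLeft_assoc, a.lift_mul_act]
  · apply Subtype.ext
    show lift (toUnit T ≫ η[AMonS S N]) (𝟙 T) ≫ φ = x
    have e : (toUnit T ≫ η[AMonS S N]) = (1 : T ⟶ AMonS S M) ≫ j := by
      rw [MonObj.one_comp, Hom.one_def]
    rw [e, ← lift_whiskerRight_assoc, hφ]
    show lift 1 (𝟙 T) ≫ (AMonS S M ◁ x) ≫ a.act = x
    rw [lift_whiskerLeft_assoc, Category.id_comp, a.lift_one_act]

theorem exists_iso :
    ∃ e : attr a Z.toAddSubmonoid ≅ fixedPsh (a.restrict (AMonS.map S (QuotientAddGroup.mk' Z))),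
      e.hom ≫ fixedPshι _ = attrToX a Z.toAddSubmonoid := by
  have : IsIso (toFixed Z a) := by
    rw [NatTrans.isIso_iff_isIso_app]
    intro T
    rw [isIso_iff_bijective]
    refine ⟨fun φ ψ h => ?_, fun x => exists_of_fixed Z a (unop T) x⟩
    obtain ⟨h1, h2, h3⟩ := flat_surj_qc_map_whiskerRight Z (unop T)
    haveI := h1
    haveI := h2
    haveI : Epi (AMonS.map S Z.toAddSubmonoid.subtype ▷ unop T).left := Flat.epi_of_flat_of_surjective _
    haveI : Epi (AMonS.map S Z.toAddSubmonoid.subtype ▷ unop T) :=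
      (Over.forget S).epi_of_epi_map (show Epi (AMonS.map S Z.toAddSubmonoid.subtype ▷ unop T).left from inferInstance)
    apply Subtype.ext
    rw [← cancel_epi (AMonS.map S Z.toAddSubmonoid.subtype ▷ unop T)]
    refine ((MagnetDom.whiskerRight_comp_eq _ a φ.1 φ.2).trans ?_).trans
      (MagnetDom.whiskerRight_comp_eq _ a ψ.1 ψ.2).symm
    exact congrArg (fun z => (AMonS S M ◁ z) ≫ a.act) (congrArg Subtype.val h)
  exact ⟨asIso (toFixed Z a), toFixed_comp Z a⟩

end Groth.Agent.Misc9.MagnetSub
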