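import Groth.Agent.Misc9.BiratRadicial
import Mathlib.Topology.Sheaves.SheafCondition.UniqueGluing

/-! Sections of normal integral schemes. -/

universe u

namespace Groth.Agent.Misc9.NormalSections

open AlgebraicGeometry CategoryTheory TopologicalSpace Opposite

variable {X : Scheme.{u}} [IsIntegral X]

theorem germ_res {U V : X.Opens} [Nonempty U] [Nonempty V] (h : V ≤ U) (s : Γ(X, U)) :
    X.germToFunctionField V (X.presheaf.map (homOfLE h).op s) = X.germToFunctionField U s :=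
  X.presheaf.germ_res_apply (homOfLE h) _ _ s

theorem isIntegrallyClosed_top (hX : Pi1.IsNormalScheme X) : IsIntegrallyClosed Γ(X, ⊤) := by
  haveI : Nonempty (⊤ : X.Opens) := ⟨⟨genericPoint X, trivial⟩⟩
  let F := FractionRing Γ(X, ⊤)
  have hinj := X.germToFunctionField_injective ⊤
  let ψ : F →+* X.functionField := IsFractionRing.lift (g := (X.germToFunctionField ⊤).hom) hinj
  refine (isIntegrallyClosed_iff F).mpr fun {z} hz ↦ ?_
  have hψ : ψ.comp (algebraMap Γ(X, ⊤) F) = (X.germToFunctionField ⊤).hom :=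
    RingHom.ext fun a ↦ IsFractionRing.lift_algebraMap hinj a
  have hloc : ∀ U : {U : X.affineOpens // Nonempty U.1},
      ∃ s : Γ(X, U.1.1), haveI := U.2; X.germToFunctionField U.1.1 s = ψ z := by
    rintro ⟨U, hU⟩
    have := BiratRadicial.isIntegrallyClosed_affine hX U
    have := functionField_isFractionRing_of_isAffineOpen X U.1 U.2
    obtain ⟨P, hP, hPz⟩ := hz
    have hi : IsIntegral Γ(X, U.1) (ψ z) := by
      refine ⟨P.map (X.presheaf.map (homOfLE (le_top : U.1 ≤ ⊤)).op).hom, hP.map _, ?_⟩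
      rw [Polynomial.eval₂_map]
      have e : (algebraMap Γ(X, U.1) X.functionField).comp (X.presheaf.map (homOfLE (le_top : U.1 ≤ ⊤)).op).hom =
          ψ.comp (algebraMap Γ(X, ⊤) F) := by
        rw [hψ]; ext a; exact germ_res le_top a
      rw [e, ← Polynomial.hom_eval₂, hPz, map_zero]
    exact IsIntegrallyClosed.algebraMap_eq_of_integral hi
  choose s hs using hloc
  let V : {U : X.affineOpens // Nonempty U.1} → X.Opens := fun U ↦ U.1.1
  have hcov : (⊤ : X.Opens) ≤ iSup V := fun x _ ↦ by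
    obtain ⟨U, hU, hxU, -⟩ := Opens.isBasis_iff_nbhd.mp X.isBasis_affineOpens (Opens.mem_top x)
    exact Opens.mem_iSup.mpr ⟨⟨⟨U, hU⟩, ⟨⟨x, hxU⟩⟩⟩, hxU⟩
  have hcomp : TopCat.Presheaf.IsCompatible X.presheaf V s := by
    intro U W
    haveI := U.2
    haveI := W.2
    haveI : Nonempty (V U ⊓ V W : X.Opens) :=
      ⟨⟨genericPoint X, (genericPoint_spec X).mem_open_set_iff (V U).isOpen |>.mpr
        (by simpa using U.2.elim fun p ↦ ⟨p.1, p.2⟩), (genericPoint_spec X).mem_open_set_iff (V W).isOpen |>.mpr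
        (by simpa using W.2.elim fun p ↦ ⟨p.1, p.2⟩)⟩⟩
    refine X.germToFunctionField_injective (V U ⊓ V W) ?_
    exact (germ_res inf_le_left (s U)).trans ((hs U).trans ((germ_res inf_le_right (s W)).trans (hs W)).symm)
  obtain ⟨g, hg, -⟩ := TopCat.Sheaf.existsUnique_gluing' (X.sheaf) V ⊤ (fun U ↦ homOfLE le_top) hcov s hcomp
  refine ⟨g, ψ.injective ?_⟩
  obtain ⟨U, hU⟩ : ∃ U, genericPoint X ∈ V U := Opens.mem_iSup.mp (hcov (Opens.mem_top _))
  haveI := U.2
  rw [show ψ (algebraMap Γ(X, ⊤) F g) = X.germToFunctionField ⊤ g from DFunLike.congr_fun hψ g, ← hs U,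
    ← germ_res (le_top : V U ≤ ⊤) g]
  exact congrArg _ (hg U)

theorem isNormalScheme_iff : Pi1.IsNormalScheme X ↔
    ∀ (U : X.Opens) [Nonempty U], IsAffineOpen U → IsIntegrallyClosed Γ(X, U) := by
  refine ⟨fun h U _ hU ↦ BiratRadicial.isIntegrallyClosed_affine h ⟨U, hU⟩, fun h x ↦ ⟨inferInstance, ?_⟩⟩
  obtain ⟨U, hU, hxU, -⟩ := Opens.isBasis_iff_nbhd.mp X.isBasis_affineOpens (Opens.mem_top x)
  haveI : Nonempty U := ⟨⟨x, hxU⟩⟩
  have := h U hU
  letI := TopCat.Presheaf.algebra_section_stalk X.presheaf ⟨x, hxU⟩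
  have := hU.isLocalization_stalk ⟨x, hxU⟩
  exact isIntegrallyClosed_of_isLocalization (X.presheaf.stalk x) (hU.primeIdealOf ⟨x, hxU⟩).asIdeal.primeCompl
    (Ideal.primeCompl_le_nonZeroDivisors _)

end Groth.Agent.Misc9.NormalSections
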