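import Groth.Prelude.Def_Pi1
import Groth.Agent.Misc9.NormalSections
import Groth.Agent.Misc9.ExtendAt
import Mathlib.AlgebraicGeometry.Morphisms.Integral
import Mathlib.AlgebraicGeometry.FunctionField

/-! Rational sections of integral morphisms over normal schemes. -/

set_option autoImplicit false
set_option backward.isDefEq.respectTransparency false
universe u
namespace Groth.Agent.Misc9.NormalSection
open CategoryTheory CategoryTheory.Limits AlgebraicGeometry IsLocalRing TopologicalSpace

variable {X X' : Scheme.{u}} [IsIntegral X] (g : X' ⟶ X) [IsIntegralHom g]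

/-- the generic point as a morphism -/
noncomputable abbrev η : Spec X.functionField ⟶ X := X.fromSpecStalk (genericPoint X)

theorem mem_of_nonempty (U : X.Opens) (hU : (U : Set X).Nonempty) : genericPoint X ∈ U := by
  obtain ⟨z, hz⟩ := hU
  exact (genericPoint_specializes z).mem_open U.2 hz

theorem range_η (U : X.Opens) (hU : (U : Set X).Nonempty) : Set.range (η (X := X)) ⊆ Set.range U.ι := by
  rintro _ ⟨t, rfl⟩
  have h : η t ⤳ genericPoint X := by
    have : η t ∈ Set.range (X.fromSpecStalk (genericPoint X)) := ⟨t, rfl⟩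
    rwa [Scheme.range_fromSpecStalk] at this
  rw [Scheme.Opens.range_ι]
  exact h.mem_open U.2 (mem_of_nonempty U hU)

theorem isDominant_lift (T : X.Opens) (hT : (T : Set X).Nonempty) : IsDominant (IsOpenImmersion.lift T.ι η (range_η T hT)) := by
  refine ⟨fun z => ?_⟩
  have hz : IsOpenImmersion.lift T.ι η (range_η T hT) (closedPoint X.functionField) ⤳ z := by
    rw [← T.ι.isOpenEmbedding.isInducing.specializes_iff, ← Scheme.Hom.comp_apply, IsOpenImmersion.lift_fac,
      Scheme.fromSpecStalk_closedPoint]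
    exact genericPoint_specializes _
  exact closure_mono (Set.singleton_subset_iff.2 (Set.mem_range_self (closedPoint X.functionField))) (specializes_iff_mem_closure.1 hz)

variable (hX : Pi1.IsNormalScheme X)
include hX

theorem exists_affine_section (ρ : Spec X.functionField ⟶ X') (hρ : ρ ≫ g = η) (V : X.Opens) (hV : IsAffineOpen V)
    (hne : (V : Set X).Nonempty) :
    ∃ t : (V : Scheme.{u}) ⟶ X', t ≫ g = V.ι ∧ IsOpenImmersion.lift V.ι η (range_η V hne) ≫ t = ρ := by
  have hW : IsAffineOpen (g ⁻¹ᵁ V) := hV.preimage g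
  haveI : Nonempty V := ⟨⟨_, mem_of_nonempty V hne⟩⟩
  have hr : Set.range ρ ⊆ Set.range hW.fromSpec := by
    rintro _ ⟨t, rfl⟩
    rw [hW.range_fromSpec]
    show g (ρ t) ∈ V
    rw [← Scheme.Hom.comp_apply, hρ]
    have := range_η V hne ⟨t, rfl⟩
    rwa [Scheme.Opens.range_ι] at this
  let β : Γ(X', g ⁻¹ᵁ V) ⟶ X.functionField := Spec.preimage (IsOpenImmersion.lift hW.fromSpec ρ hr)
  have hβ : Spec.map β ≫ hW.fromSpec = ρ := by rw [Spec.map_preimage, IsOpenImmersion.lift_fac]
  have hηV : Spec.map (X.presheaf.germ V (genericPoint X) (mem_of_nonempty V hne)) ≫ hV.fromSpec = η :=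
    hV.fromSpecStalk_eq_fromSpecStalk _
  have hαβ : g.app V ≫ β = X.presheaf.germ V (genericPoint X) (mem_of_nonempty V hne) := by
    apply Spec.map_injective
    rw [← cancel_mono hV.fromSpec, hηV, Spec.map_comp, Category.assoc, g.app_eq_appLE,
      IsAffineOpen.SpecMap_appLE_fromSpec g hV hW, reassoc_of% hβ, hρ]
  haveI := functionField_isFractionRing_of_isAffineOpen X V hV
  haveI : IsIntegrallyClosed Γ(X, V) := BiratRadicial.isIntegrallyClosed_affine hX ⟨V, hV⟩
  have halg : ∀ a : Γ(X, V), algebraMap Γ(X, V) X.functionField a = β (g.app V a) := fun a => by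
    rw [← ConcreteCategory.comp_apply, hαβ]
    rfl
  have hmem : ∀ b, ∃ a : Γ(X, V), algebraMap Γ(X, V) X.functionField a = β b := by
    intro b
    obtain ⟨P, hP, hPb⟩ := g.isIntegral_app V hV b
    refine IsIntegrallyClosed.algebraMap_eq_of_integral ⟨P, hP, ?_⟩
    have e : algebraMap Γ(X, V) X.functionField = β.hom.comp (g.app V).hom := RingHom.ext halg
    rw [e, ← Polynomial.hom_eval₂, hPb, map_zero]
  have hinj := IsFractionRing.injective Γ(X, V) X.functionField
  choose τ hτ using hmem
  let τ' : Γ(X', g ⁻¹ᵁ V) →+* Γ(X, V) :=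
    { toFun := τ
      map_one' := hinj (by rw [hτ, map_one, map_one])
      map_mul' := fun a b => hinj (by rw [map_mul, hτ, hτ, hτ, map_mul])
      map_zero' := hinj (by rw [hτ, map_zero, map_zero])
      map_add' := fun a b => hinj (by rw [map_add, hτ, hτ, hτ, map_add]) }
  have h1 : g.app V ≫ CommRingCat.ofHom τ' = 𝟙 _ := by
    ext a
    refine hinj ?_
    show algebraMap _ X.functionField (τ (g.app V a)) = _
    rw [hτ, ← halg]
    rfl
  have h2 : CommRingCat.ofHom τ' ≫ X.presheaf.germ V (genericPoint X) (mem_of_nonempty V hne) = β := by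
    ext b
    exact hτ b
  refine ⟨hV.isoSpec.hom ≫ Spec.map (CommRingCat.ofHom τ') ≫ hW.fromSpec, ?_, ?_⟩
  · rw [Category.assoc, Category.assoc, ← IsAffineOpen.SpecMap_appLE_fromSpec g hV hW le_rfl, ← g.app_eq_appLE,
      ← Spec.map_comp_assoc, h1, Spec.map_id, Category.id_comp, IsAffineOpen.isoSpec_hom, IsAffineOpen.toSpecΓ_fromSpec]
  · have e : IsOpenImmersion.lift V.ι η (range_η V hne) ≫ hV.isoSpec.hom =
        Spec.map (X.presheaf.germ V (genericPoint X) (mem_of_nonempty V hne)) := by
      rw [← cancel_mono hV.fromSpec, hηV, Category.assoc, IsAffineOpen.isoSpec_hom, IsAffineOpen.toSpecΓ_fromSpec,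
        IsOpenImmersion.lift_fac]
    rw [reassoc_of% e, ← Spec.map_comp_assoc, h2, hβ]

theorem exists_section (U : X.Opens) (hU : (U : Set X).Nonempty) (s : (U : Scheme.{u}) ⟶ X') (hs : s ≫ g = U.ι) :
    ∃ s' : X ⟶ X', s' ≫ g = 𝟙 X ∧ U.ι ≫ s' = s := by
  let eU := IsOpenImmersion.lift U.ι η (range_η U hU)
  let ρ := eU ≫ s
  have hρ : ρ ≫ g = η := by rw [Category.assoc, hs, IsOpenImmersion.lift_fac]
  let J := {V : X.Opens // IsAffineOpen V ∧ (V : Set X).Nonempty}
  choose t ht1 ht2 using fun V : J => exists_affine_section g hX ρ hρ V.1 V.2.1 V.2.2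
  let W : Option J → X.Opens := fun i => match i with | none => U | some V => V.1
  let k : ∀ i, (W i : Scheme.{u}) ⟶ X' := fun i => match i with | none => s | some V => t V
  have hk : ∀ i, k i ≫ g = (W i).ι ≫ 𝟙 X := by
    rintro (_ | V)
    · rw [Category.comp_id]; exact hs
    · rw [Category.comp_id]; exact ht1 V
  have hne : ∀ i, (W i : Set X).Nonempty := by rintro (_ | V); exacts [hU, V.2.2]
  have hk2 : ∀ i, IsOpenImmersion.lift (W i).ι η (range_η (W i) (hne i)) ≫ k i = ρ := by
    rintro (_ | V); exacts [rfl, ht2 V]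
  obtain ⟨G, hG, hG'⟩ := ExtendAt.glue_family (𝟙 X) g W k hk (by
    intro i j
    have hT : ((W i ⊓ W j : X.Opens) : Set X).Nonempty :=
      ⟨genericPoint X, mem_of_nonempty _ (hne i), mem_of_nonempty _ (hne j)⟩
    haveI := isDominant_lift (W i ⊓ W j) hT
    haveI : Nonempty (W i ⊓ W j : X.Opens) := hT.to_subtype
    haveI : IsIntegral ((W i ⊓ W j : X.Opens) : Scheme.{u}) := isIntegral_of_isOpenImmersion (W i ⊓ W j).ι
    refine ext_of_isDominant_of_isSeparated g ?_ (IsOpenImmersion.lift _ η (range_η (W i ⊓ W j) hT)) ?_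
    · simp only [Category.assoc, hk, Scheme.homOfLE_ι_assoc]
    · have e : ∀ l (hl : W i ⊓ W j ≤ W l), IsOpenImmersion.lift _ η (range_η (W i ⊓ W j) hT) ≫ X.homOfLE hl =
          IsOpenImmersion.lift (W l).ι η (range_η (W l) (hne l)) := fun l hl => by
        rw [← cancel_mono (W l).ι, Category.assoc, Scheme.homOfLE_ι, IsOpenImmersion.lift_fac, IsOpenImmersion.lift_fac]
      rw [reassoc_of% (e i inf_le_left), reassoc_of% (e j inf_le_right), hk2, hk2])
  have htop : (⊤ : X.Opens) ≤ ⨆ i, W i := fun x _ => by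
    obtain ⟨_, ⟨V, hV, rfl⟩, hxV, -⟩ := X.isBasis_affineOpens.exists_subset_of_mem_open (Set.mem_univ x) isOpen_univ
    exact TopologicalSpace.Opens.mem_iSup.2 ⟨some ⟨V, hV, ⟨x, hxV⟩⟩, hxV⟩
  refine ⟨X.topIso.inv ≫ X.homOfLE htop ≫ G, ?_, ?_⟩
  · rw [Category.assoc, Category.assoc, hG, Category.comp_id, Scheme.homOfLE_ι, ← Scheme.topIso_hom, Iso.inv_hom_id]
  · have e : U.ι ≫ X.topIso.inv = X.homOfLE le_top := by
      rw [Iso.comp_inv_eq, Scheme.topIso_hom, Scheme.homOfLE_ι]
    rw [reassoc_of% e, Scheme.homOfLE_homOfLE_assoc]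
    exact hG' none

theorem isIso [IsIntegral X'] (U : X.Opens) (hU : (U : Set X).Nonempty) (s : (U : Scheme.{u}) ⟶ X') (hs : s ≫ g = U.ι) :
    IsIso g := by
  obtain ⟨s', hs', -⟩ := exists_section g hX U hU s hs
  haveI : IsClosedImmersion s' := by
    haveI : IsClosedImmersion (s' ≫ g) := by rw [hs']; infer_instance
    exact IsClosedImmersion.of_comp s' g
  haveI : Surjective s' := by
    have hgen : s' (genericPoint X) = genericPoint X' := by
      obtain ⟨V, hV, hηV, -⟩ := exists_isAffineOpen_mem_and_subset (U := (⊤ : X.Opens)) (x := genericPoint X) trivial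
      have hW : IsAffineOpen (g ⁻¹ᵁ V) := hV.preimage g
      have hmem : s' (genericPoint X) ∈ g ⁻¹ᵁ V := by
        show g (s' (genericPoint X)) ∈ V
        rw [← Scheme.Hom.comp_apply, hs']
        exact hηV
      haveI : Nonempty (g ⁻¹ᵁ V) := ⟨⟨_, hmem⟩⟩
      have hgW : genericPoint X' ∈ g ⁻¹ᵁ V := (genericPoint_specializes _).mem_open (g ⁻¹ᵁ V).2 hmem
      have hgη : g (genericPoint X') = genericPoint X := by
        have h1 : g (genericPoint X') ⤳ g (s' (genericPoint X)) := (genericPoint_specializes _).map g.continuous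
        rw [← Scheme.Hom.comp_apply s' g, hs'] at h1
        exact (h1.antisymm (genericPoint_specializes _)).eq
      let α := g.app V
      algebraize [α.hom]
      haveI : Algebra.IsIntegral Γ(X, V) Γ(X', g ⁻¹ᵁ V) := ⟨g.isIntegral_app V hV⟩
      let P := hW.primeIdealOf ⟨_, hmem⟩
      let Q := hW.primeIdealOf ⟨_, hgW⟩
      have hQP : Q.asIdeal ≤ P.asIdeal := by
        refine (PrimeSpectrum.le_iff_specializes Q P).2 ?_
        refine hW.fromSpec.isOpenEmbedding.isInducing.specializes_iff.1 ?_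
        rw [hW.fromSpec_primeIdealOf, hW.fromSpec_primeIdealOf]
        exact genericPoint_specializes _
      have hPQ : P = Q := by
        refine PrimeSpectrum.ext (le_antisymm ?_ hQP)
        by_contra hne
        have hlt := Ideal.IntegralClosure.comap_lt_comap (R := Γ(X, V)) (lt_of_le_not_ge hQP hne)
        refine hlt.ne ?_
        have e : ∀ (z : X') (hz : z ∈ g ⁻¹ᵁ V), hV.fromSpec (Spec.map α (hW.primeIdealOf ⟨z, hz⟩)) = g z := by
          intro z hz
          rw [← Scheme.Hom.comp_apply, show α = g.appLE V (g ⁻¹ᵁ V) le_rfl from g.app_eq_appLE,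
            IsAffineOpen.SpecMap_appLE_fromSpec g hV hW, Scheme.Hom.comp_apply, hW.fromSpec_primeIdealOf]
        have := hV.fromSpec.isOpenEmbedding.injective ((e _ hgW).trans (hgη.trans ((e _ hmem).trans (by rw [← Scheme.Hom.comp_apply, hs']; rfl)).symm))
        exact congrArg PrimeSpectrum.asIdeal this
      calc s' (genericPoint X) = hW.fromSpec P := (hW.fromSpec_primeIdealOf ⟨_, hmem⟩).symm
        _ = hW.fromSpec Q := by rw [hPQ]
        _ = genericPoint X' := hW.fromSpec_primeIdealOf ⟨_, hgW⟩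
    refine ⟨fun y => ?_⟩
    have := (genericPoint_specializes y).mem_closed s'.isClosedEmbedding.isClosed_range ⟨_, hgen⟩
    exact this
  haveI : IsIso s' := isIso_of_isClosedImmersion_of_surjective s'
  have : g = inv s' := by rw [← cancel_epi s', hs', IsIso.hom_inv_id]
  rw [this]
  infer_instance

end Groth.Agent.Misc9.NormalSection
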