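import Groth.Agent.Misc9.RadicialExt
import Groth.Agent.Misc9.SNAux
import Mathlib.Data.Nat.Choose.Factorization

/-! Universal homeomorphisms that are isomorphisms away from `p`. -/

universe u

namespace Groth.Agent.Misc9.PLocalUH

open AlgebraicGeometry CategoryTheory
open Groth.Agent.Misc9.Seminormal
open Groth.Agent.UnivHomeo.Basic

variable {A B : Type u} [CommRing A] [CommRing B] [Algebra A B]

theorem dvd_choose {p N n i : ℕ} (hp : p.Prime) (hi : i ≤ p ^ N) (hni : ¬ p ^ n ∣ i) :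
    p ^ (N - n) ∣ (p ^ N).choose i := by
  have hi0 : i ≠ 0 := by rintro rfl; exact hni (dvd_zero _)
  have hv : i.factorization p < n := by
    by_contra hc
    exact hni ((hp.pow_dvd_iff_le_factorization hi0).mpr (not_lt.mp hc))
  rw [hp.pow_dvd_iff_le_factorization (Nat.choose_pos hi).ne',
    Nat.factorization_choose_prime_pow hp hi hi0]
  omega

theorem pow_mem_of {p : ℕ} (hp : p.Prime) (hK : ∀ b : B, ∃ k, (p : B) ^ k * b ∈ (⊥ : Subalgebra A B))
    {a b : B} {n : ℕ} (ha : a ^ p ^ n ∈ (⊥ : Subalgebra A B)) (hb : b ^ p ^ n ∈ (⊥ : Subalgebra A B)) :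
    ∃ N, (a + b) ^ p ^ N ∈ (⊥ : Subalgebra A B) := by
  choose k hk using hK
  let K := ∑ rs ∈ Finset.range (p ^ n) ×ˢ Finset.range (p ^ n), k (a ^ rs.1 * b ^ rs.2)
  refine ⟨n + K, ?_⟩
  have hpn : 0 < p ^ n := pow_pos hp.pos n
  rw [add_pow]
  refine sum_mem fun i hi ↦ ?_
  have hi' : i ≤ p ^ (n + K) := Nat.lt_succ_iff.mp (Finset.mem_range.mp hi)
  by_cases hd : p ^ n ∣ i
  · obtain ⟨q, rfl⟩ := hd
    obtain ⟨q', hq'⟩ : p ^ n ∣ p ^ (n + K) - p ^ n * q :=
      Nat.dvd_sub (pow_dvd_pow _ (Nat.le_add_right n K)) (dvd_mul_right _ _)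
    rw [hq', pow_mul, pow_mul]
    exact mul_mem (mul_mem (pow_mem ha _) (pow_mem hb _)) (natCast_mem _ _)
  · obtain ⟨c, hc⟩ := dvd_choose hp hi' hd
    rw [show n + K - n = K by omega] at hc
    set j := p ^ (n + K) - i
    have hle : k (a ^ (i % p ^ n) * b ^ (j % p ^ n)) ≤ K :=
      Finset.single_le_sum (f := fun rs ↦ k (a ^ rs.1 * b ^ rs.2)) (fun _ _ ↦ Nat.zero_le _)
        (a := (i % p ^ n, j % p ^ n)) (Finset.mem_product.mpr
          ⟨Finset.mem_range.mpr (Nat.mod_lt _ hpn), Finset.mem_range.mpr (Nat.mod_lt _ hpn)⟩)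
    obtain ⟨e, he⟩ := Nat.exists_eq_add_of_le hle
    have hcast : ((p ^ (n + K)).choose i : B) = (p : B) ^ K * (c : B) := by rw [hc, Nat.cast_mul, Nat.cast_pow]
    rw [hcast, ← Nat.div_add_mod i (p ^ n), ← Nat.div_add_mod j (p ^ n), pow_add, pow_add, pow_mul, pow_mul, he, pow_add]
    have heq : (a ^ p ^ n) ^ (i / p ^ n) * a ^ (i % p ^ n) * ((b ^ p ^ n) ^ (j / p ^ n) * b ^ (j % p ^ n)) *
        ((p : B) ^ k (a ^ (i % p ^ n) * b ^ (j % p ^ n)) * (p : B) ^ e * (c : B)) =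
        ((a ^ p ^ n) ^ (i / p ^ n) * (b ^ p ^ n) ^ (j / p ^ n) * (p : B) ^ e * (c : B)) *
          ((p : B) ^ k (a ^ (i % p ^ n) * b ^ (j % p ^ n)) * (a ^ (i % p ^ n) * b ^ (j % p ^ n))) := by ring
    rw [heq]
    exact mul_mem (mul_mem (mul_mem (mul_mem (pow_mem ha _) (pow_mem hb _))
      (pow_mem (natCast_mem _ p) _)) (natCast_mem _ c)) (hk _)

theorem forall_exists_pow_mem {p : ℕ} (hp : p.Prime) (hK : ∀ b : B, ∃ k, (p : B) ^ k * b ∈ (⊥ : Subalgebra A B))
    (hU : FlatMor.IsUnivHomeo (Spec.map (CommRingCat.ofHom (algebraMap A B)))) (b : B) :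
    ∃ n, b ^ p ^ n ∈ (⊥ : Subalgebra A B) := by
  have up : ∀ {x : B} {n m : ℕ}, x ^ p ^ n ∈ (⊥ : Subalgebra A B) → n ≤ m → x ^ p ^ m ∈ (⊥ : Subalgebra A B) := by
    intro x n m hx hnm
    obtain ⟨d, rfl⟩ := Nat.exists_eq_add_of_le hnm
    rw [pow_add, pow_mul]
    exact pow_mem hx _
  let R : Subalgebra A B :=
    { carrier := {x | ∃ n, x ^ p ^ n ∈ (⊥ : Subalgebra A B)}
      add_mem' := by
        rintro x y ⟨n, hx⟩ ⟨m, hy⟩
        exact pow_mem_of hp hK (up hx (le_max_left n m)) (up hy (le_max_right n m))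
      mul_mem' := by
        rintro x y ⟨n, hx⟩ ⟨m, hy⟩
        exact ⟨max n m, by rw [mul_pow]; exact mul_mem (up hx (le_max_left n m)) (up hy (le_max_right n m))⟩
      algebraMap_mem' := fun a ↦ ⟨0, by simpa using Subalgebra.algebraMap_mem ⊥ a⟩ }
  have hR : ∀ x, StepSCP R x → x ∈ R := by
    intro x hx
    rcases hx with ⟨⟨n, h2⟩, ⟨m, h3⟩⟩ | ⟨q, hq, h1, h2⟩
    · have e2 : (x ^ p ^ max n m) ^ 2 ∈ (⊥ : Subalgebra A B) := by
        have := up h2 (le_max_left n m)
        rwa [← pow_mul, mul_comm, pow_mul] at this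
      have e3 : (x ^ p ^ max n m) ^ 3 ∈ (⊥ : Subalgebra A B) := by
        have := up h3 (le_max_right n m)
        rwa [← pow_mul, mul_comm, pow_mul] at this
      refine ⟨max n m + 1, ?_⟩
      rw [pow_succ, pow_mul]
      rcases hp.eq_two_or_odd with h | h
      · subst h; exact e2
      · have h2le := hp.two_le
        have : (x ^ p ^ max n m) ^ p = ((x ^ p ^ max n m) ^ 2) ^ ((p - 3) / 2) * (x ^ p ^ max n m) ^ 3 := by
          rw [← pow_mul _ 2, ← pow_add]; congr 1; omega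
        rw [this]
        exact mul_mem (pow_mem e2 _) e3
    · by_cases hqp : q = p
      · subst hqp
        obtain ⟨n, hn⟩ := h2
        exact ⟨1 + n, by rw [pow_add, pow_one, pow_mul]; exact hn⟩
      · obtain ⟨k, hk⟩ := hK x
        obtain ⟨u, v, huv⟩ : ∃ u v : ℤ, u * q + v * (p ^ k : ℕ) = 1 :=
          Nat.isCoprime_iff_coprime.mpr (((Nat.coprime_primes hq hp).mpr hqp).pow_right k)
        have hxe : x = (u : B) * ((q : B) * x) + (v : B) * ((p : B) ^ k * x) := by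
          have := congrArg (Int.cast : ℤ → B) huv
          push_cast at this
          linear_combination (-x) * this
        rw [hxe]
        exact add_mem (mul_mem (intCast_mem _ _) h1)
          (mul_mem (intCast_mem _ _) ((bot_le : (⊥ : Subalgebra A B) ≤ R) hk))
  obtain ⟨l, hl, hb⟩ : b ∈ towerAlg (step := StepSCP (A := A) (B := B)) (fun _ _ _ h hle ↦ h.mono hle) :=
    towers_of_univHomeo hU ▸ Algebra.mem_top
  exact tower_le hl R hR (fun _ _ _ hx hle ↦ hx.mono hle) hb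

theorem univHomeo_iff {A B : Type u} [CommRing A] [CommRing B] (φ : A →+* B) (p : ℕ) (hp : p.Prime)
    (h : Function.Bijective (Localization.awayMap φ (p : A))) :
    FlatMor.IsUnivHomeo (Spec.map (CommRingCat.ofHom φ)) ↔
      (∀ a ∈ RingHom.ker φ, IsNilpotent a) ∧ ∀ b : B, ∃ n : ℕ, (p ^ n : B) * b ∈ φ.range ∧ b ^ (p ^ n) ∈ φ.range := by
  letI := φ.toAlgebra
  constructor
  · intro hU
    refine ⟨fun a ha ↦ ?_, fun b ↦ ?_⟩
    · rw [← mem_nilradical, nilradical_eq_sInf, Submodule.mem_sInf]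
      intro P hP
      obtain ⟨Q, hQ⟩ := ((isUnivHomeo_spec_iff φ).mp hU).2.1 ⟨P, hP⟩
      have e : Q.asIdeal.comap φ = P := congrArg PrimeSpectrum.asIdeal hQ
      rw [← e, Ideal.mem_comap, show φ a = 0 from ha]
      exact Ideal.zero_mem _
    · have hK : ∀ b : B, ∃ k, (p : B) ^ k * b ∈ (⊥ : Subalgebra A B) := by
        intro b
        obtain ⟨z, hz⟩ := h.2 (algebraMap B (Localization.Away (φ p)) b)
        obtain ⟨⟨a, ⟨_, m, rfl⟩⟩, rfl⟩ := IsLocalization.mk'_surjective (Submonoid.powers (p : A)) z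
        rw [Localization.awayMap, IsLocalization.Away.map, IsLocalization.map_mk',
          IsLocalization.mk'_eq_iff_eq_mul, ← map_mul, IsLocalization.eq_iff_exists (Submonoid.powers (φ p))] at hz
        obtain ⟨⟨_, l, rfl⟩, hl⟩ := hz
        simp only [map_pow, map_natCast] at hl
        refine ⟨l + m, Algebra.mem_bot.mpr ⟨(p : A) ^ l * a, ?_⟩⟩
        show φ _ = _
        simp only [map_mul, map_pow, map_natCast, hl]
        ring
      obtain ⟨k, hk⟩ := hK b
      obtain ⟨n, hn⟩ := forall_exists_pow_mem hp hK hU b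
      refine ⟨n + k, Algebra.mem_bot.mp ?_, Algebra.mem_bot.mp ?_⟩
      · rw [pow_add, mul_assoc]; exact mul_mem (pow_mem (natCast_mem _ p) _) hk
      · rw [pow_add, pow_mul]; exact pow_mem hn _
  · rintro ⟨hker, hb⟩
    have hint : φ.IsIntegral := fun b ↦ by
      obtain ⟨n, -, a, ha⟩ := hb b
      exact IsIntegral.of_pow (pow_pos hp.pos n) (ha ▸ isIntegral_algebraMap)
    refine (isUnivHomeo_spec_iff φ).mpr ⟨hint, ?_, ?_⟩
    · intro P
      have : Algebra.IsIntegral A B := ⟨hint⟩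
      obtain ⟨Q, -, hQ, hQp⟩ := Ideal.exists_ideal_over_prime_of_isIntegral P.asIdeal (⊥ : Ideal B)
        (fun a ha ↦ nilradical_le_prime P.asIdeal (hker a ha))
      exact ⟨⟨Q, hQ⟩, PrimeSpectrum.ext hQp⟩
    · intro K _ g₁ g₂ hg
      ext b
      obtain ⟨n, ⟨c, hc⟩, a, ha⟩ := hb b
      have e1 : (p : K) ^ n * g₁ b = (p : K) ^ n * g₂ b := by
        have := DFunLike.congr_fun hg c
        simp only [RingHom.comp_apply, hc, map_mul, map_pow, map_natCast] at this
        exact this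
      have e : g₁ b ^ p ^ n = g₂ b ^ p ^ n := by
        rw [← map_pow, ← map_pow, ← ha]; exact DFunLike.congr_fun hg a
      by_cases h0 : (p : K) = 0
      · have : Fact p.Prime := ⟨hp⟩
        have : CharP K p := (CharP.charP_iff_prime_eq_zero hp).mpr h0
        rw [← sub_eq_zero, ← sub_pow_char_pow] at e
        exact sub_eq_zero.mp ((pow_eq_zero_iff (pow_ne_zero n hp.ne_zero)).mp e)
      · exact mul_left_cancel₀ (pow_ne_zero n h0) e1

end Groth.Agent.Misc9.PLocalUH
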