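import Groth.Agent.Misc9.ValLift
import Groth.Agent.Misc9.EtSheafCrit
import Groth.Agent.S7471
import Mathlib.AlgebraicGeometry.Sites.BigZariski

/-! V sheaves: Zariski + standard V coverings. -/

set_option autoImplicit false
set_option backward.isDefEq.respectTransparency false
universe w w' u v
namespace Groth.Agent.Misc9.VSheafCrit
open CategoryTheory CategoryTheory.Limits AlgebraicGeometry Opposite
open Groth.Agent.Misc9

variable {T : Scheme.{u}}

/-- reindexing a family along a bijection -/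
def reindex (E : PreZeroHypercover.{w} T) {ι : Type w'} (e : ι ≃ E.I₀) : PreZeroHypercover.{w'} T where
  I₀ := ι
  X i := E.X (e i)
  f i := E.f (e i)

theorem presieve₀_reindex (E : PreZeroHypercover.{w} T) {ι : Type w'} (e : ι ≃ E.I₀) :
    (reindex E e).presieve₀ = E.presieve₀ := by
  refine le_antisymm ?_ ?_
  · rintro _ _ ⟨i⟩
    exact ⟨e i⟩
  · rintro _ _ ⟨i⟩
    obtain ⟨k, rfl⟩ := e.surjective i
    exact ⟨k⟩

theorem standardV_reindex (E : PreZeroHypercover.{w} T) {ι : Type w'} (e : ι ≃ E.I₀) (h : HTop.IsStandardV E) :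
    HTop.IsStandardV (reindex E e) := by
  refine ⟨h.isAffine, ?_, fun i => h.isAffine_obj _, fun V _ _ g => ?_⟩
  · haveI := h.finite_index
    exact Finite.of_equiv _ e.symm
  · obtain ⟨W, h1, h2, φ, hφ, j, g', hg'⟩ := h.lift V g
    obtain ⟨k, rfl⟩ := e.surjective j
    exact ⟨W, h1, h2, φ, hφ, k, g', hg'⟩

/-- move a family along an isomorphism of targets -/
def mapTarget {T' : Scheme.{u}} (E : PreZeroHypercover.{w} T) (a : T ⟶ T') : PreZeroHypercover.{w} T' where
  I₀ := E.I₀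
  X := E.X
  f i := E.f i ≫ a

theorem standardV_mapTarget {T' : Scheme.{u}} (E : PreZeroHypercover.{w} T) (a : T ≅ T') (h : HTop.IsStandardV E) :
    HTop.IsStandardV (mapTarget E a.hom) := by
  refine ⟨?_, h.finite_index, h.isAffine_obj, fun V _ _ g => ?_⟩
  · haveI := h.isAffine
    exact IsAffine.of_isIso a.inv
  · obtain ⟨W, h1, h2, φ, hφ, j, g', hg'⟩ := h.lift V (g ≫ a.inv)
    refine ⟨W, h1, h2, φ, hφ, j, g', ?_⟩
    show g' ≫ E.f j ≫ a.hom = _
    rw [reassoc_of% hg', a.inv_hom_id, Category.comp_id]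

theorem isVCover_of_standardV (E : PreZeroHypercover.{w} T) (h : HTop.IsStandardV E) : HTop.IsVCover E := by
  rintro ⟨U, hU⟩
  haveI : IsAffine (U : Scheme.{u}) := hU
  have h' := ValLift.standardV_pullback E U.ι h
  haveI := h.finite_index
  obtain ⟨n, ⟨e⟩⟩ := Finite.exists_equiv_fin E.I₀
  refine ⟨reindex (E.pullback₁ U.ι) e.symm, standardV_reindex (E.pullback₁ U.ι) e.symm h', fun j => ?_⟩
  exact ⟨e.symm j, pullback.snd U.ι (E.f (e.symm j)), pullback.condition.symm⟩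

theorem generate_pullback₁ {T' : Scheme.{u}} (g : T' ⟶ T) (E : PreZeroHypercover.{w} T) :
    Sieve.generate (E.pullback₁ g).presieve₀ = (Sieve.generate E.presieve₀).pullback g := by
  ext Q q
  constructor
  · rintro ⟨_, a, _, ⟨i⟩, rfl⟩
    refine ⟨_, a ≫ pullback.snd g (E.f i), E.f i, ⟨i⟩, ?_⟩
    show (a ≫ pullback.snd g (E.f i)) ≫ E.f i = (a ≫ pullback.fst g (E.f i)) ≫ g
    simp [pullback.condition]
  · rintro ⟨_, a, _, ⟨i⟩, ha⟩
    exact ⟨_, pullback.lift q a ha.symm, _, ⟨i⟩, pullback.lift_fst _ _ _⟩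

/-- the sieve of maps factoring through an affine open -/
def affSieve (Z : Scheme.{u}) : Sieve Z where
  arrows W f := ∃ (V : Scheme.{u}) (a : W ⟶ V) (b : V ⟶ Z), IsAffine V ∧ IsOpenImmersion b ∧ a ≫ b = f
  downward_closed := by
    rintro Y W f ⟨V, a, b, h1, h2, rfl⟩ g
    exact ⟨V, g ≫ a, b, h1, h2, by simp⟩

theorem affSieve_mem (Z : Scheme.{u}) : affSieve Z ∈ Scheme.zariskiTopology Z := by
  refine Scheme.zariskiTopology.superset_covering ?_ Z.affineCover.mem_grothendieckTopology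
  rw [Sieve.generate_le_iff]
  rintro _ _ ⟨i⟩
  exact ⟨_, 𝟙 _, Z.affineCover.f i, inferInstanceAs (IsAffine (Spec _)), inferInstance, Category.id_comp _⟩

theorem local_affine (F : Scheme.{u}ᵒᵖ ⥤ Type v) (hZ : Presieve.IsSheaf Scheme.zariskiTopology F) {Z : Scheme.{u}}
    (S : Sieve Z) (h : ∀ {W : Scheme.{u}} (g : W ⟶ Z), IsAffine W → Presieve.IsSheafFor F (S.pullback g).arrows) :
    Presieve.IsSheafFor F S.arrows :=
  EtSheafCrit.isSheafFor_of_dense Scheme.zariskiTopology (fun V => IsAffine V) F hZ affSieve affSieve_mem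
    (fun {Z W f} ⟨V, a, b, h1, _, h3⟩ => ⟨V, a, b, h1, h3⟩) S h

theorem isVSheaf_iff (F : Scheme.{u}ᵒᵖ ⥤ Type v) :
    HTop.IsVSheaf F ↔ (Presieve.IsSheaf Scheme.zariskiTopology F ∧
      ∀ (T : Scheme.{u}) (E : PreZeroHypercover.{u} T), HTop.IsStandardV E → Presieve.IsSheafFor F E.presieve₀) := by
  constructor
  · refine fun hF => ⟨?_, fun T E hE => hF _ ((HTop.presieve₀_mem_vPrecoverage_iff E).2 (isVCover_of_standardV E hE))⟩
    rw [Scheme.zariskiTopology, Scheme.grothendieckTopology,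
      Precoverage.isSheaf_toGrothendieck_iff_of_isStableUnderBaseChange_of_small.{u}]
    intro X (𝒰 : Scheme.Cover _ _)
    refine hF _ ((HTop.presieve₀_mem_vPrecoverage_iff 𝒰.toPreZeroHypercover).2 fun U => ?_)
    haveI : IsAffine (U.1 : Scheme.{u}) := U.2
    haveI : CompactSpace (U.1 : Scheme.{u}) := inferInstance
    -- affine opens inside members
    have hpt : ∀ x : U.1.toScheme, ∃ (O : (U.1 : Scheme.{u}).Opens) (i : 𝒰.I₀) (h : O.toScheme ⟶ 𝒰.X i),
        IsAffineOpen O ∧ x ∈ O ∧ h ≫ 𝒰.f i = O.ι ≫ U.1.ι := by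
      intro x
      obtain ⟨i, y, hy⟩ := 𝒰.exists_eq (U.1.ι x)
      haveI : IsOpenImmersion (𝒰.f i) := 𝒰.map_prop i
      obtain ⟨O, hO, hxO, hle⟩ := exists_isAffineOpen_mem_and_subset (x := x)
        (U := U.1.ι ⁻¹ᵁ (𝒰.f i).opensRange) ⟨y, hy⟩
      refine ⟨O, i, IsOpenImmersion.lift (𝒰.f i) (O.ι ≫ U.1.ι) ?_, hO, hxO, IsOpenImmersion.lift_fac _ _ _⟩
      rintro _ ⟨z, rfl⟩
      exact hle z.2
    choose O i h hO hxO hh using hpt
    obtain ⟨t, ht⟩ := isCompact_univ.elim_finite_subcover (fun x => (O x : Set U.1.toScheme)) (fun x => (O x).2)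
      fun x _ => Set.mem_iUnion.2 ⟨x, hxO x⟩
    let e : Fin t.card ≃ t := t.equivFin.symm
    refine ⟨{ I₀ := Fin t.card, X := fun k => (O (e k).1).toScheme, f := fun k => (O (e k).1).ι },
      ⟨inferInstance, inferInstanceAs (Finite (Fin t.card)), fun k => hO _,
        ValLift.hasValLift_of_flat _ (fun k => inferInstanceAs (Flat (O (e k).1).ι)) fun x => ?_⟩,
      fun k => ⟨i (e k).1, h (e k).1, hh _⟩⟩
    obtain ⟨z, hz, hx⟩ := Set.mem_iUnion₂.1 (ht (Set.mem_univ x))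
    refine ⟨e.symm ⟨z, hz⟩, ?_⟩
    show ∃ y, (O (e (e.symm ⟨z, hz⟩)).1).ι y = x
    rw [e.apply_symm_apply]
    exact ⟨⟨x, hx⟩, rfl⟩
  · rintro ⟨hZ, hS⟩ X R hR
    obtain ⟨E, rfl⟩ := R.exists_eq_preZeroHypercover
    rw [Presieve.isSheafFor_iff_generate]
    refine local_affine F hZ _ fun {W} g hW => ?_
    rw [← generate_pullback₁]
    obtain ⟨G, hG, hGE⟩ := S7471.result g E ((HTop.presieve₀_mem_vPrecoverage_iff E).1 hR) ⟨⊤, isAffineOpen_top W⟩
    have hGs : HTop.IsStandardV (mapTarget G (Scheme.topIso W).hom) := standardV_mapTarget G (Scheme.topIso W) hG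
    refine Presieve.isSheafFor_subsieve F (S := Sieve.generate (mapTarget G (Scheme.topIso W).hom).presieve₀) ?_ ?_
    · intro Q q
      rintro ⟨_, a, _, ⟨j⟩, rfl⟩
      obtain ⟨i, k, hk⟩ := hGE j
      refine ⟨_, a ≫ k, _, ⟨i⟩, ?_⟩
      rw [Category.assoc]
      exact congrArg (a ≫ ·) hk
    · intro Y f
      refine local_affine F hZ _ fun {W'} g' hW' => ?_
      rw [← Sieve.pullback_comp, ← generate_pullback₁, ← Presieve.isSheafFor_iff_generate]
      have hp := ValLift.standardV_pullback (mapTarget G (Scheme.topIso W).hom) (g' ≫ f) hGs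
      haveI := hp.finite_index
      obtain ⟨n, ⟨e⟩⟩ := Finite.exists_equiv_fin ((mapTarget G (Scheme.topIso W).hom).pullback₁ (g' ≫ f)).I₀
      rw [← presieve₀_reindex _ ((Equiv.ulift.{u}).trans e.symm)]
      exact hS _ _ (standardV_reindex _ _ hp)

theorem isVSheaf_iff_singleton (F : Scheme.{u}ᵒᵖ ⥤ Type v) :
    HTop.IsVSheaf F ↔ (Presieve.IsSheaf Scheme.zariskiTopology F ∧
      ∀ (U V : Scheme.{u}) (f : V ⟶ U), HTop.IsStandardV (PreZeroHypercover.singleton f) →
        Presieve.IsSheafFor F (Presieve.singleton f)) := by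
  rw [isVSheaf_iff]
  refine ⟨fun ⟨h1, h2⟩ => ⟨h1, fun U V f hf => ?_⟩, fun ⟨h1, h2⟩ => ⟨h1, fun T E hE => ?_⟩⟩
  · have := h2 U (PreZeroHypercover.singleton.{u} f) ?_
    · rwa [PreZeroHypercover.presieve₀_singleton] at this
    · exact ⟨hf.isAffine, inferInstanceAs (Finite PUnit), fun _ => hf.isAffine_obj default,
        fun V _ _ g => by
          obtain ⟨W, a, b, φ, hφ, j, g', hg'⟩ := hf.lift V g
          exact ⟨W, a, b, φ, hφ, PUnit.unit, g', hg'⟩⟩
  · haveI := hE.finite_index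
    haveI := hE.isAffine_obj
    have : PreservesLimitsOfShape (Discrete (E.I₀ × E.I₀)) F :=
      preservesLimitsOfShape_discrete_of_isSheaf_zariskiTopology h1
    have : PreservesLimitsOfShape (Discrete E.I₀) F :=
      preservesLimitsOfShape_discrete_of_isSheaf_zariskiTopology h1
    let c : Cofan E.X := Cofan.mk _ (Sigma.ι E.X)
    change Presieve.IsSheafFor F (Presieve.ofArrows E.X E.f)
    rw [← Presieve.isSheafFor_sigmaDesc_iff E.f (coproductIsCoproduct _)
      (FinitaryExtensive.isVanKampen_finiteCoproducts (coproductIsCoproduct _)).isUniversal]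
    refine h2 T (∐ E.X) (Sigma.desc E.f) ⟨hE.isAffine, inferInstanceAs (Finite PUnit),
      fun _ => inferInstanceAs (IsAffine (∐ E.X)), fun V _ _ g => ?_⟩
    obtain ⟨W, a, b, φ, hφ, j, g', hg'⟩ := hE.lift V g
    refine ⟨W, a, b, φ, hφ, PUnit.unit, g' ≫ Sigma.ι E.X j, ?_⟩
    show (g' ≫ Sigma.ι E.X j) ≫ Sigma.desc E.f = _
    rw [Category.assoc, Sigma.ι_desc, hg']

end Groth.Agent.Misc9.VSheafCrit
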