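import Groth.Agent.Misc9.VCoverExamples
import Groth.Agent.Misc9.VSheafCrit
import Mathlib.CategoryTheory.Sites.Over

/-! Ph sheaves; sheaves on thickenings. -/

set_option autoImplicit false
set_option backward.isDefEq.respectTransparency false
universe w w' u v
namespace Groth.Agent.Misc9.PhSheaf
open CategoryTheory CategoryTheory.Limits AlgebraicGeometry Opposite
open Groth.Agent.Misc9

variable {T : Scheme.{u}}

theorem isPhSheaf_of (F : Scheme.{u}ᵒᵖ ⥤ Type v) (h₁ : Presieve.IsSheaf Scheme.zariskiTopology F)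
    (h₂ : ∀ (U V : Scheme.{u}) (f : V ⟶ U), IsProper f → Surjective f → Presieve.IsSheafFor F (Presieve.singleton f)) :
    HTop.IsPhSheaf F := by
  let J := Sheaf.finestTopologySingle F
  have hzar : Scheme.zariskiTopology ≤ J := fun Z S hS Y g => h₁ _ (GrothendieckTopology.pullback_stable _ g hS)
  have hsing : ∀ {U V : Scheme.{u}} (f : V ⟶ U) [IsProper f] [Surjective f],
      Sieve.generate (Presieve.singleton f) ∈ J U := by
    intro U V f _ _ Y g
    have e : (Sieve.generate (Presieve.singleton f)).pullback g = Sieve.generate (Presieve.singleton (pullback.fst g f)) := by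
      ext Q q
      constructor
      · rintro ⟨_, a, _, ⟨⟩, ha⟩
        exact ⟨_, pullback.lift q a ha.symm, _, ⟨⟩, pullback.lift_fst _ _ _⟩
      · rintro ⟨_, a, _, ⟨⟩, rfl⟩
        exact ⟨_, a ≫ pullback.snd g f, _, ⟨⟩, by simp [pullback.condition]⟩
    rw [e, ← Presieve.isSheafFor_iff_generate]
    exact h₂ _ _ _ inferInstance inferInstance
  intro X R hR
  obtain ⟨E, rfl⟩ := R.exists_eq_preZeroHypercover
  have hE := ((HTop.presieve₀_mem_phPrecoverage_iff E).1 hR).2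
  rw [Presieve.isSheafFor_iff_generate]
  suffices hRJ : Sieve.generate E.presieve₀ ∈ J X by simpa using hRJ X (𝟙 X)
  refine J.transitive (hzar _ (VSheafCrit.affSieve_mem X)) _ ?_
  rintro W _ ⟨V, a, b, hV, hb, rfl⟩
  rw [Sieve.pullback_comp]
  refine J.pullback_stable a ?_
  haveI := hb
  haveI : IsAffine V := hV
  obtain ⟨G, hG, hGE⟩ := hE ⟨b.opensRange, isAffineOpen_opensRange b⟩
  obtain ⟨U, f, ι, hf1, hf2, hι, hιf, hcov⟩ := hG.exists_proper
  haveI := hf1
  haveI := hf2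
  haveI := hι
  let iV : V ≅ (b.opensRange : Scheme.{u}) := b.isoOpensRange
  have hib : iV.inv ≫ b = b.opensRange.ι := b.isoOpensRange_inv_comp
  refine J.transitive (hsing (f ≫ iV.inv)) _ ?_
  rintro Q _ ⟨_, q, _, ⟨⟩, rfl⟩
  rw [Sieve.pullback_comp]
  refine J.pullback_stable q (J.superset_covering ?_ (hzar _ (Scheme.Cover.mem_grothendieckTopology
    ({ I₀ := U, X := fun x => G.X (hcov x).choose, f := fun x => ι (hcov x).choose,
       mem₀ := (Scheme.presieve₀_mem_precoverage_iff _).2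
        ⟨fun x => ⟨x, (hcov x).choose_spec⟩, fun x => hι _⟩ } : U.Cover (Scheme.precoverage @IsOpenImmersion)))))
  rw [Sieve.generate_le_iff]
  rintro _ _ ⟨x⟩
  obtain ⟨i, k, hk⟩ := hGE (hcov x).choose
  refine ⟨_, k, E.f i, ⟨i⟩, ?_⟩
  show k ≫ E.f i = ι (hcov x).choose ≫ (f ≫ iV.inv) ≫ b
  rw [hk, Category.assoc, hib, reassoc_of% hιf]

theorem isPhCover_singleton {X Y : Scheme.{u}} (f : Y ⟶ X) [IsProper f] [Surjective f] :
    HTop.IsPhCover (PreZeroHypercover.singleton.{w} f) := by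
  refine ⟨fun _ => inferInstanceAs (LocallyOfFiniteType f), ?_⟩
  rintro ⟨U, hU⟩
  haveI : IsAffine (U : Scheme.{u}) := hU
  haveI : CompactSpace (f ⁻¹ᵁ U).toScheme := isCompact_iff_compactSpace.mp (f.isCompact_preimage hU.isCompact)
  let 𝒲 := (f ⁻¹ᵁ U).toScheme.affineCover.finiteSubcover
  obtain ⟨n, ⟨e⟩⟩ := Finite.exists_equiv_fin 𝒲.I₀
  refine ⟨{ I₀ := Fin n, X := fun k => 𝒲.X (e.symm k), f := fun k => 𝒲.f (e.symm k) ≫ (f ∣_ U) },
    ⟨hU, inferInstanceAs (Finite (Fin n)),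
      fun k => inferInstanceAs (IsAffine (𝒲.X _)), (f ⁻¹ᵁ U).toScheme, f ∣_ U, fun k => 𝒲.f (e.symm k),
      inferInstance, IsZariskiLocalAtTarget.restrict (P := @Surjective) ‹Surjective f› U, fun k => 𝒲.map_prop _, fun k => rfl, fun x => ?_⟩,
    fun k => ⟨PUnit.unit, 𝒲.f (e.symm k) ≫ (f ⁻¹ᵁ U).ι, ?_⟩⟩
  · obtain ⟨i, y, hy⟩ := 𝒲.exists_eq x
    obtain ⟨k, rfl⟩ := e.symm.surjective i
    exact ⟨k, y, hy⟩
  · show (𝒲.f (e.symm k) ≫ (f ⁻¹ᵁ U).ι) ≫ f = (𝒲.f (e.symm k) ≫ (f ∣_ U)) ≫ U.ι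
    rw [Category.assoc, Category.assoc, morphismRestrict_ι]

theorem bijective_of_mono {C : Type*} [Category* C] (F : Cᵒᵖ ⥤ Type v) {X Y : C} (f : X ⟶ Y) [Mono f]
    (h : Presieve.IsSheafFor F (Presieve.singleton f)) : Function.Bijective (F.map f.op) := by
  refine ⟨fun a b hab => h.isSeparatedFor.ext fun Z g hg => ?_, fun x => ?_⟩
  · cases hg; exact hab
  · let y : Presieve.FamilyOfElements F (Presieve.singleton f) := fun Z g hg => by cases hg; exact x
    have hy : y.Compatible := by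
      rintro Y₁ Y₂ Z g₁ g₂ _ _ ⟨⟩ ⟨⟩ e
      obtain rfl := (cancel_mono f).1 e
      rfl
    exact ⟨h.amalgamate y hy, h.valid_glue hy f ⟨⟩⟩

theorem over_bijective (K : Precoverage Scheme.{u}) (S : Scheme.{u}) (F : (Over S)ᵒᵖ ⥤ Type v)
    (hF : Presieve.IsSheaf (K.toGrothendieck.over S) F) {X X' : Over S} (f : X ⟶ X') [Mono f.left]
    (hf : Presieve.singleton f.left ∈ K X'.left) : Function.Bijective (F.map f.op) := by
  haveI : Mono f := Over.mono_of_mono_left f
  refine bijective_of_mono F f ?_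
  rw [Presieve.isSheafFor_iff_generate]
  refine hF _ ?_
  rw [GrothendieckTopology.mem_over_iff]
  refine K.toGrothendieck.superset_covering ?_ (Precoverage.generate_mem_toGrothendieck hf)
  rw [Sieve.generate_le_iff]
  rintro _ _ ⟨⟩
  refine (Sieve.overEquiv_iff _ _).2 ⟨X, Over.homMk (𝟙 _) (by simp), f, ⟨⟩, ?_⟩
  ext
  simp

end Groth.Agent.Misc9.PhSheaf
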