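import Mathlib.AlgebraicGeometry.ProjectiveSpectrum.Functor
import Mathlib.AlgebraicGeometry.Morphisms.ClosedImmersion

/-! Closed subschemes of `Proj` are `Proj` of graded quotients. -/

universe u

open CategoryTheory CategoryTheory.Limits AlgebraicGeometry HomogeneousLocalization

namespace Groth.Agent.Misc9.ProjQuot

set_option backward.isDefEq.respectTransparency.types false

variable {R A : Type u} [CommRing R] [CommRing A] [Algebra R A] (𝒜 : ℕ → Submodule R A)
  [GradedAlgebra 𝒜]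

/-- the graded pieces of the quotient by an ideal -/
def qgr (I : Ideal A) (n : ℕ) : Submodule R (A ⧸ I) :=
  (𝒜 n).map (Ideal.Quotient.mkₐ R I).toLinearMap

instance qgr_gradedMonoid (I : Ideal A) : SetLike.GradedMonoid (qgr 𝒜 I) where
  one_mem := ⟨1, SetLike.one_mem_graded 𝒜, map_one (Ideal.Quotient.mkₐ R I)⟩
  mul_mem := by
    rintro i j _ _ ⟨a, ha, rfl⟩ ⟨b, hb, rfl⟩
    exact ⟨a * b, SetLike.mul_mem_graded ha hb, map_mul (Ideal.Quotient.mkₐ R I) a b⟩

theorem qgr_isInternal {I : Ideal A} (hI : I.IsHomogeneous 𝒜) : DirectSum.IsInternal (qgr 𝒜 I) := by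
  classical
  let g : ∀ n, 𝒜 n →ₗ[R] qgr 𝒜 I n := fun n ↦
    (Ideal.Quotient.mkₐ R I).toLinearMap.restrict fun x hx ↦ ⟨x, hx, rfl⟩
  have hg : ∀ n, Function.Surjective (g n) := by
    rintro n ⟨_, a, ha, rfl⟩
    exact ⟨⟨a, ha⟩, rfl⟩
  have hcomp : (DirectSum.coeLinearMap (qgr 𝒜 I)).comp (DirectSum.lmap g) =
      (Ideal.Quotient.mkₐ R I).toLinearMap.comp (DirectSum.coeLinearMap 𝒜) := by
    refine DirectSum.linearMap_ext _ fun n ↦ LinearMap.ext fun a ↦ ?_
    simp only [LinearMap.comp_apply, DirectSum.lmap_lof]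
    rw [DirectSum.lof_eq_of, DirectSum.lof_eq_of, DirectSum.coeLinearMap_of, DirectSum.coeLinearMap_of]
    rfl
  have hsurj : Function.Surjective (DirectSum.lmap g) := (DirectSum.lmap_surjective g).mpr hg
  refine ⟨?_, ?_⟩
  · intro x y hxy
    obtain ⟨a, rfl⟩ := hsurj x
    obtain ⟨b, rfl⟩ := hsurj y
    have h1 : DirectSum.coeLinearMap 𝒜 a - DirectSum.coeLinearMap 𝒜 b ∈ I := by
      rw [← Ideal.Quotient.eq]
      have e1 := LinearMap.congr_fun hcomp a
      have e2 := LinearMap.congr_fun hcomp b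
      exact e1.symm.trans (hxy.trans e2)
    refine DFinsupp.ext fun n ↦ ?_
    rw [DirectSum.lmap_apply, DirectSum.lmap_apply]
    have h2 := hI n h1
    rw [DirectSum.decompose_sub,
      show DirectSum.decompose 𝒜 (DirectSum.coeLinearMap 𝒜 a) = a from
        DirectSum.Decomposition.right_inv a,
      show DirectSum.decompose 𝒜 (DirectSum.coeLinearMap 𝒜 b) = b from
        DirectSum.Decomposition.right_inv b] at h2
    exact Subtype.ext (Ideal.Quotient.eq.mpr h2)
  · intro x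
    obtain ⟨a, rfl⟩ := Ideal.Quotient.mk_surjective x
    refine ⟨DirectSum.lmap g (DirectSum.decompose 𝒜 a), ?_⟩
    have e1 := LinearMap.congr_fun hcomp (DirectSum.decompose 𝒜 a)
    simp only [LinearMap.comp_apply] at e1
    rw [show DirectSum.coeLinearMap 𝒜 (DirectSum.decompose 𝒜 a) = a from
      DirectSum.Decomposition.left_inv a] at e1
    exact e1

/-- the quotient grading -/
noncomputable def qgrAlgebra {I : Ideal A} (hI : I.IsHomogeneous 𝒜) : GradedAlgebra (qgr 𝒜 I) where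
  toGradedMonoid := qgr_gradedMonoid 𝒜 I
  toDecomposition := (qgr_isInternal 𝒜 hI).chooseDecomposition

variable {𝒜} (s : Finset A) (hs1 : ∀ f ∈ s, f ∈ 𝒜 1) {Z : Scheme.{u}} (i : Z ⟶ Proj 𝒜)

/-- `A_(f) → Γ(Z, i⁻¹ D₊(f))` -/
noncomputable def psi (f : A) :
    CommRingCat.of (Away 𝒜 f) ⟶ Γ(Z, i ⁻¹ᵁ Proj.basicOpen 𝒜 f) :=
  Proj.awayToSection 𝒜 f ≫ i.app (Proj.basicOpen 𝒜 f)

/-- vanishing of a form of degree `n` on `Z` -/
def Vanish (n : ℕ) (a : A) : Prop :=
  ∀ f (hf : f ∈ s) (ha : a ∈ 𝒜 (n • 1)), psi i f (Away.mk 𝒜 (hs1 f hf) n a ha) = 0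

/-- the vanishing ideal of `Z` -/
def vIdeal : Ideal A :=
  Ideal.span {a | ∃ n, a ∈ 𝒜 (n • 1) ∧ Vanish s hs1 i n a}

theorem vIdeal_isHomogeneous : (vIdeal s hs1 i).IsHomogeneous 𝒜 :=
  Ideal.homogeneous_span 𝒜 _ fun _ ⟨n, hn, _⟩ ↦ ⟨_, hn⟩

theorem vanish_zero (n : ℕ) : Vanish s hs1 i n 0 := fun f hf ha ↦ by
  rw [show Away.mk 𝒜 (hs1 f hf) n 0 ha = 0 from
    HomogeneousLocalization.val_injective _ (by simp [Localization.mk_zero])]
  exact map_zero (psi i f).hom

theorem vanish_mul {m n : ℕ} {c a : A} (hc : c ∈ 𝒜 (m • 1)) (ha : a ∈ 𝒜 (n • 1))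
    (h : Vanish s hs1 i n a) : Vanish s hs1 i (m + n) (c * a) := fun f hf hca ↦ by
  have : Away.mk 𝒜 (hs1 f hf) (m + n) (c * a) hca =
      Away.mk 𝒜 (hs1 f hf) m c hc * Away.mk 𝒜 (hs1 f hf) n a ha := by
    apply HomogeneousLocalization.val_injective
    simp only [Away.val_mk, HomogeneousLocalization.val_mul, Localization.mk_mul]
    congr 1
    exact Subtype.ext (pow_add f m n)
  rw [this]
  exact (map_mul (psi i f).hom _ _).trans (by rw [show (psi i f).hom _ = 0 from h f hf ha, mul_zero])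

theorem vanish_add {n : ℕ} {a b : A} (ha : a ∈ 𝒜 (n • 1)) (hb : b ∈ 𝒜 (n • 1))
    (h : Vanish s hs1 i n a) (h' : Vanish s hs1 i n b) : Vanish s hs1 i n (a + b) := fun f hf hab ↦ by
  have : Away.mk 𝒜 (hs1 f hf) n (a + b) hab =
      Away.mk 𝒜 (hs1 f hf) n a ha + Away.mk 𝒜 (hs1 f hf) n b hb := by
    apply HomogeneousLocalization.val_injective
    simp only [Away.val_mk, HomogeneousLocalization.val_add, Localization.add_mk_self]
  rw [this]
  exact (map_add (psi i f).hom _ _).trans (by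
    rw [show (psi i f).hom _ = 0 from h f hf ha, show (psi i f).hom _ = 0 from h' f hf hb, add_zero])

theorem vanish_of_mem {n : ℕ} {a : A} (hI : a ∈ vIdeal s hs1 i) (ha : a ∈ 𝒜 n) :
    Vanish s hs1 i n a := by
  classical
  have key : ∀ x ∈ vIdeal s hs1 i, ∀ k, Vanish s hs1 i k (DirectSum.decompose 𝒜 x k : A) := by
    intro x hx
    induction hx using Submodule.span_induction with
    | mem x hx =>
      obtain ⟨n, hn, hv⟩ := hx
      intro k
      rw [smul_eq_mul, mul_one] at hn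
      rcases eq_or_ne n k with rfl | hne
      · rwa [DirectSum.decompose_of_mem_same 𝒜 hn]
      · rw [DirectSum.decompose_of_mem_ne 𝒜 hn hne]; exact vanish_zero s hs1 i k
    | zero => intro k; simpa using vanish_zero s hs1 i k
    | add x y _ _ hx hy =>
      intro k
      simp only [DirectSum.decompose_add, DirectSum.add_apply, Submodule.coe_add]
      exact vanish_add s hs1 i (by simpa using! (DirectSum.decompose 𝒜 x k).2)
        (by simpa using! (DirectSum.decompose 𝒜 y k).2) (hx k) (hy k)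
    | smul c x _ hx =>
      induction c using DirectSum.Decomposition.inductionOn 𝒜 with
      | zero => intro k; simpa using vanish_zero s hs1 i k
      | homogeneous c =>
        rename_i m
        intro k
        rw [smul_eq_mul, DirectSum.coe_decompose_mul_of_left_mem 𝒜 k c.2]
        split_ifs with hmk
        · obtain ⟨l, rfl⟩ := Nat.exists_eq_add_of_le hmk
          rw [Nat.add_sub_cancel_left]
          exact vanish_mul s hs1 i (by simpa using! c.2)
            (by simpa using! (DirectSum.decompose 𝒜 x l).2) (hx l)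
        · exact vanish_zero s hs1 i k
      | add c c' hc hc' =>
        intro k
        rw [add_smul, DirectSum.decompose_add, DirectSum.add_apply, Submodule.coe_add]
        exact vanish_add s hs1 i (by simpa using! (DirectSum.decompose 𝒜 (c • x) k).2)
          (by simpa using! (DirectSum.decompose 𝒜 (c' • x) k).2) (hc k) (hc' k)
  have := key a hI n
  rwa [DirectSum.decompose_of_mem_same 𝒜 ha] at this

theorem SpecMap_awayToSection_awayι {g : A} (hg : g ∈ 𝒜 1) :
    Spec.map (Proj.awayToSection 𝒜 g) ≫ Proj.awayι 𝒜 g hg one_pos =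
      (Proj.isAffineOpen_basicOpen 𝒜 g hg one_pos).fromSpec := by
  set hU := Proj.isAffineOpen_basicOpen 𝒜 g hg one_pos
  rw [← cancel_epi hU.isoSpec.hom, IsAffineOpen.isoSpec_hom_fromSpec, IsAffineOpen.isoSpec_hom]
  rw [← Category.assoc]
  show Proj.basicOpenToSpec 𝒜 g ≫ _ = _
  rw [Proj.awayι, ← Proj.basicOpenIsoSpec_hom 𝒜 g hg one_pos, Iso.hom_inv_id_assoc]

theorem exists_pow_vanish [IsClosedImmersion i] {n : ℕ} {a f : A} (hf : f ∈ s)
    (ha : a ∈ 𝒜 (n • 1)) (h : psi i f (Away.mk 𝒜 (hs1 f hf) n a ha) = 0) :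
    ∃ N, Vanish s hs1 i (N + n) (f ^ N * a) := by
  classical
  have step : ∀ g (hg : g ∈ s), ∃ M, ∀ (hm : f ^ M * a ∈ 𝒜 ((M + n) • 1)),
      psi i g (Away.mk 𝒜 (hs1 g hg) (M + n) (f ^ M * a) hm) = 0 := by
    intro g hg
    let hU := (Proj.isAffineOpen_basicOpen 𝒜 g (hs1 g hg) one_pos).preimage i
    let el := Away.isLocalizationElem (hs1 g hg) (hs1 f hf)
    let h' := psi i g el
    let zf := psi i f (Away.mk 𝒜 (hs1 f hf) n a ha)
    let zg := psi i g (Away.mk 𝒜 (hs1 g hg) n a ha)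
    have hle : Z.basicOpen h' ≤ i ⁻¹ᵁ Proj.basicOpen 𝒜 (g * f) := by
      show Z.basicOpen ((i.app _) (Proj.awayToSection 𝒜 g el)) ≤ _
      rw [← Scheme.preimage_basicOpen]
      refine Scheme.Hom.preimage_mono i ?_
      intro x hx
      rw [← (Proj.isAffineOpen_basicOpen 𝒜 g (hs1 g hg) one_pos).fromSpec_image_basicOpen] at hx
      obtain ⟨y, hy, rfl⟩ := hx
      rw [Proj.basicOpen_mul]
      refine ⟨?_, ?_⟩
      · have := (Proj.isAffineOpen_basicOpen 𝒜 g (hs1 g hg) one_pos).range_fromSpec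
        exact this.le ⟨y, rfl⟩
      · rw [← SpecMap_awayToSection_awayι (hs1 g hg)]
        have : Spec.map (Proj.awayToSection 𝒜 g) y ∈
            Proj.awayι 𝒜 g (hs1 g hg) one_pos ⁻¹ᵁ Proj.basicOpen 𝒜 f := by
          rw [Proj.awayι_preimage_basicOpen 𝒜 (hs1 g hg) one_pos (hs1 f hf) one_pos]
          exact hy
        exact this
    have hlo : IsLocalization.Away h' Γ(Z, Z.basicOpen h') := hU.isLocalization_basicOpen h'
    have hkey : algebraMap _ Γ(Z, Z.basicOpen h') zg = 0 := by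
      have hfg : (g * f) ∈ 𝒜 (1 + 1) := SetLike.mul_mem_graded (hs1 g hg) (hs1 f hf)
      have eg := Proj.awayMap_awayToSection 𝒜 (f := g) (hs1 f hf) (rfl : g * f = g * f)
      have ef := Proj.awayMap_awayToSection 𝒜 (f := f) (hs1 g hg) (mul_comm g f : g * f = f * g)
      have hg0 : Proj.basicOpen 𝒜 (g * f) ≤ Proj.basicOpen 𝒜 g := Proj.basicOpen_mono _ _ _ ⟨f, rfl⟩
      have hf0 : Proj.basicOpen 𝒜 (g * f) ≤ Proj.basicOpen 𝒜 f :=
        Proj.basicOpen_mono _ _ _ ⟨g, mul_comm g f⟩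
      let res := Z.presheaf.map (homOfLE (Scheme.Hom.preimage_mono i hg0)).op
      let resf := Z.presheaf.map (homOfLE (Scheme.Hom.preimage_mono i hf0)).op
      have hrg : ∀ x, res (psi i g x) = psi i (g * f) (awayMap 𝒜 (hs1 f hf) rfl x) := fun x ↦ by
        have e : psi i g ≫ res = CommRingCat.ofHom (awayMap 𝒜 (hs1 f hf) rfl) ≫ psi i (g * f) := by
          simp only [psi, Category.assoc, res]
          rw [reassoc_of% eg, Scheme.Hom.naturality]
          rfl
        exact congr($(e).hom x)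
      have hrf : ∀ x, resf (psi i f x) =
          psi i (g * f) (awayMap 𝒜 (hs1 g hg) (mul_comm g f) x) := fun x ↦ by
        have e : psi i f ≫ resf =
            CommRingCat.ofHom (awayMap 𝒜 (hs1 g hg) (mul_comm g f)) ≫ psi i (g * f) := by
          simp only [psi, Category.assoc, resf]
          rw [reassoc_of% ef, Scheme.Hom.naturality]
          rfl
        exact congr($(e).hom x)
      have hx1 : f ^ (2 * n) ∈ 𝒜 (n • (1 + 1)) := by
        simpa [smul_eq_mul, mul_comm] using SetLike.pow_mem_graded (2 * n) (hs1 f hf)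
      have e2 : awayMap 𝒜 (hs1 f hf) rfl (Away.mk 𝒜 (hs1 g hg) n a ha) =
          awayMap 𝒜 (hs1 g hg) (mul_comm g f) (Away.mk 𝒜 (hs1 f hf) n a ha) *
            Away.mk 𝒜 hfg n (f ^ (2 * n)) hx1 := by
        apply HomogeneousLocalization.val_injective
        simp only [awayMap_mk, HomogeneousLocalization.val_mul, Away.val_mk, Localization.mk_mul]
        rw [Localization.mk_eq_mk_iff, Localization.r_iff_exists]
        exact ⟨1, by simp only [OneMemClass.coe_one, Submonoid.coe_mul]; ring⟩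
      have h0 : res zg = 0 := by
        show res (psi i g _) = 0
        rw [hrg, e2]
        refine (map_mul (psi i (g * f)).hom _ _).trans ?_
        rw [show (psi i (g * f)).hom _ = resf zf from (hrf _).symm, show zf = 0 from h, map_zero,
          zero_mul]
      show Z.presheaf.map (homOfLE (Z.basicOpen_le h')).op zg = 0
      rw [show (homOfLE (Z.basicOpen_le h')).op =
        (homOfLE (Scheme.Hom.preimage_mono i hg0)).op ≫ (homOfLE hle).op from rfl, Functor.map_comp]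
      show Z.presheaf.map (homOfLE hle).op (res zg) = 0
      rw [h0, map_zero]
    obtain ⟨⟨_, M, rfl⟩, hM⟩ := (IsLocalization.map_eq_zero_iff (Submonoid.powers h') _ zg).mp hkey
    refine ⟨M, fun hm ↦ ?_⟩
    have e3 : Away.mk 𝒜 (hs1 g hg) (M + n) (f ^ M * a) hm =
        el ^ M * Away.mk 𝒜 (hs1 g hg) n a ha := by
      apply HomogeneousLocalization.val_injective
      simp only [el, Away.isLocalizationElem, HomogeneousLocalization.val_mul,
        HomogeneousLocalization.val_pow, Away.val_mk, Localization.mk_pow, Localization.mk_mul]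
      congr 1
      · simp
      · exact Subtype.ext (by simp [pow_add])
    rw [e3]
    refine (map_mul (psi i g).hom _ _).trans ?_
    rw [map_pow]
    exact hM
  choose M hM using step
  let N := ∑ g ∈ s.attach, M g.1 g.2
  refine ⟨N, fun g hg hm ↦ ?_⟩
  obtain ⟨k, hk⟩ := Nat.exists_eq_add_of_le
    (Finset.single_le_sum (f := fun g : s ↦ M g.1 g.2) (fun _ _ ↦ Nat.zero_le _)
      (Finset.mem_attach s ⟨g, hg⟩))
  have hM' : f ^ M g hg * a ∈ 𝒜 ((M g hg + n) • 1) := by
    have := SetLike.mul_mem_graded (SetLike.pow_mem_graded (M g hg) (hs1 f hf)) ha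
    simpa using this
  have hk1 : f ^ k ∈ 𝒜 (k • 1) := SetLike.pow_mem_graded k (hs1 f hf)
  have e4 : Away.mk 𝒜 (hs1 g hg) (N + n) (f ^ N * a) hm =
      Away.mk 𝒜 (hs1 g hg) k (f ^ k) hk1 *
        Away.mk 𝒜 (hs1 g hg) (M g hg + n) (f ^ M g hg * a) hM' := by
    have hN : N = M g hg + k := hk
    apply HomogeneousLocalization.val_injective
    simp only [Away.val_mk, HomogeneousLocalization.val_mul, Localization.mk_mul]
    congr 1
    · rw [hN, pow_add]; ring
    · exact Subtype.ext (by show g ^ (N + n) = g ^ k * g ^ (M g hg + n); rw [hN, ← pow_add]; ring_nf)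
  rw [e4]
  exact (map_mul (psi i g).hom _ _).trans (by
    rw [show (psi i g).hom _ = 0 from hM g hg hM', mul_zero])

include hs1 in
theorem main (hs : (HomogeneousIdeal.irrelevant 𝒜).toIdeal = Ideal.span (s : Set A))
    [IsClosedImmersion i] :
    ∃ (B : Type u) (_ : CommRing B) (_ : Algebra R B) (ℬ : ℕ → Submodule R B) (_ : GradedAlgebra ℬ)
      (φ : 𝒜 →+*ᵍ ℬ) (_ : Function.Surjective φ)
      (hφ : HomogeneousIdeal.irrelevant ℬ ≤ (HomogeneousIdeal.irrelevant 𝒜).map φ)
      (e : Z ≅ Proj ℬ), e.hom ≫ Proj.map φ hφ = i := by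
  classical
  let I := vIdeal s hs1 i
  letI := qgrAlgebra 𝒜 (vIdeal_isHomogeneous s hs1 i)
  let φ : 𝒜 →+*ᵍ qgr 𝒜 I := ⟨Ideal.Quotient.mk I, fun {_ x} hx ↦ ⟨x, hx, rfl⟩⟩
  have hφs : Function.Surjective φ := Ideal.Quotient.mk_surjective
  have hφ : HomogeneousIdeal.irrelevant (qgr 𝒜 I) ≤ (HomogeneousIdeal.irrelevant 𝒜).map φ := by
    refine toIdeal_le_toIdeal_iff.mp
      ((HomogeneousIdeal.toIdeal_irrelevant_le _).mpr fun n hn x hx ↦ ?_)
    obtain ⟨a, ha, rfl⟩ := hx
    refine Ideal.mem_map_of_mem φ ?_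
    exact HomogeneousIdeal.mem_irrelevant_of_mem 𝒜 hn ha
  refine ⟨A ⧸ I, inferInstance, inferInstance, qgr 𝒜 I, inferInstance, φ, hφs, hφ, ?_⟩
  have hcovA : (HomogeneousIdeal.irrelevant 𝒜).toIdeal ≤
      Ideal.span (Set.range fun f : s ↦ (f : A)) := by
    rw [hs]
    exact Ideal.span_mono fun x hx ↦ ⟨⟨x, hx⟩, rfl⟩
  have hawsurj : ∀ f (hf : f ∈ s), Function.Surjective
      (Away.map φ f : Away 𝒜 f →+* Away (qgr 𝒜 I) (φ f)) := by
    intro f hf z
    obtain ⟨n, b, hb, rfl⟩ := z.mk_surjective _ (φ.map_mem (hs1 f hf))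
    obtain ⟨a, ha, rfl⟩ := hb
    exact ⟨Away.mk 𝒜 (hs1 f hf) n a ha, Away.map_mk φ f (hs1 f hf) n a ha⟩
  have hker : ∀ f (hf : f ∈ s) (x : Away 𝒜 f),
      (Away.map φ f : Away 𝒜 f →+* Away (qgr 𝒜 I) (φ f)) x = 0 ↔ psi i f x = 0 := by
    intro f hf x
    obtain ⟨n, a, ha, rfl⟩ := x.mk_surjective _ (hs1 f hf)
    rw [Away.map_mk φ f (hs1 f hf) n a ha]
    have e0 : Away.mk (qgr 𝒜 I) (φ.map_mem (hs1 f hf)) n (φ a) (φ.map_mem ha) = 0 ↔
        ∃ N, f ^ N * a ∈ I := by
      rw [← (HomogeneousLocalization.val_injective _).eq_iff, Away.val_mk,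
        HomogeneousLocalization.val_zero, Localization.mk_eq_mk', IsLocalization.mk'_eq_zero_iff]
      constructor
      · rintro ⟨⟨_, N, rfl⟩, hN⟩
        exact ⟨N, Ideal.Quotient.eq_zero_iff_mem.mp (by simpa [φ] using! hN)⟩
      · rintro ⟨N, hN⟩
        exact ⟨⟨_, N, rfl⟩, by simpa [φ] using! Ideal.Quotient.eq_zero_iff_mem.mpr hN⟩
    rw [e0]
    constructor
    · rintro ⟨N, hN⟩
      have hm : f ^ N * a ∈ 𝒜 (N + n) := by
        simpa using SetLike.mul_mem_graded (SetLike.pow_mem_graded N (hs1 f hf)) ha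
      have hm' : f ^ N * a ∈ 𝒜 ((N + n) • 1) := by simpa using hm
      have h1 := vanish_of_mem s hs1 i hN hm f hf hm'
      rwa [show Away.mk 𝒜 (hs1 f hf) (N + n) (f ^ N * a) hm' = Away.mk 𝒜 (hs1 f hf) n a ha by
        apply HomogeneousLocalization.val_injective
        simp only [Away.val_mk]
        rw [Localization.mk_eq_mk_iff, Localization.r_iff_exists]
        exact ⟨1, by simp only [OneMemClass.coe_one]; ring⟩] at h1
    · intro h
      obtain ⟨N, hN⟩ := exists_pow_vanish s hs1 i hf ha h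
      exact ⟨N, Ideal.subset_span ⟨N + n, by
        simpa using SetLike.mul_mem_graded (SetLike.pow_mem_graded N (hs1 f hf)) ha, hN⟩⟩
  have hcl : IsClosedImmersion (Proj.map φ hφ) := by
    let 𝒰 := Proj.affineOpenCoverOfIrrelevantLESpan 𝒜 (fun f : s ↦ (f : A))
      (fun f ↦ hs1 f f.2) (fun _ ↦ one_pos) hcovA
    refine IsZariskiLocalAtTarget.of_openCover 𝒰.openCover fun (f : s) ↦ ?_
    have sq : IsPullback (Proj.awayι (qgr 𝒜 I) (φ f) (φ.map_mem (hs1 f f.2)) one_pos)
        (Spec.map (CommRingCat.ofHom (Away.map φ (f : A)))) (Proj.map φ hφ)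
        (Proj.awayι 𝒜 (f : A) (hs1 f f.2) one_pos) := by
      refine (IsOpenImmersion.isPullback _ _ _ _ (Proj.awayι_comp_map φ hφ one_pos (f : A) (hs1 f f.2)) ?_).flip
      have h1 : (Proj.awayι (qgr 𝒜 I) (φ f) (φ.map_mem (hs1 f f.2)) one_pos).opensRange =
          Proj.map φ hφ ⁻¹ᵁ (Proj.awayι 𝒜 (f : A) (hs1 f f.2) one_pos).opensRange := by
        rw [Proj.opensRange_awayι, Proj.opensRange_awayι, Proj.map_preimage_basicOpen]
      exact h1.symm ▸ rfl
    have hc : IsClosedImmersion (Spec.map (CommRingCat.ofHom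
        (Away.map φ (f : A) : Away 𝒜 (f : A) →+* Away (qgr 𝒜 I) (φ f)))) :=
      IsClosedImmersion.spec_of_surjective _ (hawsurj f f.2)
    show IsClosedImmersion (pullback.snd (Proj.map φ hφ) (Proj.awayι 𝒜 (f : A) (hs1 f f.2) one_pos))
    rw [← sq.isoPullback_inv_snd]
    infer_instance
  have hkers : (Proj.map φ hφ).ker = i.ker := by
    refine Scheme.IdealSheafData.ext_of_iSup_eq_top
      (fun f : s ↦ (⟨_, Proj.isAffineOpen_basicOpen 𝒜 (f : A) (hs1 f f.2) one_pos⟩ :
        (Proj 𝒜).affineOpens)) (Proj.iSup_basicOpen_eq_top 𝒜 _ hcovA) fun f ↦ ?_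
    rw [Scheme.Hom.ker_apply, Scheme.Hom.ker_apply]
    ext y
    obtain ⟨x, rfl⟩ : ∃ x, Proj.awayToSection 𝒜 (f : A) x = y :=
      ⟨(Proj.basicOpenIsoAway 𝒜 (f : A) (hs1 f f.2) one_pos).inv y, by
        rw [← Proj.basicOpenIsoAway_hom 𝒜 (f : A) (hs1 f f.2) one_pos,
          ← CategoryTheory.comp_apply, Iso.inv_hom_id, CategoryTheory.id_apply]⟩
    rw [RingHom.mem_ker, RingHom.mem_ker]
    refine Iff.trans ?_ (hker f f.2 x)
    have happ : (Proj.map φ hφ).app (Proj.basicOpen 𝒜 (f : A)) (Proj.awayToSection 𝒜 (f : A) x) =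
        Proj.awayToSection (qgr 𝒜 I) (φ f)
          ((Away.map φ (f : A) : Away 𝒜 (f : A) →+* Away (qgr 𝒜 I) (φ f)) x) := by
      rw [Scheme.Hom.app_eq_appLE]
      exact congr($(Proj.awayToSection_comp_appLE φ hφ (hs1 f f.2)).hom x)
    show (Proj.map φ hφ).app (Proj.basicOpen 𝒜 (f : A)) (Proj.awayToSection 𝒜 (f : A) x) = 0 ↔ _
    rw [happ]
    refine map_eq_zero_iff _ ?_
    exact (ConcreteCategory.bijective_of_isIso
      (Proj.basicOpenIsoAway (qgr 𝒜 I) (φ (f : A)) (φ.map_mem (hs1 f f.2)) one_pos).hom).1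
  have := IsClosedImmersion.isIso_lift (Proj.map φ hφ) i hkers
  exact ⟨asIso (IsClosedImmersion.lift (Proj.map φ hφ) i hkers.le), IsClosedImmersion.lift_fac _ _ _⟩

end Groth.Agent.Misc9.ProjQuot
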