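import Groth.Agent.Misc9.FerrandTensor
import Groth.Prelude.Def_Magnet
import Mathlib.CategoryTheory.Monoidal.Cartesian.Over

/-!
Split push-outs of affine schemes over an affine base are universal, and carry actions.
-/

universe u v₁ u₁

set_option maxHeartbeats 800000
set_option synthInstance.maxHeartbeats 40000

open CategoryTheory CategoryTheory.Limits MonoidalCategory CartesianMonoidalCategory MonObj AlgebraicGeometry
open Magnet Magnet.MonAct

namespace Groth.Agent.Misc9.PushAct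

section General

variable {C : Type u₁} [Category.{v₁} C] [CartesianMonoidalCategory C] {G Z X Y P : C} [MonObj G]

/-- an action descends to a push-out stable under products -/
theorem exists_action {i : Z ⟶ X} {j : Z ⟶ Y} {a : X ⟶ P} {b : Y ⟶ P} (hP : IsPushout i j a b)
    (hU : ∀ Q : C, IsPushout (Q ◁ i) (Q ◁ j) (Q ◁ a) (Q ◁ b))
    (aZ : MonAct G Z) (aX : MonAct G X) (aY : MonAct G Y)
    (hi : IsEquivariant aZ aX i) (hj : IsEquivariant aZ aY j) :
    ∃ aP : MonAct G P, IsEquivariant aX aP a ∧ IsEquivariant aY aP b ∧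
      ∀ (W : C) (aW : MonAct G W) (f₁ : X ⟶ W) (f₂ : Y ⟶ W) (w : i ≫ f₁ = j ≫ f₂),
        IsEquivariant aX aW f₁ → IsEquivariant aY aW f₂ → IsEquivariant aP aW (hP.desc f₁ f₂ w) := by
  unfold IsEquivariant at hi hj
  have w0 : (G ◁ i) ≫ aX.act ≫ a = (G ◁ j) ≫ aY.act ≫ b := by
    rw [← reassoc_of% hi, ← reassoc_of% hj, hP.w]
  let act := (hU G).desc (aX.act ≫ a) (aY.act ≫ b) w0
  have ha : (G ◁ a) ≫ act = aX.act ≫ a := (hU G).inl_desc _ _ _
  have hb : (G ◁ b) ≫ act = aY.act ≫ b := (hU G).inr_desc _ _ _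
  have one' : (η[G] ▷ P) ≫ act = (λ_ P).hom := by
    refine (hU (𝟙_ C)).hom_ext ?_ ?_
    · rw [whisker_exchange_assoc, ha, reassoc_of% aX.one_act, leftUnitor_naturality]
    · rw [whisker_exchange_assoc, hb, reassoc_of% aY.one_act, leftUnitor_naturality]
  have mul' : (μ[G] ▷ P) ≫ act = (α_ G G P).hom ≫ (G ◁ act) ≫ act := by
    refine (hU (G ⊗ G)).hom_ext ?_ ?_
    · rw [whisker_exchange_assoc, ha, reassoc_of% aX.mul_act, associator_naturality_right_assoc,
        ← MonoidalCategory.whiskerLeft_comp_assoc G (G ◁ a), ha, MonoidalCategory.whiskerLeft_comp, Category.assoc, ha]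
    · rw [whisker_exchange_assoc, hb, reassoc_of% aY.mul_act, associator_naturality_right_assoc,
        ← MonoidalCategory.whiskerLeft_comp_assoc G (G ◁ b), hb, MonoidalCategory.whiskerLeft_comp, Category.assoc, hb]
  refine ⟨⟨act, one', mul'⟩, ha.symm, hb.symm, fun W aW f₁ f₂ w h₁ h₂ => ?_⟩
  unfold IsEquivariant at h₁ h₂ ⊢
  refine (hU G).hom_ext ?_ ?_
  · rw [reassoc_of% ha, hP.inl_desc, h₁, ← MonoidalCategory.whiskerLeft_comp_assoc, hP.inl_desc]
  · rw [reassoc_of% hb, hP.inr_desc, h₂, ← MonoidalCategory.whiskerLeft_comp_assoc, hP.inr_desc]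

end General

variable {T : Scheme.{u}}

/-- affine split push-out over an affine base, universal for products -/
theorem exists_pushout [IsAffine T] {Z X Y : Over T} [IsAffine Z.left] [IsAffine X.left] [IsAffine Y.left]
    (i : Z ⟶ X) (j : Z ⟶ Y) (r : Y ⟶ Z) (hr : j ≫ r = 𝟙 Z) :
    ∃ (P : Over T) (a : X ⟶ P) (b : Y ⟶ P), IsAffine P.left ∧ IsPushout i j a b ∧
      ∀ Q : Over T, IsPushout (Q ◁ i) (Q ◁ j) (Q ◁ a) (Q ◁ b) := by
  let k := Γ(T, ⊤)
  let t : T ⟶ Spec k := T.isoSpec.hom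
  let A := Γ(Z.left, ⊤)
  let B := Γ(X.left, ⊤)
  let A' := Γ(Y.left, ⊤)
  letI : Algebra k A := Z.hom.appTop.hom.toAlgebra
  letI : Algebra k B := X.hom.appTop.hom.toAlgebra
  letI : Algebra k A' := Y.hom.appTop.hom.toAlgebra
  have hc : ∀ {V V' : Over T} (f : V ⟶ V'), V'.hom.appTop ≫ f.left.appTop = V.hom.appTop := by
    intro V V' f
    rw [← Scheme.Hom.comp_appTop, Over.w f]
  let q : B →ₐ[k] A := ⟨i.left.appTop.hom, fun c => ConcreteCategory.congr_hom (hc i) c⟩
  let p : A' →ₐ[k] A := ⟨j.left.appTop.hom, fun c => ConcreteCategory.congr_hom (hc j) c⟩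
  let e : A →ₐ[k] A' := ⟨r.left.appTop.hom, fun c => ConcreteCategory.congr_hom (hc r) c⟩
  have pe : ∀ x, p (e x) = x := by
    intro x
    have h : r.left.appTop ≫ j.left.appTop = 𝟙 A := by
      rw [← Scheme.Hom.comp_appTop, ← Over.comp_left, hr, Over.id_left, Scheme.Hom.id_appTop]
    exact ConcreteCategory.congr_hom h x
  let E := AlgHom.equalizer (q.comp (AlgHom.fst k B A')) (p.comp (AlgHom.snd k B A'))
  let u : E →ₐ[k] B := (AlgHom.fst k B A').comp E.val
  let v : E →ₐ[k] A' := (AlgHom.snd k B A').comp E.val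
  let rb : B →ₗ[k] E := LinearMap.codRestrict (Subalgebra.toSubmodule E)
    (LinearMap.prod LinearMap.id (e.toLinearMap ∘ₗ q.toLinearMap)) fun b => (pe (q b)).symm
  let ra : A' →ₗ[k] E := LinearMap.codRestrict (Subalgebra.toSubmodule E)
    (LinearMap.prod 0 (LinearMap.id - e.toLinearMap ∘ₗ p.toLinearMap)) fun a => by
      show q 0 = p (a - e (p a))
      rw [map_zero, map_sub, pe, sub_self]
  have h : FerrandTensor.SplitFP u v q p :=
    { rb := rb, ra := ra, e := e.toLinearMap
      comm := AlgHom.ext fun x => x.2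
      id_P := fun x => Subtype.ext (Prod.ext (add_zero _) (by
        show e (q x.1.1) + (x.1.2 - e (p x.1.2)) = x.1.2
        rw [show q x.1.1 = p x.1.2 from x.2]
        abel))
      u_rb := fun _ => rfl
      u_ra := fun _ => rfl
      v_rb := fun _ => rfl
      v_ra := fun _ => rfl
      p_e := pe }
  have hbase : ∀ V : Over T, ∀ [IsAffine V.left],
      V.left.isoSpec.hom ≫ Spec.map V.hom.appTop = V.hom ≫ t := by
    intro V _
    exact Scheme.isoSpec_hom_naturality V.hom
  have hnat : ∀ {V V' : Over T} [IsAffine V.left] [IsAffine V'.left] (f : V ⟶ V'),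
      f.left ≫ V'.left.isoSpec.hom = V.left.isoSpec.hom ≫ Spec.map f.left.appTop := by
    intro V V' _ _ f
    exact (Scheme.isoSpec_hom_naturality f.left).symm
  let PR : CommRingCat.{u} := CommRingCat.of E
  let Pl : Over T := Over.mk (Spec.map (CommRingCat.ofHom (algebraMap k E)) ≫ T.isoSpec.inv)
  have hwX : (X.left.isoSpec.hom ≫ Spec.map (CommRingCat.ofHom u.toRingHom)) ≫ Pl.hom = X.hom := by
    have hu : CommRingCat.ofHom (algebraMap k E) ≫ CommRingCat.ofHom u.toRingHom = X.hom.appTop :=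
      CommRingCat.hom_ext (RingHom.ext fun c => u.commutes c)
    show (_ ≫ _) ≫ Spec.map _ ≫ T.isoSpec.inv = _
    rw [Category.assoc, ← Spec.map_comp_assoc, hu, ← Category.assoc, hbase X, Category.assoc, Iso.hom_inv_id,
      Category.comp_id]
  have hwY : (Y.left.isoSpec.hom ≫ Spec.map (CommRingCat.ofHom v.toRingHom)) ≫ Pl.hom = Y.hom := by
    have hv : CommRingCat.ofHom (algebraMap k E) ≫ CommRingCat.ofHom v.toRingHom = Y.hom.appTop :=
      CommRingCat.hom_ext (RingHom.ext fun c => v.commutes c)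
    show (_ ≫ _) ≫ Spec.map _ ≫ T.isoSpec.inv = _
    rw [Category.assoc, ← Spec.map_comp_assoc, hv, ← Category.assoc, hbase Y, Category.assoc, Iso.hom_inv_id,
      Category.comp_id]
  let a : X ⟶ Pl := Over.homMk (X.left.isoSpec.hom ≫ Spec.map (CommRingCat.ofHom u.toRingHom)) hwX
  let b : Y ⟶ Pl := Over.homMk (Y.left.isoSpec.hom ≫ Spec.map (CommRingCat.ofHom v.toRingHom)) hwY
  have comm : i ≫ a = j ≫ b := by
    ext1
    show i.left ≫ X.left.isoSpec.hom ≫ _ = j.left ≫ Y.left.isoSpec.hom ≫ _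
    rw [reassoc_of% hnat i, reassoc_of% hnat j, ← Spec.map_comp, ← Spec.map_comp]
    congr 2
    exact CommRingCat.hom_ext (congrArg AlgHom.toRingHom h.comm)
  have hQ : ∀ Q : Over T, IsPushout (Q ◁ i) (Q ◁ j) (Q ◁ a) (Q ◁ b) := by
    intro Q
    have hW : ∀ (V : Over T) [IsAffine V.left],
        IsPullback ((snd Q V).left ≫ V.left.isoSpec.hom) (fst Q V).left (Spec.map V.hom.appTop) (Q.hom ≫ t) := by
      intro V _
      have h1 : IsPullback (snd Q V).left (fst Q V).left V.hom Q.hom :=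
        (IsPullback.of_hasPullback Q.hom V.hom).flip
      have h2 : IsPullback V.left.isoSpec.hom V.hom (Spec.map V.hom.appTop) t :=
        IsPullback.of_horiz_isIso ⟨hbase V⟩
      exact (h1.flip.paste_vert h2.flip).flip
    have hWP : IsPullback (snd Q Pl).left (fst Q Pl).left (Spec.map (CommRingCat.ofHom (algebraMap k E))) (Q.hom ≫ t) := by
      have h1 : IsPullback (snd Q Pl).left (fst Q Pl).left Pl.hom Q.hom :=
        (IsPullback.of_hasPullback Q.hom Pl.hom).flip
      have h2 : IsPullback (𝟙 (Spec PR)) Pl.hom (Spec.map (CommRingCat.ofHom (algebraMap k E))) t :=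
        IsPullback.of_horiz_isIso ⟨by
          show 𝟙 _ ≫ _ = (Spec.map _ ≫ T.isoSpec.inv) ≫ T.isoSpec.hom
          simp⟩
      have := (h1.flip.paste_vert h2.flip).flip
      exact (show (snd Q Pl).left ≫ 𝟙 _ = (snd Q Pl).left from Category.comp_id _) ▸ this
    have e1 : ∀ {V V' : Over T} (f : V ⟶ V'), (Q ◁ f).left ≫ (fst Q V').left = (fst Q V).left := by
      intro V V' f
      rw [← Over.comp_left, whiskerLeft_fst]
    have e2 : ∀ {V V' : Over T} (f : V ⟶ V'), (Q ◁ f).left ≫ (snd Q V').left = (snd Q V).left ≫ f.left := by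
      intro V V' f
      rw [← Over.comp_left, whiskerLeft_snd, Over.comp_left]
    refine IsPushout.of_map (Over.forget T) ?_ (FerrandTensor.isPushout_of_splitFP h
      hWP (hW X) (hW Y) (hW Z) _ _ _ _ ?_ (e1 j) ?_ (e1 i) ?_ (e1 b) ?_ (e1 a)).flip
    · rw [← MonoidalCategory.whiskerLeft_comp, ← MonoidalCategory.whiskerLeft_comp, comm]
    · exact ((Category.assoc _ _ _).symm.trans (congrArg (· ≫ _) (e2 j))).trans
        ((Category.assoc _ _ _).trans ((congrArg (_ ≫ ·) (hnat j)).trans (Category.assoc _ _ _).symm))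
    · exact ((Category.assoc _ _ _).symm.trans (congrArg (· ≫ _) (e2 i))).trans
        ((Category.assoc _ _ _).trans ((congrArg (_ ≫ ·) (hnat i)).trans (Category.assoc _ _ _).symm))
    · exact (e2 b).trans (Category.assoc _ _ _).symm
    · exact (e2 a).trans (Category.assoc _ _ _).symm
  refine ⟨Pl, a, b, inferInstanceAs (IsAffine (Spec PR)), ?_, hQ⟩
  exact (hQ (𝟙_ (Over T))).of_iso (λ_ Z) (λ_ X) (λ_ Y) (λ_ Pl) (leftUnitor_naturality i) (leftUnitor_naturality j)
    (leftUnitor_naturality a) (leftUnitor_naturality b)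

end Groth.Agent.Misc9.PushAct
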