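import Mathlib.AlgebraicGeometry.QuasiAffine
import Mathlib.AlgebraicGeometry.AffineSpace
import Mathlib.AlgebraicGeometry.Morphisms.FiniteType

set_option autoImplicit false
set_option backward.isDefEq.respectTransparency false
universe u
namespace Groth.Agent.Misc9.QAffImm
open AlgebraicGeometry CategoryTheory Limits

theorem surjective_appLE_of_eq {X Y : Scheme.{u}} (f : X ⟶ Y) {U U' : Y.Opens} {V V' : X.Opens}
    (e : V ≤ f ⁻¹ᵁ U) (e' : V' ≤ f ⁻¹ᵁ U') (hU : U' = U) (hV : V' = V)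
    (h : Function.Surjective (f.appLE U V e)) : Function.Surjective (f.appLE U' V' e') := by
  subst hU hV; exact h

theorem isClosedImmersion_restrict {X S : Scheme.{u}} {n : Type u} (π : X ⟶ S) (v : n → Γ(X, ⊤))
    (V : S.Opens) (hV : IsAffineOpen V) (j : n) (hD : IsAffineOpen (X.basicOpen (v j)))
    (hle : X.basicOpen (v j) ≤ π ⁻¹ᵁ V) (s : Set Γ(X, X.basicOpen (v j)))
    (hs : ∀ R : Subring Γ(X, X.basicOpen (v j)),
      (∀ c, π.appLE V (X.basicOpen (v j)) hle c ∈ R) → s ⊆ R → R = ⊤)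
    (hsv : ∀ b ∈ s, ∃ (k : n) (m : ℕ),
      b * (X.presheaf.map (homOfLE le_top).op (v j)) ^ m = X.presheaf.map (homOfLE le_top).op (v k)) :
    IsClosedImmersion (AffineSpace.homOfVector π v ∣_
      (((𝔸(n; S) ↘ S) ⁻¹ᵁ V) ⊓ (𝔸(n; S)).basicOpen (AffineSpace.coord S j))) := by
  set i := AffineSpace.homOfVector π v
  set p := 𝔸(n; S) ↘ S
  set W := (p ⁻¹ᵁ V) ⊓ (𝔸(n; S)).basicOpen (AffineSpace.coord S j)
  have hW : IsAffineOpen W := by
    have h1 := (hV.preimage p).basicOpen ((𝔸(n; S)).presheaf.map (homOfLE (le_top : p ⁻¹ᵁ V ≤ ⊤)).op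
      (AffineSpace.coord S j))
    rwa [Scheme.basicOpen_res] at h1
  have hip : i ≫ p = π := AffineSpace.homOfVector_over _ _
  have hpre : i ⁻¹ᵁ W = X.basicOpen (v j) := by
    have h1 : i ⁻¹ᵁ (𝔸(n; S)).basicOpen (AffineSpace.coord S j) = X.basicOpen (v j) := by
      rw [Scheme.preimage_basicOpen_top]
      exact congrArg X.basicOpen (AffineSpace.homOfVector_appTop_coord π v j)
    have h2 : i ⁻¹ᵁ (p ⁻¹ᵁ V) = π ⁻¹ᵁ V := by rw [← Scheme.Hom.comp_preimage, hip]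
    simp only [W, Scheme.Hom.preimage_inf, h1, h2]
    exact inf_eq_right.mpr hle
  haveI : IsAffine (W : Scheme.{u}) := hW
  haveI : IsAffine (i ⁻¹ᵁ W : Scheme.{u}) := by
    have : IsAffineOpen (i ⁻¹ᵁ W) := hpre ▸ hD
    exact this
  refine IsClosedImmersion.of_surjective_of_isAffine _ ?_
  rw [Scheme.Hom.appTop, morphismRestrict_app']
  refine surjective_appLE_of_eq i (U := W) (V := X.basicOpen (v j)) hpre.ge _ (by simp) (by simp [hpre]) ?_
  let φ := (i.appLE W (X.basicOpen (v j)) hpre.ge).hom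
  have hres : ∀ k, φ ((𝔸(n; S)).presheaf.map (homOfLE (le_top : W ≤ ⊤)).op (AffineSpace.coord S k)) =
      X.presheaf.map (homOfLE le_top).op (v k) := by
    intro k
    change ((𝔸(n; S)).presheaf.map _ ≫ i.appLE W (X.basicOpen (v j)) hpre.ge) (AffineSpace.coord S k) = _
    rw [Scheme.Hom.map_appLE, Scheme.Hom.appLE, CommRingCat.comp_apply]
    exact congrArg (X.presheaf.map _) (AffineSpace.homOfVector_appTop_coord π v k)
  have hunit : IsUnit ((𝔸(n; S)).presheaf.map (homOfLE (le_top : W ≤ ⊤)).op (AffineSpace.coord S j)) := by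
    have h1 := ((𝔸(n; S)).toRingedSpace.isUnit_res_basicOpen (AffineSpace.coord S j)).map
      ((𝔸(n; S)).presheaf.map (homOfLE (inf_le_right : W ≤ (𝔸(n; S)).basicOpen _)).op).hom
    change IsUnit (((𝔸(n; S)).presheaf.map _ ≫ (𝔸(n; S)).presheaf.map _) (AffineSpace.coord S j)) at h1
    rw [← Functor.map_comp] at h1
    exact h1
  intro b
  have hR : φ.range = ⊤ := by
    refine hs _ (fun c => ?_) (fun b hb => ?_)
    · refine ⟨p.appLE V W inf_le_left c, ?_⟩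
      change (p.appLE V W inf_le_left ≫ i.appLE W (X.basicOpen (v j)) hpre.ge) c = _
      rw [Scheme.Hom.appLE_comp_appLE]
      congr 2
      simp only [hip]
    · obtain ⟨k, m, hk⟩ := hsv b hb
      obtain ⟨u, hu⟩ := hunit
      refine ⟨(𝔸(n; S)).presheaf.map (homOfLE (le_top : W ≤ ⊤)).op (AffineSpace.coord S k) * ↑(u⁻¹) ^ m, ?_⟩
      rw [map_mul, map_pow, hres, ← hk, mul_assoc, ← mul_pow, ← hres j, ← hu, ← map_mul]
      simp
  exact RingHom.range_eq_top.mp hR b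

theorem exists_data {X S : Scheme.{u}} (π : X ⟶ S) [LocallyOfFiniteType π] [X.IsQuasiAffine] (x : X) :
    ∃ (T : Finset Γ(X, ⊤)) (g : Γ(X, ⊤)) (V : S.Opens), g ∈ T ∧ x ∈ X.basicOpen g ∧ IsAffineOpen V ∧
      IsAffineOpen (X.basicOpen g) ∧ ∃ (hle : X.basicOpen g ≤ π ⁻¹ᵁ V) (s : Set Γ(X, X.basicOpen g)),
        (∀ R : Subring Γ(X, X.basicOpen g),
          (∀ c, π.appLE V (X.basicOpen g) hle c ∈ R) → s ⊆ R → R = ⊤) ∧
        ∀ b ∈ s, ∃ a ∈ T, ∃ m : ℕ,
          b * (X.presheaf.map (homOfLE le_top).op g) ^ m = X.presheaf.map (homOfLE le_top).op a := by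
  classical
  obtain ⟨V, hV, hxV, -⟩ := exists_isAffineOpen_mem_and_subset (X := S) (x := π x) (U := ⊤) trivial
  obtain ⟨_, ⟨_, ⟨g, hD, rfl⟩, rfl⟩, hxg, hgle⟩ := (Scheme.IsQuasiAffine.isBasis_basicOpen
    X).exists_subset_of_mem_open (show x ∈ (π ⁻¹ᵁ V : Set X) from hxV) (π ⁻¹ᵁ V).isOpen
  have hle : X.basicOpen g ≤ π ⁻¹ᵁ V := hgle
  have hft := LocallyOfFiniteType.finiteType_appLE π hV hD hle
  algebraize [(π.appLE V (X.basicOpen g) hle).hom]
  obtain ⟨s, hs⟩ := Algebra.FiniteType.out (R := Γ(S, V)) (A := Γ(X, X.basicOpen g))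
  have := isLocalization_basicOpen_of_qcqs (X := X) (U := ⊤) isCompact_univ isQuasiSeparated_univ g
  have hsurj := fun b => IsLocalization.surj (Submonoid.powers g) (S := Γ(X, X.basicOpen g)) b
  choose q hq using hsurj
  refine ⟨insert g (s.image fun b => (q b).1), g, V, Finset.mem_insert_self _ _, hxg, hV, hD, hle, s,
    fun R hR hsR => ?_, fun b hb => ⟨(q b).1, Finset.mem_insert_of_mem (Finset.mem_image_of_mem _ hb), ?_⟩⟩
  · refine top_unique fun b htop => ?_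
    clear htop
    have hb : b ∈ Algebra.adjoin Γ(S, V) (s : Set Γ(X, X.basicOpen g)) := hs ▸ Algebra.mem_top
    induction hb using Algebra.adjoin_induction with
    | mem y hy => exact hsR hy
    | algebraMap r => exact hR r
    | add y z _ _ hy hz => exact R.add_mem hy hz
    | mul y z _ _ hy hz => exact R.mul_mem hy hz
  · obtain ⟨m, hm⟩ := (q b).2.2
    refine ⟨m, ?_⟩
    have := hq b
    rw [← show g ^ m = _ from hm, map_pow] at this
    exact this

theorem exists_immersion {X S : Scheme.{u}} (π : X ⟶ S)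
    [LocallyOfFiniteType π] [X.IsQuasiAffine] :
    ∃ (n : ℕ) (i : X ⟶ 𝔸(ULift.{u} (Fin n); S)), IsImmersion i ∧ i ≫ (𝔸(ULift.{u} (Fin n); S) ↘ S) = π := by
  classical
  choose T g V hgT hxg hV hD hle s hs hsT using exists_data π
  obtain ⟨t, ht⟩ := CompactSpace.isCompact_univ.elim_finite_subcover
    (fun x => (X.basicOpen (g x) : Set X)) (fun x => (X.basicOpen (g x)).isOpen)
    (fun x _ => Set.mem_iUnion.mpr ⟨x, hxg x⟩)
  let A := t.biUnion T
  let v : ULift.{u} (Fin A.card) → Γ(X, ⊤) := fun k => (A.equivFin.symm k.down).1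
  have hv : ∀ x ∈ t, ∀ a ∈ T x, ∃ k, v k = a := fun x hx a ha =>
    ⟨⟨A.equivFin ⟨a, Finset.mem_biUnion.mpr ⟨x, hx, ha⟩⟩⟩, by simp [v]⟩
  refine ⟨A.card, AffineSpace.homOfVector π v, ?_, AffineSpace.homOfVector_over _ _⟩
  have hj : ∀ x : t, ∃ k, v k = g x.1 := fun x => hv x.1 x.2 _ (hgT x.1)
  choose j hj using hj
  haveI : MorphismProperty.RespectsRight @IsImmersion @IsOpenImmersion :=
    ⟨fun {X Y Z} i (hi : IsOpenImmersion i) f (hf : IsImmersion f) => inferInstanceAs (IsImmersion (f ≫ i))⟩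
  refine IsZariskiLocalAtTarget.of_range_subset_iSup (P := @IsImmersion)
    (fun x : t => ((𝔸(_; S) ↘ S) ⁻¹ᵁ V x.1) ⊓ (𝔸(_; S)).basicOpen (AffineSpace.coord S (j x))) ?_ (fun x => ?_)
  · rintro _ ⟨z, rfl⟩
    obtain ⟨x, hx, hz⟩ := Set.mem_iUnion₂.mp (ht (Set.mem_univ z))
    refine TopologicalSpace.Opens.mem_iSup.mpr ⟨⟨x, hx⟩, ?_, ?_⟩
    · change z ∈ AffineSpace.homOfVector π v ⁻¹ᵁ ((𝔸(_; S) ↘ S) ⁻¹ᵁ V x)
      rw [← Scheme.Hom.comp_preimage, AffineSpace.homOfVector_over]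
      exact hle x hz
    · change z ∈ AffineSpace.homOfVector π v ⁻¹ᵁ (𝔸(_; S)).basicOpen _
      rw [Scheme.preimage_basicOpen_top]
      rw [show (AffineSpace.homOfVector π v).appTop (AffineSpace.coord S (j ⟨x, hx⟩)) = g x from
        (AffineSpace.homOfVector_appTop_coord π v _).trans (hj ⟨x, hx⟩)]
      exact hz
  · obtain ⟨x, hx⟩ := x
    have key : ∀ (g' : Γ(X, ⊤)), v (j ⟨x, hx⟩) = g' → ∀ (hD' : IsAffineOpen (X.basicOpen g'))
        (hle' : X.basicOpen g' ≤ π ⁻¹ᵁ V x) (s' : Set Γ(X, X.basicOpen g')),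
        (∀ R : Subring Γ(X, X.basicOpen g'),
          (∀ c, π.appLE (V x) (X.basicOpen g') hle' c ∈ R) → s' ⊆ R → R = ⊤) →
        (∀ b ∈ s', ∃ a ∈ T x, ∃ m : ℕ,
          b * (X.presheaf.map (homOfLE le_top).op g') ^ m = X.presheaf.map (homOfLE le_top).op a) →
        IsImmersion (AffineSpace.homOfVector π v ∣_
          (((𝔸(_; S) ↘ S) ⁻¹ᵁ V x) ⊓ (𝔸(_; S)).basicOpen (AffineSpace.coord S (j ⟨x, hx⟩)))) := by
      rintro g' rfl hD' hle' s' h1 h2
      haveI := isClosedImmersion_restrict π v (V x) (hV x) (j ⟨x, hx⟩) hD' hle' s' h1 (fun b hb => by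
        obtain ⟨a, ha, m, hm⟩ := h2 b hb
        obtain ⟨k, rfl⟩ := hv x hx a ha
        exact ⟨k, m, hm⟩)
      infer_instance
    exact key _ (hj ⟨x, hx⟩) (hD x) (hle x) (s x) (hs x) (hsT x)

end Groth.Agent.Misc9.QAffImm
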