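import Groth.Prelude.Def_QuadGrp
import Mathlib.LinearAlgebra.StdBasis
import Mathlib.LinearAlgebra.TensorProduct.Pi
import Mathlib.LinearAlgebra.Matrix.SchurComplement
import Mathlib.LinearAlgebra.Matrix.ToLin
import Mathlib.RingTheory.MvPolynomial.MonomialOrder
import Mathlib.Data.Finsupp.MonomialOrder
import Mathlib.RingTheory.Localization.Away.Basic
import Mathlib.RingTheory.Localization.Ideal
import Mathlib.Tactic.LinearCombination

/-!
Centralisers of orthogonal groups: generic reflections and McCoy for multivariate polynomials.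
-/

open scoped TensorProduct
open Matrix

namespace Groth.Agent.Misc9.QuadCentre

universe u

section McCoy

open MvPolynomial

variable {R : Type*} [CommRing R]

theorem mem_nonZeroDivisors_fin {m : ℕ} (q : MvPolynomial (Fin m) R)
    (hq : ∀ a : R, a • q = 0 → a = 0) : q ∈ nonZeroDivisors (MvPolynomial (Fin m) R) := by
  let o : MonomialOrder (Fin m) := MonomialOrder.lex
  rw [mem_nonZeroDivisors_iff_right]
  by_contra! hcon
  have hex : ∃ d, ∃ f : MvPolynomial (Fin m) R, f ≠ 0 ∧ f * q = 0 ∧ o.toSyn (o.degree f) = d := by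
    obtain ⟨f, hf, hf0⟩ := hcon
    exact ⟨_, f, hf0, hf, rfl⟩
  obtain ⟨d, ⟨f, hf0, hfq, rfl⟩, hmin⟩ :=
    (wellFounded_lt (α := o.syn)).has_min {d | ∃ f : MvPolynomial (Fin m) R,
      f ≠ 0 ∧ f * q = 0 ∧ o.toSyn (o.degree f) = d} hex
  have key : ∀ (s : ℕ) (q' : MvPolynomial (Fin m) R), q'.support.card ≤ s → f * q' = 0 →
      (∀ c : R, c • q = 0 ∨ c • q = c • q) → (∀ d, q'.coeff d = 0 ∨ q'.coeff d = q.coeff d) →
      ∀ d, q'.coeff d • f = 0 := by
    intro s
    induction s with
    | zero =>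
      intro q' h _ _ _ d
      have : q' = 0 := by simpa using h
      simp [this]
    | succ s ih =>
      intro q' hcard h0 _ hco d
      by_cases hq' : q' = 0
      · simp [hq']
      have hlc : o.leadingCoeff f * o.leadingCoeff q' = 0 := by
        have := o.coeff_mul_of_degree_add (f := f) (g := q')
        rw [h0, MvPolynomial.coeff_zero] at this
        exact this.symm
      have hsm : o.leadingCoeff q' • f = 0 := by
        by_contra hne
        have hdeg : o.toSyn (o.degree (o.leadingCoeff q' • f)) < o.toSyn (o.degree f) := by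
          refine lt_of_le_of_ne ?_ fun heq => ?_
          · exact o.le_degree (MvPolynomial.support_smul (o.degree_mem_support hne))
          · have h1 := o.degree_mem_support hne
            rw [o.toSyn.injective heq, MvPolynomial.mem_support_iff, MvPolynomial.coeff_smul] at h1
            exact h1 (by rw [smul_eq_mul, mul_comm]; exact hlc)
        exact hmin _ ⟨_, hne, by rw [smul_mul_assoc, hfq, smul_zero], rfl⟩ hdeg
      let q'' := q' - monomial (o.degree q') (o.leadingCoeff q')
      have hc'' : ∀ e, q''.coeff e = if e = o.degree q' then 0 else q'.coeff e := by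
        intro e
        simp only [q'', MvPolynomial.coeff_sub, MvPolynomial.coeff_monomial]
        by_cases he : e = o.degree q'
        · subst he; simp [MonomialOrder.leadingCoeff]
        · simp [he, Ne.symm he]
      have hcard' : q''.support.card ≤ s := by
        have hsub : q''.support ⊆ q'.support.erase (o.degree q') := by
          intro e he
          rw [MvPolynomial.mem_support_iff, hc''] at he
          rw [Finset.mem_erase, MvPolynomial.mem_support_iff]
          by_cases h : e = o.degree q' <;> simp [h] at he ⊢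
          exact he
        have := Finset.card_le_card hsub
        rw [Finset.card_erase_of_mem (o.degree_mem_support hq')] at this
        omega
      have h0'' : f * q'' = 0 := by
        simp only [q'']
        have e : monomial (o.degree q') (o.leadingCoeff q') =
            o.leadingCoeff q' • monomial (o.degree q') (1 : R) := by
          rw [MvPolynomial.smul_monomial, smul_eq_mul, mul_one]
        rw [mul_sub, h0, e, mul_smul_comm, ← smul_mul_assoc, hsm, zero_mul, sub_zero]
      by_cases he : d = o.degree q'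
      · subst he; exact hsm
      · have := ih q'' hcard' h0'' (fun c => Or.inr rfl) (fun e => by
          rw [hc'']; split_ifs with h
          · exact Or.inl rfl
          · exact hco e) d
        rwa [hc'', if_neg he] at this
  have h2 : o.leadingCoeff f • q = 0 := by
    ext e
    have h3 := congrArg (fun p => p.coeff (o.degree f))
      (key _ q le_rfl hfq (fun c => Or.inr rfl) (fun e => Or.inr rfl) e)
    simp only [MvPolynomial.coeff_smul, MvPolynomial.coeff_zero, smul_eq_mul] at h3 ⊢
    rw [mul_comm]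
    exact h3
  exact o.leadingCoeff_ne_zero_iff.2 hf0 (hq _ h2)

theorem mem_nonZeroDivisors {σ : Type*} [Finite σ] (q : MvPolynomial σ R)
    (hq : ∀ a : R, a • q = 0 → a = 0) : q ∈ nonZeroDivisors (MvPolynomial σ R) := by
  obtain ⟨m, ⟨e⟩⟩ := Finite.exists_equiv_fin σ
  let E := renameEquiv R e
  have h := mem_nonZeroDivisors_fin (E q) (fun a ha => hq a (E.injective (by rw [map_smul, ha, map_zero])))
  rw [mem_nonZeroDivisors_iff_right] at h ⊢
  intro x hx
  exact E.injective (by rw [map_zero]; exact h (E x) (by rw [← map_mul, hx, map_zero]))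

end McCoy

section coord

variable {R : Type u} [CommRing R] {n : ℕ}

/-- The matrix of the chosen bilinear lift. -/
noncomputable def bl (Q : QuadraticForm R (Fin n → R)) : Matrix (Fin n) (Fin n) R :=
  Matrix.of fun i j => QuadGrp.bilinLift Q (Pi.single i 1) (Pi.single j 1)

/-- The polar matrix. -/
noncomputable def gr (Q : QuadraticForm R (Fin n → R)) : Matrix (Fin n) (Fin n) R := bl Q + (bl Q)ᵀ

/-- The matrix of a linear automorphism. -/
def matOf (g : (Fin n → R) ≃ₗ[R] (Fin n → R)) : Matrix (Fin n) (Fin n) R :=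
  Matrix.of fun i j => g (Pi.single j 1) i

variable (Q : QuadraticForm R (Fin n → R)) (A : Type u) [CommRing A] [Algebra R A]

/-- The quadratic form on `A^n`. -/
noncomputable def qf (v : Fin n → A) : A := v ⬝ᵥ ((bl Q).map (algebraMap R A) *ᵥ v)

/-- The polar matrix over `A`. -/
noncomputable def grA : Matrix (Fin n) (Fin n) A := (gr Q).map (algebraMap R A)

theorem polar_eq (i j : Fin n) :
    QuadraticMap.polar Q (Pi.single i 1) (Pi.single j 1) = gr Q i j := by
  have h := congrArg (fun q : QuadraticMap R (Fin n → R) R =>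
    QuadraticMap.polar q (Pi.single i 1) (Pi.single j 1)) (QuadGrp.bilinLift_spec Q)
  simp only [LinearMap.BilinMap.polar_toQuadraticMap] at h
  simp [gr, bl, ← h]

theorem qf_smul (a : A) (v : Fin n → A) : qf Q A (a • v) = a ^ 2 * qf Q A v := by
  simp [qf, Matrix.mulVec_smul, pow_two, mul_assoc]

theorem grA_symm : (grA Q A)ᵀ = grA Q A := by
  ext i j
  simp [grA, gr, add_comm]

theorem dot_grA_comm (x v : Fin n → A) : x ⬝ᵥ (grA Q A *ᵥ v) = (grA Q A *ᵥ x) ⬝ᵥ v := by
  rw [Matrix.dotProduct_mulVec, ← Matrix.mulVec_transpose, grA_symm]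

theorem qf_add (x v : Fin n → A) :
    qf Q A (x + v) = qf Q A x + x ⬝ᵥ (grA Q A *ᵥ v) + qf Q A v := by
  have h : v ⬝ᵥ ((bl Q).map (algebraMap R A) *ᵥ x) =
      x ⬝ᵥ (((bl Q).map (algebraMap R A))ᵀ *ᵥ v) := by
    rw [Matrix.mulVec_transpose, Matrix.dotProduct_mulVec, dotProduct_comm]
  have hg : grA Q A = (bl Q).map (algebraMap R A) + ((bl Q).map (algebraMap R A))ᵀ := by
    ext i j; simp [grA, gr]
  simp only [qf, hg, Matrix.mulVec_add, dotProduct_add, add_dotProduct, Matrix.add_mulVec, h]
  ring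

theorem qf_diag (v : Fin n → A) : v ⬝ᵥ (grA Q A *ᵥ v) = 2 * qf Q A v := by
  have := qf_add Q A v v
  rw [← two_smul A v, qf_smul] at this
  linear_combination -this

/-- Coordinates on `A ⊗ R^n`. -/
noncomputable def co : A ⊗[R] (Fin n → R) ≃ₗ[A] (Fin n → A) :=
  TensorProduct.piScalarRight R A A (Fin n)

theorem baseChange_eq (x : A ⊗[R] (Fin n → R)) :
    QuadGrp.baseChange A Q x = qf Q A (co A x) ⊗ₜ[R] (1 : R) := by
  obtain ⟨v, rfl⟩ := (co (R := R) (n := n) A).symm.surjective x
  rw [LinearEquiv.apply_symm_apply]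
  have hv : (co (R := R) A).symm v = ∑ i, v i ⊗ₜ[R] Pi.single i (1 : R) := by
    conv_lhs => rw [← Finset.univ_sum_single v]
    rw [map_sum]
    exact Finset.sum_congr rfl fun i _ => TensorProduct.piScalarRight_symm_single _ _ _ _ _ i
  rw [hv, QuadGrp.baseChange, LinearMap.BilinMap.toQuadraticMap_apply]
  simp only [map_sum, LinearMap.sum_apply, LinearMap.BilinMap.baseChange_tmul]
  simp only [qf, dotProduct, Matrix.mulVec, Finset.mul_sum, TensorProduct.sum_tmul, Matrix.map_apply]
  rw [Finset.sum_comm]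
  refine Finset.sum_congr rfl fun i _ => Finset.sum_congr rfl fun j _ => ?_
  conv_lhs => rw [show (QuadGrp.bilinLift Q (Pi.single i 1)) (Pi.single j 1) = bl Q i j • (1 : R) by simp [bl]]
  rw [← TensorProduct.smul_tmul, Algebra.smul_def]
  congr 1
  ring

theorem baseChangeForm_eq (x : A ⊗[R] (Fin n → R)) :
    QuadGrp.baseChangeForm A Q x = qf Q A (co A x) := by
  simp [QuadGrp.baseChangeForm, baseChange_eq]

variable {Q}

theorem co_baseChange (g : (Fin n → R) ≃ₗ[R] (Fin n → R)) (x : A ⊗[R] (Fin n → R)) :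
    co A (g.baseChange R A (Fin n → R) (Fin n → R) x) =
      (matOf g).map (algebraMap R A) *ᵥ co A x := by
  induction x using TensorProduct.induction_on with
  | zero => simp
  | add a b ha hb => simp [map_add, ha, hb, Matrix.mulVec_add]
  | tmul a f =>
    rw [LinearEquiv.baseChange_tmul]
    funext i
    conv_lhs => rw [← Finset.univ_sum_single f]
    simp only [co, TensorProduct.piScalarRight_apply, TensorProduct.piScalarRightHom_tmul, map_sum,
      Finset.sum_apply, Finset.sum_smul, Matrix.mulVec, dotProduct, Matrix.map_apply]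
    refine Finset.sum_congr rfl fun j _ => ?_
    rw [show (Pi.single j (f j) : Fin n → R) = f j • Pi.single j 1 by simp [← Pi.single_smul'], map_smul]
    simp [matOf, Algebra.smul_def]
    ring

variable (Q)

/-- The reflection in `v`, `c` being the inverse of its value. -/
noncomputable def reflMap (v : Fin n → A) (c : A) : (Fin n → A) →ₗ[A] (Fin n → A) :=
  Matrix.toLin' (1 + Matrix.replicateCol Unit (-(c • v)) * Matrix.replicateRow Unit (grA Q A *ᵥ v))

theorem reflMap_apply (v : Fin n → A) (c : A) (x : Fin n → A) :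
    reflMap Q A v c x = x - (c * ((grA Q A *ᵥ v) ⬝ᵥ x)) • v := by
  rw [reflMap, Matrix.toLin'_apply, Matrix.add_mulVec, Matrix.one_mulVec, ← Matrix.mulVec_mulVec]
  funext i
  simp [-Matrix.mulVec_mulVec, Matrix.mulVec, dotProduct]
  ring

theorem reflMap_invol (v : Fin n → A) (c : A) (hc : c * qf Q A v = 1) :
    Function.Involutive (reflMap Q A v c) := by
  intro x
  funext i
  simp only [reflMap_apply, dotProduct_sub, dotProduct_smul, smul_eq_mul, Pi.sub_apply, Pi.smul_apply]
  rw [dotProduct_comm (grA Q A *ᵥ v) v, qf_diag]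
  linear_combination 2 * c * ((grA Q A *ᵥ v) ⬝ᵥ x) * v i * hc

/-- The reflection as an automorphism of `A ⊗ R^n`. -/
noncomputable def refl (v : Fin n → A) (c : A) (hc : c * qf Q A v = 1) :
    (A ⊗[R] (Fin n → R)) ≃ₗ[A] (A ⊗[R] (Fin n → R)) :=
  ((co A).trans (LinearEquiv.ofInvolutive (reflMap Q A v c) (reflMap_invol Q A v c hc))).trans (co A).symm

theorem co_refl (v : Fin n → A) (c : A) (hc : c * qf Q A v = 1) (x : A ⊗[R] (Fin n → R)) :
    co A (refl Q A v c hc x) = co A x - (c * ((grA Q A *ᵥ v) ⬝ᵥ co A x)) • v := by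
  simp [refl, reflMap_apply]

theorem qf_refl (v : Fin n → A) (c : A) (hc : c * qf Q A v = 1) (x : A ⊗[R] (Fin n → R)) :
    qf Q A (co A (refl Q A v c hc x)) = qf Q A (co A x) := by
  rw [co_refl, sub_eq_add_neg, ← neg_smul, qf_add, qf_smul, Matrix.mulVec_smul, dotProduct_smul,
    dotProduct_comm _ (co A x), smul_eq_mul]
  linear_combination c * (co A x ⬝ᵥ (grA Q A *ᵥ v)) ^ 2 * hc

theorem refl_mem_orth (v : Fin n → A) (c : A) (hc : c * qf Q A v = 1) :
    refl Q A v c hc ∈ QuadGrp.orth Q A := fun x => by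
  rw [baseChange_eq, baseChange_eq, qf_refl]

theorem refl_mem_O (v : Fin n → A) (c : A) (hc : c * qf Q A v = 1) :
    refl Q A v c hc ∈ QuadGrp.O (QuadGrp.baseChangeForm A Q) := fun x => by
  rw [baseChangeForm_eq, baseChangeForm_eq, qf_refl]

theorem det_refl (v : Fin n → A) (c : A) (hc : c * qf Q A v = 1) :
    LinearMap.det (refl Q A v c hc : (A ⊗[R] (Fin n → R)) →ₗ[A] (A ⊗[R] (Fin n → R))) = -1 := by
  have h : (refl Q A v c hc : (A ⊗[R] (Fin n → R)) →ₗ[A] (A ⊗[R] (Fin n → R))) =
      ((co (R := R) (n := n) A).symm.toLinearMap : (Fin n → A) →ₗ[A] _) ∘ₗ reflMap Q A v c ∘ₗ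
        (((co (R := R) (n := n) A).symm).symm.toLinearMap : (A ⊗[R] (Fin n → R)) →ₗ[A] (Fin n → A)) := by
    apply LinearMap.ext; intro x; simp [refl]
  rw [h, LinearMap.det_conj, reflMap, LinearMap.det_toLin', Matrix.det_one_add_replicateCol_mul_replicateRow,
    dotProduct_neg, dotProduct_smul, dotProduct_comm, qf_diag, smul_eq_mul]
  linear_combination (-2 : A) * hc

/-- `g` commutes with `h`, in coordinates. -/
theorem comm_coord (g : (Fin n → R) ≃ₗ[R] (Fin n → R))
    (h : (A ⊗[R] (Fin n → R)) ≃ₗ[A] (A ⊗[R] (Fin n → R)))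
    (hh : g.baseChange R A (Fin n → R) (Fin n → R) * h = h * g.baseChange R A (Fin n → R) (Fin n → R))
    (x : Fin n → A) :
    (matOf g).map (algebraMap R A) *ᵥ co A (h ((co A).symm x)) =
      co A (h ((co A).symm ((matOf g).map (algebraMap R A) *ᵥ x))) := by
  rw [← co_baseChange]
  have e := congrArg (fun f => f ((co A).symm x)) hh
  simp only [LinearEquiv.mul_apply] at e
  rw [e]
  congr 2
  apply (co A).injective
  rw [LinearEquiv.apply_symm_apply, co_baseChange, LinearEquiv.apply_symm_apply]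

theorem smul_comm_hom (g : (Fin n → R) ≃ₗ[R] (Fin n → R)) (c : R) (hg : ∀ v, g v = c • v)
    (h : (A ⊗[R] (Fin n → R)) ≃ₗ[A] (A ⊗[R] (Fin n → R))) :
    g.baseChange R A (Fin n → R) (Fin n → R) * h = h * g.baseChange R A (Fin n → R) (Fin n → R) := by
  have key : ∀ y : A ⊗[R] (Fin n → R), g.baseChange R A (Fin n → R) (Fin n → R) y = algebraMap R A c • y := by
    intro y
    induction y using TensorProduct.induction_on with
    | zero => simp
    | add a b ha hb => rw [map_add, ha, hb, smul_add]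
    | tmul a f => rw [LinearEquiv.baseChange_tmul, hg, TensorProduct.tmul_smul, algebraMap_smul]
  apply LinearEquiv.ext
  intro x
  rw [LinearEquiv.mul_apply, LinearEquiv.mul_apply, key, key, map_smul]

theorem qf_map {B : Type u} [CommRing B] [Algebra R B] (ψ : A →ₐ[R] B) (v : Fin n → A) :
    qf Q B (fun i => ψ (v i)) = ψ (qf Q A v) := by
  simp [qf, dotProduct, Matrix.mulVec, map_sum, AlgHom.commutes]

theorem matMap_map {B : Type u} [CommRing B] [Algebra R B] (ψ : A →ₐ[R] B)
    (M : Matrix (Fin n) (Fin n) R) (v : Fin n → A) :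
    M.map (algebraMap R B) *ᵥ (fun i => ψ (v i)) = fun i => ψ ((M.map (algebraMap R A) *ᵥ v) i) := by
  funext i
  simp [dotProduct, Matrix.mulVec, map_sum, AlgHom.commutes]

theorem dot_map {B : Type u} [CommRing B] [Algebra R B] (ψ : A →ₐ[R] B) (v w : Fin n → A) :
    (fun i => ψ (v i)) ⬝ᵥ (fun i => ψ (w i)) = ψ (v ⬝ᵥ w) := by
  simp [dotProduct, map_sum]

theorem mulQ_eq_zero (a : R) (h : ∀ v : Fin n → R, a * qf Q R v = 0) (i j : Fin n) :
    a * gr Q i j = 0 := by
  have e : Pi.single i (1 : R) ⬝ᵥ (grA Q R *ᵥ Pi.single j 1) = gr Q i j := by simp [grA]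
  rw [← e]
  have := h (Pi.single i 1 + Pi.single j 1)
  rw [qf_add, mul_add, mul_add, h, h, zero_add, add_zero] at this
  exact this

theorem qf_self (v : Fin n → R) : qf Q R v = Q v := by
  have h := baseChangeForm_eq Q R ((1 : R) ⊗ₜ[R] v)
  have e : co R ((1 : R) ⊗ₜ[R] v) = v := by funext i; simp [co]
  rw [e] at h
  rw [← h]
  simp [QuadGrp.baseChangeForm, QuadGrp.baseChange_tmul]

theorem sq_eq_one (g : (Fin n → R) ≃ₗ[R] (Fin n → R)) (hg : ∀ v, Q (g v) = Q v) (c : R)
    (hc : ∀ v, g v = c • v) (hU : ∀ a : R, (∀ i j, a * gr Q i j = 0) → a = 0) : c * c = 1 := by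
  rw [← sub_eq_zero]
  refine hU _ fun i j => mulQ_eq_zero Q _ (fun v => ?_) i j
  have := hg v
  rw [hc, QuadraticMap.map_smul, smul_eq_mul] at this
  rw [qf_self, sub_mul, this, one_mul, sub_self]

theorem scalar_of_wedge (g : (Fin n → R) ≃ₗ[R] (Fin n → R))
    (h : ∀ (t : Fin n → R) (i j : Fin n), i ≠ j →
      (matOf g *ᵥ t) i * t j - (matOf g *ᵥ t) j * t i = 0) : ∃ c : R, ∀ v, g v = c • v := by
  rcases Nat.eq_zero_or_pos n with hn | hn
  · subst hn; exact ⟨1, fun v => Subsingleton.elim _ _⟩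
  set M := matOf g
  have hoff : ∀ i j, i ≠ j → M i j = 0 := fun i j hij => by
    simpa [hij] using h (Pi.single j 1) i j hij
  have hdiag : ∀ i j, i ≠ j → M i i = M j j := fun i j hij => by
    have := h (Pi.single i 1 + Pi.single j 1) i j hij
    simp [Matrix.mulVec_add, hij, hij.symm, hoff i j hij, hoff j i hij.symm] at this
    exact sub_eq_zero.1 this
  refine ⟨M ⟨0, hn⟩ ⟨0, hn⟩, fun v => ?_⟩
  funext i
  conv_lhs => rw [← Finset.univ_sum_single v]
  rw [map_sum, Finset.sum_apply, Finset.sum_eq_single i]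
  · rw [show (Pi.single i (v i) : Fin n → R) = v i • Pi.single i 1 by simp [← Pi.single_smul'], map_smul]
    show v i * M i i = M ⟨0, hn⟩ ⟨0, hn⟩ * v i
    by_cases h0 : i = ⟨0, hn⟩
    · subst h0; ring
    · rw [hdiag i _ h0]; ring
  · intro j _ hj
    rw [show (Pi.single j (v j) : Fin n → R) = v j • Pi.single j 1 by simp [← Pi.single_smul'], map_smul]
    show v j * M i j = 0
    rw [hoff i j hj.symm, mul_zero]
  · simp

open MvPolynomial

/-- Commutation with all reflections forces a scalar. -/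
theorem scalar_of_refl (hU : ∀ a : R, (∀ i j, a * gr Q i j = 0) → a = 0)
    (g : (Fin n → R) ≃ₗ[R] (Fin n → R))
    (H : ∀ (A : Type u) [CommRing A] [Algebra R A] (v : Fin n → A) (c : A) (hc : c * qf Q A v = 1),
      g.baseChange R A (Fin n → R) (Fin n → R) * refl Q A v c hc =
        refl Q A v c hc * g.baseChange R A (Fin n → R) (Fin n → R)) :
    ∃ c : R, ∀ v, g v = c • v := by
  let P := MvPolynomial (Fin n ⊕ Fin n) R
  let T : Fin n → P := fun i => X (Sum.inl i)
  let S : Fin n → P := fun i => X (Sum.inr i)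
  let q : P := qf Q P T
  let ev : (Fin n → R) → (Fin n → R) → (P →ₐ[R] R) := fun t s => aeval (Sum.elim t s)
  have evT1 : ∀ t s i, ev t s (T i) = t i := fun t s i => aeval_X _ _
  have evT : ∀ t s, (fun i => ev t s (T i)) = t := fun t s => funext (evT1 t s)
  have evS : ∀ t s, (fun i => ev t s (S i)) = s := fun t s => by funext i; exact aeval_X _ _
  have hq : q ∈ nonZeroDivisors P := mem_nonZeroDivisors q fun a ha => hU a fun i j =>
    mulQ_eq_zero Q a (fun v => by
      have := congrArg (ev v 0) ha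
      rwa [map_smul, map_zero, ← qf_map, evT, smul_eq_mul] at this) i j
  let L := Localization.Away q
  have hinj : Function.Injective (algebraMap P L) :=
    IsLocalization.injective L (Submonoid.powers_le.2 hq)
  let ψ : P →ₐ[R] L := IsScalarTower.toAlgHom R P L
  let M := (matOf g).map (algebraMap R P)
  let k : P := S ⬝ᵥ (grA Q P *ᵥ T)
  have hk : k ∈ nonZeroDivisors P := mem_nonZeroDivisors k fun a ha => hU a fun i j => by
    have := congrArg (ev (Pi.single j 1) (Pi.single i 1)) ha
    rw [map_smul, map_zero, ← dot_map, evS, grA, ← matMap_map, evT, smul_eq_mul] at this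
    simpa using this
  obtain ⟨u, hu⟩ := IsLocalization.Away.algebraMap_isUnit (S := L) q
  let v : Fin n → L := fun i => ψ (T i)
  have hc : ((u⁻¹ : Lˣ) : L) * qf Q L v = 1 := by
    rw [qf_map Q P ψ T]
    show ((u⁻¹ : Lˣ) : L) * algebraMap P L q = 1
    rw [← hu, Units.inv_mul]
  have hcm := comm_coord L g _ (H L v _ hc) (fun i => ψ (S i))
  have key : ∀ i j, k * ((M *ᵥ T) i * T j - (M *ᵥ T) j * T i) = 0 := by
    intro i j
    apply hinj
    rw [map_zero]
    have hi := congrFun hcm i
    have hj := congrFun hcm j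
    simp only [co_refl, LinearEquiv.apply_symm_apply, Matrix.mulVec_sub, Matrix.mulVec_smul,
      Pi.sub_apply, Pi.smul_apply, smul_eq_mul, v, sub_right_inj, grA,
      matMap_map P ψ, dot_map P ψ] at hi hj
    set γ := ((u⁻¹ : Lˣ) : L)
    set a := ((gr Q).map (algebraMap R P) *ᵥ T) ⬝ᵥ S
    set b := ((gr Q).map (algebraMap R P) *ᵥ T) ⬝ᵥ (M *ᵥ S)
    have hka : k = a := dotProduct_comm _ _
    change ψ (k * ((M *ᵥ T) i * T j - (M *ᵥ T) j * T i)) = 0
    rw [hka, map_mul, map_sub, map_mul, map_mul]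
    apply (u⁻¹).isUnit.mul_right_eq_zero.1
    linear_combination ψ (T j) * hi - ψ (T i) * hj
  refine scalar_of_wedge g fun t i j _ => ?_
  have h0 : (M *ᵥ T) i * T j - (M *ᵥ T) j * T i = 0 :=
    (mem_nonZeroDivisors_iff_left.1 hk) _ (key i j)
  have := congrArg (ev t 0) h0
  rw [map_zero, map_sub, map_mul, map_mul] at this
  have hM : ∀ i, ev t 0 ((M *ᵥ T) i) = (matOf g *ᵥ t) i := fun i => by
    rw [← congrFun (matMap_map P (ev t 0) (matOf g) T) i, evT]
    simp
  simpa [hM, evT1] using this

/-- Commutation with all products of two reflections forces a scalar (polar form invertible, `n ≥ 3`). -/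
theorem scalar_of_refl_refl (hn : 3 ≤ n) (Xi : Matrix (Fin n) (Fin n) R) (hXi : gr Q * Xi = 1)
    (g : (Fin n → R) ≃ₗ[R] (Fin n → R))
    (H : ∀ (A : Type u) [CommRing A] [Algebra R A] (v w : Fin n → A) (c d : A)
      (hc : c * qf Q A v = 1) (hd : d * qf Q A w = 1),
      g.baseChange R A (Fin n → R) (Fin n → R) * (refl Q A v c hc * refl Q A w d hd) =
        (refl Q A v c hc * refl Q A w d hd) * g.baseChange R A (Fin n → R) (Fin n → R)) :
    ∃ c : R, ∀ v, g v = c • v := by
  have hU : ∀ a : R, (∀ i j, a * gr Q i j = 0) → a = 0 := by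
    intro a ha
    have e := congrFun (congrFun hXi ⟨0, by omega⟩) ⟨0, by omega⟩
    rw [Matrix.one_apply_eq, Matrix.mul_apply] at e
    rw [← mul_one a, ← e, Finset.mul_sum]
    exact Finset.sum_eq_zero fun j _ => by rw [← mul_assoc, ha, zero_mul]
  let P := MvPolynomial (Fin n ⊕ Fin n) R
  let T : Fin n → P := fun i => X (Sum.inl i)
  let U : Fin n → P := fun i => X (Sum.inr i)
  let ev : (Fin n → R) → (Fin n → R) → (P →ₐ[R] R) := fun t s => aeval (Sum.elim t s)
  have evT1 : ∀ t s i, ev t s (T i) = t i := fun t s i => aeval_X _ _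
  have evT : ∀ t s, (fun i => ev t s (T i)) = t := fun t s => funext (evT1 t s)
  have evU1 : ∀ t s i, ev t s (U i) = s i := fun t s i => aeval_X _ _
  have evU : ∀ t s, (fun i => ev t s (U i)) = s := fun t s => funext (evU1 t s)
  have hqT : qf Q P T ∈ nonZeroDivisors P := mem_nonZeroDivisors _ fun a ha => hU a fun i j =>
    mulQ_eq_zero Q a (fun v => by
      have := congrArg (ev v 0) ha
      rwa [map_smul, map_zero, ← qf_map, evT, smul_eq_mul] at this) i j
  have hqU : qf Q P U ∈ nonZeroDivisors P := mem_nonZeroDivisors _ fun a ha => hU a fun i j =>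
    mulQ_eq_zero Q a (fun v => by
      have := congrArg (ev 0 v) ha
      rwa [map_smul, map_zero, ← qf_map, evU, smul_eq_mul] at this) i j
  let L := Localization.Away (qf Q P T * qf Q P U)
  have hinj : Function.Injective (algebraMap P L) :=
    IsLocalization.injective L (Submonoid.powers_le.2 (mul_mem hqT hqU))
  let ψ : P →ₐ[R] L := IsScalarTower.toAlgHom R P L
  let M := (matOf g).map (algebraMap R P)
  let i0 : Fin n := ⟨0, by omega⟩
  let i1 : Fin n := ⟨1, by omega⟩
  let k : P := T i0 * U i1 - T i1 * U i0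
  have hk : k ∈ nonZeroDivisors P := mem_nonZeroDivisors k fun a ha => by
    have := congrArg (ev (Pi.single i0 1) (Pi.single i1 1)) ha
    rw [map_smul, map_zero, map_sub, map_mul, map_mul, evT1, evT1, evU1, evU1] at this
    simpa [i0, i1, Fin.ext_iff] using this
  let ξ : Fin n → P := Pi.single i0 (U i1) - Pi.single i1 (U i0)
  let x : Fin n → P := Xi.map (algebraMap R P) *ᵥ ξ
  have hx : grA Q P *ᵥ x = ξ := by
    show (gr Q).map (algebraMap R P) *ᵥ (Xi.map (algebraMap R P) *ᵥ ξ) = ξ
    rw [Matrix.mulVec_mulVec, ← Matrix.map_mul, hXi, Matrix.map_one _ (map_zero _) (map_one _),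
      Matrix.one_mulVec]
  have hxU : (grA Q P *ᵥ U) ⬝ᵥ x = 0 := by
    rw [← dot_grA_comm, hx]
    simp [ξ, dotProduct_sub, mul_comm]
  have hxT : (grA Q P *ᵥ T) ⬝ᵥ x = k := by
    rw [← dot_grA_comm, hx]
    simp [ξ, k, dotProduct_sub]
  have hun := IsLocalization.Away.algebraMap_isUnit (S := L) (qf Q P T * qf Q P U)
  rw [map_mul, IsUnit.mul_iff] at hun
  obtain ⟨⟨cT, hcT⟩, ⟨cU, hcU⟩⟩ := hun
  have hc : ((cT⁻¹ : Lˣ) : L) * qf Q L (fun i => ψ (T i)) = 1 := by
    rw [qf_map Q P ψ T]
    show ((cT⁻¹ : Lˣ) : L) * algebraMap P L _ = 1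
    rw [← hcT, Units.inv_mul]
  have hd : ((cU⁻¹ : Lˣ) : L) * qf Q L (fun i => ψ (U i)) = 1 := by
    rw [qf_map Q P ψ U]
    show ((cU⁻¹ : Lˣ) : L) * algebraMap P L _ = 1
    rw [← hcU, Units.inv_mul]
  have hcm := comm_coord L g _ (H L _ _ _ _ hc hd) (fun i => ψ (x i))
  have hxU' : (grA Q L *ᵥ fun i => ψ (U i)) ⬝ᵥ (fun i => ψ (x i)) = 0 := by
    rw [grA, matMap_map P ψ, dot_map P ψ, ← grA, hxU, map_zero]
  have hxT' : (grA Q L *ᵥ fun i => ψ (T i)) ⬝ᵥ (fun i => ψ (x i)) = ψ k := by
    rw [grA, matMap_map P ψ, dot_map P ψ, ← grA, hxT]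
  simp only [LinearEquiv.mul_apply, co_refl, LinearEquiv.apply_symm_apply, hxU', mul_zero, zero_smul,
    sub_zero, hxT', Matrix.mulVec_sub, Matrix.mulVec_smul, matMap_map P ψ (matOf g) T] at hcm
  generalize ((matOf g).map (algebraMap R L) *ᵥ fun i => ψ (x i)) = y at hcm
  set β := ((cU⁻¹ : Lˣ) : L) * (grA Q L *ᵥ fun i => ψ (U i)) ⬝ᵥ y
  generalize (grA Q L *ᵥ fun i => ψ (T i)) ⬝ᵥ (y - β • fun i => ψ (U i)) = α at hcm
  set γ := ((cT⁻¹ : Lˣ) : L)
  let D : (Fin n → P) → Fin n → Fin n → Fin n → P := fun z i j l =>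
    z i * (T j * U l - T l * U j) - z j * (T i * U l - T l * U i) + z l * (T i * U j - T j * U i)
  have key : ∀ i j l, k * D (M *ᵥ T) i j l = 0 := by
    intro i j l
    apply hinj
    rw [map_zero]
    have hi := congrFun hcm i
    have hj := congrFun hcm j
    have hl := congrFun hcm l
    simp only [Pi.sub_apply, Pi.smul_apply, smul_eq_mul] at hi hj hl
    change ψ (k * D (M *ᵥ T) i j l) = 0
    apply (cT⁻¹).isUnit.mul_right_eq_zero.1
    simp only [D, map_mul, map_add, map_sub]
    linear_combination -(ψ (T j) * ψ (U l) - ψ (T l) * ψ (U j)) * hi +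
      (ψ (T i) * ψ (U l) - ψ (T l) * ψ (U i)) * hj - (ψ (T i) * ψ (U j) - ψ (T j) * ψ (U i)) * hl
  refine scalar_of_wedge g fun t i j hij => ?_
  obtain ⟨l, hli, hlj⟩ : ∃ l : Fin n, l ≠ i ∧ l ≠ j := by
    by_contra! hall
    have : (Finset.univ : Finset (Fin n)) ⊆ {i, j} := fun l _ => by
      by_cases h : l = i
      · simp [h]
      · simp [hall l h]
    have := Finset.card_le_card this
    have := Finset.card_le_two (a := i) (b := j)
    simp at *
    omega
  have h0 : D (M *ᵥ T) i j l = 0 := (mem_nonZeroDivisors_iff_left.1 hk) _ (key i j l)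
  have hM : ∀ i, ev t (Pi.single l 1) ((M *ᵥ T) i) = (matOf g *ᵥ t) i := fun i => by
    rw [← congrFun (matMap_map P (ev t (Pi.single l 1)) (matOf g) T) i, evT]
    simp
  have := congrArg (ev t (Pi.single l 1)) h0
  simp only [D, map_zero, map_sub, map_add, map_mul, hM] at this
  simpa [evT1, evU1, hli.symm, hlj.symm] using this

theorem map_refl_refl_eq (v w : Fin n → A) (c d : A) (hc : c * qf Q A v = 1) (hd : d * qf Q A w = 1)
    (h : refl Q A v c hc * refl Q A w d hd ∈ QuadGrp.O (QuadGrp.baseChangeForm A Q)) :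
    QuadGrp.IsDicksonTrivial (QuadGrp.baseChangeForm A Q) (refl Q A v c hc * refl Q A w d hd) h := by
  set Φ := QuadGrp.baseChangeForm A Q
  set a := CliffordAlgebra.ι Φ ((co A).symm v) with ha
  set b := CliffordAlgebra.ι Φ ((co A).symm w) with hb
  have conj : ∀ (z : Fin n → A) (e : A) (he : e * qf Q A z = 1) (m : A ⊗[R] (Fin n → R)),
      e • (CliffordAlgebra.ι Φ ((co A).symm z) * CliffordAlgebra.ι Φ m * CliffordAlgebra.ι Φ ((co A).symm z)) =
        -CliffordAlgebra.ι Φ (refl Q A z e he m) := by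
    intro z e he m
    have hr : refl Q A z e he m = m - (e * ((grA Q A *ᵥ z) ⬝ᵥ co A m)) • (co A).symm z := by
      apply (co A).injective
      rw [co_refl, map_sub, map_smul, LinearEquiv.apply_symm_apply]
    have hp : QuadraticMap.polar Φ ((co A).symm z) m = (grA Q A *ᵥ z) ⬝ᵥ co A m := by
      rw [QuadraticMap.polar, baseChangeForm_eq, baseChangeForm_eq, baseChangeForm_eq, map_add,
        LinearEquiv.apply_symm_apply, qf_add, ← dot_grA_comm]
      ring
    have hz : Φ ((co A).symm z) = qf Q A z := by rw [baseChangeForm_eq, LinearEquiv.apply_symm_apply]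
    rw [CliffordAlgebra.ι_mul_ι_mul_ι, hr, hp, hz, map_sub, map_sub, map_smul, map_smul, map_smul,
      smul_sub, smul_smul, smul_smul, he, one_smul, neg_sub]
  have haa : a * a = algebraMap A _ (qf Q A v) := by
    rw [ha, CliffordAlgebra.ι_sq_scalar, baseChangeForm_eq, LinearEquiv.apply_symm_apply]
  have hbb : b * b = algebraMap A _ (qf Q A w) := by
    rw [hb, CliffordAlgebra.ι_sq_scalar, baseChangeForm_eq, LinearEquiv.apply_symm_apply]
  have hu : (b * a) * (a * b) = algebraMap A _ (qf Q A v * qf Q A w) := by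
    rw [mul_assoc, ← mul_assoc a, haa, Algebra.commutes, ← mul_assoc, hbb, ← map_mul, mul_comm]
  have hu' : (a * b) * (b * a) = algebraMap A _ (qf Q A v * qf Q A w) := by
    rw [mul_assoc, ← mul_assoc b, hbb, Algebra.commutes, ← mul_assoc, haa, ← map_mul]
  have hone : ∀ y : CliffordAlgebra Φ,
      (c * d) • (algebraMap A (CliffordAlgebra Φ) (qf Q A v * qf Q A w) * y) = y := fun y => by
    rw [← Algebra.smul_def, smul_smul, show c * d * (qf Q A v * qf Q A w) = 1 by
      linear_combination (d * qf Q A w) * hc + hd, one_smul]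
  let φ : CliffordAlgebra Φ →ₐ[A] CliffordAlgebra Φ :=
    AlgHom.ofLinearMap ((c * d) • ((LinearMap.mulLeft A (a * b)).comp (LinearMap.mulRight A (b * a))))
      (by
        show (c * d) • ((a * b) * (1 * (b * a))) = 1
        rw [one_mul, hu', ← mul_one (algebraMap A _ _), hone])
      (fun y z => by
        show (c * d) • ((a * b) * (y * z * (b * a))) =
          ((c * d) • ((a * b) * (y * (b * a)))) * ((c * d) • ((a * b) * (z * (b * a))))
        have e : ((a * b) * (y * (b * a))) * ((a * b) * (z * (b * a))) =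
            algebraMap A (CliffordAlgebra Φ) (qf Q A v * qf Q A w) * ((a * b) * (y * z * (b * a))) := by
          calc ((a * b) * (y * (b * a))) * ((a * b) * (z * (b * a)))
              = (a * b) * y * ((b * a) * (a * b)) * (z * (b * a)) := by simp only [mul_assoc]
            _ = _ := by
              rw [hu, ← Algebra.commutes _ ((a * b) * y)]
              simp only [mul_assoc]
        rw [smul_mul_assoc, mul_smul_comm, e, hone])
  have hφ : CliffordAlgebra.map (QuadGrp.isometryOfMem Φ _ h) = φ := by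
    refine CliffordAlgebra.hom_ext (LinearMap.ext fun m => ?_)
    simp only [LinearMap.comp_apply, AlgHom.toLinearMap_apply, CliffordAlgebra.map_apply_ι,
      QuadGrp.isometryOfMem_apply, LinearEquiv.mul_apply]
    show _ = (c * d) • ((a * b) * (CliffordAlgebra.ι Φ m * (b * a)))
    rw [show (c * d) • ((a * b) * (CliffordAlgebra.ι Φ m * (b * a))) =
      c • (a * (d • (b * CliffordAlgebra.ι Φ m * b)) * a) by
        rw [mul_smul_comm, smul_mul_assoc, smul_smul]; simp only [mul_assoc],
      hb, conj w d hd m, mul_neg, neg_mul, smul_neg, ha, conj v c hc, neg_neg]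
  intro z hz
  rw [hφ]
  show (c * d) • ((a * b) * ((z : CliffordAlgebra Φ) * (b * a))) = z
  have hmem : a * b ∈ CliffordAlgebra.even Φ := CliffordAlgebra.ι_mul_ι_mem_evenOdd_zero Φ _ _
  have hcom : (a * b) * (z : CliffordAlgebra Φ) = z * (a * b) :=
    congrArg Subtype.val ((Subalgebra.mem_center_iff.1 hz) ⟨a * b, hmem⟩)
  rw [← mul_assoc, hcom, mul_assoc, hu', ← Algebra.commutes, hone]

end coord

end Groth.Agent.Misc9.QuadCentre
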