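import Groth.Agent.Misc9.QuadCentre
import Mathlib.LinearAlgebra.Matrix.NonsingularInverse

/-!
Non-degeneracy in terms of the polar matrix, and the commutation statements for `O`, `SO'`, `SO`.
-/

open scoped TensorProduct
open Matrix MvPolynomial

namespace Groth.Agent.Misc9.QuadCentre

universe u

variable {R : Type u} [CommRing R] {n : ℕ} (Q : QuadraticForm R (Fin n → R))

theorem exists_inv_of_isRegular (h : QuadGrp.IsRegular Q) :
    ∃ Xi : Matrix (Fin n) (Fin n) R, gr Q * Xi = 1 := by
  choose x hx using fun j : Fin n => h.2 (LinearMap.proj j)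
  refine ⟨Matrix.of x, mul_eq_one_comm.1 ?_⟩
  ext j b
  have e := LinearMap.congr_fun (hx j) (Pi.single b 1)
  rw [← Finset.univ_sum_single (x j), map_sum, LinearMap.sum_apply] at e
  rw [Matrix.mul_apply, Matrix.one_apply]
  simp only [LinearMap.proj_apply, Pi.single_apply] at e
  convert e using 1
  refine Finset.sum_congr rfl fun a _ => ?_
  rw [show (Pi.single a (x j a) : Fin n → R) = x j a • Pi.single a 1 by simp [← Pi.single_smul'],
    map_smul, LinearMap.smul_apply, QuadraticMap.polarBilin_apply_apply,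
    polar_eq]
  rfl

theorem gr_span_top_of_semiregular (hn : 2 ≤ n)
    (h : QuadGrp.IsSemiregular (Pi.basisFun R (Fin n)) (LinearEquiv.refl R R) Q) :
    Ideal.span (Set.range fun ij : Fin n × Fin n => gr Q ij.1 ij.2) = ⊤ := by
  classical
  set I := Ideal.span (Set.range fun ij : Fin n × Fin n => gr Q ij.1 ij.2)
  have hI : ∀ i j, Ideal.Quotient.mk I (gr Q i j) = 0 := fun i j =>
    Ideal.Quotient.eq_zero_iff_mem.2 (Ideal.subset_span ⟨(i, j), rfl⟩)
  set c := fun s => Ideal.Quotient.mk I (QuadGrp.coeffs (Pi.basisFun R (Fin n)) (LinearEquiv.refl R R) Q s) with hc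
  have hoff : ∀ s : Sym2 (Fin n), ¬ s.IsDiag → c s = 0 := by
    intro s hs
    induction s with
    | h i j =>
      rw [Sym2.mk_isDiag_iff] at hs
      simp [hc, QuadGrp.coeffs_mk, hs, polar_eq, hI]
  have hdia : ∀ i : Fin n, 2 * c (Sym2.mk i i) = 0 := by
    intro i
    have e : gr Q i i = 2 * Q (Pi.single i 1) := by
      rw [← polar_eq, QuadraticMap.polar_self, two_nsmul, two_mul]
    have := hI i i
    rw [e, map_mul, map_ofNat] at this
    simpa [hc, QuadGrp.coeffs_mk] using this
  let φ : MvPolynomial (Sym2 (Fin n)) ℤ →ₐ[ℤ] MvPolynomial (Sym2 (Fin n)) ℤ :=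
    aeval fun s => if s.IsDiag then X s else 0
  have hφ : ∀ (P : MvPolynomial (Sym2 (Fin n)) ℤ) (d : Sym2 (Fin n) →₀ ℕ),
      (∀ s ∈ d.support, s.IsDiag) → (φ P).coeff d = P.coeff d := by
    intro P d hd
    induction P using MvPolynomial.induction_on' with
    | add p q hp hq => rw [map_add, MvPolynomial.coeff_add, MvPolynomial.coeff_add, hp, hq]
    | monomial e a =>
      by_cases he : ∀ s ∈ e.support, s.IsDiag
      · have : φ (monomial e a) = monomial e a := by
          rw [aeval_monomial, MvPolynomial.monomial_eq, algebraMap_eq]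
          congr 1
          exact Finsupp.prod_congr fun s hs => by rw [if_pos (he s hs)]
        rw [this]
      · push Not at he
        obtain ⟨s, hs, hs'⟩ := he
        have : φ (monomial e a) = 0 := by
          rw [aeval_monomial, Finsupp.prod, Finset.prod_eq_zero hs (by
            rw [if_neg hs', zero_pow (Finsupp.mem_support_iff.1 hs)]), mul_zero]
        rw [this, MvPolynomial.coeff_zero, MvPolynomial.coeff_monomial, if_neg]
        rintro rfl
        exact hs' (hd s hs)
  let D : Sym2 (Fin n) →₀ ℕ := ∑ i : Fin n, Finsupp.single (Sym2.mk i i) 1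
  have hdisc : φ (QuadGrp.discUniv n) = monomial D ((2 : ℤ) ^ n) := by
    rw [QuadGrp.discUniv, AlgHom.map_det]
    have : φ.mapMatrix (QuadGrp.univPolarMat n) = Matrix.diagonal fun i => 2 * X (Sym2.mk i i) := by
      ext1 i j
      rw [AlgHom.mapMatrix_apply, Matrix.map_apply, QuadGrp.univPolarMat, Matrix.of_apply]
      by_cases hij : i = j
      · subst hij
        rw [if_pos rfl, Matrix.diagonal_apply_eq, map_mul, map_ofNat, aeval_X, if_pos (Sym2.mk_isDiag_iff.2 rfl)]
      · rw [if_neg hij, Matrix.diagonal_apply_ne _ hij, aeval_X, if_neg (by rwa [Sym2.mk_isDiag_iff])]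
    rw [this, Matrix.det_diagonal, Finset.prod_mul_distrib, Finset.prod_const, Finset.card_univ,
      Fintype.card_fin, show monomial D ((2 : ℤ) ^ n) = C ((2 : ℤ) ^ n) * monomial D 1 by
        rw [C_mul_monomial, mul_one],
      show monomial D (1 : ℤ) = ∏ i : Fin n, X (Sym2.mk i i) by
        simp [D, MvPolynomial.monomial_sum_one, MvPolynomial.X],
      map_pow, map_ofNat]
  have hzero : Ideal.Quotient.mk I (QuadGrp.halfDisc (Pi.basisFun R (Fin n)) (LinearEquiv.refl R R) Q) = 0 := by
    rw [QuadGrp.halfDisc, MvPolynomial.eval₂_eq, map_sum]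
    refine Finset.sum_eq_zero fun d _ => ?_
    rw [map_mul, map_prod]
    simp only [map_pow]
    by_cases hd : ∀ s ∈ d.support, s.IsDiag
    · rw [QuadGrp.coeff_halfDiscUniv, ← hφ _ d hd, hdisc, MvPolynomial.coeff_monomial]
      split_ifs with hD
      · subst hD
        have i0 : Fin n := ⟨0, by omega⟩
        have hmem : Sym2.mk i0 i0 ∈ D.support := by
          rw [Finsupp.mem_support_iff]
          simp [D, Finsupp.finsetSum_apply, Finsupp.single_apply]
        obtain ⟨j, hj⟩ := Nat.exists_eq_add_of_le hn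
        have e2 : ((2 : ℤ) ^ n / 2) = 2 * 2 ^ j := by
          rw [hj, pow_add, show (2 : ℤ) ^ 2 * 2 ^ j = 2 * (2 * 2 ^ j) by ring, Int.mul_ediv_cancel_left _ two_ne_zero]
        rw [e2, map_mul, map_mul, map_ofNat, map_ofNat, map_pow, map_pow,
          ← Finset.mul_prod_erase _ _ hmem]
        obtain ⟨r, hr⟩ : ∃ r, D (Sym2.mk i0 i0) = r + 1 :=
          ⟨_, (Nat.succ_pred_eq_of_ne_zero (Finsupp.mem_support_iff.1 hmem)).symm⟩
        have h0 := hdia i0
        simp only [hc] at h0
        rw [hr, pow_succ]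
        linear_combination ((Ideal.Quotient.mk I) ((Int.castRingHom R) 2) ^ j *
          (Ideal.Quotient.mk I (QuadGrp.coeffs (Pi.basisFun R (Fin n)) (LinearEquiv.refl R R) Q (Sym2.mk i0 i0))) ^ r *
          ∏ x ∈ D.support.erase (Sym2.mk i0 i0),
            (Ideal.Quotient.mk I (QuadGrp.coeffs (Pi.basisFun R (Fin n)) (LinearEquiv.refl R R) Q x)) ^ D x) * h0
      · simp
    · push Not at hd
      obtain ⟨s, hs, hs'⟩ := hd
      have := hoff s hs'
      simp only [hc] at this
      rw [Finset.prod_eq_zero hs (by rw [this, zero_pow (Finsupp.mem_support_iff.1 hs)]), mul_zero]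
  exact Ideal.eq_top_of_isUnit_mem I (Ideal.Quotient.eq_zero_iff_mem.1 hzero) h

theorem gr_nzd (hn : 3 ≤ n)
    (hQ : QuadGrp.IsNondeg (Pi.basisFun R (Fin n)) (LinearEquiv.refl R R) Q) (a : R)
    (ha : ∀ i j, a * gr Q i j = 0) : a = 0 := by
  rcases Nat.even_or_odd n with hev | hodd
  · obtain ⟨Xi, hXi⟩ := exists_inv_of_isRegular Q (hQ.1 hev)
    have e := congrFun (congrFun hXi ⟨0, by omega⟩) ⟨0, by omega⟩
    rw [Matrix.one_apply_eq, Matrix.mul_apply] at e
    rw [← mul_one a, ← e, Finset.mul_sum]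
    exact Finset.sum_eq_zero fun j _ => by rw [← mul_assoc, ha, zero_mul]
  · have h1 : (1 : R) ∈ Ideal.span (Set.range fun ij : Fin n × Fin n => gr Q ij.1 ij.2) := by
      rw [gr_span_top_of_semiregular Q (by omega) (hQ.2 hodd)]; trivial
    have : ∀ x ∈ Ideal.span (Set.range fun ij : Fin n × Fin n => gr Q ij.1 ij.2), a * x = 0 := by
      intro x hx
      induction hx using Submodule.span_induction with
      | mem y hy => obtain ⟨ij, rfl⟩ := hy; exact ha _ _
      | zero => rw [mul_zero]
      | add y z _ _ hy hz => rw [mul_add, hy, hz, add_zero]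
      | smul r y _ hy => rw [smul_eq_mul, mul_left_comm, hy, mul_zero]
    rw [← mul_one a, this 1 h1]

theorem finrank_eq (A : Type u) [CommRing A] [Algebra R A] [Nontrivial A] :
    Module.finrank A (A ⊗[R] (Fin n → R)) = n := by
  rw [(co (R := R) (n := n) A).finrank_eq, Module.finrank_fin_fun]

theorem refl_mul_mem_sorth' (A : Type u) [CommRing A] [Algebra R A] (v w : Fin n → A) (c d : A)
    (hc : c * qf Q A v = 1) (hd : d * qf Q A w = 1) :
    refl Q A v c hc * refl Q A w d hd ∈ QuadGrp.sorth' Q A := by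
  refine ⟨Subgroup.mul_mem _ (refl_mem_orth Q A v c hc) (refl_mem_orth Q A w d hd), ?_⟩
  show _ ∈ (LinearEquiv.det (R := A) (M := A ⊗[R] (Fin n → R))).ker
  rw [MonoidHom.mem_ker, map_mul]
  apply Units.ext
  rw [Units.val_mul, LinearEquiv.coe_det, LinearEquiv.coe_det, det_refl, det_refl]
  simp

theorem neg_refl_mem_sorth' (hodd : Odd n) (A : Type u) [CommRing A] [Algebra R A] (v : Fin n → A)
    (c : A) (hc : c * qf Q A v = 1) :
    LinearEquiv.neg A * refl Q A v c hc ∈ QuadGrp.sorth' Q A := by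
  refine ⟨Subgroup.mul_mem _ (fun x => ?_) (refl_mem_orth Q A v c hc), ?_⟩
  · show QuadGrp.baseChange A Q (-x) = _
    rw [QuadraticMap.map_neg]
  show _ ∈ (LinearEquiv.det (R := A) (M := A ⊗[R] (Fin n → R))).ker
  rw [MonoidHom.mem_ker, map_mul]
  apply Units.ext
  rw [Units.val_mul, LinearEquiv.coe_det, LinearEquiv.coe_det, det_refl]
  rcases subsingleton_or_nontrivial A with hA | hA
  · exact Subsingleton.elim _ _
  · rw [show ((LinearEquiv.neg A : (A ⊗[R] (Fin n → R)) ≃ₗ[A] _) : (A ⊗[R] (Fin n → R)) →ₗ[A] _) =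
      (-1 : A) • LinearMap.id by apply LinearMap.ext; intro x; simp,
      LinearMap.det_smul, LinearMap.det_id, finrank_eq, hodd.neg_one_pow]
    simp

theorem refl_mul_mem_sorth (hev : Even n) (A : Type u) [CommRing A] [Algebra R A] [Nontrivial A]
    (v w : Fin n → A) (c d : A) (hc : c * qf Q A v = 1) (hd : d * qf Q A w = 1) :
    refl Q A v c hc * refl Q A w d hd ∈ QuadGrp.sorth Q A := by
  have h := Subgroup.mul_mem (QuadGrp.O (QuadGrp.baseChangeForm A Q))
    (refl_mem_O Q A v c hc) (refl_mem_O Q A w d hd)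
  rw [QuadGrp.sorth, QuadGrp.SO, if_pos (by rwa [finrank_eq])]
  exact ⟨h, map_refl_refl_eq Q A v w c d hc hd h⟩

end Groth.Agent.Misc9.QuadCentre
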