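import Groth.Agent.Misc9.SNAux

/-! Radicial integral extensions are universal homeomorphisms. -/

universe u

namespace Groth.Agent.Misc9.RadicialExt

open AlgebraicGeometry CategoryTheory
open Groth.Agent.UnivHomeo.Basic

theorem univHomeo_of_pow {A B : Type u} [CommRing A] [CommRing B] (φ : A →+* B) (q : ℕ)
    (hq : q = 1 ∨ (q.Prime ∧ (q : A) = 0)) (hinj : Function.Injective φ)
    (h : ∀ b : B, ∃ n : ℕ, b ^ q ^ n ∈ φ.range) :
    FlatMor.IsUnivHomeo (Spec.map (CommRingCat.ofHom φ)) := by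
  letI := φ.toAlgebra
  have hq0 : 0 < q := by
    rcases hq with rfl | ⟨hp, -⟩
    · exact one_pos
    · exact hp.pos
  have hint : φ.IsIntegral := fun b ↦ by
    obtain ⟨n, a, ha⟩ := h b
    exact IsIntegral.of_pow (pow_pos hq0 n) (ha ▸ isIntegral_algebraMap)
  refine (isUnivHomeo_spec_iff φ).mpr ⟨hint, ?_, ?_⟩
  · intro P
    have : Algebra.IsIntegral A B := ⟨hint⟩
    obtain ⟨Q, -, hQ, hQp⟩ := Ideal.exists_ideal_over_prime_of_isIntegral P.asIdeal (⊥ : Ideal B)
      (fun a ha ↦ by rw [show a = 0 from hinj (by rw [map_zero]; exact ha)]; exact zero_mem _)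
    exact ⟨⟨Q, hQ⟩, PrimeSpectrum.ext hQp⟩
  · intro K _ g₁ g₂ hg
    ext b
    obtain ⟨n, a, ha⟩ := h b
    have e : g₁ b ^ q ^ n = g₂ b ^ q ^ n := by
      rw [← map_pow, ← map_pow, ← ha]; exact DFunLike.congr_fun hg a
    rcases hq with rfl | ⟨hp, h0⟩
    · simpa using e
    · have h0' : (q : K) = 0 := by
        rw [← map_natCast g₁, ← map_natCast φ, h0, map_zero, map_zero]
      have : Fact q.Prime := ⟨hp⟩
      have : CharP K q := (CharP.charP_iff_prime_eq_zero hp).mpr h0'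
      rw [← sub_eq_zero, ← sub_pow_char_pow] at e
      exact sub_eq_zero.mp ((pow_eq_zero_iff (pow_ne_zero n hp.ne_zero)).mp e)

end Groth.Agent.Misc9.RadicialExt
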