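import Groth.Agent.Segre.CM
import Mathlib.RingTheory.Regular.IsSMulRegular

set_option autoImplicit false
set_option linter.style.haveILetI false
universe u v
open RingTheory.Sequence

namespace Groth.Agent.Misc9.S2Domain

lemma depth_equiv {L : Type u} [CommRing L] [IsLocalRing L] {M : Type u} [AddCommGroup M] [Module L M]
    (e : M ≃ₗ[L] L) : LocCoh.depth L M = LocCoh.depth L L := by
  have hL : IsLocalRing.maximalIdeal L • (⊤ : Submodule L L) ≠ ⊤ := by
    rw [smul_eq_mul, Ideal.mul_top]; exact (IsLocalRing.maximalIdeal.isMaximal L).ne_top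
  have hM : IsLocalRing.maximalIdeal L • (⊤ : Submodule L M) ≠ ⊤ := fun h => hL (by
    have h2 := congrArg (Submodule.map e.toLinearMap) h
    rwa [Submodule.map_smul'', Submodule.map_top, LinearMap.range_eq_top.mpr e.surjective] at h2)
  rw [LocCoh.depth, LocCoh.depth, LocCoh.idealDepth, LocCoh.idealDepth, if_neg hL, if_neg hM]
  simp only [e.isWeaklyRegular_congr]

lemma le_depth {L : Type u} [CommRing L] [IsLocalRing L] (rs : List L) (h : IsWeaklyRegular L rs)
    (hm : ∀ r ∈ rs, r ∈ IsLocalRing.maximalIdeal L) : (rs.length : ℕ∞) ≤ LocCoh.depth L L := by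
  have hL : IsLocalRing.maximalIdeal L • (⊤ : Submodule L L) ≠ ⊤ := by
    rw [smul_eq_mul, Ideal.mul_top]; exact (IsLocalRing.maximalIdeal.isMaximal L).ne_top
  rw [LocCoh.depth, LocCoh.idealDepth, if_neg hL]
  exact le_iSup₂_of_le rs ⟨h, hm⟩ le_rfl

/-- depth two: the socle of `L/(a)` vanishes -/
lemma socle_eq_zero {L : Type u} [CommRing L] [IsLocalRing L] [IsDomain L]
    (h2 : ((2 : ℕ) : ℕ∞) ≤ LocCoh.depth L L) {a z : L} (ha : a ≠ 0)
    (ham : a ∈ IsLocalRing.maximalIdeal L)
    (hz : ∀ m ∈ IsLocalRing.maximalIdeal L, m * z ∈ Ideal.span {a}) : z ∈ Ideal.span {a} := by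
  obtain ⟨rs, hlen, hreg, hmem⟩ := Groth.Agent.Segre.CM.one_le_depth (L := L) (n := 1) h2
  match rs, hlen, hreg, hmem with
  | a' :: b' :: rs, _, hreg, hmem =>
    rw [isWeaklyRegular_cons_iff] at hreg
    obtain ⟨ha', hreg'⟩ := hreg
    rw [isWeaklyRegular_cons_iff] at hreg'
    obtain ⟨hb', -⟩ := hreg'
    have ha'0 : a' ≠ 0 := fun h => one_ne_zero (α := L) (ha' (by subst h; simp))
    have hb'0 : ∀ x, a' ∣ b' * x → a' ∣ x := by
      intro x hx
      have e : ∀ y : L, (Submodule.Quotient.mk y : QuotSMulTop a' L) = 0 ↔ a' ∣ y := by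
        intro y
        rw [Submodule.Quotient.mk_eq_zero, Submodule.mem_smul_pointwise_iff_exists]
        exact ⟨fun ⟨w, _, hw⟩ => ⟨w, hw.symm⟩, fun ⟨w, hw⟩ => ⟨w, trivial, hw.symm⟩⟩
      have h0 : b' • (Submodule.Quotient.mk x : QuotSMulTop a' L) = b' • 0 := by
        rw [smul_zero, ← Submodule.Quotient.mk_smul, e]; exact hx
      exact (e x).mp (hb' h0)
    obtain ⟨w, hw⟩ := Ideal.mem_span_singleton.mp (hz a' (hmem a' (by simp)))
    obtain ⟨t, ht⟩ := Ideal.mem_span_singleton.mp (hz b' (hmem b' (by simp)))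
    have hbw : a' ∣ b' * w := ⟨t, mul_left_cancel₀ ha (by linear_combination a' * ht - b' * hw)⟩
    obtain ⟨w', rfl⟩ := hb'0 w hbw
    exact Ideal.mem_span_singleton.mpr ⟨w', mul_left_cancel₀ ha'0 (by linear_combination hw)⟩

theorem hasS2_iff (R : Type u) [CommRing R] [IsDomain R] [IsNoetherianRing R] :
    LocCoh.HasSk 2 R R ↔
      ∀ a : R, a ≠ 0 → ∀ P : Ideal R, P ∈ associatedPrimes R (R ⧸ Ideal.span {a}) → P.height = 1 := by
  have hred : ∀ (P : Ideal R) [P.IsPrime],
      Module.supportDim (Localization.AtPrime P) (LocalizedModule P.primeCompl R) = (P.height : WithBot ℕ∞) ∧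
      LocCoh.depth (Localization.AtPrime P) (LocalizedModule P.primeCompl R) =
        LocCoh.depth (Localization.AtPrime P) (Localization.AtPrime P) := by
    intro P _
    let e : LocalizedModule P.primeCompl R ≃ₗ[Localization.AtPrime P] Localization.AtPrime P :=
      LinearEquiv.extendScalarsOfIsLocalization P.primeCompl (Localization.AtPrime P)
        (IsLocalizedModule.iso P.primeCompl (Algebra.linearMap R (Localization.AtPrime P)))
    refine ⟨?_, depth_equiv e⟩
    rw [Module.supportDim_eq_of_equiv e, Module.supportDim_self_eq_ringKrullDim,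
      IsLocalization.AtPrime.ringKrullDim_eq_height P]
  constructor
  · intro hS a ha P hP
    haveI := hP.isPrime
    obtain ⟨-, z, hz⟩ := isAssociatedPrime_iff.mp hP
    obtain ⟨z, rfl⟩ := Submodule.Quotient.mk_surjective _ z
    have hann : ∀ x, x ∈ P ↔ x * z ∈ Ideal.span {a} := fun x => by
      rw [hz, Submodule.mem_colon_singleton, Submodule.mem_bot, ← Submodule.Quotient.mk_smul,
        Submodule.Quotient.mk_eq_zero, smul_eq_mul]
    have haP : a ∈ P := (hann a).mpr (Ideal.mul_mem_right _ _ (Ideal.mem_span_singleton_self a))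
    have hne0 : P.height ≠ 0 := fun h0 => by
      rw [Ideal.height_eq_zero_iff, IsDomain.minimalPrimes_eq_singleton_bot, Set.mem_singleton_iff] at h0
      exact ha (by rw [h0] at haP; simpa using haP)
    by_contra hne
    have h2 : (2 : ℕ∞) ≤ P.height := Order.add_one_le_of_lt (lt_of_le_of_ne (ENat.one_le_iff_ne_zero.mpr hne0) (Ne.symm hne))
    have h := hS P
    have h2' : ((2 : ℕ) : WithBot ℕ∞) ≤ (P.height : WithBot ℕ∞) := WithBot.coe_le_coe.mpr h2
    rw [(hred P).1, (hred P).2, min_eq_left h2'] at h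
    haveI : IsDomain (Localization.AtPrime P) := IsLocalization.isDomain_localization
      P.primeCompl_le_nonZeroDivisors
    have hinj := IsLocalization.injective (Localization.AtPrime P) P.primeCompl_le_nonZeroDivisors
    have hsoc := socle_eq_zero (L := Localization.AtPrime P) (WithBot.coe_le_coe.mp h)
      (a := algebraMap R _ a) (z := algebraMap R _ z) ((map_ne_zero_iff _ hinj).mpr ha) (by
        rw [← Localization.AtPrime.map_eq_maximalIdeal]; exact Ideal.mem_map_of_mem _ haP) (by
      intro m hm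
      obtain ⟨⟨x, s⟩, hxs⟩ := IsLocalization.surj P.primeCompl m
      have hx : x ∈ P := by
        rw [← Localization.AtPrime.comap_maximalIdeal (I := P), Ideal.mem_comap, ← hxs]
        exact Ideal.mul_mem_right _ _ hm
      obtain ⟨c, hc⟩ := Ideal.mem_span_singleton.mp ((hann x).mp hx)
      rw [Ideal.mem_span_singleton, ← (IsLocalization.map_units (Localization.AtPrime P) s).dvd_mul_right,
        mul_right_comm, hxs, ← map_mul, hc, map_mul]
      exact dvd_mul_right _ _)
    rw [Ideal.mem_span_singleton] at hsoc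
    obtain ⟨q, hq⟩ := hsoc
    obtain ⟨⟨c, s⟩, hcs⟩ := IsLocalization.surj P.primeCompl q
    have hzs : (s : R) * z = a * c := hinj (by rw [map_mul, map_mul, ← hcs, hq]; ring)
    exact s.2 ((hann s).mpr (hzs ▸ Ideal.mul_mem_right _ _ (Ideal.mem_span_singleton_self a)))
  · intro hA P _
    rw [(hred P).1, (hred P).2]
    haveI : IsDomain (Localization.AtPrime P) := IsLocalization.isDomain_localization
      P.primeCompl_le_nonZeroDivisors
    by_cases h0 : P.height = 0
    · rw [h0]
      refine (min_le_right _ _).trans ?_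
      exact WithBot.coe_le_coe.mpr bot_le
    have hPbot : P ≠ ⊥ := fun h => h0 (by rw [h]; simp)
    obtain ⟨a, haP, ha⟩ := Submodule.exists_mem_ne_zero_of_ne_bot hPbot
    have hinj := IsLocalization.injective (Localization.AtPrime P) P.primeCompl_le_nonZeroDivisors
    set a' := algebraMap R (Localization.AtPrime P) a with ha'def
    have ha' : IsSMulRegular (Localization.AtPrime P) a' := fun x y h =>
      mul_left_cancel₀ ((map_ne_zero_iff _ hinj).mpr ha) h
    have ham : a' ∈ IsLocalRing.maximalIdeal (Localization.AtPrime P) := by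
      rw [← Localization.AtPrime.map_eq_maximalIdeal]; exact Ideal.mem_map_of_mem _ haP
    by_cases h1 : P.height = 1
    · rw [h1]
      refine (min_le_right _ _).trans ?_
      exact WithBot.coe_le_coe.mpr (by
        simpa using le_depth [a'] ((isWeaklyRegular_singleton_iff _ a').mpr ha') (by simpa using ham))
    refine (min_le_left _ _).trans ?_
    obtain ⟨b, hbP, hb⟩ : ∃ b ∈ P, IsSMulRegular (R ⧸ Ideal.span {a}) b := by
      by_contra hc
      push Not at hc
      have hsub : (P : Set R) ⊆ ⋃ Q ∈ associatedPrimes R (R ⧸ Ideal.span {a}), (Q : Set R) := by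
        rw [biUnion_associatedPrimes_eq_compl_regular]
        exact fun x hx => hc x hx
      have hfin := associatedPrimes.finite R (R ⧸ Ideal.span {a})
      obtain ⟨Q, hQ, hPQ⟩ := (Ideal.subset_union_prime (s := hfin.toFinset) (f := id) ⊥ ⊥
        (fun Q hQ _ _ => (hfin.mem_toFinset.mp hQ).isPrime)).mp (by
          simpa [Set.Finite.mem_toFinset] using hsub)
      rw [Set.Finite.mem_toFinset] at hQ
      haveI := hQ.isPrime
      have hle := Ideal.height_mono (I := P) (J := Q) hPQ
      rw [hA a ha Q hQ] at hle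
      exact h1 (le_antisymm hle (ENat.one_le_iff_ne_zero.mpr h0))
    have hb' : IsSMulRegular (QuotSMulTop a' (Localization.AtPrime P)) (algebraMap R (Localization.AtPrime P) b) := by
      refine isSMulRegular_iff_right_eq_zero_of_smul.mpr fun y hy => ?_
      obtain ⟨y, rfl⟩ := Submodule.Quotient.mk_surjective _ y
      have e : ∀ w, (Submodule.Quotient.mk w : QuotSMulTop a' (Localization.AtPrime P)) = 0 ↔ a' ∣ w := by
        intro w
        rw [Submodule.Quotient.mk_eq_zero, Submodule.mem_smul_pointwise_iff_exists]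
        exact ⟨fun ⟨v, _, hv⟩ => ⟨v, hv.symm⟩, fun ⟨v, hv⟩ => ⟨v, trivial, hv.symm⟩⟩
      rw [← Submodule.Quotient.mk_smul, e, smul_eq_mul] at hy
      obtain ⟨q, hq⟩ := hy
      obtain ⟨⟨x, s⟩, hxs⟩ := IsLocalization.surj P.primeCompl y
      obtain ⟨⟨c, t⟩, hct⟩ := IsLocalization.surj P.primeCompl q
      have heq : b * x * (t : R) = a * (c * (s : R)) := hinj (by
        rw [map_mul, map_mul, map_mul, map_mul, ← hxs, ← hct]
        linear_combination (algebraMap R (Localization.AtPrime P) s * algebraMap R (Localization.AtPrime P) t) * hq)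
      have hzero := hb.right_eq_zero_of_smul (x := Submodule.Quotient.mk (x * (t : R))) (by
        rw [← Submodule.Quotient.mk_smul, Submodule.Quotient.mk_eq_zero, Ideal.mem_span_singleton]
        exact ⟨c * (s : R), by rw [smul_eq_mul, ← mul_assoc, heq]⟩)
      rw [Submodule.Quotient.mk_eq_zero, Ideal.mem_span_singleton] at hzero
      obtain ⟨d, hd⟩ := hzero
      rw [e, ← ((IsLocalization.map_units (Localization.AtPrime P) s).mul
        (IsLocalization.map_units (Localization.AtPrime P) t)).dvd_mul_right, ← mul_assoc, hxs,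
        ← map_mul, hd, map_mul]
      exact dvd_mul_right _ _
    exact WithBot.coe_le_coe.mpr (le_depth [a', algebraMap R _ b]
      ((ha'def ▸ IsWeaklyRegular.cons ha' ((isWeaklyRegular_singleton_iff _ _).mpr hb'))) (by
        intro r hr
        simp only [List.mem_cons, List.not_mem_nil, or_false] at hr
        rcases hr with rfl | rfl
        · exact ham
        · rw [← Localization.AtPrime.map_eq_maximalIdeal]; exact Ideal.mem_map_of_mem _ hbP))

end Groth.Agent.Misc9.S2Domain
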