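import Groth.Agent.Segre.CM
import Groth.Agent.Misc9.S2Domain
import Groth.Prelude.Def_CAlg
import Mathlib

/-!
# Elementary consequences of Serre's conditions for rings
-/

universe u
open RingTheory.Sequence

namespace Misc9.S1S2

theorem reduce (R : Type u) [CommRing R] [IsNoetherianRing R] (P : Ideal R) [P.IsPrime] :
    Module.supportDim (Localization.AtPrime P) (LocalizedModule P.primeCompl R) = (P.height : WithBot ℕ∞) ∧
      LocCoh.depth (Localization.AtPrime P) (LocalizedModule P.primeCompl R) =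
        LocCoh.depth (Localization.AtPrime P) (Localization.AtPrime P) := by
  let e : LocalizedModule P.primeCompl R ≃ₗ[Localization.AtPrime P] Localization.AtPrime P :=
    LinearEquiv.extendScalarsOfIsLocalization P.primeCompl (Localization.AtPrime P)
      (IsLocalizedModule.iso P.primeCompl (Algebra.linearMap R (Localization.AtPrime P)))
  refine ⟨?_, ?_⟩
  · rw [Module.supportDim_eq_of_equiv e, Module.supportDim_self_eq_ringKrullDim,
      IsLocalization.AtPrime.ringKrullDim_eq_height P]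
  · exact Groth.Agent.Misc9.S2Domain.depth_equiv e

theorem le_depth_of_hasSk {R : Type u} [CommRing R] [IsNoetherianRing R] {k : ℕ} (h : LocCoh.HasSk k R R)
    (P : Ideal R) [P.IsPrime] (hP : (k : ℕ∞) ≤ P.height) :
    (k : ℕ∞) ≤ LocCoh.depth (Localization.AtPrime P) (Localization.AtPrime P) := by
  have h1 := h P
  obtain ⟨h2, h3⟩ := reduce R P
  rw [h2, h3, min_eq_left (by exact_mod_cast hP)] at h1
  exact_mod_cast h1

/-- `(S₁)`: no embedded primes. -/
theorem ass_of_hasSk_one {R : Type u} [CommRing R] [IsNoetherianRing R] (h : LocCoh.HasSk 1 R R)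
    (q : Ideal R) (hqp : q.IsPrime) (x : R) (hq : ∀ b ∈ q, b * x = 0) :
    q ∈ minimalPrimes R ∨ ∃ s, s ∉ q ∧ s * x = 0 := by
  by_cases hmin : q ∈ minimalPrimes R
  · exact Or.inl hmin
  refine Or.inr ?_
  have hht : ((1 : ℕ) : ℕ∞) ≤ q.height := by
    rw [Nat.cast_one, Order.one_le_iff_ne_zero, Ne, Ideal.height_eq_zero_iff]
    exact hmin
  obtain ⟨rs, hlen, hreg, hmem⟩ := Groth.Agent.Segre.CM.one_le_depth (n := 0) (le_depth_of_hasSk h q hht)
  match rs, hlen, hreg, hmem with
  | g :: _, _, hreg, hmem =>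
    rw [isWeaklyRegular_cons_iff] at hreg
    obtain ⟨c, s, hcs⟩ := IsLocalization.exists_mk'_eq q.primeCompl g
    have hc : c ∈ q := (IsLocalization.AtPrime.mk'_mem_maximal_iff (Localization.AtPrime q) q c s).1
      (hcs.symm ▸ hmem g (by simp))
    have h0 : g • algebraMap R (Localization.AtPrime q) x = g • (0 : Localization.AtPrime q) := by
      rw [smul_zero, smul_eq_mul, ← hcs, IsLocalization.mk'_eq_mul_mk'_one, mul_right_comm, ← map_mul, hq c hc,
        map_zero, zero_mul]
    obtain ⟨m, hm⟩ := (IsLocalization.map_eq_zero_iff q.primeCompl (Localization.AtPrime q) x).1 (hreg.1 h0)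
    exact ⟨m, m.2, hm⟩

theorem socle_eq_zero {L : Type u} [CommRing L] [IsLocalRing L]
    (h2 : ((2 : ℕ) : ℕ∞) ≤ LocCoh.depth L L) {a z : L} (ha : ∀ x, a * x = 0 → x = 0)
    (hz : ∀ m ∈ IsLocalRing.maximalIdeal L, m * z ∈ Ideal.span {a}) : z ∈ Ideal.span {a} := by
  obtain ⟨rs, hlen, hreg, hmem⟩ := Groth.Agent.Segre.CM.one_le_depth (L := L) (n := 1) h2
  match rs, hlen, hreg, hmem with
  | a' :: b' :: rs, _, hreg, hmem =>
    rw [isWeaklyRegular_cons_iff] at hreg
    obtain ⟨ha', hreg'⟩ := hreg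
    rw [isWeaklyRegular_cons_iff] at hreg'
    obtain ⟨hb', -⟩ := hreg'
    have hcanc : ∀ x y : L, a * x = a * y → x = y := fun x y h =>
      sub_eq_zero.1 (ha _ (by rw [mul_sub, h, sub_self]))
    have hb'0 : ∀ x, a' ∣ b' * x → a' ∣ x := by
      intro x hx
      have e : ∀ y : L, (Submodule.Quotient.mk y : QuotSMulTop a' L) = 0 ↔ a' ∣ y := by
        intro y
        rw [Submodule.Quotient.mk_eq_zero, Submodule.mem_smul_pointwise_iff_exists]
        exact ⟨fun ⟨w, _, hw⟩ => ⟨w, hw.symm⟩, fun ⟨w, hw⟩ => ⟨w, trivial, hw.symm⟩⟩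
      have h0 : b' • (Submodule.Quotient.mk x : QuotSMulTop a' L) = b' • 0 := by
        rw [smul_zero, ← Submodule.Quotient.mk_smul, e]; exact hx
      exact (e x).mp (hb' h0)
    obtain ⟨w, hw⟩ := Ideal.mem_span_singleton.mp (hz a' (hmem a' (by simp)))
    obtain ⟨t, ht⟩ := Ideal.mem_span_singleton.mp (hz b' (hmem b' (by simp)))
    have hbw : a' ∣ b' * w := ⟨t, hcanc _ _ (by linear_combination a' * ht - b' * hw)⟩
    obtain ⟨w', rfl⟩ := hb'0 w hbw
    exact Ideal.mem_span_singleton.mpr ⟨w', ha' (show a' • z = a' • (a * w') by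
      simp only [smul_eq_mul]; linear_combination hw)⟩

theorem height_le_height_map_nilradical {R : Type u} [CommRing R] (q : Ideal R) [q.IsPrime] :
    q.height ≤ (q.map (Ideal.Quotient.mk (nilradical R))).height := by
  let f : PrimeSpectrum R → PrimeSpectrum (R ⧸ nilradical R) := fun p =>
    ⟨p.asIdeal.map (Ideal.Quotient.mk (nilradical R)), Ideal.map_isPrime_of_surjective Ideal.Quotient.mk_surjective
      (by rw [Ideal.mk_ker]; exact nilradical_le_prime p.asIdeal)⟩
  have hf : StrictMono f := fun p p' h => by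
    refine lt_of_le_of_ne (Ideal.map_mono h.le) fun e => h.ne (PrimeSpectrum.ext ?_)
    have := congrArg (Ideal.comap (Ideal.Quotient.mk (nilradical R))) (congrArg PrimeSpectrum.asIdeal e)
    rwa [Ideal.comap_map_mk (nilradical_le_prime p.asIdeal), Ideal.comap_map_mk (nilradical_le_prime p'.asIdeal)] at this
  have := Order.height_le_height_apply_of_strictMono f hf ⟨q, inferInstance⟩
  rwa [← PrimeSpectrum.height_eq_orderHeight, ← PrimeSpectrum.height_eq_orderHeight] at this

/-- `(S₂)` for the reduction. -/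
theorem socle_of_hasSk_two {R : Type u} [CommRing R] [IsNoetherianRing R]
    (h : LocCoh.HasSk 2 (R ⧸ nilradical R) (R ⧸ nilradical R))
    (q : Ideal R) [q.IsPrime] (hq : ¬ q.height ≤ 1) (a : R) (_haq : a ∈ q) (ha : ∀ p ∈ minimalPrimes R, a ∉ p) (z : R)
    (hz : ∀ b ∈ q, b * z ∈ Ideal.span {a} ⊔ nilradical R) :
    ∃ s, s ∉ q ∧ s * z ∈ Ideal.span {a} ⊔ nilradical R := by
  set N := nilradical R
  let π := Ideal.Quotient.mk N
  let Q : Ideal (R ⧸ N) := q.map π
  have hQ : Q.IsPrime := Ideal.map_isPrime_of_surjective Ideal.Quotient.mk_surjective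
    (by rw [Ideal.mk_ker]; exact nilradical_le_prime q)
  have hcomap : Q.comap π = q := Ideal.comap_map_mk (nilradical_le_prime q)
  have hht : ((2 : ℕ) : ℕ∞) ≤ Q.height := by
    refine le_trans ?_ (height_le_height_map_nilradical q)
    have h1 := Order.add_one_le_of_lt (not_le.1 hq)
    norm_num at h1 ⊢
    exact h1
  let L := Localization.AtPrime Q
  have h2 := le_depth_of_hasSk h Q hht
  have hanzd : ∀ w : R, π a * π w = 0 → π w = 0 := fun w hw => by
    rw [← map_mul, Ideal.Quotient.eq_zero_iff_mem] at hw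
    refine Ideal.Quotient.eq_zero_iff_mem.2 ?_
    rw [show N = nilradical R from rfl, nilradical_eq_sInf, Ideal.mem_sInf]
    intro P hP
    have : P.IsPrime := hP
    obtain ⟨p, hp, hpP⟩ := Ideal.exists_minimalPrimes_le (I := (⊥ : Ideal R)) (J := P) bot_le
    have := hp.1.1
    exact hpP ((hp.1.1.mem_or_mem (nilradical_le_prime p hw)).resolve_left (ha p hp))
  have hreg : ∀ x : L, algebraMap (R ⧸ N) L (π a) * x = 0 → x = 0 := by
    intro x hx
    obtain ⟨c, s, rfl⟩ := IsLocalization.exists_mk'_eq Q.primeCompl x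
    rw [IsLocalization.mul_mk'_eq_mk'_of_mul, IsLocalization.mk'_eq_zero_iff] at hx
    obtain ⟨m, hm⟩ := hx
    rw [IsLocalization.mk'_eq_zero_iff]
    refine ⟨m, ?_⟩
    obtain ⟨m', hm'⟩ := Ideal.Quotient.mk_surjective (m : R ⧸ N)
    obtain ⟨c', rfl⟩ := Ideal.Quotient.mk_surjective c
    rw [← hm', mul_left_comm, ← map_mul] at hm
    rw [← hm', ← map_mul]
    exact hanzd _ hm
  have hspan : (Ideal.span {a} ⊔ N).map π = Ideal.span {π a} := by
    rw [Ideal.map_sup, Ideal.map_quotient_self, sup_bot_eq, Ideal.map_span, Set.image_singleton]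
  have hz' : ∀ m ∈ IsLocalRing.maximalIdeal L, m * algebraMap (R ⧸ N) L (π z) ∈ Ideal.span {algebraMap (R ⧸ N) L (π a)} := by
    intro m hm
    obtain ⟨c, s, rfl⟩ := IsLocalization.exists_mk'_eq Q.primeCompl m
    have hc : c ∈ Q := (IsLocalization.AtPrime.mk'_mem_maximal_iff L Q c s).1 hm
    obtain ⟨c', rfl⟩ := Ideal.Quotient.mk_surjective c
    have hc' : c' ∈ q := hcomap ▸ (hc : c' ∈ Q.comap π)
    have h1 : π (c' * z) ∈ Ideal.span {π a} := hspan ▸ Ideal.mem_map_of_mem π (hz c' hc')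
    obtain ⟨d, hd⟩ := Ideal.mem_span_singleton'.1 h1
    rw [IsLocalization.mk'_eq_mul_mk'_one, mul_right_comm, ← map_mul, ← map_mul, ← hd, map_mul]
    exact Ideal.mem_span_singleton'.2 ⟨algebraMap (R ⧸ N) L d * IsLocalization.mk' L 1 s, by ring⟩
  have h3 := socle_eq_zero h2 hreg hz'
  rw [← Set.image_singleton (f := algebraMap (R ⧸ N) L), ← Ideal.map_span] at h3
  obtain ⟨m, hm, hmz⟩ := (IsLocalization.algebraMap_mem_map_algebraMap_iff Q.primeCompl L _ _).1 h3
  obtain ⟨s, rfl⟩ := Ideal.Quotient.mk_surjective m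
  refine ⟨s, fun hs => hm (Ideal.mem_map_of_mem π hs), ?_⟩
  have h4 : s * z ∈ (Ideal.span {π a}).comap π := Ideal.mem_comap.2 (by rw [map_mul]; exact hmz)
  rw [← hspan, Ideal.comap_map_mk le_sup_right] at h4
  exact h4

end Misc9.S1S2
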