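import Groth.Agent.Misc9.SNRestrict
import Mathlib.AlgebraicGeometry.Morphisms.SchemeTheoreticallyDominant
import Mathlib.AlgebraicGeometry.Morphisms.Finite
import Mathlib.AlgebraicGeometry.Morphisms.Proper
import Groth.Prelude.Def_Pi1

/-! Lifting morphisms from seminormal schemes. -/

set_option backward.isDefEq.respectTransparency false

universe u

namespace Groth.Agent.Misc9.SNLift

open AlgebraicGeometry CategoryTheory CategoryTheory.Limits IsLocalRing
open Groth.Agent.UnivHomeo.Basic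
open Groth.Agent.Misc9

variable {X Y Z : Scheme.{u}}

theorem of_pointwise_sections (π : Y ⟶ X) [UniversallyInjective π]
    (h : ∀ x : X, ∃ s : Spec (X.residueField x) ⟶ Y, s ≫ π = X.fromSpecResidueField x) :
    Surjective π ∧ HTop.ResidueFieldsIso π := by
  refine ⟨⟨fun x ↦ ?_⟩, fun p ↦ ?_⟩
  · obtain ⟨s, hs⟩ := h x
    refine ⟨s (closedPoint (X.residueField x)), ?_⟩
    rw [← Scheme.Hom.comp_apply, hs, Scheme.fromSpecResidueField_apply]
  obtain ⟨s, hs⟩ := h (π p)
  have hp : s (closedPoint (X.residueField (π p))) = p := by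
    apply π.injective
    rw [← Scheme.Hom.comp_apply, hs, Scheme.fromSpecResidueField_apply]
  have key : ∀ q : Y, q = p → ∀ d : Y.residueField q ⟶ CommRingCat.of (X.residueField (π p)),
      Spec.map d ≫ Y.fromSpecResidueField q = s → IsIso (π.residueFieldMap p) := by
    rintro q rfl d hd
    have h1 : Spec.map (π.residueFieldMap q ≫ d) ≫ X.fromSpecResidueField (π q) =
        Spec.map (𝟙 _) ≫ X.fromSpecResidueField (π q) := by
      rw [Spec.map_comp, Category.assoc, Scheme.Hom.SpecMap_residueFieldMap_fromSpecResidueField,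
        ← Category.assoc, hd, hs, Spec.map_id, Category.id_comp]
    have h2 : π.residueFieldMap q ≫ d = 𝟙 _ := Spec.map_inj.mp ((cancel_mono _).mp h1)
    rw [ConcreteCategory.isIso_iff_bijective]
    refine ⟨(π.residueFieldMap q).hom.injective, fun z ↦ ⟨d z, d.hom.injective ?_⟩⟩
    exact DFunLike.congr_fun (congrArg CommRingCat.Hom.hom h2) (d z)
  exact key _ hp _ (Scheme.descResidueField_stalkClosedPointTo_fromSpecResidueField _ _ s)

theorem lift_of_pointwise {T : Scheme.{u}} (hT : HTop.IsSeminormal T) (f : X ⟶ Y)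
    [UniversallyClosed f] [UniversallyInjective f] (g : T ⟶ Y)
    (hlift : ∀ t : T, ∃ l : Spec (T.residueField t) ⟶ X, l ≫ f = T.fromSpecResidueField t ≫ g) :
    ∃ h : T ⟶ X, h ≫ f = g := by
  have hi : UniversallyInjective (pullback.fst g f) :=
    MorphismProperty.pullback_fst (P := @UniversallyInjective) _ _ ‹_›
  have hc : UniversallyClosed (pullback.fst g f) :=
    MorphismProperty.pullback_fst (P := @UniversallyClosed) _ _ ‹_›
  obtain ⟨hs, hr⟩ := of_pointwise_sections (pullback.fst g f) fun t ↦ by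
    obtain ⟨l, hl⟩ := hlift t
    exact ⟨pullback.lift (T.fromSpecResidueField t) l hl.symm, pullback.lift_fst _ _ _⟩
  obtain ⟨σ, hσ⟩ := SNRestrict.section_of_isSN hT _ (isUnivHomeo_of (pullback.fst g f)) hr
  exact ⟨σ ≫ pullback.snd g f, by rw [Category.assoc, ← pullback.condition, ← Category.assoc, hσ, Category.id_comp]⟩

theorem sn_of_localizations {A : Type u} [CommRing A]
    (h : ∀ (P : Ideal A) [P.IsPrime], HTop.IsSeminormalRing (Localization.AtPrime P)) :
    HTop.IsSeminormalRing A := by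
  have : IsReduced A := isReduced_ofLocalizationMaximal A fun P _ ↦ SNRing.isReduced (h P)
  refine SNRing.of_exists fun x y hxy ↦ ?_
  have mul_eq : ∀ {t t' a a' : A}, a ^ 2 = t ^ 2 * x → a ^ 3 = t ^ 3 * y → a' ^ 2 = t' ^ 2 * x →
      a' ^ 3 = t' ^ 3 * y → a * a' = t * t' * x ∧ a ^ 2 * a' = t ^ 2 * t' * y := by
    intro t t' a a' h2 h3 h2' h3'
    refine ⟨SNRing.eq_of_sq_cube ?_ ?_, SNRing.eq_of_sq_cube ?_ ?_⟩
    · linear_combination a' ^ 2 * h2 + t ^ 2 * x * h2'
    · linear_combination a' ^ 3 * h3 + t ^ 3 * y * h3' - t ^ 3 * t' ^ 3 * hxy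
    · linear_combination a' ^ 2 * (a ^ 2 + t ^ 2 * x) * h2 + t ^ 4 * x ^ 2 * h2' + t ^ 4 * t' ^ 2 * hxy
    · linear_combination a' ^ 3 * (a ^ 3 + t ^ 3 * y) * h3 + t ^ 6 * y ^ 2 * h3'
  let I : Ideal A :=
    { carrier := {t | ∃ a, a ^ 2 = t ^ 2 * x ∧ a ^ 3 = t ^ 3 * y}
      zero_mem' := ⟨0, by simp, by simp⟩
      add_mem' := by
        rintro t t' ⟨a, h2, h3⟩ ⟨a', h2', h3'⟩
        obtain ⟨e1, e2⟩ := mul_eq h2 h3 h2' h3'
        obtain ⟨-, e3⟩ := mul_eq h2' h3' h2 h3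
        exact ⟨a + a', by linear_combination h2 + h2' + 2 * e1,
          by linear_combination h3 + h3' + 3 * e2 + 3 * e3⟩
      smul_mem' := by
        rintro r t ⟨a, h2, h3⟩
        exact ⟨r * a, by simp only [smul_eq_mul]; linear_combination r ^ 2 * h2,
          by simp only [smul_eq_mul]; linear_combination r ^ 3 * h3⟩ }
  suffices I = ⊤ by
    obtain ⟨a, h2, h3⟩ := (this ▸ Submodule.mem_top : (1 : A) ∈ I)
    exact ⟨a, by rw [h2]; ring, by rw [h3]; ring⟩
  by_contra hI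
  obtain ⟨P, hP, hIP⟩ := Ideal.exists_le_maximal I hI
  let φ := algebraMap A (Localization.AtPrime P)
  obtain ⟨a, ⟨ha2, ha3⟩, -⟩ := h P (φ x) (φ y) (by rw [← map_pow, hxy, map_pow])
  obtain ⟨⟨c, ⟨s, hs⟩⟩, hc⟩ := IsLocalization.surj P.primeCompl a
  simp only at hc
  have e2 : φ (c ^ 2) = φ (s ^ 2 * x) := by
    simp only [φ, map_pow, map_mul, ← hc] at ha2 ⊢; rw [ha2]; ring
  have e3 : φ (c ^ 3) = φ (s ^ 3 * y) := by
    simp only [φ, map_pow, map_mul, ← hc] at ha3 ⊢; rw [ha3]; ring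
  obtain ⟨⟨u, hu⟩, hk⟩ := (IsLocalization.eq_iff_exists P.primeCompl _).mp e2
  obtain ⟨⟨v, hv⟩, hl⟩ := (IsLocalization.eq_iff_exists P.primeCompl _).mp e3
  simp only at hk hl
  exact P.primeCompl.mul_mem (P.primeCompl.mul_mem hs hu) hv (hIP
    (show s * u * v ∈ I from ⟨c * u * v, by linear_combination u * v ^ 2 * hk,
      by linear_combination u ^ 3 * v ^ 2 * hl⟩))

theorem isSeminormal_of_isNormal (h : Pi1.IsNormalScheme X) : HTop.IsSeminormal X := by
  rw [AWNScheme.isSeminormal_iff]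
  intro U
  refine sn_of_localizations fun P hP ↦ ?_
  let x : X := U.2.fromSpec ⟨P, hP⟩
  have hx : x ∈ U.1 := by
    rw [← SetLike.mem_coe, ← U.2.range_fromSpec]; exact Set.mem_range_self _
  letI := TopCat.Presheaf.algebra_section_stalk X.presheaf ⟨x, hx⟩
  have := U.2.isLocalization_stalk' ⟨P, hP⟩ hx
  obtain ⟨hd, hi⟩ := h x
  exact AWNRing.sn_of_equiv (IsLocalization.algEquiv P.primeCompl (X.presheaf.stalk x) (Localization.AtPrime P)).toRingEquiv
    SNRing.of_isIntegrallyClosed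

theorem exists_factor {S Sn X' : Scheme.{u}} (π : Sn ⟶ S) (hn : Pi1.IsNormalScheme Sn) (ν : X' ⟶ S)
    (hν : HTop.IsSeminormalization ν) : ∃ g : Sn ⟶ X', g ≫ ν = π := by
  have := universallyInjective_of_isUnivHomeo hν.1.1
  have := surjective_of_isUnivHomeo hν.1.1
  have hp : FlatMor.IsUnivHomeo (pullback.snd ν π) :=
    MorphismProperty.of_isPullback (P := MorphismProperty.universally (topologically fun f => IsHomeomorph f))
      (IsPullback.of_hasPullback ν π) hν.1.1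
  obtain ⟨σ, hσ⟩ := SNRestrict.section_of_isSN (isSeminormal_of_isNormal hn) _ hp
    (SNRestrict.residueFieldsIso_pullback_snd ν hν.1.2 π)
  exact ⟨σ ≫ pullback.fst ν π, by rw [Category.assoc, pullback.condition, ← Category.assoc, hσ, Category.id_comp]⟩

theorem dominant_and_finite {S Sn X' : Scheme.{u}} [IsLocallyNoetherian S] [IsReduced S]
    (π : Sn ⟶ S) [IsIntegralHom π] (U : S.Opens) (hU : Dense (U : Set S)) [IsIso (π ∣_ U)]
    (ν : X' ⟶ S) (hν : HTop.IsSeminormalization ν) (hX' : HTop.IsSeminormal X')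
    (g : Sn ⟶ X') (hg : g ≫ ν = π) :
    (IsSchemeTheoreticallyDominant ν ∧ IsSchemeTheoreticallyDominant g) ∧
      (IsFinite π → IsFinite ν ∧ IsFinite g) := by
  have := surjective_of_isUnivHomeo hν.1.1
  have := universallyInjective_of_isUnivHomeo hν.1.1
  have := Groth.Agent.UnivHomeo.isIntegralHom_of_univHomeo hν.1.1
  have := SNRing.isReduced_scheme hX'
  have hπs : Function.Surjective π := by
    rw [← Set.range_eq_univ, ← (π.isClosedMap.isClosed_range).closure_eq, ← dense_iff_closure_eq]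
    refine hU.mono fun s hs ↦ ?_
    obtain ⟨t, ht⟩ := (π ∣_ U).surjective ⟨s, hs⟩
    refine ⟨(π ⁻¹ᵁ U).ι t, ?_⟩
    rw [← Scheme.Hom.comp_apply, ← morphismRestrict_ι, Scheme.Hom.comp_apply, ht]
    rfl
  have hgs : Surjective g := ⟨fun x ↦ by
    obtain ⟨t, ht⟩ := hπs (ν x)
    exact ⟨t, ν.injective (by rw [← Scheme.Hom.comp_apply, hg, ht])⟩⟩
  have hdg : IsSchemeTheoreticallyDominant g := IsSchemeTheoreticallyDominant.of_isDominant g
  refine ⟨⟨IsSchemeTheoreticallyDominant.of_isDominant ν, hdg⟩, fun hπ ↦ ?_⟩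
  have : IsFinite (g ≫ ν) := hg ▸ hπ
  have hfg : IsFinite g := IsFinite.of_comp g ν
  refine ⟨⟨fun V hV ↦ ?_⟩, hfg⟩
  have hf := (g ≫ ν).finite_app V hV
  rw [Scheme.Hom.comp_app, CommRingCat.hom_comp] at hf
  have hinj : Function.Injective (g.app (ν ⁻¹ᵁ V)).hom := g.app_injective _
  letI := (ν.app V).hom.toAlgebra
  letI := ((g.app (ν ⁻¹ᵁ V)).hom.comp (ν.app V).hom).toAlgebra
  have : Module.Finite Γ(S, V) Γ(Sn, g ⁻¹ᵁ (ν ⁻¹ᵁ V)) := hf
  have : IsNoetherianRing Γ(S, V) := IsLocallyNoetherian.component_noetherian ⟨V, hV⟩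
  exact Module.Finite.of_injective
    ({ (g.app (ν ⁻¹ᵁ V)).hom with commutes' := fun _ ↦ rfl } : Γ(X', ν ⁻¹ᵁ V) →ₐ[Γ(S, V)] Γ(Sn, g ⁻¹ᵁ (ν ⁻¹ᵁ V))).toLinearMap hinj

end Groth.Agent.Misc9.SNLift
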