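import Groth.Agent.Misc9.AWNScheme

/-! Seminormalisations restrict to opens. -/

set_option backward.isDefEq.respectTransparency false

universe u

namespace Groth.Agent.Misc9.SNRestrict

open AlgebraicGeometry CategoryTheory CategoryTheory.Limits IsLocalRing
open Groth.Agent.UnivHomeo.Basic
open Groth.Agent.Misc9

variable {X Y Z : Scheme.{u}}

theorem residueFieldsIso_pullback_snd (π : Y ⟶ X) [UniversallyInjective π] [Surjective π]
    (hr : HTop.ResidueFieldsIso π) (g : Z ⟶ X) : HTop.ResidueFieldsIso (pullback.snd π g) := by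
  have hlift : ∀ u : X, ∃ t : Spec (X.residueField u) ⟶ Y, t ≫ π = X.fromSpecResidueField u := by
    intro u
    obtain ⟨y, rfl⟩ := π.surjective u
    have := hr y
    refine ⟨Spec.map (inv (π.residueFieldMap y)) ≫ Y.fromSpecResidueField y, ?_⟩
    rw [Category.assoc, ← Scheme.Hom.SpecMap_residueFieldMap_fromSpecResidueField, ← Spec.map_comp_assoc,
      IsIso.hom_inv_id, Spec.map_id, Category.id_comp]
  intro p
  set x := pullback.snd π g p with hx
  obtain ⟨t, ht⟩ := hlift (g x)
  have hw : (Spec.map (g.residueFieldMap x) ≫ t) ≫ π = Z.fromSpecResidueField x ≫ g := by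
    rw [Category.assoc, ht, Scheme.Hom.SpecMap_residueFieldMap_fromSpecResidueField]
  let s := pullback.lift (Spec.map (g.residueFieldMap x) ≫ t) (Z.fromSpecResidueField x) hw
  have hs : s ≫ pullback.snd π g = Z.fromSpecResidueField x := pullback.lift_snd _ _ _
  have : UniversallyInjective (pullback.snd π g) :=
    MorphismProperty.pullback_snd (P := @UniversallyInjective) _ _ ‹UniversallyInjective π›
  have hp : s (closedPoint (Z.residueField x)) = p := by
    apply (pullback.snd π g).injective
    rw [← Scheme.Hom.comp_apply, hs, Scheme.fromSpecResidueField_apply]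
  have key : ∀ q : ↥(pullback π g), q = p →
      ∀ d : (pullback π g).residueField q ⟶ CommRingCat.of (Z.residueField x),
        Spec.map d ≫ (pullback π g).fromSpecResidueField q = s → IsIso ((pullback.snd π g).residueFieldMap p) := by
    rintro q rfl d hd
    have h1 : Spec.map ((pullback.snd π g).residueFieldMap q ≫ d) ≫ Z.fromSpecResidueField x =
        Spec.map (𝟙 _) ≫ Z.fromSpecResidueField x := by
      rw [Spec.map_comp, Category.assoc, Scheme.Hom.SpecMap_residueFieldMap_fromSpecResidueField,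
        ← Category.assoc, hd, hs, Spec.map_id, Category.id_comp]
    have h2 : (pullback.snd π g).residueFieldMap q ≫ d = 𝟙 _ := Spec.map_inj.mp ((cancel_mono _).mp h1)
    rw [ConcreteCategory.isIso_iff_bijective]
    refine ⟨((pullback.snd π g).residueFieldMap q).hom.injective, fun z ↦ ⟨d z, d.hom.injective ?_⟩⟩
    exact DFunLike.congr_fun (congrArg CommRingCat.Hom.hom h2) (d z)
  exact key _ hp _ (Scheme.descResidueField_stalkClosedPointTo_fromSpecResidueField _ _ s)

theorem section_of_isSN (hX : HTop.IsSeminormal X) (π : Y ⟶ X) (hπ : FlatMor.IsUnivHomeo π)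
    (hr : HTop.ResidueFieldsIso π) : ∃ σ : X ⟶ Y, σ ≫ π = 𝟙 X := by
  have := SNRing.isReduced_scheme hX
  exact AWNScheme.exists_section π hπ fun U ↦ AWNScheme.ring_retraction _ (AWNScheme.univHomeo_restrict π hπ U)
    (Or.inr ⟨AWNRing.sn_of_equiv U.1.topIso.commRingCatIsoToRingEquiv.symm (AWNScheme.isSeminormal_iff.mp hX U),
      AWNScheme.resTriv_restrict π hπ hr U⟩)

theorem isSeminormal_of_isOpenImmersion (f : Z ⟶ X) [IsOpenImmersion f] (h : HTop.IsSeminormal X) :
    HTop.IsSeminormal Z :=
  AWNScheme.isSeminormal_iff.mpr fun U ↦ AWNRing.sn_of_equiv (f.appIso U.1).commRingCatIsoToRingEquiv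
    (AWNScheme.isSeminormal_iff.mp h ⟨f ''ᵁ U.1, U.2.image_of_isOpenImmersion f⟩)

theorem restrict {X' : Scheme.{u}} (ν : X' ⟶ X) (hν : HTop.IsSeminormalization ν)
    (hX' : HTop.IsSeminormal X') (U : X.Opens) : HTop.IsSeminormalization (ν ∣_ U) := by
  have huh : FlatMor.IsUnivHomeo (ν ∣_ U) :=
    MorphismProperty.of_isPullback (P := MorphismProperty.universally (topologically fun f => IsHomeomorph f))
      (isPullback_morphismRestrict ν U).flip hν.1.1
  refine ⟨⟨huh, fun y ↦ ?_⟩, fun Z π hπ hr ↦ ?_⟩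
  · have e := (Scheme.residueFieldMap_comp (ν ∣_ U) U.ι y)
    have : IsIso (Scheme.Hom.residueFieldMap ((ν ⁻¹ᵁ U).ι ≫ ν) y) := by
      rw [Scheme.residueFieldMap_comp]
      have := hν.1.2 ((ν ⁻¹ᵁ U).ι y)
      infer_instance
    have key : ∀ (g : ((ν ⁻¹ᵁ U : X'.Opens) : Scheme.{u}) ⟶ X), (ν ⁻¹ᵁ U).ι ≫ ν = g →
        IsIso (Scheme.Hom.residueFieldMap g y) := by
      rintro g rfl; exact this
    have h2 := key _ (morphismRestrict_ι ν U).symm
    rw [e] at h2
    exact IsIso.of_isIso_comp_left (U.ι.residueFieldMap ((ν ∣_ U) y)) _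
  · have hsn := isSeminormal_of_isOpenImmersion (ν ⁻¹ᵁ U).ι hX'
    have := SNRing.isReduced_scheme hsn
    have := universallyInjective_of_isUnivHomeo hπ
    have := surjective_of_isUnivHomeo hπ
    have := Groth.Agent.UnivHomeo.isIntegralHom_of_univHomeo hπ
    have hπ' : FlatMor.IsUnivHomeo (pullback.snd π (ν ∣_ U)) :=
      MorphismProperty.of_isPullback (P := MorphismProperty.universally (topologically fun f => IsHomeomorph f))
        (IsPullback.of_hasPullback π (ν ∣_ U)) hπ
    obtain ⟨σ, hσ⟩ := section_of_isSN hsn _ hπ' (residueFieldsIso_pullback_snd π hr _)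
    refine ⟨σ ≫ pullback.fst π (ν ∣_ U), ?_, fun g hg ↦ Groth.Agent.HTopAWN.ext_of_radicial π _ _ (hg.trans ?_)⟩
    · show (σ ≫ pullback.fst π (ν ∣_ U)) ≫ π = _
      rw [Category.assoc, pullback.condition, ← Category.assoc, hσ, Category.id_comp]
    · rw [Category.assoc, pullback.condition, ← Category.assoc, hσ, Category.id_comp]

end Groth.Agent.Misc9.SNRestrict
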