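import Mathlib
import Groth.Prelude.Def_WittGrp

/-!
Semilinear Frobenius endomorphisms of finite modules over truncated Witt vectors of an algebraically closed field.
-/

universe u v

set_option maxHeartbeats 800000

open Polynomial

namespace Groth.Agent.Misc9.SemilinFrob

section Field

variable {p : ℕ} [Fact p.Prime] {k : Type u} [Field k] [CharP k p]

/-- the recursion giving the coefficients of a solution -/
noncomputable def cseq (σ : k →+* k) (a : ℕ → k) (t : k) : ℕ → k
  | 0 => a 0 * σ t - 1
  | i + 1 => σ (cseq σ a t i) + a (i + 1) * σ t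

variable [IsAlgClosed k]

theorem exists_fixed_frobenius (a : ℕ → k) (i : ℕ) : ∃ t, cseq (frobenius k p) a t i = t := by
  have hP : ∀ i, ∃ P : k[X], (∀ t, cseq (frobenius k p) a t i = P.eval t) ∧ derivative P = 0 := by
    intro i
    induction i with
    | zero => exact ⟨C (a 0) * X ^ p - 1, fun t => by simp [cseq, frobenius_def], by simp [derivative_pow]⟩
    | succ i ih =>
      obtain ⟨P, h1, h2⟩ := ih
      exact ⟨P ^ p + C (a (i + 1)) * X ^ p, fun t => by simp [cseq, frobenius_def, h1],
        by simp [derivative_pow]⟩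
  obtain ⟨P, h1, h2⟩ := hP i
  have hdeg : (P - X).degree ≠ 0 := by
    intro h
    have h3 : derivative (P - X) = 0 := by rw [eq_C_of_degree_eq_zero h, derivative_C]
    simp [h2] at h3
  obtain ⟨t, ht⟩ := IsAlgClosed.exists_root (P - X) hdeg
  exact ⟨t, (h1 t).trans (sub_eq_zero.1 (by simpa using ht))⟩

theorem exists_fixed_symm (a : ℕ → k) (i : ℕ) :
    ∃ t, cseq (frobeniusEquiv k p).symm.toRingHom a t i = t := by
  set σ : k →+* k := (frobeniusEquiv k p).symm.toRingHom with hσdef
  have hp : 1 < p := (Fact.out : p.Prime).one_lt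
  have hσ : ∀ x : k, σ (x ^ p) = x := fun x => by
    rw [← frobenius_def]
    exact (frobeniusEquiv k p).symm_apply_apply x
  have hP : ∀ j, j ≤ i → ∃ R : k[X], R.natDegree ≤ p ^ j ∧
      ∀ d, cseq σ a (d ^ p ^ (i + 1)) j = R.eval (d ^ p ^ (i - j)) := by
    intro j
    induction j with
    | zero =>
      refine fun _ => ⟨C (a 0) * X - 1, ?_, fun d => ?_⟩
      · rw [pow_zero]
        compute_degree
      · simp [cseq, pow_succ, pow_mul, hσ]
    | succ j ih =>
      intro hj
      obtain ⟨R, h1, h2⟩ := ih (by omega)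
      refine ⟨R.map σ + C (a (j + 1)) * X ^ p ^ (j + 1), ?_, fun d => ?_⟩
      · refine natDegree_add_le_of_degree_le ((natDegree_map_le).trans (h1.trans ?_)) (natDegree_C_mul_X_pow_le _ _)
        exact Nat.pow_le_pow_right (by omega) (by omega)
      · have e1 : d ^ p ^ (i - j) = (d ^ p ^ (i - (j + 1))) ^ p := by
          rw [← pow_mul, ← pow_succ]
          congr 2
          omega
        have e2 : d ^ p ^ i = (d ^ p ^ (i - (j + 1))) ^ p ^ (j + 1) := by
          rw [← pow_mul, ← pow_add]
          congr 2
          omega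
        show σ (cseq σ a (d ^ p ^ (i + 1)) j) + a (j + 1) * σ (d ^ p ^ (i + 1)) = _
        have e3 : σ (d ^ p ^ (i + 1)) = d ^ p ^ i := by rw [pow_succ, pow_mul, hσ]
        rw [e3, h2, e1, ← Polynomial.eval_map_apply, hσ, e2, eval_add, eval_mul, eval_C, eval_pow, eval_X]
  obtain ⟨R, h1, h2⟩ := hP i le_rfl
  have hlt : R.natDegree < p ^ (i + 1) := h1.trans_lt (Nat.pow_lt_pow_right hp (by omega))
  have hnd : (X ^ p ^ (i + 1) - R).natDegree = p ^ (i + 1) := by
    rw [natDegree_sub_eq_left_of_natDegree_lt (by rwa [natDegree_X_pow]), natDegree_X_pow]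
  obtain ⟨d, hd⟩ := IsAlgClosed.exists_root (X ^ p ^ (i + 1) - R) (fun h => by
    rw [natDegree_eq_of_degree_eq_some (n := 0) (by simpa using h)] at hnd
    exact (Nat.pos_of_ne_zero (by positivity : p ^ (i + 1) ≠ 0)).ne hnd)
  refine ⟨d ^ p ^ (i + 1), ?_⟩
  rw [h2, Nat.sub_self, pow_zero, pow_one]
  exact (sub_eq_zero.1 (by simpa using hd)).symm

theorem surjective_sub (σ : k →+* k) (hσ : σ = frobenius k p ∨ σ = (frobeniusEquiv k p).symm.toRingHom)
    {V : Type v} [AddCommGroup V] [Module k V] [FiniteDimensional k V] (T : V →ₛₗ[σ] V) (v : V) :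
    ∃ x, T x - x = v := by
  let w : ℕ → V := fun i => T^[i] v
  have hw : ∀ i, T (w i) = w (i + 1) := fun i => (Function.iterate_succ_apply' _ _ _).symm
  obtain ⟨m, hm⟩ : ∃ m, w m ∈ Submodule.span k (Set.range fun i : Fin m => w i) := by
    let F : ℕ →o Submodule k V := ⟨fun m => Submodule.span k (Set.range fun i : Fin m => w i), fun a b hab =>
      Submodule.span_mono (by rintro _ ⟨i, rfl⟩; exact ⟨⟨i, i.2.trans_le hab⟩, rfl⟩)⟩
    obtain ⟨n, hn⟩ := monotone_stabilizes_iff_noetherian.2 (inferInstance : IsNoetherian k V) F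
    refine ⟨n, (hn (n + 1) n.le_succ).symm.le (Submodule.subset_span ⟨⟨n, n.lt_succ_self⟩, rfl⟩)⟩
  obtain ⟨a, ha⟩ := (Submodule.mem_span_range_iff_exists_fun k).1 hm
  rcases Nat.eq_zero_or_pos m with rfl | hpos
  · refine ⟨0, ?_⟩
    have : v = 0 := by simpa [w] using ha.symm
    simp [this]
  obtain ⟨m, rfl⟩ : ∃ l, m = l + 1 := ⟨m - 1, by omega⟩
  let a' : ℕ → k := fun i => if h : i < m + 1 then a ⟨i, h⟩ else 0
  obtain ⟨t, ht⟩ : ∃ t, cseq σ a' t m = t := by
    rcases hσ with rfl | rfl
    · exact exists_fixed_frobenius a' m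
    · exact exists_fixed_symm a' m
  refine ⟨∑ i ∈ Finset.range (m + 1), cseq σ a' t i • w i, ?_⟩
  have hlast : w (m + 1) = ∑ i ∈ Finset.range (m + 1), a' i • w i := by
    rw [← ha, ← Fin.sum_univ_eq_sum_range (fun i => a' i • w i)]
    exact Finset.sum_congr rfl fun i _ => by simp only [a', dif_pos i.2]
  rw [map_sum]
  simp only [LinearMap.map_smulₛₗ, hw]
  rw [Finset.sum_range_succ (fun i => σ (cseq σ a' t i) • w (i + 1)), ht, hlast, Finset.smul_sum,
    Finset.sum_range_succ' (fun i => cseq σ a' t i • w i),
    Finset.sum_range_succ' (fun i => σ t • a' i • w i)]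
  simp only [smul_smul, mul_comm (σ t)]
  simp only [cseq, add_smul, sub_smul, smul_smul, Finset.sum_add_distrib, one_smul]
  simp [w]
  abel

theorem finite_fixed_field (σ : k →+* k) (hσ : σ = frobenius k p ∨ σ = (frobeniusEquiv k p).symm.toRingHom)
    {V : Type v} [AddCommGroup V] [Module k V] [FiniteDimensional k V] (T : V →ₛₗ[σ] V) :
    {x | T x = x}.Finite := by
  classical
  obtain ⟨b, hbF, hspan, hli⟩ := exists_linearIndependent k {x | T x = x}
  haveI : Fintype b := hli.setFinite.fintype
  let R : Set k := {c | c ^ p = c}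
  have hR : R.Finite := by
    refine ((X ^ p - X : k[X]).roots.toFinset.finite_toSet).subset fun c (hc : c ^ p = c) => ?_
    have hne : (X ^ p - X : k[X]) ≠ 0 := FiniteField.X_pow_card_sub_X_ne_zero k (Fact.out : p.Prime).one_lt
    simp [hne, hc]
  refine ((Set.Finite.pi (t := fun _ : b => R) fun _ => hR).image fun c : b → k => ∑ i, c i • (i : V)).subset ?_
  intro x hx
  have hxs : x ∈ Submodule.span k (Set.range ((↑) : b → V)) := by
    rw [Subtype.range_coe, hspan]
    exact Submodule.subset_span hx
  obtain ⟨c, hc⟩ := (Submodule.mem_span_range_iff_exists_fun k).1 hxs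
  refine ⟨c, fun i _ => ?_, hc⟩
  have hσc : σ (c i) = c i := by
    have h1 : ∑ i, σ (c i) • (i : V) = ∑ i, c i • (i : V) := by
      rw [hc, ← (hx : T x = x), ← hc, map_sum]
      exact Finset.sum_congr rfl fun j _ => by rw [LinearMap.map_smulₛₗ, (hbF j.2 : T (j : V) = j)]
    have := Fintype.linearIndependent_iff.1 hli (fun i => σ (c i) - c i) (by
      simp [sub_smul, Finset.sum_sub_distrib, h1]) i
    exact sub_eq_zero.1 this
  rcases hσ with rfl | rfl
  · exact hσc
  · have := congrArg (frobeniusEquiv k p) hσc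
    exact ((frobeniusEquiv k p).apply_symm_apply (c i)).symm.trans this |>.symm

end Field

section Witt

variable (p : ℕ) [Fact p.Prime] (k : Type u) [Field k] [CharP k p] (n : ℕ)

/-- the residue map -/
noncomputable def res : TruncatedWittVector p (n + 1) k →+* k where
  toFun x := x.coeff 0
  map_one' := by
    rw [← map_one (WittVector.truncate (p := p) (R := k) (n + 1)), WittVector.coeff_truncate]
    exact map_one (WittVector.constantCoeff (p := p) (R := k))
  map_zero' := by
    rw [← map_zero (WittVector.truncate (p := p) (R := k) (n + 1)), WittVector.coeff_truncate]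
    exact map_zero (WittVector.constantCoeff (p := p) (R := k))
  map_mul' x y := by
    obtain ⟨X, rfl⟩ := WittVector.truncate_surjective p (n + 1) k x
    obtain ⟨Y, rfl⟩ := WittVector.truncate_surjective p (n + 1) k y
    rw [← map_mul]
    simp only [WittVector.coeff_truncate]
    exact map_mul (WittVector.constantCoeff (p := p) (R := k)) X Y
  map_add' x y := by
    obtain ⟨X, rfl⟩ := WittVector.truncate_surjective p (n + 1) k x
    obtain ⟨Y, rfl⟩ := WittVector.truncate_surjective p (n + 1) k y
    rw [← map_add]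
    simp only [WittVector.coeff_truncate]
    exact map_add (WittVector.constantCoeff (p := p) (R := k)) X Y

theorem res_truncate (X : WittVector p k) : res p k n (WittVector.truncate (n + 1) X) = X.coeff 0 :=
  WittVector.coeff_truncate X 0

theorem res_surjective : Function.Surjective (res p k n) := fun c =>
  ⟨WittVector.truncate (n + 1) (WittVector.teichmuller p c),
    (res_truncate p k n _).trans (WittVector.teichmuller_coeff_zero p c)⟩

theorem pow_eq_zero_trunc : (p : TruncatedWittVector p n k) ^ n = 0 := by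
  rw [← map_natCast (WittVector.truncate (p := p) (R := k) n), ← map_pow]
  ext i
  rw [WittVector.coeff_truncate, TruncatedWittVector.coeff_zero]
  exact WittVector.coeff_p_pow_eq_zero p k (Nat.ne_of_lt i.2)

variable [IsAlgClosed k]

theorem ker_res : RingHom.ker (res p k n) = Ideal.span {(p : TruncatedWittVector p (n + 1) k)} := by
  apply le_antisymm
  · intro x hx
    obtain ⟨X, rfl⟩ := WittVector.truncate_surjective p (n + 1) k x
    rw [RingHom.mem_ker, res_truncate] at hx
    obtain ⟨Y, rfl⟩ := Ideal.mem_span_singleton'.1 ((WittVector.mem_span_p_iff_coeff_zero_eq_zero X).2 hx)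
    rw [map_mul, map_natCast]
    exact Ideal.mul_mem_left _ _ (Ideal.mem_span_singleton_self _)
  · rw [Ideal.span_le, Set.singleton_subset_iff, SetLike.mem_coe, RingHom.mem_ker, map_natCast, CharP.cast_eq_zero]

variable {p k n}

/-- reduction to the field case -/
theorem field_case (σ₀ : k →+* k) (hσ₀ : σ₀ = frobenius k p ∨ σ₀ = (frobeniusEquiv k p).symm.toRingHom)
    {V : Type v} [AddCommGroup V] [Module (TruncatedWittVector p (n + 1) k) V]
    [Module.Finite (TruncatedWittVector p (n + 1) k) V] (hV : ∀ v : V, (p : TruncatedWittVector p (n + 1) k) • v = 0)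
    (T : V →ₛₗ[WittGrp.truncMap p (n + 1) σ₀] V) :
    (∀ v, ∃ x, T x - x = v) ∧ {x | T x = x}.Finite := by
  let W := TruncatedWittVector p (n + 1) k
  have hI : ∀ w ∈ RingHom.ker (res p k n), ∀ v : V, w • v = 0 := by
    intro w hw v
    rw [ker_res] at hw
    obtain ⟨z, rfl⟩ := Ideal.mem_span_singleton'.1 hw
    rw [mul_smul, hV, smul_zero]
  letI : Module (W ⧸ RingHom.ker (res p k n)) V :=
    Module.IsTorsionBySet.module fun v w => hI w.1 w.2 v
  let e := RingHom.quotientKerEquivOfSurjective (res_surjective p k n)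
  letI : Module k V := Module.compHom V e.symm.toRingHom
  have hsm : ∀ (w : W) (v : V), res p k n w • v = w • v := by
    intro w v
    show e.symm (res p k n w) • v = w • v
    rw [show res p k n w = e (Ideal.Quotient.mk _ w) from rfl, e.symm_apply_apply]
    rfl
  haveI : FiniteDimensional k V := by
    obtain ⟨s, hs⟩ := Module.Finite.fg_top (R := W) (M := V)
    refine ⟨⟨s, top_le_iff.1 fun v _ => ?_⟩⟩
    have hv : v ∈ Submodule.span W (s : Set V) := hs ▸ Submodule.mem_top
    induction hv using Submodule.span_induction with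
    | mem x hx => exact Submodule.subset_span hx
    | zero => exact zero_mem _
    | add x y _ _ hx hy => exact add_mem (hx trivial) (hy trivial)
    | smul w x _ hx => rw [← hsm]; exact Submodule.smul_mem _ _ (hx trivial)
  let T₀ : V →ₛₗ[σ₀] V :=
    { toFun := T
      map_add' := map_add T
      map_smul' := fun c v => by
        obtain ⟨w, rfl⟩ := res_surjective p k n c
        rw [hsm, LinearMap.map_smulₛₗ, ← hsm]
        congr 1 }
  exact ⟨surjective_sub σ₀ hσ₀ T₀, finite_fixed_field σ₀ hσ₀ T₀⟩

theorem surjective_and_finite (σ₀ : k →+* k) (hσ₀ : σ₀ = frobenius k p ∨ σ₀ = (frobeniusEquiv k p).symm.toRingHom)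
    {M : Type v} [AddCommGroup M] [Module (TruncatedWittVector p n k) M]
    [Module.Finite (TruncatedWittVector p n k) M] (T : M →ₛₗ[WittGrp.truncMap p n σ₀] M) :
    (∀ m, ∃ x, T x - x = m) ∧ {x | T x = x}.Finite := by
  cases n with
  | zero =>
    haveI : Subsingleton M := subsingleton_of_forall_eq 0 fun m => by
      have h := pow_eq_zero_trunc p k 0
      rw [pow_zero] at h
      rw [← one_smul (TruncatedWittVector p 0 k) m, h, zero_smul]
    exact ⟨fun m => ⟨0, Subsingleton.elim _ _⟩, Set.toFinite _⟩
  | succ n =>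
    let W := TruncatedWittVector p (n + 1) k
    have hTp : ∀ (j : ℕ) (y : M), T ((p : W) ^ j • y) = (p : W) ^ j • T y := by
      intro j y
      rw [LinearMap.map_smulₛₗ, map_pow, map_natCast]
    have onestep : ∀ m : M, ∃ x y, T x - x = m + (p : W) • y := by
      intro m
      let N : Submodule W M := LinearMap.range (LinearMap.lsmul W M (p : W))
      let T₁ := Submodule.mapQ N N T (by
        rintro _ ⟨y, rfl⟩
        exact ⟨T y, (by simpa using (hTp 1 y).symm)⟩)
      obtain ⟨x, hx⟩ := (field_case σ₀ hσ₀ (V := M ⧸ N) (fun v => by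
        obtain ⟨y, rfl⟩ := Submodule.Quotient.mk_surjective _ v
        rw [← Submodule.Quotient.mk_smul, Submodule.Quotient.mk_eq_zero]
        exact ⟨y, rfl⟩) T₁).1 (Submodule.Quotient.mk m)
      obtain ⟨x, rfl⟩ := Submodule.Quotient.mk_surjective _ x
      obtain ⟨y, hy⟩ := (Submodule.Quotient.eq N).1 (show Submodule.Quotient.mk (T x - x) = Submodule.Quotient.mk m
        from hx)
      exact ⟨x, y, eq_add_of_sub_eq' (hy : (p : W) • y = _).symm⟩
    constructor
    · have iter : ∀ (j : ℕ) (m : M), ∃ x y, T x - x = m + (p : W) ^ j • y := by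
        intro j
        induction j with
        | zero => exact fun m => ⟨0, -m, by simp⟩
        | succ j ih =>
          intro m
          obtain ⟨x, y, h⟩ := ih m
          obtain ⟨x', y', h'⟩ := onestep (-y)
          refine ⟨x + (p : W) ^ j • x', y', ?_⟩
          rw [map_add, hTp, add_sub_add_comm, ← smul_sub, h, h', smul_add, smul_neg, pow_succ, mul_smul]
          abel
      intro m
      obtain ⟨x, y, h⟩ := iter (n + 1) m
      exact ⟨x, by rw [h, pow_eq_zero_trunc, zero_smul, add_zero]⟩
    · have key : ∀ (j : ℕ) (N : Submodule W M), (∀ x ∈ N, T x ∈ N) → N.FG → (∀ x ∈ N, (p : W) ^ j • x = 0) →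
          {x | x ∈ N ∧ T x = x}.Finite := by
        intro j
        induction j with
        | zero =>
          refine fun N _ _ h => (Set.finite_singleton 0).subset ?_
          rintro x ⟨hx, -⟩
          simpa using h x hx
        | succ j ih =>
          intro N hN hfg h
          let N' : Submodule W M := N.map (LinearMap.lsmul W M (p : W))
          have hN' : ∀ x ∈ N', T x ∈ N' := by
            rintro _ ⟨y, hy, rfl⟩
            exact ⟨T y, hN y hy, (by simpa using (hTp 1 y).symm)⟩
          have hfin' := ih N' hN' (hfg.map _) (by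
            rintro _ ⟨y, hy, rfl⟩
            rw [LinearMap.lsmul_apply, ← mul_smul, ← pow_succ]
            exact h y hy)
          haveI : Module.Finite W N := Module.Finite.iff_fg.2 hfg
          let T₂ : N →ₛₗ[WittGrp.truncMap p (n + 1) σ₀] N := (T.comp N.subtype).codRestrict N fun x => hN x x.2
          let Q : Submodule W N := N'.comap N.subtype
          have hfix := (field_case σ₀ hσ₀ (V := N ⧸ Q) (fun v => by
            obtain ⟨y, rfl⟩ := Submodule.Quotient.mk_surjective _ v
            rw [← Submodule.Quotient.mk_smul, Submodule.Quotient.mk_eq_zero]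
            exact ⟨y, y.2, rfl⟩) (Submodule.mapQ Q Q T₂ fun x hx => hN' _ hx)).2
          have hF : {x : N | T (x : M) = x}.Finite := by
            refine Set.Finite.of_finite_fibers (Submodule.Quotient.mk (p := Q))
              (hfix.subset ?_) fun q hq => ?_
            · rintro _ ⟨x, hx, rfl⟩
              exact congrArg Submodule.Quotient.mk (Subtype.ext hx : T₂ x = x)
            · obtain ⟨x₀, hx₀, rfl⟩ := hq
              refine Set.Finite.of_finite_image ((hfin'.image fun z => z + (x₀ : M)).subset ?_)
                Subtype.val_injective.injOn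
              rintro _ ⟨x, ⟨hx, hxq⟩, rfl⟩
              refine ⟨(x : M) - x₀, ⟨(Submodule.Quotient.eq Q).1 hxq, ?_⟩, sub_add_cancel _ _⟩
              rw [map_sub, show T (x : M) = x from hx, show T (x₀ : M) = x₀ from hx₀]
          refine (hF.image Subtype.val).subset fun x hx => ⟨⟨x, hx.1⟩, hx.2, rfl⟩
      refine ((key (n + 1) ⊤ (fun _ _ => trivial) Module.Finite.fg_top fun x _ => ?_)).subset
        fun x hx => ⟨trivial, hx⟩
      rw [pow_eq_zero_trunc, zero_smul]

end Witt

end Groth.Agent.Misc9.SemilinFrob
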