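import Groth.Agent.UnivHomeo.Basic
import Mathlib.RingTheory.Adjoin.FG
import Mathlib.RingTheory.IntegralClosure.IntegralRestrict
import Mathlib.Algebra.CharP.Lemmas

/-! Universal homeomorphisms of rings and square-cube / p-th root towers. -/

universe u

namespace Groth.Agent.Misc9.Seminormal

open AlgebraicGeometry CategoryTheory
open Groth.Agent.UnivHomeo.Basic (InjPoints)

variable {A B : Type u} [CommRing A] [CommRing B] [Algebra A B]

/-- square–cube step -/
def StepSC (S : Subalgebra A B) (b : B) : Prop := b ^ 2 ∈ S ∧ b ^ 3 ∈ S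

/-- square–cube or `p`-th root step -/
def StepSCP (S : Subalgebra A B) (b : B) : Prop :=
  (b ^ 2 ∈ S ∧ b ^ 3 ∈ S) ∨ ∃ p : ℕ, p.Prime ∧ (p : B) * b ∈ S ∧ b ^ p ∈ S

theorem StepSC.mono {S T : Subalgebra A B} {b : B} (h : StepSC S b) (hle : S ≤ T) : StepSC T b :=
  ⟨hle h.1, hle h.2⟩

theorem StepSCP.mono {S T : Subalgebra A B} {b : B} (h : StepSCP S b) (hle : S ≤ T) :
    StepSCP T b := by
  rcases h with ⟨h1, h2⟩ | ⟨p, hp, h1, h2⟩
  · exact Or.inl ⟨hle h1, hle h2⟩
  · exact Or.inr ⟨p, hp, hle h1, hle h2⟩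

/-- a tower -/
def Tower (step : Subalgebra A B → B → Prop) (l : List B) : Prop :=
  ∀ i : Fin l.length, step (Algebra.adjoin A {b : B | ∃ j : Fin l.length, j < i ∧ b = l.get j}) (l.get i)

variable {step : Subalgebra A B → B → Prop}
  (hmono : ∀ (S T : Subalgebra A B) (b : B), step S b → S ≤ T → step T b)

theorem tower_le {l : List B} (hl : Tower step l) (R : Subalgebra A B)
    (hR : ∀ b, step R b → b ∈ R) (hmono : ∀ (S T : Subalgebra A B) (b : B), step S b → S ≤ T → step T b) :
    Algebra.adjoin A {b : B | b ∈ l} ≤ R := by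
  have key : ∀ (n : ℕ) (i : Fin l.length), (i : ℕ) = n → l.get i ∈ R := by
    intro n
    induction n using Nat.strong_induction_on with
    | _ n ih =>
      intro i hi
      refine hR _ (hmono _ _ _ (hl i) (Algebra.adjoin_le ?_))
      rintro b ⟨j, hj, rfl⟩
      exact ih j (hi ▸ hj) j rfl
  refine Algebra.adjoin_le fun b hb ↦ ?_
  obtain ⟨i, rfl⟩ := List.mem_iff_get.mp hb
  exact key i i rfl

include hmono in
theorem tower_append {l l' : List B} (h : Tower step l) (h' : Tower step l') :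
    Tower step (l ++ l') := by
  intro i
  have hlen : (l ++ l').length = l.length + l'.length := List.length_append
  by_cases hi : (i : ℕ) < l.length
  · have e : (l ++ l').get i = l.get ⟨i, hi⟩ := by simp [List.getElem_append_left hi]
    rw [e]
    refine hmono _ _ _ (h ⟨i, hi⟩) (Algebra.adjoin_mono ?_)
    rintro b ⟨j, hj, rfl⟩
    refine ⟨⟨j, by omega⟩, hj, ?_⟩
    simp [List.getElem_append_left j.2]
  · have hi' : (i : ℕ) - l.length < l'.length := by omega
    have e : (l ++ l').get i = l'.get ⟨(i : ℕ) - l.length, hi'⟩ := by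
      simp [List.getElem_append_right (le_of_not_gt hi)]
    rw [e]
    refine hmono _ _ _ (h' ⟨_, hi'⟩) (Algebra.adjoin_mono ?_)
    rintro b ⟨j, hj, rfl⟩
    have hj' : (j : ℕ) < (i : ℕ) - l.length := hj
    refine ⟨⟨l.length + j, by omega⟩, Fin.lt_def.mpr (show l.length + (j : ℕ) < i by omega), ?_⟩
    simp [List.getElem_append_right (Nat.le_add_right _ _)]

include hmono in
theorem tower_snoc {l : List B} (h : Tower step l) {b : B}
    (hb : step (Algebra.adjoin A {x : B | x ∈ l}) b) : Tower step (l ++ [b]) := by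
  intro i
  have hlen : (l ++ [b]).length = l.length + 1 := by simp
  by_cases hi : (i : ℕ) < l.length
  · have e : (l ++ [b]).get i = l.get ⟨i, hi⟩ := by simp [List.getElem_append_left hi]
    rw [e]
    refine hmono _ _ _ (h ⟨i, hi⟩) (Algebra.adjoin_mono ?_)
    rintro x ⟨j, hj, rfl⟩
    refine ⟨⟨j, by omega⟩, hj, ?_⟩
    simp [List.getElem_append_left j.2]
  · have e : (l ++ [b]).get i = b := by
      simp [List.getElem_append_right (le_of_not_gt hi)]
    rw [e]
    refine hmono _ _ _ hb (Algebra.adjoin_mono ?_)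
    intro x hx
    obtain ⟨j, rfl⟩ := List.mem_iff_get.mp hx
    refine ⟨⟨j, by omega⟩, Fin.lt_def.mpr (show (j : ℕ) < i by omega), ?_⟩
    simp [List.getElem_append_left j.2]

include hmono in
/-- elements lying in a tower form a subalgebra closed under the steps -/
def towerAlg : Subalgebra A B where
  carrier := {b | ∃ l : List B, Tower step l ∧ b ∈ Algebra.adjoin A {x : B | x ∈ l}}
  mul_mem' := by
    rintro a b ⟨l, hl, ha⟩ ⟨l', hl', hb⟩
    exact ⟨l ++ l', tower_append hmono hl hl', mul_mem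
      (Algebra.adjoin_mono (fun x hx ↦ List.mem_append_left _ hx) ha)
      (Algebra.adjoin_mono (fun x hx ↦ List.mem_append_right _ hx) hb)⟩
  add_mem' := by
    rintro a b ⟨l, hl, ha⟩ ⟨l', hl', hb⟩
    exact ⟨l ++ l', tower_append hmono hl hl', add_mem
      (Algebra.adjoin_mono (fun x hx ↦ List.mem_append_left _ hx) ha)
      (Algebra.adjoin_mono (fun x hx ↦ List.mem_append_right _ hx) hb)⟩
  algebraMap_mem' a := ⟨[], fun i ↦ i.elim0, Subalgebra.algebraMap_mem _ a⟩

include hmono in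
theorem exists_tower_finset (E : Finset B) (htop : towerAlg hmono = ⊤) :
    ∃ l : List B, Tower step l ∧ (↑E : Set B) ⊆ Algebra.adjoin A {x : B | x ∈ l} := by
  classical
  induction E using Finset.induction_on with
  | empty => exact ⟨[], fun i ↦ i.elim0, by simp⟩
  | insert a E _ ih =>
    obtain ⟨l, hl, hE⟩ := ih
    obtain ⟨l', hl', ha⟩ : a ∈ towerAlg hmono := htop ▸ Algebra.mem_top
    refine ⟨l ++ l', tower_append hmono hl hl', ?_⟩
    rw [Finset.coe_insert, Set.insert_subset_iff]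
    exact ⟨Algebra.adjoin_mono (fun x hx ↦ List.mem_append_right _ hx) ha,
      fun x hx ↦ Algebra.adjoin_mono (fun x hx ↦ List.mem_append_left _ hx) (hE hx)⟩

omit [Algebra A B] in
/-- the residue fields are trivial, elementwise -/
def ResTriv (φ : A →+* B) : Prop :=
  ∀ q : Ideal B, q.IsPrime → ∀ b : B, ∃ s a, s ∉ q.comap φ ∧ φ s * b - φ a ∈ q

theorem saturate {R : Type*} [CommRing R] (I : Ideal R) (S : Submonoid R) (y : R)
    (h : ∀ P : Ideal R, P.IsPrime → I ≤ P → Disjoint (P : Set R) S → y ∈ P) :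
    ∃ s ∈ S, ∃ k : ℕ, s * y ^ k ∈ I := by
  by_contra! hn
  have hd : Disjoint (I : Set R) ((S ⊔ Submonoid.powers y : Submonoid R) : Set R) := by
    rw [Set.disjoint_right]
    intro z hz hzI
    obtain ⟨s, hs, w, hw, rfl⟩ := Submonoid.mem_sup.mp hz
    obtain ⟨k, rfl⟩ := hw
    exact hn s hs k hzI
  obtain ⟨P, hP, hIP, hdis⟩ := Ideal.exists_le_prime_disjoint I _ hd
  exact Set.disjoint_left.mp hdis
    (h P hP hIP (hdis.mono_right (fun s hs ↦ Submonoid.mem_sup_left hs)))
    (Submonoid.mem_sup_right (Submonoid.mem_powers y))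

/-- the key dévissage: if `A ⊆ B` is a universal homeomorphism with `A` closed under the steps,
and residue extensions are handled, then `A = B`. -/
theorem surjective_of_closed (hinj : Function.Injective (algebraMap A B))
    (hint : (algebraMap A B).IsIntegral)
    (hpc : Function.Injective (PrimeSpectrum.comap (algebraMap A B)))
    (hsc : ∀ b : B, b ^ 2 ∈ Set.range (algebraMap A B) → b ^ 3 ∈ Set.range (algebraMap A B) →
      b ∈ Set.range (algebraMap A B))
    (hres : ∀ (q : Ideal B) (_ : q.IsPrime) (P : B → Prop),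
      (∀ z, P z ↔ ∃ t a, t ∉ q.comap (algebraMap A B) ∧ algebraMap A B t * z = algebraMap A B a) →
      ∀ b : B, (∀ y ∈ Algebra.adjoin A {b}, y ∈ q → P y) →
        ∀ z ∈ Algebra.adjoin A {b}, P z) :
    Function.Surjective (algebraMap A B) := by
  intro b
  let B' : Subalgebra A B := Algebra.adjoin A {b}
  have hfg : B'.toSubmodule.FG := IsIntegral.fg_adjoin_singleton (hint b)
  let J : Ideal A :=
    { carrier := {a | ∀ z ∈ B', algebraMap A B a * z ∈ Set.range (algebraMap A B)}
      add_mem' := fun {a a'} ha ha' z hz ↦ by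
        obtain ⟨c, hc⟩ := ha z hz
        obtain ⟨c', hc'⟩ := ha' z hz
        exact ⟨c + c', by rw [map_add, hc, hc', map_add, add_mul]⟩
      zero_mem' := fun z _ ↦ ⟨0, by simp⟩
      smul_mem' := fun r a ha z hz ↦ by
        obtain ⟨c, hc⟩ := ha z hz
        exact ⟨r * c, by rw [map_mul, hc, smul_eq_mul, map_mul, mul_assoc]⟩ }
  by_cases hJ : J = ⊤
  · obtain ⟨a, ha⟩ := (hJ ▸ Submodule.mem_top : (1 : A) ∈ J) b (Algebra.self_mem_adjoin_singleton A b)
    exact ⟨a, by rw [ha, map_one, one_mul]⟩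
  exfalso
  obtain ⟨p, hp⟩ := Ideal.nonempty_minimalPrimes hJ
  have := hp.isPrime
  have hker : RingHom.ker (algebraMap A B) ≤ p := by
    rw [(RingHom.injective_iff_ker_eq_bot _).mp hinj]; exact bot_le
  have : Algebra.IsIntegral A B := ⟨hint⟩
  obtain ⟨q, -, hq, hqp⟩ := Ideal.exists_ideal_over_prime_of_isIntegral p (⊥ : Ideal B) hker
  let P : B → Prop := fun z ↦ ∃ t a, t ∉ p ∧ algebraMap A B t * z = algebraMap A B a
  -- localised conductor
  have hxJ : ∀ x ∈ p, ∃ s ∈ p.primeCompl, ∃ n : ℕ, s * x ^ n ∈ J := fun x hx ↦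
    saturate J p.primeCompl x fun Q hQ hJQ hdis ↦ hp.2 ⟨hQ, hJQ⟩
      (fun z hz ↦ by_contra fun h ↦ Set.disjoint_left.mp hdis hz h) hx
  let K : Ideal B' :=
    { carrier := {w | ∃ s ∈ p.primeCompl, ∀ z : B', ∃ c, algebraMap A B s * ((w : B) * z) = algebraMap A B c}
      add_mem' := fun {w w'} hw hw' ↦ by
        obtain ⟨s, hs, hz⟩ := hw
        obtain ⟨s', hs', hz'⟩ := hw'
        refine ⟨s * s', p.primeCompl.mul_mem hs hs', fun z ↦ ?_⟩
        obtain ⟨c, hc⟩ := hz z
        obtain ⟨c', hc'⟩ := hz' z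
        exact ⟨s' * c + s * c', by
          simp only [Subalgebra.coe_add, map_mul, map_add, ← hc, ← hc']; ring⟩
      zero_mem' := ⟨1, p.primeCompl.one_mem, fun z ↦ ⟨0, by simp⟩⟩
      smul_mem' := fun r w hw ↦ by
        obtain ⟨s, hs, hz⟩ := hw
        refine ⟨s, hs, fun z ↦ ?_⟩
        obtain ⟨c, hc⟩ := hz (r * z)
        exact ⟨c, by rw [← hc]; simp only [smul_eq_mul, Subalgebra.coe_mul]; ring⟩ }
  have hsat : ∀ (s : A), s ∈ p.primeCompl → ∀ w : B', algebraMap A B' s * w ∈ K → w ∈ K := by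
    rintro s hs w ⟨t, ht, hz⟩
    refine ⟨t * s, p.primeCompl.mul_mem ht hs, fun z ↦ ?_⟩
    obtain ⟨c, hc⟩ := hz z
    exact ⟨c, by rw [← hc, map_mul]; simp only [Subalgebra.coe_mul, Subalgebra.coe_algebraMap]; ring⟩
  have hpK : p.map (algebraMap A B') ≤ K.radical := by
    rw [Ideal.map_le_iff_le_comap]
    intro x hx
    obtain ⟨s, hs, n, hn⟩ := hxJ x hx
    refine ⟨n, ⟨s, hs, fun z ↦ ?_⟩⟩
    obtain ⟨c, hc⟩ := hn z z.2
    exact ⟨c, by
      rw [hc]; simp only [map_mul, map_pow, Subalgebra.coe_pow, Subalgebra.coe_algebraMap]; ring⟩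
  have hPy : ∀ y ∈ B', y ∈ q → P y := by
    intro y hy hyq
    obtain ⟨s', hs', k, hk⟩ := saturate (p.map (algebraMap A B'))
      (p.primeCompl.map (algebraMap A B').toMonoidHom) (⟨y, hy⟩ : B') fun Q hQ hle hdis ↦ by
        have hQp : Q.comap (algebraMap A B') = p := le_antisymm
          (fun a ha ↦ by_contra fun h ↦ Set.disjoint_left.mp hdis ha ⟨a, h, rfl⟩)
          (fun a ha ↦ hle (Ideal.mem_map_of_mem _ ha))
        have hint' : Algebra.IsIntegral B' B := Algebra.IsIntegral.tower_top A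
        have hker' : RingHom.ker (algebraMap B' B) ≤ Q := by
          rw [(RingHom.injective_iff_ker_eq_bot _).mp Subtype.val_injective]; exact bot_le
        obtain ⟨q', -, hq', hq'Q⟩ := Ideal.exists_ideal_over_prime_of_isIntegral Q (⊥ : Ideal B) hker'
        have : (⟨q', hq'⟩ : PrimeSpectrum B) = ⟨q, hq⟩ := hpc (PrimeSpectrum.ext (by
          show q'.comap (algebraMap A B) = q.comap (algebraMap A B)
          rw [hqp, ← hQp, ← hq'Q, Ideal.comap_comap, ← IsScalarTower.algebraMap_eq]))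
        have e : q' = q := congrArg PrimeSpectrum.asIdeal this
        rw [← hq'Q, e]
        exact hyq
    obtain ⟨s, hs, rfl⟩ := hs'
    obtain ⟨n, hn⟩ := hpK hk
    rw [mul_pow, ← map_pow, ← pow_mul] at hn
    have hyK : ∀ j, k * n ≤ j → (⟨y, hy⟩ : B') ^ j ∈ K := fun j hj ↦ by
      obtain ⟨i, rfl⟩ := Nat.exists_eq_add_of_le hj
      rw [pow_add]
      exact K.mul_mem_right _ (hsat _ (p.primeCompl.pow_mem hs n) _ hn)
    have hj : ∀ j, k * n ≤ j → P (y ^ j) := fun j hj ↦ by
      obtain ⟨t, ht, hz⟩ := hyK j hj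
      obtain ⟨c, hc⟩ := hz 1
      exact ⟨t, c, ht, by simpa using hc⟩
    by_contra hy1
    classical
    let N := Nat.findGreatest (fun j ↦ ¬ P (y ^ j)) (k * n + 1)
    have hN : ¬ P (y ^ N) := Nat.findGreatest_spec (P := fun j ↦ ¬ P (y ^ j)) (m := 1)
      (by omega) (by rwa [pow_one])
    have hN0 : 1 ≤ N := Nat.le_findGreatest (by omega) (by rwa [pow_one])
    have habove : ∀ j, N < j → P (y ^ j) := fun j hjN ↦ by
      rcases le_or_gt (k * n) j with h | h
      · exact hj j h
      · exact not_not.mp (Nat.findGreatest_is_greatest hjN (by omega))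
    obtain ⟨t2, a2, ht2, h2⟩ := habove (2 * N) (by omega)
    obtain ⟨t3, a3, ht3, h3⟩ := habove (3 * N) (by omega)
    obtain ⟨c, hc⟩ := hsc (algebraMap A B (t2 * t3) * y ^ N)
      ⟨t2 * t3 ^ 2 * a2, by simp only [map_mul, map_pow, ← h2]; ring⟩
      ⟨t2 ^ 3 * t3 ^ 2 * a3, by simp only [map_mul, map_pow, ← h3]; ring⟩
    exact hN ⟨t2 * t3, c, p.primeCompl.mul_mem ht2 ht3, hc.symm⟩
  have hall : ∀ z ∈ B', P z :=
    hres q hq P (fun z ↦ by simp only [P, hqp]) b hPy
  obtain ⟨G, hG⟩ := hfg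
  choose! t a ht hta using fun g (hg : g ∈ G) ↦ hall g (by
    have := Submodule.subset_span (R := A) (s := (G : Set B)) hg
    rw [hG] at this; exact this)
  classical
  have hT : ∏ g ∈ G, t g ∈ J := by
    intro z hz
    have hz' : z ∈ Submodule.span A (G : Set B) := by rw [hG]; exact hz
    induction hz' using Submodule.span_induction with
    | mem g hg =>
      rw [← Finset.prod_erase_mul G t hg]
      refine ⟨(∏ x ∈ G.erase g, t x) * a g, ?_⟩
      simp only [map_mul, mul_assoc, hta g hg]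
    | zero => exact ⟨0, by simp⟩
    | add x y hx hy ihx ihy =>
      obtain ⟨c, hc⟩ := ihx (by rw [hG] at hx; exact hx)
      obtain ⟨c', hc'⟩ := ihy (by rw [hG] at hy; exact hy)
      exact ⟨c + c', by rw [map_add, hc, hc', mul_add]⟩
    | smul r x hx ihx =>
      obtain ⟨c, hc⟩ := ihx (by rw [hG] at hx; exact hx)
      exact ⟨r * c, by rw [map_mul, hc, Algebra.smul_def]; ring⟩
  exact (p.primeCompl.prod_mem fun g hg ↦ ht g hg) (hp.1.2 hT)

theorem stepSC_integral {S : Subalgebra A B} {b : B} (h : StepSC S b)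
    (hS : S ≤ integralClosure A B) : b ∈ integralClosure A B :=
  IsIntegral.of_pow (by norm_num : 0 < 2) (hS h.1)

theorem stepSCP_integral {S : Subalgebra A B} {b : B} (h : StepSCP S b)
    (hS : S ≤ integralClosure A B) : b ∈ integralClosure A B := by
  rcases h with ⟨h1, -⟩ | ⟨p, hp, -, h2⟩
  · exact IsIntegral.of_pow (by norm_num : 0 < 2) (hS h1)
  · exact IsIntegral.of_pow hp.pos (hS h2)

theorem stepSCP_eq {S : Subalgebra A B} {b : B} (h : StepSCP S b) {K : Type u} [Field K]
    (g₁ g₂ : B →+* K) (hS : ∀ x ∈ S, g₁ x = g₂ x) : g₁ b = g₂ b := by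
  rcases h with ⟨h1, h2⟩ | ⟨p, hp, h1, h2⟩
  · have e1 : g₁ b ^ 2 = g₂ b ^ 2 := by rw [← map_pow, ← map_pow]; exact hS _ h1
    have e2 : g₁ b ^ 3 = g₂ b ^ 3 := by rw [← map_pow, ← map_pow]; exact hS _ h2
    rcases eq_or_ne (g₂ b) 0 with h0 | h0
    · rw [h0] at e1 ⊢
      simpa using e1
    · have : g₁ b * g₂ b ^ 2 = g₂ b * g₂ b ^ 2 := by
        calc g₁ b * g₂ b ^ 2 = g₁ b * g₁ b ^ 2 := by rw [e1]
          _ = g₁ b ^ 3 := by ring
          _ = g₂ b ^ 3 := e2
          _ = _ := by ring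
      exact mul_right_cancel₀ (pow_ne_zero 2 h0) this
  · have e1 : (p : K) * g₁ b = (p : K) * g₂ b := by
      have := hS _ h1
      rwa [map_mul, map_mul, map_natCast, map_natCast] at this
    have e2 : g₁ b ^ p = g₂ b ^ p := by rw [← map_pow, ← map_pow]; exact hS _ h2
    rcases eq_or_ne (p : K) 0 with h0 | h0
    · have : Fact p.Prime := ⟨hp⟩
      have : CharP K p := (CharP.charP_iff_prime_eq_zero hp).mpr h0
      rw [← sub_eq_zero, ← sub_pow_char] at e2
      exact sub_eq_zero.mp (pow_eq_zero_iff hp.ne_zero |>.mp e2)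
    · exact mul_left_cancel₀ h0 e1

theorem univHomeo_of_towers' (hsurj : Function.Surjective (PrimeSpectrum.comap (algebraMap A B)))
    (h : ∀ b : B, ∃ l : List B, Tower (StepSCP (A := A)) l ∧ b ∈ Algebra.adjoin A {x : B | x ∈ l}) :
    FlatMor.IsUnivHomeo (Spec.map (CommRingCat.ofHom (algebraMap A B))) := by
  rw [Groth.Agent.UnivHomeo.Basic.isUnivHomeo_spec_iff]
  have hint : (algebraMap A B).IsIntegral := by
    intro b
    obtain ⟨l, hl, hb⟩ := h b
    let R := integralClosure A B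
    have : b ∈ R := tower_le (step := fun S x ↦ StepSCP S x ∧ S ≤ S) (fun i ↦ ⟨hl i, le_rfl⟩) R
      (fun x hx ↦ stepSCP_integral hx.1 le_rfl) (fun S T x hx hle ↦ ⟨hx.1.mono hle, le_rfl⟩) hb
    exact this
  refine ⟨hint, hsurj, ?_⟩
  · intro K _ g₁ g₂ hg
    ext b
    obtain ⟨l, hl, hb⟩ := h b
    let R : Subalgebra A B :=
      { carrier := {x | g₁ x = g₂ x}
        mul_mem' := fun {x y} hx hy ↦ by simp only [Set.mem_ofPred_eq] at *; rw [map_mul, map_mul, hx, hy]
        add_mem' := fun {x y} hx hy ↦ by simp only [Set.mem_ofPred_eq] at *; rw [map_add, map_add, hx, hy]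
        algebraMap_mem' := fun a ↦ congr($hg a) }
    exact tower_le hl R (fun x hx ↦ stepSCP_eq hx g₁ g₂ fun y hy ↦ hy) (fun _ _ _ hx hle ↦ hx.mono hle) hb

theorem univHomeo_of_towers (hinj : Function.Injective (algebraMap A B))
    (h : ∀ b : B, ∃ l : List B, Tower (StepSCP (A := A)) l ∧ b ∈ Algebra.adjoin A {x : B | x ∈ l}) :
    FlatMor.IsUnivHomeo (Spec.map (CommRingCat.ofHom (algebraMap A B))) := by
  refine univHomeo_of_towers' ?_ h
  intro p
  have : Algebra.IsIntegral A B := by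
    constructor
    intro b
    obtain ⟨l, hl, hb⟩ := h b
    exact tower_le (step := fun S x ↦ StepSCP S x ∧ S ≤ S) (fun i ↦ ⟨hl i, le_rfl⟩) (integralClosure A B)
      (fun x hx ↦ stepSCP_integral hx.1 le_rfl) (fun S T x hx hle ↦ ⟨hx.1.mono hle, le_rfl⟩) hb
  obtain ⟨Q, -, hQ, hQp⟩ := Ideal.exists_ideal_over_prime_of_isIntegral p.asIdeal (⊥ : Ideal B)
    (by rw [show Ideal.comap (algebraMap A B) ⊥ = RingHom.ker (algebraMap A B) from rfl,
      (RingHom.injective_iff_ker_eq_bot _).mp hinj]; exact bot_le)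
  exact ⟨⟨Q, hQ⟩, PrimeSpectrum.ext hQp⟩

theorem resTriv_of_towers
    (h : ∀ b : B, ∃ l : List B, Tower (StepSC (A := A)) l ∧ b ∈ Algebra.adjoin A {x : B | x ∈ l}) :
    ResTriv (algebraMap A B) := by
  intro q hq b
  obtain ⟨l, hl, hb⟩ := h b
  let R : Subalgebra A B :=
    { carrier := {x | ∃ s a, s ∉ q.comap (algebraMap A B) ∧ algebraMap A B s * x - algebraMap A B a ∈ q}
      mul_mem' := by
        rintro x y ⟨s, a, hs, hx⟩ ⟨s', a', hs', hy⟩
        refine ⟨s * s', a * a', fun h ↦ (Ideal.IsPrime.mem_or_mem inferInstance h).elim hs hs', ?_⟩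
        have e : algebraMap A B (s * s') * (x * y) - algebraMap A B (a * a') =
            (algebraMap A B s * x - algebraMap A B a) * (algebraMap A B s' * y) +
              algebraMap A B a * (algebraMap A B s' * y - algebraMap A B a') := by
          simp only [map_mul]; ring
        rw [e]
        exact q.add_mem (q.mul_mem_right _ hx) (q.mul_mem_left _ hy)
      add_mem' := by
        rintro x y ⟨s, a, hs, hx⟩ ⟨s', a', hs', hy⟩
        refine ⟨s * s', s' * a + s * a', fun h ↦ (Ideal.IsPrime.mem_or_mem inferInstance h).elim hs hs', ?_⟩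
        have e : algebraMap A B (s * s') * (x + y) - algebraMap A B (s' * a + s * a') =
            algebraMap A B s' * (algebraMap A B s * x - algebraMap A B a) +
              algebraMap A B s * (algebraMap A B s' * y - algebraMap A B a') := by
          simp only [map_mul, map_add]; ring
        rw [e]
        exact q.add_mem (q.mul_mem_left _ hx) (q.mul_mem_left _ hy)
      algebraMap_mem' := fun a ↦ ⟨1, a, fun h ↦ hq.ne_top ((Ideal.eq_top_iff_one _).mpr
        (by simpa [Ideal.mem_comap] using h)), by simp⟩ }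
  refine tower_le hl R (fun x hx ↦ ?_) (fun _ _ _ hx hle ↦ hx.mono hle) hb
  obtain ⟨⟨s2, a2, hs2, h2⟩, ⟨s3, a3, hs3, h3⟩⟩ := hx
  by_cases hxq : x ∈ q
  · exact ⟨1, 0, fun h ↦ hq.ne_top ((Ideal.eq_top_iff_one _).mpr
      (by simpa [Ideal.mem_comap] using h)), by simpa using hxq⟩
  have ha2 : a2 ∉ q.comap (algebraMap A B) := fun h ↦ by
    have : algebraMap A B s2 * x ^ 2 ∈ q := by
      simpa using q.add_mem h2 h
    rcases hq.mem_or_mem this with h' | h'
    · exact hs2 h'
    · exact hxq (hq.mem_of_pow_mem 2 h')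
  refine ⟨a2 * s3, s2 * a3, fun h ↦ (Ideal.IsPrime.mem_or_mem inferInstance h).elim ha2 hs3, ?_⟩
  have e : algebraMap A B (a2 * s3) * x - algebraMap A B (s2 * a3) =
      -(algebraMap A B s3 * x) * (algebraMap A B s2 * x ^ 2 - algebraMap A B a2) +
        algebraMap A B s2 * (algebraMap A B s3 * x ^ 3 - algebraMap A B a3) := by
    simp only [map_mul]; ring
  rw [e]
  exact q.add_mem (q.mul_mem_left _ h2) (q.mul_mem_left _ h3)

theorem resTriv_iff_surjective (φ : A →+* B) :
    (∀ x : Spec (CommRingCat.of B),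
      Function.Surjective ((Spec.map (CommRingCat.ofHom φ)).residueFieldMap x)) ↔ ResTriv φ := by
  have key : ∀ x : PrimeSpectrum B,
      Function.Surjective ((Spec.map (CommRingCat.ofHom φ)).residueFieldMap x) ↔
      Function.Surjective (Ideal.ResidueField.map (PrimeSpectrum.comap φ x).asIdeal x.asIdeal φ rfl) := by
    intro x
    erw [Groth.Agent.UnivHomeo.Basic.residueFieldMap_spec φ x]
    let e1 := (Scheme.Spec.residueFieldIso (.of A) (PrimeSpectrum.comap φ x)).commRingCatIsoToRingEquiv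
    let e2 := (Scheme.Spec.residueFieldIso (.of B) x).symm.commRingCatIsoToRingEquiv
    let m := Ideal.ResidueField.map (PrimeSpectrum.comap φ x).asIdeal x.asIdeal φ rfl
    show Function.Surjective ((⇑e2 ∘ ⇑m) ∘ ⇑e1) ↔ Function.Surjective m
    exact (e1.surjective.of_comp_iff _).trans (Function.Surjective.of_comp_iff' e2.bijective _)
  constructor
  · intro h q hq b
    obtain ⟨z, hz⟩ : ∃ z : (q.comap φ).ResidueField,
        Ideal.ResidueField.map (q.comap φ) q φ rfl z = algebraMap B q.ResidueField b :=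
      (key ⟨q, hq⟩).mp (h ⟨q, hq⟩) (algebraMap B q.ResidueField b)
    obtain ⟨a, s, hs, rfl⟩ := IsFractionRing.div_surjective (A := A ⧸ q.comap φ) z
    obtain ⟨a, rfl⟩ := Ideal.Quotient.mk_surjective a
    obtain ⟨s, rfl⟩ := Ideal.Quotient.mk_surjective s
    have hs' : s ∉ q.comap φ := fun h0 ↦ nonZeroDivisors.ne_zero hs (Ideal.Quotient.eq_zero_iff_mem.mpr h0)
    refine ⟨s, a, hs', ?_⟩
    have hne : algebraMap B q.ResidueField (φ s) ≠ 0 := fun e ↦
      hs' (show φ s ∈ q from Ideal.algebraMap_residueField_eq_zero.mp e)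
    simp only [Ideal.algebraMap_quotient_residueField_mk, map_div₀] at hz
    erw [Ideal.ResidueField.map_algebraMap, Ideal.ResidueField.map_algebraMap] at hz
    rw [div_eq_iff hne] at hz
    rw [← Ideal.algebraMap_residueField_eq_zero, map_sub, map_mul, sub_eq_zero, mul_comm]
    exact hz.symm
  · intro h x
    rw [key]
    intro z
    obtain ⟨b, s, hs, rfl⟩ := IsFractionRing.div_surjective (A := B ⧸ x.asIdeal) z
    obtain ⟨b, rfl⟩ := Ideal.Quotient.mk_surjective b
    obtain ⟨s, rfl⟩ := Ideal.Quotient.mk_surjective s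
    have key2 : ∀ b : B, algebraMap B x.asIdeal.ResidueField b ∈ Set.range
        (Ideal.ResidueField.map (PrimeSpectrum.comap φ x).asIdeal x.asIdeal φ rfl) := fun b ↦ by
      obtain ⟨t, a, ht, hta⟩ := h x.asIdeal x.isPrime b
      refine ⟨algebraMap A _ a / algebraMap A _ t, ?_⟩
      rw [map_div₀, Ideal.ResidueField.map_algebraMap, Ideal.ResidueField.map_algebraMap]
      have hne : algebraMap B x.asIdeal.ResidueField (φ t) ≠ 0 := fun e ↦
        ht (show φ t ∈ x.asIdeal from Ideal.algebraMap_residueField_eq_zero.mp e)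
      rw [← Ideal.algebraMap_residueField_eq_zero, map_sub, map_mul, sub_eq_zero, mul_comm] at hta
      rw [div_eq_iff hne]
      exact hta.symm
    obtain ⟨u, hu⟩ := key2 b
    obtain ⟨v, hv⟩ := key2 s
    exact ⟨u / v, by simp only [Ideal.algebraMap_quotient_residueField_mk, map_div₀, hu, hv]⟩

theorem towerAlg_eq_top {step : Subalgebra A B → B → Prop}
    (hmono : ∀ (S T : Subalgebra A B) (b : B), step S b → S ≤ T → step T b)
    (hSC : ∀ (S : Subalgebra A B) b, StepSC S b → step S b)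
    (hfinitary : ∀ (S : Subalgebra A B) b, step S b → ∃ F : Finset B, (F : Set B) ⊆ S ∧
      ∀ T : Subalgebra A B, (F : Set B) ⊆ T → step T b)
    (h : FlatMor.IsUnivHomeo (Spec.map (CommRingCat.ofHom (algebraMap A B))))
    (hres : ∀ (C : Subalgebra A B),
      (∀ x, step C x → x ∈ C) → InjPoints (algebraMap C B) →
      ∀ (q : Ideal B) (_ : q.IsPrime) (P : B → Prop),
        (∀ z, P z ↔ ∃ t a, t ∉ q.comap (algebraMap C B) ∧ algebraMap C B t * z = algebraMap C B a) →
        ∀ b : B, (∀ y ∈ Algebra.adjoin C {b}, y ∈ q → P y) → ∀ z ∈ Algebra.adjoin C {b}, P z) :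
    towerAlg hmono = ⊤ := by
  rw [Groth.Agent.UnivHomeo.Basic.isUnivHomeo_spec_iff] at h
  obtain ⟨hint, hsurj, hpts⟩ := h
  set C := towerAlg hmono with hC
  have hfin : ∀ (F : Finset B), (∀ y ∈ F, y ∈ C) → ∃ l, Tower step l ∧
      (F : Set B) ⊆ Algebra.adjoin A {z : B | z ∈ l} := by
    classical
    intro F
    induction F using Finset.induction_on with
    | empty => exact fun _ ↦ ⟨[], fun i ↦ i.elim0, by simp⟩
    | insert a F _ ih =>
      intro hF
      obtain ⟨l, hl, hE⟩ := ih fun y hy ↦ hF y (Finset.mem_insert_of_mem hy)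
      obtain ⟨l', hl', ha⟩ := hF a (Finset.mem_insert_self a F)
      refine ⟨l ++ l', tower_append hmono hl hl', ?_⟩
      rw [Finset.coe_insert, Set.insert_subset_iff]
      exact ⟨Algebra.adjoin_mono (fun x hx ↦ List.mem_append_right _ hx) ha,
        fun x hx ↦ Algebra.adjoin_mono (fun x hx ↦ List.mem_append_left _ hx) (hE hx)⟩
  have hclosed : ∀ x, step C x → x ∈ C := by
    intro x hx
    obtain ⟨F, hFC, hF⟩ := hfinitary _ _ hx
    obtain ⟨l, hl, hlF⟩ := hfin F fun y hy ↦ hFC hy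
    exact ⟨l ++ [x], tower_snoc hmono hl (hF _ hlF), Algebra.subset_adjoin (by simp)⟩
  have hcomp : algebraMap A B = (algebraMap C B).comp (algebraMap A C) := IsScalarTower.algebraMap_eq A C B
  have hptsC : InjPoints (algebraMap C B) := fun K _ g₁ g₂ hg ↦ hpts K g₁ g₂ (by
    rw [hcomp, ← RingHom.comp_assoc, ← RingHom.comp_assoc, hg])
  have hintC : (algebraMap C B).IsIntegral := RingHom.IsIntegral.tower_top _ _ (hcomp ▸ hint)
  have hs := surjective_of_closed (A := C) (B := B) Subtype.val_injective hintC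
    (Groth.Agent.UnivHomeo.Basic.comap_injective_of_injPoints hptsC)
    (fun b h2 h3 ↦ by
      obtain ⟨c2, hc2⟩ := h2
      obtain ⟨c3, hc3⟩ := h3
      exact ⟨⟨b, hclosed b (hSC _ _ ⟨hc2 ▸ c2.2, hc3 ▸ c3.2⟩)⟩, rfl⟩)
    (hres C hclosed hptsC)
  rw [eq_top_iff]
  intro b _
  obtain ⟨c, rfl⟩ := hs b
  exact c.2

theorem finitary_SC (S : Subalgebra A B) (b : B) (h : StepSC S b) :
    ∃ F : Finset B, (F : Set B) ⊆ S ∧ ∀ T : Subalgebra A B, (F : Set B) ⊆ T → StepSC T b := by
  classical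
  refine ⟨{b ^ 2, b ^ 3}, ?_, fun T hT ↦ ⟨hT (by simp), hT (by simp)⟩⟩
  rw [Finset.coe_insert, Finset.coe_singleton, Set.insert_subset_iff, Set.singleton_subset_iff]
  exact h

theorem finitary_SCP (S : Subalgebra A B) (b : B) (h : StepSCP S b) :
    ∃ F : Finset B, (F : Set B) ⊆ S ∧ ∀ T : Subalgebra A B, (F : Set B) ⊆ T → StepSCP T b := by
  classical
  rcases h with ⟨h1, h2⟩ | ⟨p, hp, h1, h2⟩
  · refine ⟨{b ^ 2, b ^ 3}, ?_, fun T hT ↦ Or.inl ⟨hT (by simp), hT (by simp)⟩⟩
    rw [Finset.coe_insert, Finset.coe_singleton, Set.insert_subset_iff, Set.singleton_subset_iff]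
    exact ⟨h1, h2⟩
  · refine ⟨{(p : B) * b, b ^ p}, ?_, fun T hT ↦ Or.inr ⟨p, hp, hT (by simp), hT (by simp)⟩⟩
    rw [Finset.coe_insert, Finset.coe_singleton, Set.insert_subset_iff, Set.singleton_subset_iff]
    exact ⟨h1, h2⟩

theorem towers_of_univHomeo_resTriv (h : FlatMor.IsUnivHomeo (Spec.map (CommRingCat.ofHom (algebraMap A B))))
    (hr : ResTriv (algebraMap A B)) :
    towerAlg (step := StepSC (A := A) (B := B)) (fun _ _ _ h hle ↦ h.mono hle) = ⊤ := by
  refine towerAlg_eq_top _ (fun S b hb ↦ hb) finitary_SC h ?_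
  intro C _ _ q hq P hP b hy z hz
  obtain ⟨s, a, hs, hsa⟩ := hr q hq z
  have hA : ∀ r : A, algebraMap A B r = algebraMap C B (algebraMap A C r) :=
    IsScalarTower.algebraMap_apply A C B
  rw [hA, hA] at hsa
  have hmem : algebraMap C B (algebraMap A C s) * z - algebraMap C B (algebraMap A C a) ∈
      Algebra.adjoin C {b} :=
    sub_mem (mul_mem (Subalgebra.algebraMap_mem _ _) hz) (Subalgebra.algebraMap_mem _ _)
  obtain ⟨t, c, ht, htc⟩ := (hP _).mp (hy _ hmem hsa)
  refine (hP z).mpr ⟨t * algebraMap A C s, c + t * algebraMap A C a, ?_, ?_⟩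
  · refine fun h' ↦ (Ideal.IsPrime.mem_or_mem inferInstance h').elim ht fun h'' ↦ hs ?_
    show algebraMap A B s ∈ q
    rw [hA]; exact h''
  · simp only [map_mul, map_add]
    linear_combination htc

theorem towers_of_univHomeo (h : FlatMor.IsUnivHomeo (Spec.map (CommRingCat.ofHom (algebraMap A B)))) :
    towerAlg (step := StepSCP (A := A) (B := B)) (fun _ _ _ h hle ↦ h.mono hle) = ⊤ := by
  refine towerAlg_eq_top _ (fun S b hb ↦ Or.inl hb) finitary_SCP h ?_
  intro C hclosed hpts q hq P hP b hy z hz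
  let p : Ideal C := q.comap (algebraMap C B)
  obtain ⟨n, y, hyz⟩ := Groth.Agent.UnivHomeo.Basic.exists_pow_mem_range_residueFieldMap hpts q p rfl
    (algebraMap B q.ResidueField z)
  obtain ⟨a, s, hs, rfl⟩ := IsFractionRing.div_surjective (A := C ⧸ p) y
  obtain ⟨a, rfl⟩ := Ideal.Quotient.mk_surjective a
  obtain ⟨s, rfl⟩ := Ideal.Quotient.mk_surjective s
  have hs' : s ∉ p := fun h0 ↦ nonZeroDivisors.ne_zero hs (Ideal.Quotient.eq_zero_iff_mem.mpr h0)
  set ℓ := ringExpChar p.ResidueField with hℓ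
  have hz0 : P (z ^ ℓ ^ n) := by
    have hne : algebraMap B q.ResidueField (algebraMap C B s) ≠ 0 := fun e ↦
      hs' (show algebraMap C B s ∈ q from Ideal.algebraMap_residueField_eq_zero.mp e)
    simp only [Ideal.algebraMap_quotient_residueField_mk, map_div₀,
      Ideal.ResidueField.map_algebraMap] at hyz
    rw [div_eq_iff hne] at hyz
    have hsa : algebraMap C B s * z ^ ℓ ^ n - algebraMap C B a ∈ q := by
      rw [← Ideal.algebraMap_residueField_eq_zero, map_sub, map_mul, map_pow, sub_eq_zero, mul_comm]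
      exact hyz.symm
    have hmem : algebraMap C B s * z ^ ℓ ^ n - algebraMap C B a ∈ Algebra.adjoin C {b} :=
      sub_mem (mul_mem (Subalgebra.algebraMap_mem _ _) (pow_mem hz _)) (Subalgebra.algebraMap_mem _ _)
    obtain ⟨t, c, ht, htc⟩ := (hP _).mp (hy _ hmem hsa)
    refine (hP _).mpr ⟨t * s, c + t * a,
      fun h' ↦ (Ideal.IsPrime.mem_or_mem inferInstance h').elim ht hs', ?_⟩
    simp only [map_mul, map_add]
    linear_combination htc
  clear hyz
  induction n with
  | zero => simpa using hz0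
  | succ n ih =>
    refine ih ?_
    rcases expChar_is_prime_or_one p.ResidueField ℓ with hpr | h1
    · set c := z ^ ℓ ^ n with hc
      have hℓq : ((ℓ : ℕ) : B) * c ∈ q := by
        refine q.mul_mem_right _ ?_
        have : CharP p.ResidueField ℓ := by
          have he : ℓ = max (ringChar p.ResidueField) 1 := rfl
          have h1 := hpr.one_lt
          exact ringChar.of_eq (show ringChar p.ResidueField = ℓ by omega)
        have h0 : (ℓ : p.ResidueField) = 0 := CharP.cast_eq_zero _ ℓ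
        rw [← map_natCast (algebraMap C p.ResidueField), Ideal.algebraMap_residueField_eq_zero] at h0
        have := h0
        simpa [p, Ideal.mem_comap] using this
      obtain ⟨t1, c1, ht1, h1'⟩ := (hP _).mp
        (hy _ (mul_mem (natCast_mem _ ℓ) (pow_mem hz _)) hℓq)
      obtain ⟨t2, c2, ht2, h2'⟩ := (hP _).mp hz0
      rw [pow_succ, pow_mul, ← hc] at h2'
      obtain ⟨m, hm⟩ : ∃ m, ℓ = m + 1 := ⟨ℓ - 1, by have := hpr.one_lt; omega⟩
      have hstep : algebraMap C B (t1 * t2) * c ∈ C := by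
        refine hclosed _ (Or.inr ⟨ℓ, hpr, ?_, ?_⟩)
        · have : (ℓ : B) * (algebraMap C B (t1 * t2) * c) = algebraMap C B (t2 * c1) := by
            simp only [map_mul, ← h1']; ring
          rw [this]; exact (t2 * c1).2
        · have : (algebraMap C B (t1 * t2) * c) ^ ℓ = algebraMap C B (t1 ^ ℓ * t2 ^ m * c2) := by
            rw [map_mul, map_mul, map_mul, map_pow, map_pow, ← h2', hm]; ring
          rw [this]; exact (t1 ^ ℓ * t2 ^ m * c2).2
      exact (hP _).mpr ⟨t1 * t2, ⟨_, hstep⟩,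
        fun h' ↦ (Ideal.IsPrime.mem_or_mem inferInstance h').elim ht1 ht2, rfl⟩
    · rw [h1] at hz0 ⊢
      simpa using hz0

end Groth.Agent.Misc9.Seminormal
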