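import Mathlib.AlgebraicTopology.DoldKan.Normalized
import Mathlib.AlgebraicTopology.DoldKan.Decomposition
import Mathlib.AlgebraicTopology.DoldKan.Degeneracies
import Mathlib.AlgebraicTopology.SimplicialObject.Basic
import Mathlib.CategoryTheory.Abelian.FunctorCategory
import Mathlib.CategoryTheory.Subobject.Lattice
import Mathlib.CategoryTheory.Subobject.Limits
import Mathlib.Data.Finite.Sigma
import Mathlib.Data.Fintype.Pi

set_option autoImplicit false
universe v u
open CategoryTheory CategoryTheory.Limits Opposite AlgebraicTopology AlgebraicTopology.DoldKan Simplicial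

namespace Groth.Agent.Misc9.Skeleton

variable {A : Type u} [Category.{v} A] [Abelian A] (U : SimplicialObject A) (n : ℕ)

/-- the degreewise subobjects generated in degrees at most `n` -/
abbrev gens (m : ℕ) : Set (Subobject (U.obj (op (SimplexCategory.mk m)))) :=
  Set.range (fun φ : Σ i : Fin (n + 1), (SimplexCategory.mk m ⟶ SimplexCategory.mk i) => imageSubobject (U.map φ.2.op))

lemma exists_lub (m : ℕ) : ∃ S, IsLUB (gens U n m) S := by
  classical
  haveI : ∀ i : Fin (n + 1), Finite (SimplexCategory.mk m ⟶ SimplexCategory.mk i) := fun i =>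
    Finite.of_injective (fun f => (f.toOrderHom : Fin (m + 1) → Fin (i.1 + 1))) fun f g h =>
      SimplexCategory.Hom.ext _ _ (OrderHom.ext _ _ h)
  haveI := Fintype.ofFinite (Σ i : Fin (n + 1), (SimplexCategory.mk m ⟶ SimplexCategory.mk i))
  exact ⟨Finset.univ.sup fun φ : Σ i : Fin (n + 1), (SimplexCategory.mk m ⟶ SimplexCategory.mk i) =>
      imageSubobject (U.map φ.2.op),
    by rintro _ ⟨φ, rfl⟩; exact Finset.le_sup (f := fun φ : Σ i : Fin (n + 1), (SimplexCategory.mk m ⟶ SimplexCategory.mk i) =>
      imageSubobject (U.map φ.2.op)) (Finset.mem_univ φ),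
    fun b hb => Finset.sup_le fun φ _ => hb ⟨φ, rfl⟩⟩

variable {U n} {U' : ∀ m : ℕ, Subobject (U.obj (op (SimplexCategory.mk m)))}

lemma gen_factors (hU' : ∀ m, IsLUB (gens U n m) (U' m)) {m i : ℕ} (hi : i ≤ n) (φ : SimplexCategory.mk m ⟶ SimplexCategory.mk i) :
    (U' m).Factors (U.map φ.op) :=
  Subobject.factors_of_le _ ((hU' m).1 ⟨⟨⟨i, Nat.lt_succ_of_le hi⟩, φ⟩, rfl⟩)
    (by rw [← imageSubobject_arrow_comp (U.map φ.op)]; exact Subobject.factors_comp_arrow _)

lemma le_of_gens (hU' : ∀ m, IsLUB (gens U n m) (U' m)) {m : ℕ} {S : Subobject (U.obj (op (SimplexCategory.mk m)))}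
    (h : ∀ (i : ℕ), i ≤ n → ∀ φ : SimplexCategory.mk m ⟶ SimplexCategory.mk i, S.Factors (U.map φ.op)) : U' m ≤ S :=
  (hU' m).2 (by
    rintro _ ⟨⟨i, φ⟩, rfl⟩
    exact imageSubobject_le _ (S.factorThru _ (h i.1 (Nat.le_of_lt_succ i.2) φ)) (Subobject.factorThru_arrow _ _ _))

lemma map_factors (hU' : ∀ m, IsLUB (gens U n m) (U' m)) {m m' : ℕ} (ψ : SimplexCategory.mk m' ⟶ SimplexCategory.mk m) :
    (U' m').Factors ((U' m).arrow ≫ U.map ψ.op) := by
  have h : U' m ≤ (Subobject.pullback (U.map ψ.op)).obj (U' m') := le_of_gens hU' fun i hi φ => by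
    rw [Limits.pullback_factors_iff, ← U.map_comp, ← op_comp]
    exact gen_factors hU' hi _
  exact (Limits.pullback_factors_iff _ _ _).1 (Subobject.factors_of_le _ h (Subobject.factors_self _))

lemma eq_top (hU' : ∀ m, IsLUB (gens U n m) (U' m)) {i : ℕ} (hi : i ≤ n) : U' i = ⊤ := by
  have h := gen_factors hU' hi (𝟙 (SimplexCategory.mk i))
  rw [op_id, U.map_id] at h
  exact top_le_iff.1 (Subobject.le_of_comm ((⊤ : Subobject _).arrow ≫ (U' i).factorThru _ h)
    (by rw [Category.assoc, Subobject.factorThru_arrow]; exact Category.comp_id _))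

lemma inf_normalized (hU' : ∀ m, IsLUB (gens U n m) (U' m)) {m : ℕ} (hm : n < m) :
    U' m ⊓ NormalizedMooreComplex.objX U m = ⊥ := by
  have hle : U' m ≤ kernelSubobject (PInfty.f m : U.obj (op (SimplexCategory.mk m)) ⟶ _) := le_of_gens hU' fun i hi φ => by
    rw [kernelSubobject_factors_iff]
    refine degeneracy_comp_PInfty U m φ fun hmono => ?_
    have := SimplexCategory.len_le_of_mono φ
    simp only [SimplexCategory.len_mk] at this
    omega
  set I := U' m ⊓ NormalizedMooreComplex.objX U m with hI
  have h1 : I.arrow ≫ PInfty.f m = 0 :=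
    (kernelSubobject_factors_iff _ _).1 (Subobject.factors_of_le _ hle (Subobject.inf_arrow_factors_left _ _))
  have h2 : (NormalizedMooreComplex.objX U m).arrow ≫ PInfty.f m = (NormalizedMooreComplex.objX U m).arrow :=
    HomologicalComplex.congr_hom (inclusionOfMooreComplexMap_comp_PInfty U) m
  have h3 : I.arrow = 0 := by
    have hN := Subobject.inf_arrow_factors_right (U' m) (NormalizedMooreComplex.objX U m)
    rw [← hI] at hN
    rw [← Subobject.factorThru_arrow _ _ hN, ← h2, ← Category.assoc, Subobject.factorThru_arrow]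
    exact h1
  exact le_bot_iff.1 (Subobject.le_of_comm 0 (by rw [h3, zero_comp]))

variable (U n)

/-- the simplicial subobject generated in degrees at most `n` -/
noncomputable def sub (U' : ∀ m : ℕ, Subobject (U.obj (op (SimplexCategory.mk m))))
    (hU' : ∀ m, IsLUB (gens U n m) (U' m)) : SimplicialObject A where
  obj k := Subobject.underlying.obj (U' k.unop.len)
  map {a b} f := (U' b.unop.len).factorThru ((U' a.unop.len).arrow ≫ U.map f) (map_factors hU' (m := a.unop.len) (m' := b.unop.len) f.unop)
  map_id a := by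
    rw [← cancel_mono (U' a.unop.len).arrow, Subobject.factorThru_arrow]
    exact ((congrArg ((U' a.unop.len).arrow ≫ ·) (U.map_id a)).trans (Category.comp_id _)).trans (Category.id_comp _).symm
  map_comp {a b c} f g := by
    rw [← cancel_mono (U' c.unop.len).arrow, Subobject.factorThru_arrow, Category.assoc, Subobject.factorThru_arrow,
      ← Category.assoc, Subobject.factorThru_arrow, Category.assoc]
    exact congrArg (_ ≫ ·) (U.map_comp f g)

/-- the inclusion -/
noncomputable def subι (U' : ∀ m : ℕ, Subobject (U.obj (op (SimplexCategory.mk m))))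
    (hU' : ∀ m, IsLUB (gens U n m) (U' m)) : sub U n U' hU' ⟶ U where
  app k := (U' k.unop.len).arrow
  naturality a b f := Subobject.factorThru_arrow _ _ (map_factors hU' (m := a.unop.len) (m' := b.unop.len) f.unop)

lemma pointwise : ∀ F : (SimplexCategory.Truncated n)ᵒᵖ ⥤ A,
    (SimplexCategory.Truncated.inclusion n).op.HasPointwiseLeftKanExtension F := by
  intro F X
  haveI hh : ∀ a b : SimplexCategoryᵒᵖ, Finite (a ⟶ b) := fun a b =>
    Finite.of_injective (fun f => (f.unop.toOrderHom : Fin (b.unop.len + 1) → Fin (a.unop.len + 1))) fun f g h =>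
      Quiver.Hom.unop_inj (SimplexCategory.Hom.ext _ _ (OrderHom.ext _ _ h))
  haveI : Finite (SimplexCategory.Truncated n) :=
    Finite.of_injective (fun k => (⟨k.1.len, Nat.lt_succ_of_le k.2⟩ : Fin (n + 1))) fun a b h =>
      ObjectProperty.FullSubcategory.ext (SimplexCategory.ext (congrArg Fin.val h))
  haveI : Finite (SimplexCategory.Truncated n)ᵒᵖ := Finite.of_equiv _ Opposite.equivToOpposite
  let ι := (SimplexCategory.Truncated.inclusion n).op
  haveI : Finite (CostructuredArrow ι X) :=
    Finite.of_injective (fun c => (⟨c.left, c.hom⟩ : Σ k, ι.obj k ⟶ X)) fun a b h => by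
      obtain ⟨al, ⟨⟨⟩⟩, ah⟩ := a
      obtain ⟨bl, ⟨⟨⟩⟩, bh⟩ := b
      cases h
      rfl
  haveI : ∀ a b : (SimplexCategory.Truncated n)ᵒᵖ, Finite (a ⟶ b) := fun a b =>
    Finite.of_injective ι.map fun f g h => Quiver.Hom.unop_inj (ObjectProperty.hom_ext _ (congrArg Quiver.Hom.unop h))
  haveI : ∀ a b : CostructuredArrow ι X, Finite (a ⟶ b) := fun a b =>
    Finite.of_injective (fun f => f.left) fun f g h => CostructuredArrow.hom_ext _ _ h
  letI := Fintype.ofFinite (CostructuredArrow ι X)
  letI : ∀ a b : CostructuredArrow ι X, Fintype (a ⟶ b) := fun a b => Fintype.ofFinite _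
  letI : FinCategory (CostructuredArrow ι X) := ⟨inferInstance, inferInstance⟩
  exact (inferInstance : HasColimit (CostructuredArrow.proj ι X ⋙ F))

variable [∀ F : (SimplexCategory.Truncated n)ᵒᵖ ⥤ A, (SimplexCategory.Truncated.inclusion n).op.HasLeftKanExtension F]

lemma sk_generated (T : SimplicialObject.Truncated A n)
    (W' : ∀ m : ℕ, Subobject (((SimplicialObject.Truncated.sk n).obj T).obj (op (SimplexCategory.mk m))))
    (hW' : ∀ m, IsLUB (gens ((SimplicialObject.Truncated.sk n).obj T) n m) (W' m)) (m : ℕ) : W' m = ⊤ := by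
  let W := (SimplicialObject.Truncated.sk n).obj T
  let ι : sub W n W' hW' ⟶ W := subι W n W' hW'
  haveI : ∀ k, IsIso (((SimplicialObject.truncation n).map ι).app k) := fun k => by
    have h := eq_top hW' (i := k.unop.1.len) k.unop.2
    have h' : IsIso (W' k.unop.1.len).arrow := by rw [Subobject.isIso_arrow_iff_eq_top, h]
    exact h'

  haveI : IsIso ((SimplicialObject.truncation n).map ι) := NatIso.isIso_of_isIso_app _
  let adj := SimplicialObject.skAdj (C := A) n
  let s : W ⟶ sub W n W' hW' := (adj.homEquiv T _).symm (adj.unit.app T ≫ inv ((SimplicialObject.truncation n).map ι))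
  have hs : s ≫ ι = 𝟙 W := (adj.homEquiv T W).injective (by
    rw [adj.homEquiv_naturality_right, Equiv.apply_symm_apply, Category.assoc, IsIso.inv_hom_id, Category.comp_id]
    exact (adj.homEquiv_id T).symm)
  have h : s.app (op (SimplexCategory.mk m)) ≫ ι.app (op (SimplexCategory.mk m)) = 𝟙 _ :=
    congr_app hs (op (SimplexCategory.mk m))
  exact top_le_iff.1 (Subobject.le_of_comm ((⊤ : Subobject (W.obj (op (SimplexCategory.mk m)))).arrow ≫ s.app (op (SimplexCategory.mk m)))
    (by erw [Category.assoc, h]; exact Category.comp_id _))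

theorem sk_normalized (T : SimplicialObject.Truncated A n) {m : ℕ} (hm : n < m) :
    NormalizedMooreComplex.objX ((SimplicialObject.Truncated.sk n).obj T) m = ⊥ := by
  choose W' hW' using exists_lub ((SimplicialObject.Truncated.sk n).obj T) n
  have := inf_normalized hW' hm
  rwa [sk_generated n T W' hW' m, top_inf_eq] at this

lemma isZero_of_PInfty (K : SimplicialObject A) (h0 : IsZero (K _⦋0⦌))
    (h : ∀ m, IsZero (K _⦋m⦌) → (PInfty.f (m + 1) : K _⦋m + 1⦌ ⟶ _) = 0) (m : ℕ) : IsZero (K _⦋m⦌) := by
  induction m with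
  | zero => exact h0
  | succ m ih =>
    rw [IsZero.iff_id_eq_zero]
    have e : (PInfty.f (m + 1) : K _⦋m + 1⦌ ⟶ _) + (Q (m + 1)).f (m + 1) = 𝟙 _ := P_add_Q_f (m + 1) (m + 1)
    refine e.symm.trans ?_
    rw [h m ih, zero_add, decomposition_Q]
    refine Finset.sum_eq_zero fun i _ => ?_
    rw [ih.eq_of_tgt (K.δ i.rev.succ) 0, zero_comp, comp_zero]

theorem counit_spec (hU' : ∀ m, IsLUB (gens U n m) (U' m)) (m : ℕ) :
    Mono (((SimplicialObject.skAdj n).counit.app U).app (op (SimplexCategory.mk m))) ∧
      imageSubobject (((SimplicialObject.skAdj n).counit.app U).app (op (SimplexCategory.mk m))) = U' m := by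
  let adj := SimplicialObject.skAdj (C := A) n
  let W : SimplicialObject A := (SimplicialObject.Truncated.sk n).obj ((SimplicialObject.truncation n).obj U)
  let c : W ⟶ U := adj.counit.app U
  haveI : IsIso ((SimplicialObject.truncation n).map c) := by
    have : IsIso (adj.unit.app ((SimplicialObject.truncation n).obj U) ≫ (SimplicialObject.truncation n).map c) := by
      rw [adj.right_triangle_components]; exact IsIso.id _
    haveI : IsIso (adj.unit.app ((SimplicialObject.truncation n).obj U)) := by
      haveI := pointwise (A := A) n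
      exact (inferInstance : IsIso ((SimplicialObject.skAdj (C := A) n).unit.app ((SimplicialObject.truncation n).obj U)))
    exact IsIso.of_isIso_comp_left (adj.unit.app ((SimplicialObject.truncation n).obj U)) _
  have hc : ∀ i, i ≤ n → IsIso (c.app (op (SimplexCategory.mk i))) := fun i hi =>
    (inferInstance : IsIso (((SimplicialObject.truncation n).map c).app (op ⟨SimplexCategory.mk i, hi⟩)))
  refine ⟨?_, ?_⟩
  · haveI hm : ∀ k, Mono ((kernel.ι c).app k) := fun k => inferInstance
    have h0 : ∀ i, i ≤ n → IsZero ((kernel c).obj (op (SimplexCategory.mk i))) := fun i hi => by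
      haveI := hc i hi
      rw [IsZero.iff_id_eq_zero, ← cancel_mono ((kernel.ι c).app (op (SimplexCategory.mk i))),
        ← cancel_mono (c.app (op (SimplexCategory.mk i))), Category.id_comp, ← NatTrans.comp_app, kernel.condition]
      simp
    have hz : ∀ i, IsZero ((kernel c) _⦋i⦌) := isZero_of_PInfty (kernel c) (h0 0 (Nat.zero_le n)) fun i hi => by
      by_cases hin : i + 1 ≤ n
      · exact (h0 (i + 1) hin).eq_of_src _ _
      · haveI := hm (op (SimplexCategory.mk (i + 1)))
        rw [← cancel_mono ((kernel.ι c).app (op (SimplexCategory.mk (i + 1)))), zero_comp, ← PInfty_f_naturality]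
        have hN := sk_normalized n ((SimplicialObject.truncation n).obj U) (m := i + 1) (by omega)
        have hfac := factors_normalizedMooreComplex_PInfty (X := W) (i + 1)
        rw [hN] at hfac
        rw [(Subobject.bot_factors_iff_zero _).1 hfac, comp_zero]
    show Mono (c.app (op (SimplexCategory.mk m)))
    have : IsLimit (KernelFork.ofι ((kernel.ι c).app (op (SimplexCategory.mk m)))
        (by rw [← NatTrans.comp_app, kernel.condition]; rfl : _ ≫ c.app (op (SimplexCategory.mk m)) = 0)) :=
      (isLimitMapConeForkEquiv' ((evaluation _ _).obj (op (SimplexCategory.mk m))) (kernel.condition c))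
        (isLimitOfPreserves ((evaluation _ _).obj (op (SimplexCategory.mk m))) (kernelIsKernel c))
    refine Preadditive.mono_of_cancel_zero _ fun g hg => ?_
    rw [← (KernelFork.IsLimit.lift' this g hg).2]
    exact (congrArg (_ ≫ ·) ((hz m).eq_of_src ((kernel.ι c).app (op (SimplexCategory.mk m))) 0)).trans comp_zero
  · refine le_antisymm ?_ (le_of_gens hU' fun i hi φ => ?_)
    · choose W' hW' using exists_lub W n
      have h : W' m ≤ (Subobject.pullback (c.app (op (SimplexCategory.mk m)))).obj (U' m) := le_of_gens hW' fun i hi φ => by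
        rw [Limits.pullback_factors_iff, c.naturality]
        exact Subobject.factors_of_factors_right _ (gen_factors hU' hi φ)
      rw [sk_generated n _ W' hW' m] at h
      have h2 := (Limits.pullback_factors_iff _ _ _).1 (Subobject.factors_of_le _ h (Subobject.top_factors (𝟙 _)))
      rw [Category.id_comp] at h2
      exact imageSubobject_le _ ((U' m).factorThru _ h2) (Subobject.factorThru_arrow _ _ _)
    · haveI := hc i hi
      have e : U.map φ.op = (inv (c.app (op (SimplexCategory.mk i))) ≫ W.map φ.op) ≫ c.app (op (SimplexCategory.mk m)) := by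
        rw [Category.assoc, c.naturality, IsIso.inv_hom_id_assoc]
      rw [e]
      refine Subobject.factors_of_factors_right _ ?_
      exact (imageSubobject (c.app (op (SimplexCategory.mk m)))).factors_iff _ |>.2
        ⟨factorThruImageSubobject _, imageSubobject_arrow_comp _⟩

end Groth.Agent.Misc9.Skeleton
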