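import Mathlib

/-! Smooth algebras lift along quotients by square-zero ideals. -/

universe u

set_option synthInstance.maxHeartbeats 20000

open MvPolynomial TensorProduct

namespace Groth.Agent.Misc9.SmoothLift

theorem aeval_add_of_sq_zero {R C ι : Type*} [CommRing R] [CommRing C] [Algebra R C] [Fintype ι]
    (c δ : ι → C) (hδ : ∀ i j, δ i * δ j = 0) (q : MvPolynomial ι R) :
    aeval (fun i => c i + δ i) q = aeval c q + ∑ k, aeval c (pderiv k q) * δ k := by
  classical
  induction q using MvPolynomial.induction_on with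
  | C r => simp
  | add x y hx hy =>
    simp only [map_add, hx, hy, add_mul, Finset.sum_add_distrib]
    ring
  | mul_X x i hx =>
    rw [map_mul, map_mul, hx, aeval_X, aeval_X]
    have hsum : (∑ k, aeval c (pderiv k x) * δ k) * δ i = 0 := by
      rw [Finset.sum_mul]
      exact Finset.sum_eq_zero fun k _ => by rw [mul_assoc, hδ, mul_zero]
    have h : ∀ k, aeval c (pderiv k (x * X i)) * δ k =
        aeval c (pderiv k x) * δ k * c i + (if i = k then aeval c x * δ k else 0) := fun k => by
      rw [Derivation.leibniz, pderiv_X, smul_eq_mul, smul_eq_mul, map_add, map_mul, map_mul, aeval_X]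
      by_cases hik : i = k
      · subst hik; simp; ring
      · simp [hik]; ring
    simp only [h, Finset.sum_add_distrib, ← Finset.sum_mul, Finset.sum_ite_eq, Finset.mem_univ, if_true]
    linear_combination hsum

theorem pderiv_mem_of_mem_mul {R ι : Type*} [CommRing R] (K : Ideal (MvPolynomial ι R)) (k : ι)
    {q : MvPolynomial ι R} (hq : q ∈ K * K) : pderiv k q ∈ K := by
  induction hq using Submodule.mul_induction_on' with
  | mem_mul_mem a ha b hb =>
    rw [Derivation.leibniz, smul_eq_mul, smul_eq_mul]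
    exact K.add_mem (K.mul_mem_right _ ha) (K.mul_mem_right _ hb)
  | add x _ y _ hx hy => rw [map_add]; exact K.add_mem hx hy

/-- A system `h` whose Jacobian matrix has a right "inverse" `L` on `h` modulo squares and a square-zero
ideal of the base defines a formally smooth algebra. -/
theorem formallySmooth_of_system {R : Type u} [CommRing R] (a : Ideal R) (ha : a * a = ⊥)
    {ι κ : Type} [Fintype ι] [Fintype κ] (h : κ → MvPolynomial ι R) (L : ι → κ → MvPolynomial ι R)
    (H : ∀ i, h i - ∑ j, (∑ k, pderiv k (h i) * L k j) * h j ∈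
      Ideal.span (Set.range h) * (Ideal.span (Set.range h) ⊔ a.map MvPolynomial.C)) :
    Algebra.FormallySmooth R (MvPolynomial ι R ⧸ Ideal.span (Set.range h)) := by
  classical
  set K := Ideal.span (Set.range h) with hK
  let G : κ → κ → MvPolynomial ι R := fun i j => ∑ k, pderiv k (h i) * L k j
  have hH : ∀ i, ∃ α : κ → MvPolynomial ι R, (∀ j, α j ∈ a.map MvPolynomial.C) ∧
      h i - ∑ j, (G i j + α j) * h j ∈ K * K := fun i => by
    have h1 := H i
    rw [Ideal.mul_sup, Submodule.mem_sup] at h1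
    obtain ⟨q, hq, r, hr, hqr⟩ := h1
    rw [mul_comm, ← smul_eq_mul] at hr
    obtain ⟨α, hα, rfl⟩ := (Submodule.mem_ideal_smul_span_iff_exists_sum _ h r).1 hr
    refine ⟨fun j => α j, fun j => hα j, ?_⟩
    rw [Finsupp.sum_fintype _ _ (fun j => by simp)] at hqr
    simp only [smul_eq_mul] at hqr
    simp only [add_mul, Finset.sum_add_distrib]
    rw [← sub_sub, ← hqr, add_sub_cancel_right]
    exact hq
  choose α hα hα' using hH
  let U : κ → κ → MvPolynomial ι R := fun i j => G i j + α i j
  have hhK : ∀ i, h i ∈ K := fun i => Ideal.subset_span ⟨i, rfl⟩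
  have hUM : ∀ i k, pderiv k (h i) - ∑ j, U i j * pderiv k (h j) ∈ K := fun i k => by
    have h1 := pderiv_mem_of_mem_mul K k (hα' i)
    rw [map_sub, map_sum] at h1
    simp only [Derivation.leibniz, smul_eq_mul, Finset.sum_add_distrib] at h1
    rw [← sub_sub] at h1
    have h2 : ∑ j, h j * pderiv k (G i j + α i j) ∈ K := Ideal.sum_mem _ fun j _ => K.mul_mem_right _ (hhK j)
    have := K.add_mem h1 h2
    rwa [sub_add_cancel] at this
  apply Algebra.FormallySmooth.of_comp_surjective
  intro C _ _ J hJ φ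
  have hJ' : ∀ x ∈ J, ∀ y ∈ J, x * y = 0 := fun x hx y hy => by
    rw [← Submodule.mem_bot (R := C), ← hJ, pow_two]
    exact Ideal.mul_mem_mul hx hy
  choose c hc using fun k => Ideal.Quotient.mk_surjective (φ (Ideal.Quotient.mk K (X k)))
  have hφ : (Ideal.Quotient.mkₐ R J).comp (aeval c) = φ.comp (Ideal.Quotient.mkₐ R K) :=
    MvPolynomial.algHom_ext fun k => by simp [hc]
  have hKJ : ∀ q ∈ K, aeval c q ∈ J := fun q hq => by
    rw [← Ideal.Quotient.eq_zero_iff_mem]
    refine (DFunLike.congr_fun hφ q).trans ?_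
    simp [Ideal.Quotient.eq_zero_iff_mem.2 hq]
  let ev := (aeval c : MvPolynomial ι R →ₐ[R] C)
  let w : κ → C := fun i => ev (h i)
  have hw : ∀ i, w i ∈ J := fun i => hKJ _ (hhK i)
  have hKK : ∀ q ∈ K * K, ev q = 0 := fun q hq => by
    induction hq using Submodule.mul_induction_on' with
    | mem_mul_mem x hx y hy => rw [map_mul]; exact hJ' _ (hKJ x hx) _ (hKJ y hy)
    | add x _ y _ hx hy => rw [map_add, hx, hy, add_zero]
  let Um : Matrix κ κ C := fun i j => ev (U i j)
  let Gm : Matrix κ κ C := fun i j => ev (G i j)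
  let Am : Matrix κ κ C := fun i j => ev (α i j)
  have hU : Um = Gm + Am := funext fun i => funext fun j => map_add ev _ _
  have hUw : Um.mulVec w = w := funext fun i => by
    have := hKK _ (hα' i)
    rw [map_sub, map_sum, sub_eq_zero] at this
    simp only [map_mul] at this
    exact this.symm
  have hUG : ∀ v : κ → C, (∀ i, v i ∈ J) → (Um * Gm).mulVec v = Gm.mulVec v := fun v hv => funext fun i => by
    simp only [Matrix.mulVec, dotProduct]
    refine Finset.sum_congr rfl fun l _ => ?_
    rw [← sub_eq_zero, ← sub_mul]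
    refine hJ' _ ?_ _ (hv l)
    rw [← neg_mem_iff, neg_sub]
    have h1 : G i l - ∑ j, U i j * G j l ∈ K := by
      have : G i l - ∑ j, U i j * G j l = ∑ k, (pderiv k (h i) - ∑ j, U i j * pderiv k (h j)) * L k l := by
        simp only [G, sub_mul, Finset.sum_sub_distrib, Finset.sum_mul, Finset.mul_sum]
        rw [Finset.sum_comm]
        simp only [mul_assoc]
      rw [this]
      exact Ideal.sum_mem _ fun k _ => K.mul_mem_right _ (hUM i k)
    have h2 := hKJ _ h1
    simp only [map_sub, map_sum, map_mul] at h2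
    simpa [Um, Gm, ev, Matrix.mul_apply] using h2
  have hAA : ∀ v : κ → C, Am.mulVec (Am.mulVec v) = 0 := fun v => by
    rw [Matrix.mulVec_mulVec]
    have : Am * Am = 0 := Matrix.ext fun i j => by
      rw [Matrix.mul_apply, Matrix.zero_apply]
      refine Finset.sum_eq_zero fun l _ => ?_
      have h1 : ∀ q ∈ a.map MvPolynomial.C, ev q ∈ a.map (algebraMap R C) := fun q hq => by
        have h2 := Ideal.mem_map_of_mem ev.toRingHom hq
        rw [Ideal.map_map, show ev.toRingHom.comp MvPolynomial.C = algebraMap R C from ev.comp_algebraMap] at h2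
        exact h2
      have h2 := Ideal.mul_mem_mul (h1 _ (hα i l)) (h1 _ (hα l j))
      rwa [← Ideal.map_mul, ha, Ideal.map_bot] at h2
    rw [this, Matrix.zero_mulVec]
  -- corrected point
  have hGw : Gm.mulVec w = w - Am.mulVec w := by
    rw [eq_sub_iff_add_eq, ← Matrix.add_mulVec, ← hU, hUw]
  have hG2 : Gm.mulVec (Gm.mulVec w) = Gm.mulVec w - Am.mulVec (Gm.mulVec w) := by
    rw [eq_sub_iff_add_eq, ← Matrix.add_mulVec, ← hU, Matrix.mulVec_mulVec, hUG w hw]
  let v : κ → C := w + Am.mulVec w
  have hv : Gm.mulVec v = w := by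
    have h1 : v = w + w - Gm.mulVec w := by rw [hGw]; simp only [v]; abel
    rw [h1, Matrix.mulVec_sub, Matrix.mulVec_add, hG2, hGw, Matrix.mulVec_sub, hAA, sub_zero]
    abel
  have hvJ : ∀ i, v i ∈ J := fun i => J.add_mem (hw i) (Ideal.sum_mem _ fun j _ => J.mul_mem_left _ (hw j))
  let δ : ι → C := fun k => -∑ j, ev (L k j) * v j
  have hδ : ∀ k, δ k ∈ J := fun k => J.neg_mem (Ideal.sum_mem _ fun j _ => J.mul_mem_left _ (hvJ j))
  have hzero : ∀ q ∈ K, aeval (fun k => c k + δ k) q = 0 := fun q hq => by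
    refine (Ideal.span_le (I := RingHom.ker (aeval (R := R) fun k => c k + δ k))).2 ?_ hq
    rintro _ ⟨i, rfl⟩
    rw [SetLike.mem_coe, RingHom.mem_ker, aeval_add_of_sq_zero c δ (fun x y => hJ' _ (hδ x) _ (hδ y))]
    have : (Gm.mulVec v) i = ∑ k, ev (pderiv k (h i)) * ∑ j, ev (L k j) * v j := by
      simp only [Matrix.mulVec, dotProduct, Gm, G, map_sum, map_mul, Finset.mul_sum, Finset.sum_mul]
      rw [Finset.sum_comm]
      simp only [mul_assoc]
    rw [hv] at this
    simp only [δ, mul_neg, Finset.sum_neg_distrib]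
    change w i + -_ = 0
    rw [this, add_neg_cancel]
  refine ⟨Ideal.Quotient.liftₐ K (aeval fun k => c k + δ k) hzero, Ideal.Quotient.algHom_ext R ?_⟩
  refine MvPolynomial.algHom_ext fun k => ?_
  simp [map_add, Ideal.Quotient.eq_zero_iff_mem.2 (hδ k), hc]

theorem exists_lift {R : Type u} [CommRing R] (a : Ideal R) (ha : a * a = ⊥) (A : Type u) [CommRing A]
    [Algebra (R ⧸ a) A] [Algebra.Smooth (R ⧸ a) A] :
    ∃ (B : Type u) (_ : CommRing B) (_ : Algebra R B), Algebra.Smooth R B ∧ ∃ π : B →+* A,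
      Function.Surjective π ∧ (∀ r, π (algebraMap R B r) = algebraMap (R ⧸ a) A (Ideal.Quotient.mk a r)) ∧
      RingHom.ker π = a.map (algebraMap R B) := by
  classical
  obtain ⟨n, π₀, hπ₀, hfg⟩ := Algebra.FinitePresentation.out (R := R ⧸ a) (A := A)
  letI : Algebra (MvPolynomial (Fin n) (R ⧸ a)) A := π₀.toRingHom.toAlgebra
  have : IsScalarTower (R ⧸ a) (MvPolynomial (Fin n) (R ⧸ a)) A :=
    IsScalarTower.of_algebraMap_eq fun r => (π₀.commutes r).symm
  let I := RingHom.ker (algebraMap (MvPolynomial (Fin n) (R ⧸ a)) A)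
  obtain ⟨l, hl⟩ := (Algebra.FormallySmooth.iff_split_injection (R := R ⧸ a) hπ₀).1 inferInstance
  obtain ⟨c, f, hf⟩ := Submodule.fg_iff_exists_fin_generating_family.1 (show I.FG from hfg)
  have hfI : ∀ i, f i ∈ I := fun i => hf ▸ Submodule.subset_span ⟨i, rfl⟩
  have hcomb : ∀ y : I.Cotangent, ∃ co : Fin c → MvPolynomial (Fin n) (R ⧸ a),
      y = ∑ j, co j • I.toCotangent ⟨f j, hfI j⟩ := fun y => by
    obtain ⟨⟨x, hx⟩, rfl⟩ := I.toCotangent_surjective y
    obtain ⟨co, hco⟩ := Submodule.mem_span_range_iff_exists_fun _ |>.1 (hf.symm ▸ hx :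
      x ∈ Submodule.span _ (Set.range f))
    refine ⟨co, ?_⟩
    simp_rw [← map_smul, ← map_sum]
    congr 1
    ext1
    rw [AddSubmonoidClass.coe_finsetSum]
    exact hco.symm
  choose L₀ hL₀ using fun k => hcomb (l (1 ⊗ₜ KaehlerDifferential.D (R ⧸ a) _ (X k)))
  -- `f ≡ (M L) f` modulo `I²`
  have hEf : ∀ i, (∑ j, (∑ k, pderiv k (f i) * L₀ k j) * f j) - f i ∈ I * I := fun i => by
    have h1 := LinearMap.congr_fun hl (I.toCotangent ⟨f i, hfI i⟩)
    rw [LinearMap.comp_apply, KaehlerDifferential.kerCotangentToTensor_toCotangent, LinearMap.id_apply] at h1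
    have h2 : KaehlerDifferential.D (R ⧸ a) (MvPolynomial (Fin n) (R ⧸ a)) (f i) =
        ∑ k, pderiv k (f i) • KaehlerDifferential.D (R ⧸ a) _ (X k) := by
      conv_lhs => rw [← (KaehlerDifferential.mvPolynomialBasis (R ⧸ a) (Fin n)).sum_repr
        (KaehlerDifferential.D (R ⧸ a) _ (f i))]
      refine Finset.sum_congr rfl fun k _ => ?_
      rw [KaehlerDifferential.mvPolynomialBasis_repr_apply]
      congr 1
      apply (KaehlerDifferential.mvPolynomialBasis (R ⧸ a) (Fin n)).repr.injective
      rw [Module.Basis.repr_self, KaehlerDifferential.mvPolynomialBasis_repr_D_X]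
    have h3 : ∀ (q : MvPolynomial (Fin n) (R ⧸ a)) y, l ((1 : A) ⊗ₜ (q • y)) = q • l (1 ⊗ₜ y) := fun q y => by
      rw [← l.map_smul]
      congr 1
      exact TensorProduct.tmul_smul q (1 : A) y
    simp only [h2, TensorProduct.tmul_sum, map_sum, h3, hL₀, Finset.smul_sum, smul_smul] at h1
    rw [Finset.sum_comm] at h1
    simp only [← Finset.sum_smul, ← map_smul, ← map_sum] at h1
    rw [Ideal.toCotangent_eq, pow_two] at h1
    simpa [AddSubmonoidClass.coe_finsetSum] using h1
  -- relations modulo `I²` are killed by the Jacobian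
  have hrel : ∀ (b : Fin c → MvPolynomial (Fin n) (R ⧸ a)), ∑ j, b j * f j ∈ I * I →
      ∀ k, ∑ j, b j * pderiv k (f j) ∈ I := fun b hb k => by
    have h1 := pderiv_mem_of_mem_mul I k hb
    rw [map_sum] at h1
    simp only [Derivation.leibniz, smul_eq_mul, Finset.sum_add_distrib] at h1
    have h2 : ∑ j, f j * pderiv k (b j) ∈ I := Ideal.sum_mem _ fun j _ => I.mul_mem_right _ (hfI j)
    simpa using I.sub_mem h1 h2
  let E₀ : Fin c → Fin c → MvPolynomial (Fin n) (R ⧸ a) := fun i j => ∑ k, pderiv k (f i) * L₀ k j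
  have hEE : ∀ i l, (∑ j, E₀ i j * E₀ j l) - E₀ i l ∈ I := fun i l => by
    have h1 : ∀ k, (∑ j, E₀ i j * pderiv k (f j)) - pderiv k (f i) ∈ I := fun k => by
      have := hrel (fun j => E₀ i j - if i = j then 1 else 0) (by
        simpa [sub_mul, Finset.sum_sub_distrib, ite_mul, E₀] using hEf i) k
      simpa [sub_mul, Finset.sum_sub_distrib, ite_mul] using this
    have : (∑ j, E₀ i j * E₀ j l) - E₀ i l = ∑ k, ((∑ j, E₀ i j * pderiv k (f j)) - pderiv k (f i)) * L₀ k l := by
      simp only [sub_mul, Finset.sum_sub_distrib, Finset.sum_mul]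
      congr 1
      rw [Finset.sum_comm]
      refine Finset.sum_congr rfl fun j _ => ?_
      simp only [E₀, Finset.mul_sum, mul_assoc]
    rw [this]
    exact Ideal.sum_mem _ fun k _ => I.mul_mem_right _ (h1 k)
  let g₀ : Fin c → MvPolynomial (Fin n) (R ⧸ a) := fun i => ∑ j, E₀ i j * f j
  obtain ⟨u₀, hu₀, hu₀'⟩ : ∃ u, u - 1 ∈ I ∧ ∀ x ∈ I, u * x ∈ Ideal.span (Set.range g₀) := by
    let q := Submodule.mkQ (Ideal.span (Set.range g₀))
    obtain ⟨u, hu, hu'⟩ := Submodule.exists_sub_one_mem_and_smul_eq_zero_of_fg_of_le_smul I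
      (Submodule.map q I) (Submodule.FG.map _ hfg) (by
        rw [Submodule.map_le_iff_le_comap]
        conv_lhs => rw [← hf]
        rw [Submodule.span_le]
        rintro _ ⟨i, rfl⟩
        have h1 : q (f i) = q (-((∑ j, E₀ i j * f j) - f i)) := by
          rw [neg_sub, map_sub, show q (∑ j, E₀ i j * f j) = 0 from
            (Submodule.Quotient.mk_eq_zero _).2 (Ideal.subset_span ⟨i, rfl⟩), sub_zero]
        rw [SetLike.mem_coe, Submodule.mem_comap, h1]
        rw [← Submodule.map_smul'']
        exact Submodule.mem_map_of_mem (neg_mem (hEf i)))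
    refine ⟨u, hu, fun x hx => (Submodule.Quotient.mk_eq_zero _).1 ?_⟩
    rw [← smul_eq_mul, Submodule.Quotient.mk_smul]
    exact hu' _ (Submodule.mem_map_of_mem hx)
  -- lifts to `R`
  let red : MvPolynomial (Fin n) R →+* MvPolynomial (Fin n) (R ⧸ a) := MvPolynomial.map (Ideal.Quotient.mk a)
  have hred : Function.Surjective red := MvPolynomial.map_surjective _ Ideal.Quotient.mk_surjective
  choose F hF using fun i => hred (f i)
  choose Lt hLt using fun k j => hred (L₀ k j)
  obtain ⟨u, hu⟩ := hred u₀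
  let ρ : MvPolynomial (Fin n) R →ₐ[R] (MvPolynomial (Option (Fin n)) R) := rename some
  let σ : (MvPolynomial (Option (Fin n)) R) →ₐ[R] MvPolynomial (Fin n) R := aeval fun o => Option.elim o 1 X
  have hσρ : ∀ q, σ (ρ q) = q := fun q => by
    have : σ.comp ρ = AlgHom.id R _ := MvPolynomial.algHom_ext fun k => by simp [σ, ρ]
    exact AlgHom.congr_fun this q
  let E : Fin c → Fin c → MvPolynomial (Fin n) R := fun i j => ∑ k, pderiv k (F i) * Lt k j
  have hE : ∀ i j, red (E i j) = E₀ i j := fun i j => by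
    simp only [E, E₀, map_sum, map_mul, hLt, ← hF]
    refine Finset.sum_congr rfl fun k _ => ?_
    rw [show pderiv k (red (F i)) = red (pderiv k (F i)) from MvPolynomial.pderiv_map]
  let z : (MvPolynomial (Option (Fin n)) R) := X none
  let h : Option (Fin c) → (MvPolynomial (Option (Fin n)) R) := fun o => o.elim (z * ρ u - 1) fun i => ρ (∑ j, E i j * F j)
  let K := Ideal.span (Set.range h)
  let J := K ⊔ a.map MvPolynomial.C
  let Lq : Option (Fin n) → Option (Fin c) → (MvPolynomial (Option (Fin n)) R) := fun k o => k.elim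
    (o.elim z fun j => -(z * ∑ k, z * ρ (pderiv k u) * ρ (Lt k j))) fun k => o.elim 0 fun j => ρ (Lt k j)
  let ψ : (MvPolynomial (Option (Fin n)) R) →+* A := (algebraMap (MvPolynomial (Fin n) (R ⧸ a)) A).comp (red.comp σ.toRingHom)
  have hψρ : ∀ q, ψ (ρ q) = algebraMap _ A (red q) := fun q => by simp [ψ, hσρ]
  have haJ : a.map MvPolynomial.C ≤ J := le_sup_right
  have hkerred : ∀ q, red q = 0 → ρ q ∈ J := fun q hq => by
    have h1 : q ∈ a.map MvPolynomial.C := by
      rw [← RingHom.mem_ker, MvPolynomial.ker_map, Ideal.mk_ker] at hq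
      exact hq
    have h2 := Ideal.mem_map_of_mem ρ.toRingHom h1
    rw [Ideal.map_map, show ρ.toRingHom.comp MvPolynomial.C = (MvPolynomial.C : R →+* (MvPolynomial (Option (Fin n)) R)) from ρ.comp_algebraMap] at h2
    exact haJ h2
  have hhJ : ∀ o, h o ∈ J := fun o => (le_sup_left : K ≤ J) (Ideal.subset_span ⟨o, rfl⟩)
  have huF : ∀ j, ρ (F j) ∈ J := fun j => by
    obtain ⟨co, hco⟩ := Submodule.mem_span_range_iff_exists_fun _ |>.1 (hu₀' _ (hfI j))
    choose cl hcl using fun i => hred (co i)
    have h1 : ρ (u * F j - ∑ i, cl i * ∑ l, E i l * F l) ∈ J := hkerred _ (by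
      simp only [map_sub, map_sum, map_mul, hu, hF, hE, hcl]
      simp only [smul_eq_mul, g₀] at hco
      rw [hco, sub_self])
    have h2 : ρ (u * F j) ∈ J := by
      rw [map_sub, map_sum] at h1
      simpa using J.add_mem h1 (Ideal.sum_mem (f := fun i => ρ (cl i * ∑ l, E i l * F l)) (t := Finset.univ) _ fun i _ => by
        rw [map_mul]
        exact J.mul_mem_left _ (hhJ (some i)))
    have h3 : ρ (F j) = z * ρ (u * F j) - h none * ρ (F j) := by
      simp only [h, Option.elim_none, map_mul]
      ring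
    rw [h3]
    exact J.sub_mem (J.mul_mem_left _ h2) (J.mul_mem_right _ (hhJ none))
  have hρI : ∀ q, red q ∈ I → ρ q ∈ J := fun q hq => by
    obtain ⟨co, hco⟩ := Submodule.mem_span_range_iff_exists_fun _ |>.1 (hf.symm ▸ hq :
      red q ∈ Submodule.span _ (Set.range f))
    choose cl hcl using fun i => hred (co i)
    have h1 : ρ (q - ∑ i, cl i * F i) ∈ J := hkerred _ (by
      simp only [map_sub, map_sum, map_mul, hF, hcl]
      simp only [smul_eq_mul] at hco
      rw [hco, sub_self])
    rw [map_sub, map_sum] at h1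
    simpa using J.add_mem h1 (Ideal.sum_mem (f := fun i => ρ (cl i * F i)) (t := Finset.univ) _ fun i _ => by
      rw [map_mul]
      exact J.mul_mem_left _ (huF i))
  have hz : z - 1 ∈ J := by
    have h1 : ρ (u - 1) ∈ J := hρI _ (by rw [map_sub, map_one, hu]; exact hu₀)
    have h2 : z - 1 = h none - z * ρ (u - 1) := by
      simp only [h, Option.elim_none, map_sub, map_one]; ring
    rw [h2]
    exact J.sub_mem (hhJ none) (J.mul_mem_left _ h1)
  have hkerψ : RingHom.ker ψ = J := by
    apply le_antisymm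
    · intro q hq
      have h1 : ρ (σ q) ∈ J := hρI _ hq
      have h2 : (Ideal.Quotient.mk J).comp (ρ.comp σ).toRingHom = Ideal.Quotient.mk J := by
        apply MvPolynomial.ringHom_ext
        · intro r; simp; try rfl
        · rintro (_ | k)
          · simp [σ]
            rw [← map_one (Ideal.Quotient.mk J), Ideal.Quotient.eq, ← neg_mem_iff, neg_sub]
            exact hz
          · simp [σ, ρ]
      have h3 := RingHom.congr_fun h2 q
      rw [← Ideal.Quotient.eq_zero_iff_mem] at h1 ⊢
      exact h3.symm.trans h1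
    · refine sup_le ?_ ?_
      · rw [Ideal.span_le]
        rintro _ ⟨o, rfl⟩
        rw [SetLike.mem_coe, RingHom.mem_ker]
        rcases o with _ | i
        · simp only [h, Option.elim_none, map_sub, map_mul, map_one, hψρ, hu]
          have h4 : algebraMap (MvPolynomial (Fin n) (R ⧸ a)) A u₀ = 1 := by
            have := RingHom.mem_ker.1 hu₀
            rwa [map_sub, map_one, sub_eq_zero] at this
          rw [h4]
          simp [ψ, σ, z]
        · change ψ (ρ _) = 0
          rw [hψρ, map_sum, map_sum]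
          exact Finset.sum_eq_zero fun j _ => by
            rw [map_mul, map_mul, hF, RingHom.mem_ker.1 (hfI j), mul_zero]
      · rw [Ideal.map_le_iff_le_comap]
        intro r hr
        rw [Ideal.mem_comap, RingHom.mem_ker]
        simp [ψ, σ, red, Ideal.Quotient.eq_zero_iff_mem.2 hr]
  have hψmem : ∀ q, red q ∈ I → ρ q ∈ J := hρI
  have hJJ : J * J ≤ K * J := by
    have haa : a.map (MvPolynomial.C : R →+* (MvPolynomial (Option (Fin n)) R)) * a.map MvPolynomial.C = ⊥ := by rw [← Ideal.map_mul, ha, Ideal.map_bot]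
    simp only [J, Ideal.sup_mul, Ideal.mul_sup, haa]
    refine sup_le (sup_le ?_ ?_) (sup_le ?_ ?_)
    all_goals first | exact le_sup_left | exact le_sup_right | exact bot_le | (rw [mul_comm]; exact le_sup_right)
  have hρd : ∀ (k : Fin n) q, pderiv (some k) (ρ q) = ρ (pderiv k q) := fun k q =>
    pderiv_rename (Option.some_injective _) k q
  have hρ0 : ∀ q, pderiv none (ρ q) = 0 := fun q => by
    refine pderiv_eq_zero_of_notMem_vars fun hh => ?_
    obtain ⟨x, -, hx⟩ := Finset.mem_image.1 (vars_rename (φ := q) (f := some) hh)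
    exact absurd hx (Option.some_ne_none x)
  have H : ∀ o, h o - ∑ p, (∑ k, pderiv k (h o) * Lq k p) * h p ∈ K * J := by
    rintro (_ | i)
    · simp only [Fintype.sum_option]
      have hd : ∀ k, pderiv (some k) (h none) = z * ρ (pderiv k u) := fun k => by
        simp [h, z, hρd, Derivation.leibniz, pderiv_X_of_ne]
      have hd0 : pderiv none (h none) = ρ u := by
        simp [h, z, hρ0, Derivation.leibniz]
      simp only [hd, hd0, Lq, Option.elim_none, Option.elim_some, mul_zero, Finset.sum_const_zero, add_zero]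
      have key : ∀ s : Fin c, (ρ u * -(z * ∑ k, z * ρ (pderiv k u) * ρ (Lt k s)) +
          ∑ k, z * ρ (pderiv k u) * ρ (Lt k s)) = -(h none * ∑ k, z * ρ (pderiv k u) * ρ (Lt k s)) := fun s => by
        simp only [h, Option.elim_none]; ring
      simp only [key]
      have e : h none - (ρ u * z * h none + ∑ s, -(h none * ∑ k, z * ρ (pderiv k u) * ρ (Lt k s)) * h (some s)) =
          h none * (-(h none) + ∑ s, (∑ k, z * ρ (pderiv k u) * ρ (Lt k s)) * h (some s)) := by
        simp only [neg_mul, Finset.sum_neg_distrib, mul_add, Finset.mul_sum, ← mul_assoc]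
        simp only [h, Option.elim_none]; ring
      rw [e]
      exact Ideal.mul_mem_mul (Ideal.subset_span ⟨none, rfl⟩)
        (J.add_mem (J.neg_mem (hhJ none)) (Ideal.sum_mem _ fun s _ => J.mul_mem_left _ (hhJ _)))
    · simp only [Fintype.sum_option]
      have hd : ∀ k, pderiv (some k) (h (some i)) - ∑ j, ρ (E i j) * ρ (pderiv k (F j)) ∈ J := fun k => by
        simp only [h, Option.elim_some, map_sum, map_mul, Derivation.leibniz, hρd, smul_eq_mul, Finset.sum_add_distrib]
        rw [add_sub_cancel_left]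
        exact Ideal.sum_mem _ fun j _ => J.mul_mem_right _ (huF j)
      have hd0 : pderiv none (h (some i)) = 0 := hρ0 _
      simp only [hd0, Lq, zero_mul, zero_add, Option.elim_none, Option.elim_some, mul_zero, Finset.sum_const_zero]
      have hG : ∀ s, (∑ k, pderiv (some k) (h (some i)) * ρ (Lt k s)) - ρ (E i s) ∈ J := fun s => by
        have h1 : ρ ((∑ j, E i j * E j s) - E i s) ∈ J := hρI _ (by
          simpa only [map_sub, map_sum, map_mul, hE] using hEE i s)
        have h2 : ∑ k, (pderiv (some k) (h (some i)) - ∑ j, ρ (E i j) * ρ (pderiv k (F j))) * ρ (Lt k s) ∈ J :=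
          Ideal.sum_mem _ fun k _ => J.mul_mem_right _ (hd k)
        have h3 := J.add_mem h2 h1
        convert! h3 using 1
        have h4 : ρ (∑ j, E i j * E j s) = ∑ k, (∑ j, ρ (E i j) * ρ (pderiv k (F j))) * ρ (Lt k s) := by
          simp only [map_sum, map_mul, E, Finset.mul_sum, Finset.sum_mul, mul_assoc]
          rw [Finset.sum_comm]
        rw [map_sub, h4]
        simp only [sub_mul, Finset.sum_sub_distrib]
        ring
      have h5 : h (some i) - ∑ s, ρ (E i s) * h (some s) ∈ K * J := by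
        apply hJJ
        have : h (some i) - ∑ s, ρ (E i s) * h (some s) = ∑ l, ρ (E i l - ∑ j, E i j * E j l) * ρ (F l) := by
          simp only [h, Option.elim_some, map_sum, map_mul, map_sub, sub_mul, Finset.sum_sub_distrib,
            Finset.mul_sum, Finset.sum_mul]
          congr 1
          rw [Finset.sum_comm]
          simp only [mul_assoc]
        rw [this]
        refine Ideal.sum_mem _ fun l _ => Ideal.mul_mem_mul (hρI _ ?_) (huF l)
        rw [map_sub, ← neg_mem_iff, neg_sub]
        simpa only [map_sum, map_mul, hE] using hEE i l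
      have h6 : ∑ s, (ρ (E i s) - ∑ k, pderiv (some k) (h (some i)) * ρ (Lt k s)) * h (some s) ∈ K * J :=
        Ideal.sum_mem _ fun s _ => by
          rw [mul_comm _ (h (some s))]
          refine Ideal.mul_mem_mul (Ideal.subset_span ⟨some s, rfl⟩) ?_
          rw [← neg_mem_iff, neg_sub]
          exact hG s
      have h7 := (K * J).add_mem h5 h6
      simp only [sub_mul, Finset.sum_sub_distrib] at h7
      rw [sub_add_sub_cancel] at h7
      exact h7
  have hfs : Algebra.FormallySmooth R ((MvPolynomial (Option (Fin n)) R) ⧸ K) := formallySmooth_of_system a ha h Lq H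
  have hfp : Algebra.FinitePresentation R ((MvPolynomial (Option (Fin n)) R) ⧸ K) :=
    Algebra.FinitePresentation.quotient ⟨(Set.finite_range h).toFinset, by rw [Set.Finite.coe_toFinset]⟩
  refine ⟨(MvPolynomial (Option (Fin n)) R) ⧸ K, inferInstance, inferInstance, ⟨hfs, hfp⟩, Ideal.Quotient.lift K ψ (fun q hq =>
    RingHom.mem_ker.1 (hkerψ.ge ((le_sup_left : K ≤ J) hq))), ?_, ?_, ?_⟩
  · refine Ideal.Quotient.lift_surjective_of_surjective _ _ (fun x => ?_)
    obtain ⟨y, rfl⟩ := hπ₀ x
    obtain ⟨q, rfl⟩ := hred y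
    exact ⟨ρ q, hψρ q⟩
  · intro r
    change ψ (MvPolynomial.C r) = _
    rw [IsScalarTower.algebraMap_apply (R ⧸ a) (MvPolynomial (Fin n) (R ⧸ a)) A]
    simp [ψ, σ, red]
  · rw [Ideal.ker_quotient_lift, hkerψ, Ideal.map_sup, Ideal.map_quotient_self, bot_sup_eq, Ideal.map_map]
    rfl

end Groth.Agent.Misc9.SmoothLift
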