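import Groth.Agent.Alg.SpreadIso
import Mathlib.AlgebraicGeometry.Birational.RationalMap
import Mathlib.AlgebraicGeometry.Morphisms.FinitePresentation

/-! Spreading out a morphism from a local ring to an lfp scheme. -/

set_option autoImplicit false
set_option backward.isDefEq.respectTransparency false
universe u
namespace Groth.Agent.Misc9.SpreadLfp
open AlgebraicGeometry CategoryTheory TopologicalSpace

open Groth.Agent.Alg.SpreadIso in
theorem spread_out {S X Y : Scheme.{u}} (sX : X ⟶ S) (sY : Y ⟶ S) [LocallyOfFinitePresentation sY]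
    (x : X) (φ : Spec (X.presheaf.stalk x) ⟶ Y) (h : φ ≫ sY = X.fromSpecStalk x ≫ sX) :
    ∃ (U : X.Opens) (hxU : x ∈ U) (f : U.toScheme ⟶ Y),
      φ = U.fromSpecStalkOfMem x hxU ≫ f ∧ f ≫ sY = U.ι ≫ sX := by
  obtain ⟨_, ⟨W, hW, rfl⟩, hxW, -⟩ :=
    S.isBasis_affineOpens.exists_subset_of_mem_open (Set.mem_univ (sX x)) isOpen_univ
  set y := φ (IsLocalRing.closedPoint (X.presheaf.stalk x))
  have hy : sY y = sX x := by
    rw [← Scheme.Hom.comp_apply, h, Scheme.Hom.comp_apply, Scheme.fromSpecStalk_closedPoint]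
  obtain ⟨_, ⟨U, hU, rfl⟩, hxU, eU⟩ :=
    X.isBasis_affineOpens.exists_subset_of_mem_open (show x ∈ sX ⁻¹ᵁ W from hxW) (sX ⁻¹ᵁ W).isOpen
  obtain ⟨_, ⟨V, hV, rfl⟩, hyV, eV⟩ :=
    Y.isBasis_affineOpens.exists_subset_of_mem_open (show y ∈ sY ⁻¹ᵁ W from (hy.symm ▸ hxW : sY y ∈ W))
      (sY ⁻¹ᵁ W).isOpen
  letI := (sX.appLE W U eU).hom.toAlgebra
  letI := (sY.appLE W V eV).hom.toAlgebra
  haveI : Algebra.FinitePresentation Γ(S, W) Γ(Y, V) :=
    LocallyOfFinitePresentation.finitePresentation_appLE sY hW hV eV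
  letI := TopCat.Presheaf.algebra_section_stalk X.presheaf (⟨x, hxU⟩ : U)
  haveI := hU.isLocalization_stalk ⟨x, hxU⟩
  set q := (hU.primeIdealOf ⟨x, hxU⟩).asIdeal
  let aX := IsLocalization.algEquiv q.primeCompl (Localization.AtPrime q) (X.presheaf.stalk x)
  let θ : Γ(Y, V) ⟶ X.presheaf.stalk x := Y.presheaf.germ V y hyV ≫ Scheme.stalkClosedPointTo φ
  have hθ : Spec.map θ ≫ hV.fromSpec = φ := by
    rw [Spec.map_comp, Category.assoc, ← IsAffineOpen.fromSpecStalk,
      IsAffineOpen.fromSpecStalk_eq_fromSpecStalk]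
    exact Scheme.Spec_stalkClosedPointTo_fromSpecStalk φ
  have hgU : Spec.map (X.presheaf.germ U x hxU) ≫ hU.fromSpec = X.fromSpecStalk x := by
    rw [← IsAffineOpen.fromSpecStalk, IsAffineOpen.fromSpecStalk_eq_fromSpecStalk]
  have hcomm : sY.appLE W V eV ≫ θ = sX.appLE W U eU ≫ X.presheaf.germ U x hxU := by
    apply Spec.map_injective
    rw [← cancel_mono hW.fromSpec, Spec.map_comp (sY.appLE W V eV) θ, Spec.map_comp (sX.appLE W U eU),
      Category.assoc, Category.assoc,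
      IsAffineOpen.SpecMap_appLE_fromSpec sY hW hV eV, IsAffineOpen.SpecMap_appLE_fromSpec sX hW hU eU,
      reassoc_of% hθ, reassoc_of% hgU, h]
  let φ' : Γ(Y, V) →ₐ[Γ(S, W)] Localization.AtPrime q :=
    { aX.symm.toRingEquiv.toRingHom.comp θ.hom with
      commutes' := fun r => by
        have h1 : θ.hom (algebraMap Γ(S, W) Γ(Y, V) r) =
            algebraMap Γ(X, U) (X.presheaf.stalk x) (algebraMap Γ(S, W) Γ(X, U) r) := congr($hcomm r)
        change aX.symm (θ.hom (algebraMap Γ(S, W) Γ(Y, V) r)) = _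
        rw [h1, AlgEquiv.commutes, ← IsScalarTower.algebraMap_apply] }
  obtain ⟨g, hg, ψ, hψ⟩ := exists_lift (R := Γ(S, W)) (S := Γ(X, U)) (T := Γ(Y, V)) q φ'
  haveI := hU.isLocalization_basicOpen g
  let bX := IsLocalization.algEquiv (Submonoid.powers g) (Localization.Away g) Γ(X, X.basicOpen g)
  have hxg : x ∈ X.basicOpen g := (X.mem_basicOpen g x hxU).mpr
    ((IsLocalization.AtPrime.isUnit_to_map_iff (X.presheaf.stalk x) q g).mpr hg)
  let χ : Γ(Y, V) ⟶ Γ(X, X.basicOpen g) := CommRingCat.ofHom (bX.toRingEquiv.toRingHom.comp ψ.toRingHom)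
  have hχ : sY.appLE W V eV ≫ χ = sX.appLE W (X.basicOpen g) ((X.basicOpen_le g).trans eU) := by
    ext r
    rw [← Scheme.Hom.appLE_map sX eU (homOfLE (X.basicOpen_le g)).op]
    change bX (ψ (algebraMap Γ(S, W) Γ(Y, V) r)) =
      algebraMap Γ(X, U) Γ(X, X.basicOpen g) (algebraMap Γ(S, W) Γ(X, U) r)
    rw [AlgHom.commutes, IsScalarTower.algebraMap_apply Γ(S, W) Γ(X, U) (Localization.Away g), AlgEquiv.commutes]
  have hχθ : χ ≫ X.presheaf.germ (X.basicOpen g) x hxg = θ := by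
    ext b
    have key : ((X.presheaf.germ (X.basicOpen g) x hxg).hom.comp bX.toRingEquiv.toRingHom) =
        aX.toRingEquiv.toRingHom.comp (toQ (R := Γ(S, W)) q hg).toRingHom := by
      refine IsLocalization.ringHom_ext (Submonoid.powers g) (RingHom.ext fun a => ?_)
      change X.presheaf.germ _ x hxg (bX (algebraMap Γ(X, U) _ a)) = aX (toQ q hg (algebraMap Γ(X, U) _ a))
      rw [AlgEquiv.commutes, toQ_alg, AlgEquiv.commutes]
      exact X.presheaf.germ_res_apply (homOfLE (X.basicOpen_le g)) x hxg a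
    have h1 := RingHom.congr_fun key (ψ b)
    refine h1.trans ?_
    change aX (toQ q hg (ψ b)) = θ b
    rw [show toQ q hg (ψ b) = φ' b from AlgHom.congr_fun hψ b]
    exact aX.apply_symm_apply _
  refine ⟨X.basicOpen g, hxg, (X.basicOpen g).toSpecΓ ≫ Spec.map χ ≫ hV.fromSpec, ?_, ?_⟩
  · rw [(X.basicOpen g).fromSpecStalkOfMem_toSpecΓ_assoc x hxg, ← Spec.map_comp_assoc, hχθ, hθ]
  · simp only [Category.assoc]
    rw [← IsAffineOpen.SpecMap_appLE_fromSpec sY hW hV eV, ← Spec.map_comp_assoc, hχ,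
      ← (hU.basicOpen g).isoSpec_hom, IsAffineOpen.SpecMap_appLE_fromSpec sX hW (hU.basicOpen g),
      ← Iso.eq_inv_comp, IsAffineOpen.isoSpec_inv_ι_assoc]

theorem exists_rationalMap (S X Y : Scheme.{u}) [X.Over S] [Y.Over S] [IrreducibleSpace X]
    [LocallyOfFinitePresentation (Y ↘ S)]
    (φ : Spec (X.presheaf.stalk (genericPoint X)) ⟶ Y)
    (hφ : φ ≫ (Y ↘ S) = X.fromSpecStalk (genericPoint X) ≫ (X ↘ S)) :
    ∃ f : X ⤏ Y, f.IsOver S ∧ f.fromFunctionField = φ := by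
  obtain ⟨U, hxU, f, hf, hfS⟩ := spread_out (X ↘ S) (Y ↘ S) (genericPoint X) φ hφ
  let F : X.PartialMap Y := ⟨U, U.isOpen.dense ⟨_, hxU⟩, f⟩
  refine ⟨F.toRationalMap, Scheme.RationalMap.isOver_iff.mpr ?_, ?_⟩
  · rw [← Scheme.RationalMap.compHom_toRationalMap, Scheme.Hom.toRationalMap, Scheme.PartialMap.toRationalMap_eq_iff]
    refine ⟨U, U.isOpen.dense ⟨_, hxU⟩, le_rfl, le_top, ?_⟩
    simp only [Scheme.PartialMap.restrict_hom, Scheme.PartialMap.compHom_hom]
    simp [F, hfS, Scheme.Hom.toPartialMap]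
  · rw [Scheme.RationalMap.fromFunctionField_toRationalMap]
    exact hf.symm

end Groth.Agent.Misc9.SpreadLfp
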