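import Groth.Agent.Misc9.SubtrLC

/-! Finite chains lift along universally subtrusive morphisms. -/

set_option autoImplicit false
set_option backward.isDefEq.respectTransparency false
universe u
namespace Groth.Agent.Misc9.SubtrChain
open CategoryTheory CategoryTheory.Limits AlgebraicGeometry IsLocalRing

theorem exists_valuationSubring_chain {Y : Scheme.{u}} : ∀ (n : ℕ) (y : Fin (n + 1) → Y) (_ : ∀ i : Fin n, y i.castSucc ⤳ y i.succ),
    ∃ (K : Type u) (_ : Field K) (A : ValuationSubring K) (g : Spec (CommRingCat.of A) ⟶ Y) (p : Fin (n + 1) → Spec (CommRingCat.of A)),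
      g (closedPoint A) = y (Fin.last n) ∧ p (Fin.last n) = closedPoint A ∧ (∀ i, g (p i) = y i) ∧ (∀ i : Fin n, p i.castSucc ⤳ p i.succ)
  | 0, y, _ => by
    obtain ⟨A, g, hg, -⟩ := ValLift.exists_valuationSubring (y 0) (y 0) (specializes_refl _)
    exact ⟨_, inferInstance, A, g, fun _ => closedPoint A, hg, rfl, fun i => by rw [hg]; exact congrArg y (Fin.ext (by omega)), fun i => i.elim0⟩
  | n + 1, y, h => by
    obtain ⟨K, instK, A, gA, p, hgt, hp, hpy, hps⟩ := exists_valuationSubring_chain n (fun i => y i.castSucc) (fun i => h i.castSucc)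
    have h' : gA (closedPoint A) ⤳ y (Fin.last (n + 1)) := by
      rw [hgt, ← Fin.succ_last]
      exact h (Fin.last n)
    let b₀ : Y.presheaf.stalk (y (Fin.last (n + 1))) ⟶ CommRingCat.of A :=
      Y.presheaf.stalkSpecializes h' ≫ Scheme.stalkClosedPointTo gA
    let a : Y.presheaf.stalk (y (Fin.last (n + 1))) →+* ResidueField A := (IsLocalRing.residue A).comp b₀.hom
    obtain ⟨B, hB, hBloc⟩ := exists_factor_valuationRing a
    let c₀ : Y.presheaf.stalk (y (Fin.last (n + 1))) →+* ValRefine.composite A B :=
      (A.subtype.comp b₀.hom).codRestrict (ValRefine.composite A B).toSubring fun t => ValRefine.mem_composite.2 ⟨(b₀.hom t).2, hB t⟩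
    let c : Y.presheaf.stalk (y (Fin.last (n + 1))) ⟶ CommRingCat.of (ValRefine.composite A B) := CommRingCat.ofHom c₀
    haveI : IsLocalHom c.hom := by
      constructor
      intro t ht
      haveI := hBloc
      have := ht.map (ValRefine.compRes A B)
      exact IsUnit.of_map (a.codRestrict B.toSubring hB) t this
    have hc : c ≫ CommRingCat.ofHom (ValRefine.compIncl A B) = b₀ := by
      ext t
      rfl
    let g := Spec.map c ≫ Y.fromSpecStalk (y (Fin.last (n + 1)))
    let incl := Spec.map (CommRingCat.ofHom (ValRefine.compIncl A B))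
    have hg : incl ≫ g = gA := by
      rw [← Spec.map_comp_assoc, hc, Spec.map_comp, Category.assoc, Scheme.SpecMap_stalkSpecializes_fromSpecStalk,
        Scheme.Spec_stalkClosedPointTo_fromSpecStalk]
    let p' : Fin (n + 2) → Spec (CommRingCat.of (ValRefine.composite A B)) :=
      Fin.lastCases (closedPoint (ValRefine.composite A B)) (fun i => incl (p i))
    refine ⟨K, instK, ValRefine.composite A B, g, p', ValRefine.map_closed c, by simp [p'], fun i => ?_, fun i => ?_⟩
    · induction i using Fin.lastCases with
      | last => simp only [p', Fin.lastCases_last]; exact ValRefine.map_closed c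
      | cast i =>
        simp only [p', Fin.lastCases_castSucc]
        rw [← Scheme.Hom.comp_apply, hg]
        exact hpy i
    · induction i using Fin.lastCases with
      | last =>
        rw [Fin.succ_last]
        simp only [p', Fin.lastCases_castSucc, Fin.lastCases_last]
        exact specializes_closedPoint _
      | cast i =>
        rw [Fin.succ_castSucc]
        simp only [p', Fin.lastCases_castSucc]
        exact (hps i).map incl.continuous

theorem chain_lift {X Y : Scheme.{u}} (f : X ⟶ Y) (hf : Subtr.UnivSSubtrusive f) (n : ℕ) (y : Fin (n + 1) → Y)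
    (hy : ∀ i j : Fin (n + 1), i ≤ j → y i ⤳ y j) :
    ∃ x : Fin (n + 1) → X, (∀ i j : Fin (n + 1), i ≤ j → x i ⤳ x j) ∧ ∀ i, f (x i) = y i := by
  classical
  obtain ⟨K, _, A, g, p, -, -, hpy, hps⟩ := exists_valuationSubring_chain n y (fun i => hy _ _ i.castSucc_lt_succ.le)
  obtain ⟨V', _, _, _, a, b, hb, hab⟩ := (SubtrVal2.univ_iff_lift f).1 hf A g
  haveI : IsDomain (CommRingCat.of V') := ‹IsDomain V'›
  haveI : ValuationRing (CommRingCat.of V') := ‹ValuationRing V'›
  have step : ∀ (k : ℕ) (hk : k < n + 1) (q : Spec (CommRingCat.of V')), b q = p ⟨k, hk⟩ →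
      ∃ q' : Fin (k + 1) → Spec (CommRingCat.of V'), (∀ i : Fin (k + 1), b (q' i) = p ⟨i.1, by omega⟩) ∧
        (∀ i j : Fin (k + 1), i ≤ j → q' i ⤳ q' j) ∧ q' (Fin.last k) = q := by
    intro k
    induction k with
    | zero => exact fun hk q hq => ⟨fun _ => q, fun i => by rw [hq]; congr 1; ext; simp, fun _ _ _ => specializes_rfl, rfl⟩
    | succ k ih =>
      intro hk q hq
      have hs : p ⟨k, by omega⟩ ⤳ b q := by
        rw [hq]
        exact hps ⟨k, by omega⟩
      obtain ⟨q₀, hq₀, hbq₀⟩ := SubtrLC.lift_le b hb.surj hs
      obtain ⟨q', h1, h2, h3⟩ := ih (by omega) q₀ hbq₀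
      refine ⟨Fin.lastCases q q', fun i => ?_, fun i j hij => ?_, by simp⟩
      · induction i using Fin.lastCases with
        | last => simpa using hq
        | cast i => simpa using h1 i
      · induction j using Fin.lastCases with
        | last =>
          induction i using Fin.lastCases with
          | last => exact specializes_rfl
          | cast i =>
            simp only [Fin.lastCases_last, Fin.lastCases_castSucc]
            exact (h2 i (Fin.last k) (Fin.le_last i)).trans (by rw [h3]; exact hq₀)
        | cast j =>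
          induction i using Fin.lastCases with
          | last => exact absurd hij (not_le.2 (Fin.castSucc_lt_last j))
          | cast i =>
            simp only [Fin.lastCases_castSucc]
            exact h2 i j (Fin.castSucc_le_castSucc_iff.1 hij)
  obtain ⟨q, hq⟩ := hb.surj (p (Fin.last n))
  obtain ⟨q', h1, h2, -⟩ := step n (by omega) q hq
  refine ⟨fun i => a (q' i), fun i j hij => (h2 i j hij).map a.continuous, fun i => ?_⟩
  rw [← Scheme.Hom.comp_apply, hab, Scheme.Hom.comp_apply, h1]
  exact hpy i

end Groth.Agent.Misc9.SubtrChain
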