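import Groth.Agent.Misc9.SubtrVal
import Mathlib.RingTheory.DiscreteValuationRing.Basic
import Mathlib.AlgebraicGeometry.Properties

/-! Statements on S-subtrusive morphisms over valuation rings. -/

set_option autoImplicit false
set_option backward.isDefEq.respectTransparency false
universe w u
namespace Groth.Agent.Misc9.SubtrVal2
open CategoryTheory CategoryTheory.Limits AlgebraicGeometry IsLocalRing
open Groth.Agent.Misc9 Groth.Agent.Misc9.SubtrVal

theorem univ_iff_valuation {X Y : Scheme.{u}} (f : X ⟶ Y) :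
    Subtr.UnivSSubtrusive f ↔
      ∀ (V : Type u) [CommRing V] [IsDomain V] [ValuationRing V] (g : Spec (CommRingCat.of V) ⟶ Y),
        Subtr.IsSSubtrusive (pullback.snd f g) := by
  refine ⟨fun h V _ _ _ g => h _ _ _ (IsPullback.of_hasPullback f g).flip, fun h X' T a g f' hpb => ?_⟩
  intro y y' hyy
  obtain ⟨A, gA, hgt, hgs⟩ := ValLift.exists_valuationSubring y' y hyy
  obtain ⟨x, x', hxx, hx, hx'⟩ := h A (gA ≫ g)
    ((PrimeSpectrum.le_iff_specializes (⟨⊥, Ideal.isPrime_bot⟩ : PrimeSpectrum A) (closedPoint A)).1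
      (show (⊥ : Ideal A) ≤ _ from bot_le))
  let L : pullback f (gA ≫ g) ⟶ X' := hpb.lift (pullback.snd f (gA ≫ g) ≫ gA) (pullback.fst f (gA ≫ g))
    (by rw [pullback.condition, Category.assoc])
  have hL : L ≫ f' = pullback.snd f (gA ≫ g) ≫ gA := hpb.lift_fst _ _ _
  have hgen : gA ⟨⊥, Ideal.isPrime_bot⟩ = y' := by
    have e : Spec.map (CommRingCat.ofHom A.subtype) (closedPoint (T.residueField y')) = ⟨⊥, Ideal.isPrime_bot⟩ := by
      apply PrimeSpectrum.ext
      change Ideal.comap A.subtype (maximalIdeal (T.residueField y')) = ⊥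
      rw [maximalIdeal_eq_bot (R := T.residueField y')]
      exact Ideal.comap_bot_of_injective _ Subtype.val_injective
    rw [← e, ← Scheme.Hom.comp_apply, hgs]
    exact Scheme.fromSpecResidueField_apply y' _
  refine ⟨L x, L x', hxx.map L.continuous, ?_, ?_⟩
  · rw [← Scheme.Hom.comp_apply, hL, Scheme.Hom.comp_apply, hx, hgt]
  · rw [← Scheme.Hom.comp_apply, hL, Scheme.Hom.comp_apply, hx', hgen]

theorem univ_iff_lift {X Y : Scheme.{u}} (f : X ⟶ Y) :
    Subtr.UnivSSubtrusive f ↔
      ∀ (V : Type u) [CommRing V] [IsDomain V] [ValuationRing V] (g : Spec (CommRingCat.of V) ⟶ Y),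
        ∃ (V' : Type u) (_ : CommRing V') (_ : IsDomain V') (_ : ValuationRing V')
          (a : Spec (CommRingCat.of V') ⟶ X) (b : Spec (CommRingCat.of V') ⟶ Spec (CommRingCat.of V)),
          Surjective b ∧ a ≫ f = b ≫ g := by
  rw [univ_iff_valuation]
  constructor
  · intro h V _ _ _ g
    obtain ⟨x, x', hxx, hx, hx'⟩ := h V g (bot_specializes (V := CommRingCat.of V) (closedPoint V))
    obtain ⟨W, h1, h2, φ, hφ, g', hg', -⟩ := ValLift.exists_extVal (CommRingCat.of V) (pullback.snd f g) x' x hxx hx (by rw [hx'])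
    refine ⟨W, inferInstance, h1, h2, g' ≫ pullback.fst f g, Spec.map φ, surjective_of_isExtVal _ _ φ hφ, ?_⟩
    rw [Category.assoc, pullback.condition, reassoc_of% hg']
  · intro h V _ _ _ g
    obtain ⟨V', _, _, _, a, b, hb, e⟩ := h V g
    haveI : IsDomain (CommRingCat.of V') := ‹IsDomain V'›
    haveI : ValuationRing (CommRingCat.of V') := ‹ValuationRing V'›
    have hs : Surjective (pullback.lift a b e ≫ pullback.snd f g) := by rw [pullback.lift_snd]; exact hb
    obtain ⟨q, p, hqp, hp, hq⟩ := pair_of_valuation (V := CommRingCat.of V) (pullback.snd f g) (pullback.lift a b e) hs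
    exact univ_of_pair (V := CommRingCat.of V) (pullback.snd f g) q p hqp hp hq _ _ _ (IsPullback.of_id_snd (f := pullback.snd f g)) 

theorem tfae (V : Type u) [CommRing V] [IsDomain V] [ValuationRing V]
    {X : Scheme.{u}} (f : X ⟶ Spec (CommRingCat.of V)) :
    List.TFAE [
      Subtr.UnivSSubtrusive f,
      Subtr.IsSSubtrusive f,
      ∀ y : Spec (CommRingCat.of V), ∃ x : X,
        x ∈ closure (f ⁻¹' {(⟨⊥, Ideal.isPrime_bot⟩ : PrimeSpectrum V)}) ∧ f x = y,
      ∃ x x' : X, x' ⤳ x ∧ f x = IsLocalRing.closedPoint V ∧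
        f x' = (⟨⊥, Ideal.isPrime_bot⟩ : PrimeSpectrum V),
      ∃ (W : Type u) (_ : CommRing W) (_ : IsDomain W) (_ : ValuationRing W)
        (g : Spec (CommRingCat.of W) ⟶ X), Surjective (g ≫ f),
      ∃ (Z : Scheme.{u}) (i : Z ⟶ X), IsClosedImmersion i ∧ Flat (i ≫ f) ∧ Surjective (i ≫ f)] := by
  tfae_have 1 → 2 := fun h => h _ _ _ (IsPullback.of_id_snd (f := f))
  tfae_have 2 → 3 := fun h y => by
    obtain ⟨x, x', hxx, hx, hx'⟩ := h (bot_specializes (V := CommRingCat.of V) y)
    exact ⟨x, hxx.mem_closed isClosed_closure (subset_closure hx'), hx⟩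
  tfae_have 3 → 4 := fun h => by
    obtain ⟨x, hx, he⟩ := h (closedPoint V)
    obtain ⟨q, hq, hq'⟩ := exists_generic_of_mem_closure (V := CommRingCat.of V) f x hx
    exact ⟨x, q, hq, he, PrimeSpectrum.ext hq'⟩
  tfae_have 4 → 5 := fun ⟨p, q, hqp, hp, hq⟩ => by
    obtain ⟨W, h1, h2, φ, hφ, g, hg, -⟩ := ValLift.exists_extVal (CommRingCat.of V) f q p hqp hp (by rw [hq])
    exact ⟨W, inferInstance, h1, h2, g, by rw [hg]; exact surjective_of_isExtVal _ _ φ hφ⟩
  tfae_have 5 → 6 := fun ⟨W, _, _, _, g, hg⟩ => by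
    haveI : IsDomain (CommRingCat.of W) := ‹IsDomain W›
    haveI : ValuationRing (CommRingCat.of W) := ‹ValuationRing W›
    obtain ⟨q, p, hqp, hp, hq⟩ := pair_of_valuation (V := CommRingCat.of V) f g hg
    exact exists_flat_closed (V := CommRingCat.of V) f q p hqp hp hq
  tfae_have 6 → 1 := fun ⟨Z, i, hi, hfl, hs⟩ => by
    obtain ⟨p, hp⟩ := hs.surj (closedPoint V)
    obtain ⟨q, hq1, hq2⟩ := ValLift.lift_flat (CommRingCat.of V) (i ≫ f) p hp
    exact univ_of_pair (V := CommRingCat.of V) f (i q) (i p) (hq1.map i.continuous)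
      (by rw [← Scheme.Hom.comp_apply]; exact hp) (by rw [← Scheme.Hom.comp_apply]; exact hq2)
  tfae_finish

theorem dvr_iff (V : Type u) [CommRing V] [IsDomain V]
    [IsDiscreteValuationRing V] {X : Scheme.{u}} (f : X ⟶ Spec (CommRingCat.of V)) :
    Topology.IsQuotientMap f ↔ Subtr.IsSSubtrusive f := by
  let η : Spec (CommRingCat.of V) := ⟨⊥, Ideal.isPrime_bot⟩
  have two : ∀ z : Spec (CommRingCat.of V), z = η ∨ z = closedPoint V := fun z => by
    by_cases h : z.asIdeal = ⊥
    · exact Or.inl (PrimeSpectrum.ext h)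
    · exact Or.inr (PrimeSpectrum.ext (IsLocalRing.eq_maximalIdeal (IsPrime.to_maximal_ideal h)))
  constructor
  · intro hq
    refine ((tfae V f).out 3 1 :).mp ?_
    by_contra hc
    have hcl : IsClosed (f ⁻¹' {η}) := by
      refine isClosed_of_closure_subset fun x hx => ?_
      obtain ⟨q, hq1, hq2⟩ := exists_generic_of_mem_closure (V := CommRingCat.of V) f x hx
      rcases two (f x) with h | h
      · exact h
      · exact absurd ⟨x, q, hq1, h, PrimeSpectrum.ext hq2⟩ hc
    have h2 : closedPoint V ∈ ({η} : Set (Spec (CommRingCat.of V))) :=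
      (bot_specializes (V := CommRingCat.of V) (closedPoint V)).mem_closed (hq.isClosed_preimage.1 hcl) rfl
    exact IsDiscreteValuationRing.not_a_field V (congrArg PrimeSpectrum.asIdeal h2)
  · intro h
    have hsurj : Function.Surjective f := fun y => by
      obtain ⟨x, -, -, hx, -⟩ := h (specializes_refl y)
      exact ⟨x, hx⟩
    refine Topology.isQuotientMap_iff_isClosed.2 ⟨hsurj, fun S => ⟨fun hS => hS.preimage f.continuous, fun hS => ?_⟩⟩
    by_cases hη : η ∈ S
    · have : S = Set.univ := by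
        refine Set.eq_univ_of_forall fun y => ?_
        obtain ⟨x, x', hxx, hx, hx'⟩ := h (bot_specializes (V := CommRingCat.of V) y)
        have h1 : x' ∈ f ⁻¹' S := by show f x' ∈ S; rw [hx']; exact hη
        have := hxx.mem_closed hS h1
        rw [← hx]; exact this
      rw [this]; exact isClosed_univ
    · have : S ⊆ {closedPoint V} := fun y hy => (two y).resolve_left fun h => hη (h ▸ hy)
      rcases Set.subset_singleton_iff_eq.1 this with e | e
      · rw [e]; exact isClosed_empty
      · rw [e]; exact isClosed_singleton_closedPoint V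

theorem closure_preimage {X Y : Scheme.{u}} (f : X ⟶ Y)
    (hf : Subtr.IsSSubtrusive f) (U : Set Y) (hU : ∀ y : Y, (∀ y' : Y, y' ⤳ y → y' = y) → y ∈ U) :
    f '' closure (f ⁻¹' U) = Set.univ := by
  refine Set.eq_univ_of_forall fun y => ?_
  have hirr : IsIrreducible (irreducibleComponent y) := isIrreducible_irreducibleComponent
  obtain ⟨η, hη⟩ := QuasiSober.sober hirr isClosed_irreducibleComponent
  have hηy : η ⤳ y := hη.specializes mem_irreducibleComponent
  have hmax : ∀ y' : Y, y' ⤳ η → y' = η := fun y' hy' => by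
    have h1 : irreducibleComponent y ⊆ closure {y'} := by
      rw [← hη.def]
      exact closure_minimal (Set.singleton_subset_iff.2 (specializes_iff_mem_closure.1 hy')) isClosed_closure
    have h2 := eq_irreducibleComponent (x := y) isIrreducible_singleton.closure.isPreirreducible h1
    exact (hy'.antisymm (hη.specializes (h2 ▸ subset_closure rfl))).eq
  obtain ⟨x, x', hxx, hx, hx'⟩ := hf hηy
  exact ⟨x, hxx.mem_closed isClosed_closure (subset_closure (by show f x' ∈ U; rw [hx']; exact hU η hmax)), hx⟩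

end Groth.Agent.Misc9.SubtrVal2
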