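import Groth.Agent.Misc9.VSubmersive

/-! Universe change for singletons; universally submersive via valuation rings. -/

set_option autoImplicit false
set_option backward.isDefEq.respectTransparency false
universe w w' u
namespace Groth.Agent.Misc9.VSubmersive2
open CategoryTheory CategoryTheory.Limits AlgebraicGeometry IsLocalRing
open Groth.Agent.Misc9

theorem hasValLift_univ {X Y : Scheme.{u}} (f : X ⟶ Y) :
    HTop.HasValLift (PreZeroHypercover.singleton.{w} f) ↔ HTop.HasValLift (PreZeroHypercover.singleton.{w'} f) :=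
  ⟨fun h V _ _ g => by obtain ⟨W, a, b, φ, hφ, j, g', hg'⟩ := h V g; exact ⟨W, a, b, φ, hφ, PUnit.unit, g', hg'⟩,
    fun h V _ _ g => by obtain ⟨W, a, b, φ, hφ, j, g', hg'⟩ := h V g; exact ⟨W, a, b, φ, hφ, PUnit.unit, g', hg'⟩⟩

theorem isClosed_image {X Y : Scheme.{u}} (f : X ⟶ Y) [QuasiCompact f] (Z : Set X) (hZ : IsClosed Z)
    (hst : StableUnderSpecialization (f '' Z)) : IsClosed (f '' Z) := by
  refine ⟨isOpen_iff_forall_mem_open.2 fun y hy => ?_⟩
  obtain ⟨U, hU, hyU, -⟩ := exists_isAffineOpen_mem_and_subset (U := (⊤ : Y.Opens)) (x := y) trivial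
  haveI : CompactSpace (f ⁻¹ᵁ U).toScheme := isCompact_iff_compactSpace.mp (f.isCompact_preimage hU.isCompact)
  obtain ⟨R, g, hg⟩ := compactSpace_iff_exists.mp (inferInstance : CompactSpace (f ⁻¹ᵁ U).toScheme)
  have he : hU.fromSpec ⁻¹' (f '' Z) = (g ≫ (f ∣_ U) ≫ hU.isoSpec.hom) '' ((g ≫ (f ⁻¹ᵁ U).ι) ⁻¹' Z) := by
    ext p
    constructor
    · rintro ⟨x, hx, hxp⟩
      have hxU : f x ∈ U := by
        rw [hxp]
        have : hU.fromSpec p ∈ Set.range hU.fromSpec := ⟨p, rfl⟩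
        rwa [hU.range_fromSpec] at this
      obtain ⟨r, hr⟩ := hg ⟨x, hxU⟩
      refine ⟨r, ?_, ?_⟩
      · show ((g ≫ (f ⁻¹ᵁ U).ι) r) ∈ Z
        rw [Scheme.Hom.comp_apply, hr]
        exact hx
      · apply hU.fromSpec.isOpenEmbedding.injective
        rw [← Scheme.Hom.comp_apply, ← hxp]
        simp only [Category.assoc, IsAffineOpen.isoSpec_hom, IsAffineOpen.toSpecΓ_fromSpec, morphismRestrict_ι,
          Scheme.Hom.comp_apply, hr]
        rfl
    · rintro ⟨r, hr, rfl⟩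
      refine ⟨(g ≫ (f ⁻¹ᵁ U).ι) r, hr, ?_⟩
      rw [← Scheme.Hom.comp_apply, ← Scheme.Hom.comp_apply]
      simp [IsAffineOpen.isoSpec_hom, IsAffineOpen.toSpecΓ_fromSpec, morphismRestrict_ι]
  have hst' : StableUnderSpecialization (hU.fromSpec ⁻¹' (f '' Z)) := hst.preimage hU.fromSpec.continuous
  obtain ⟨φ, hφ⟩ := Spec.homEquiv.symm.surjective (g ≫ (f ∣_ U) ≫ hU.isoSpec.hom)
  rw [he, ← hφ] at hst'
  have hc : IsClosed (hU.fromSpec ⁻¹' (f '' Z)) := by
    rw [he, ← hφ]
    exact PrimeSpectrum.isClosed_image_of_stableUnderSpecialization φ.hom _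
      (hZ.preimage (g ≫ (f ⁻¹ᵁ U).ι).continuous) hst'
  refine ⟨hU.fromSpec '' (hU.fromSpec ⁻¹' (f '' Z))ᶜ, ?_, hU.fromSpec.isOpenEmbedding.isOpenMap _ hc.isOpen_compl, ?_⟩
  · rintro _ ⟨p, hp, rfl⟩
    exact hp
  · obtain ⟨p, rfl⟩ : y ∈ Set.range hU.fromSpec := by rw [hU.range_fromSpec]; exact hyU
    exact ⟨p, hy, rfl⟩

theorem univSubmersive_iff {X Y : Scheme.{u}} (f : X ⟶ Y) [QuasiCompact f] :
    SGA1.UnivSubmersive f ↔
      ∀ (V : Type u) [CommRing V] [IsDomain V] [ValuationRing V] (g : Spec (CommRingCat.of V) ⟶ Y),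
        Topology.IsQuotientMap (pullback.snd f g) := by
  refine ⟨fun h V _ _ _ g => h _ _ _ (IsPullback.of_hasPullback f g).flip, fun h X' T a g f' hpb => ?_⟩
  haveI : QuasiCompact f' := MorphismProperty.of_isPullback hpb.flip ‹QuasiCompact f›
  have key : ∀ (S : Set T), IsClosed (f' ⁻¹' S) → ∀ {s t : T}, s ⤳ t →
      (∃ x, f' x = s) ∧ (s ∈ S → t ∈ S) := by
    intro S hS s t hst
    obtain ⟨A, gA, hgt, hgs⟩ := ValLift.exists_valuationSubring s t hst
    have hq := h A (gA ≫ g)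
    let L : pullback f (gA ≫ g) ⟶ X' := hpb.lift (pullback.snd f (gA ≫ g) ≫ gA) (pullback.fst f (gA ≫ g))
      (by rw [pullback.condition, Category.assoc])
    have hL : L ≫ f' = pullback.snd f (gA ≫ g) ≫ gA := hpb.lift_fst _ _ _
    have hgen : gA ⟨⊥, Ideal.isPrime_bot⟩ = s := by
      have e : Spec.map (CommRingCat.ofHom A.subtype) (closedPoint (T.residueField s)) = ⟨⊥, Ideal.isPrime_bot⟩ := by
        apply PrimeSpectrum.ext
        change Ideal.comap A.subtype (maximalIdeal (T.residueField s)) = ⊥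
        rw [maximalIdeal_eq_bot (R := T.residueField s)]
        exact Ideal.comap_bot_of_injective _ Subtype.val_injective
      rw [← e, ← Scheme.Hom.comp_apply, hgs]
      exact Scheme.fromSpecResidueField_apply s _
    refine ⟨?_, fun hs => ?_⟩
    · obtain ⟨x, hx⟩ := hq.surjective ⟨⊥, Ideal.isPrime_bot⟩
      exact ⟨L x, by rw [← Scheme.Hom.comp_apply, hL, Scheme.Hom.comp_apply, hx, hgen]⟩
    · have hc : IsClosed (gA ⁻¹' S) := by
        rw [← hq.isClosed_preimage]
        have e : pullback.snd f (gA ≫ g) ⁻¹' (gA ⁻¹' S) = L ⁻¹' (f' ⁻¹' S) := by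
          ext x
          show gA (pullback.snd f (gA ≫ g) x) ∈ S ↔ f' (L x) ∈ S
          rw [← Scheme.Hom.comp_apply, ← hL]
          rfl
        rw [e]
        exact hS.preimage L.continuous
      have h1 : (⟨⊥, Ideal.isPrime_bot⟩ : Spec (CommRingCat.of A)) ∈ gA ⁻¹' S := by
        show gA _ ∈ S
        rw [hgen]
        exact hs
      have h2 : closedPoint A ∈ gA ⁻¹' S :=
        ((PrimeSpectrum.le_iff_specializes _ (closedPoint A)).1 (show (⊥ : Ideal A) ≤ _ from bot_le)).mem_closed hc h1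
      rw [← hgt]
      exact h2
  have hsurj : Function.Surjective f' := fun t => (key Set.univ isClosed_univ (specializes_refl t)).1
  refine Topology.isQuotientMap_iff_isClosed.2 ⟨hsurj, fun S => ⟨fun hS => hS.preimage f'.continuous, fun hS => ?_⟩⟩
  rw [← Set.image_preimage_eq S hsurj]
  refine isClosed_image f' _ hS ?_
  rw [Set.image_preimage_eq S hsurj]
  exact fun s t hst hs => (key S hS hst).2 hs

end Groth.Agent.Misc9.VSubmersive2
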