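import Mathlib.AlgebraicGeometry.ValuativeCriterion
import Mathlib.AlgebraicGeometry.Morphisms.QuasiCompact
import Mathlib.AlgebraicGeometry.Morphisms.Proper
import Mathlib.AlgebraicGeometry.Properties
import Mathlib.AlgebraicGeometry.ResidueField
import Mathlib.RingTheory.Valuation.LocalSubring
import Mathlib.RingTheory.Ideal.MinimalPrime.Localization

/-! Refined valuative criteria: test only at points of a dense quasi-compact source. -/

set_option autoImplicit false
set_option backward.isDefEq.respectTransparency false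
universe u
namespace Groth.Agent.Misc9.ValRefine
open CategoryTheory CategoryTheory.Limits AlgebraicGeometry IsLocalRing

section rings
variable {F : Type u} [Field F]

/-- composite of a valuation ring with a valuation ring of its residue field -/
noncomputable def composite (B : ValuationSubring F) (R₂ : ValuationSubring (ResidueField B)) : ValuationSubring F where
  toSubring := (R₂.toSubring.comap (IsLocalRing.residue B)).map B.subtype
  mem_or_inv_mem' x := by
    wlog hx : x ∈ B generalizing x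
    · rcases this x⁻¹ ((B.mem_or_inv_mem x).resolve_left hx) with h | h
      · exact Or.inr h
      · exact Or.inl (by rwa [inv_inv] at h)
    by_cases hu : IsUnit (⟨x, hx⟩ : B)
    · rcases R₂.mem_or_inv_mem (IsLocalRing.residue B ⟨x, hx⟩) with h | h
      · exact Or.inl (Subring.mem_map.2 ⟨⟨x, hx⟩, h, rfl⟩)
      · refine Or.inr (Subring.mem_map.2 ⟨(hu.unit⁻¹ : Bˣ), ?_, ?_⟩)
        · show IsLocalRing.residue B _ ∈ R₂
          rw [show IsLocalRing.residue B ((hu.unit⁻¹ : Bˣ) : B) = (IsLocalRing.residue B ⟨x, hx⟩)⁻¹ by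
            rw [map_units_inv]
            rfl]
          exact h
        · refine (eq_inv_of_mul_eq_one_left ?_)
          exact congrArg (fun b : B => (b : F)) hu.val_inv_mul
    · refine Or.inl (Subring.mem_map.2 ⟨⟨x, hx⟩, ?_, rfl⟩)
      show IsLocalRing.residue B _ ∈ R₂
      rw [(IsLocalRing.residue_eq_zero_iff _).2 ((mem_maximalIdeal _).2 hu)]
      exact R₂.zero_mem

theorem mem_composite {B : ValuationSubring F} {R₂ : ValuationSubring (ResidueField B)} {x : F} :
    x ∈ composite B R₂ ↔ ∃ hx : x ∈ B, IsLocalRing.residue B ⟨x, hx⟩ ∈ R₂ := by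
  constructor
  · rintro ⟨b, hb, rfl⟩
    exact ⟨b.2, hb⟩
  · rintro ⟨hx, h⟩
    exact ⟨⟨x, hx⟩, h, rfl⟩

noncomputable def compIncl (B : ValuationSubring F) (R₂ : ValuationSubring (ResidueField B)) : composite B R₂ →+* B :=
  (composite B R₂).subtype.codRestrict B.toSubring fun x => (mem_composite.1 x.2).1

noncomputable def compRes (B : ValuationSubring F) (R₂ : ValuationSubring (ResidueField B)) : composite B R₂ →+* R₂ :=
  ((IsLocalRing.residue B).comp (compIncl B R₂)).codRestrict R₂.toSubring fun x => (mem_composite.1 x.2).2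

end rings

theorem eq_of_closed {X : Scheme.{u}} {A : CommRingCat.{u}} [IsLocalRing A] {B : CommRingCat.{u}} (j : A ⟶ B) [Mono j]
    (u v : Spec A ⟶ X) (hc : u (closedPoint A) = v (closedPoint A)) (hg : Spec.map j ≫ u = Spec.map j ≫ v) : u = v := by
  obtain ⟨U, hU, hxU, -⟩ := exists_isAffineOpen_mem_and_subset (U := (⊤ : X.Opens)) (x := u (closedPoint A)) trivial
  have hr : ∀ ζ : Spec A ⟶ X, ζ (closedPoint A) ∈ U → Set.range ζ ⊆ Set.range hU.fromSpec := by
    rintro ζ h _ ⟨p, rfl⟩
    rw [hU.range_fromSpec]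
    exact ((specializes_closedPoint p).map ζ.continuous).mem_open U.2 h
  obtain ⟨a, rfl⟩ : ∃ a, a ≫ hU.fromSpec = u := ⟨_, IsOpenImmersion.lift_fac _ u (hr u hxU)⟩
  obtain ⟨b, rfl⟩ : ∃ b, b ≫ hU.fromSpec = v := ⟨_, IsOpenImmersion.lift_fac _ v (hr v (hc ▸ hxU))⟩
  congr 1
  obtain ⟨α, rfl⟩ := Spec.map_surjective a
  obtain ⟨β, rfl⟩ := Spec.map_surjective b
  congr 1
  rw [← Category.assoc, ← Category.assoc, cancel_mono, ← Spec.map_comp, ← Spec.map_comp] at hg
  exact (cancel_mono j).1 (Spec.map_injective hg)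

theorem mono_ofHom {R S : Type u} [CommRing R] [CommRing S] (f : R →+* S) (hf : Function.Injective f) :
    Mono (CommRingCat.ofHom f) := ConcreteCategory.mono_of_injective _ hf

theorem compat {X : Scheme.{u}} {x₁ x₀ : X} (h : x₁ ⤳ x₀) {B : CommRingCat.{u}} (c₁ : X.presheaf.stalk x₁ ⟶ B)
    (b : X.presheaf.stalk x₀ ⟶ B) (he : Spec.map c₁ ≫ X.fromSpecStalk x₁ = Spec.map b ≫ X.fromSpecStalk x₀) :
    b = X.presheaf.stalkSpecializes h ≫ c₁ := by
  apply Spec.map_injective
  rw [← cancel_mono (X.fromSpecStalk x₀), ← he, Spec.map_comp, Category.assoc, Scheme.SpecMap_stalkSpecializes_fromSpecStalk]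

theorem map_closed {X : Scheme.{u}} {x : X} {A : CommRingCat.{u}} [IsLocalRing A] (b : X.presheaf.stalk x ⟶ A)
    [IsLocalHom b.hom] : (Spec.map b ≫ X.fromSpecStalk x) (closedPoint A) = x := by
  rw [Scheme.Hom.comp_apply]
  have e : Spec.map b (closedPoint A) = closedPoint (X.presheaf.stalk x) := comap_closedPoint (S := A) b.hom
  rw [e]
  exact X.fromSpecStalk_closedPoint

theorem exists_dense_specializes {U Y : Scheme.{u}} (h : U ⟶ Y) [QuasiCompact h] (hd : DenseRange h.base) (y : Y) :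
    ∃ z : U, h z ⤳ y := by
  obtain ⟨V, hV, hyV, -⟩ := exists_isAffineOpen_mem_and_subset (U := (⊤ : Y.Opens)) (x := y) trivial
  haveI : CompactSpace (h ⁻¹ᵁ V).toScheme := isCompact_iff_compactSpace.mp (h.isCompact_preimage hV.isCompact)
  obtain ⟨R, g, hg⟩ := compactSpace_iff_exists.mp (inferInstance : CompactSpace (h ⁻¹ᵁ V).toScheme)
  obtain ⟨ψ, hψ⟩ := Spec.homEquiv.symm.surjective (g ≫ (h ∣_ V) ≫ hV.isoSpec.hom)
  obtain ⟨p, rfl⟩ : y ∈ Set.range hV.fromSpec := by rw [hV.range_fromSpec]; exact hyV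
  have e : hV.fromSpec ⁻¹' Set.range h ⊆ Set.range (g ≫ (h ∣_ V) ≫ hV.isoSpec.hom) := by
    rintro q ⟨x, hx⟩
    have hxU : h x ∈ V := by
      rw [hx]
      have : hV.fromSpec q ∈ Set.range hV.fromSpec := ⟨q, rfl⟩
      rwa [hV.range_fromSpec] at this
    obtain ⟨r, hr⟩ := hg ⟨x, hxU⟩
    refine ⟨r, ?_⟩
    apply hV.fromSpec.isOpenEmbedding.injective
    rw [← Scheme.Hom.comp_apply, ← hx]
    simp only [Category.assoc, IsAffineOpen.isoSpec_hom, IsAffineOpen.toSpecΓ_fromSpec, morphismRestrict_ι,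
      Scheme.Hom.comp_apply, hr]
    rfl
  have hdense : Dense (Set.range (g ≫ (h ∣_ V) ≫ hV.isoSpec.hom)) :=
    Dense.mono e (Dense.preimage hd hV.fromSpec.isOpenEmbedding.isOpenMap)
  rw [← hψ] at hdense
  have hker : RingHom.ker ψ.hom ≤ nilradical _ := (PrimeSpectrum.denseRange_comap_iff_ker_le_nilRadical _).1 hdense
  obtain ⟨q₀, hq₀, hle⟩ := Ideal.exists_minimalPrimes_le (I := RingHom.ker ψ.hom) (J := p.asIdeal)
    (hker.trans (nilradical_le_prime p.asIdeal))
  obtain ⟨r, hr, -, he⟩ := Ideal.exists_comap_eq_of_mem_minimalPrimes ψ.hom (I := ⊥) q₀ hq₀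
  refine ⟨(g ≫ (h ⁻¹ᵁ V).ι) ⟨r, hr⟩, ?_⟩
  have e' : h ((g ≫ (h ⁻¹ᵁ V).ι) ⟨r, hr⟩) = hV.fromSpec (Spec.map ψ ⟨r, hr⟩) := by
    rw [← Scheme.Hom.comp_apply, ← Scheme.Hom.comp_apply,
      show Spec.map ψ = g ≫ (h ∣_ V) ≫ hV.isoSpec.hom from hψ]
    simp [IsAffineOpen.isoSpec_hom, IsAffineOpen.toSpecΓ_fromSpec, morphismRestrict_ι]
  rw [e']
  refine ((PrimeSpectrum.le_iff_specializes _ _).1 ?_).map hV.fromSpec.continuous
  show (Spec.map ψ ⟨r, hr⟩).asIdeal ≤ p.asIdeal
  change Ideal.comap ψ.hom r ≤ _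
  rw [he]
  exact hle

variable {U X Y : Scheme.{u}} (h : U ⟶ Y) (f : Y ⟶ X)

/-- uniqueness of lifts at the points of `U` -/
def UniqAt : Prop :=
  ∀ (z : U) (C : ValuationSubring (U.residueField z)) (φ₁ φ₂ : Spec (CommRingCat.of C) ⟶ Y),
    Spec.map (CommRingCat.ofHom C.subtype) ≫ φ₁ = U.fromSpecResidueField z ≫ h →
    Spec.map (CommRingCat.ofHom C.subtype) ≫ φ₂ = U.fromSpecResidueField z ≫ h → φ₁ ≫ f = φ₂ ≫ f → φ₁ = φ₂

/-- existence of lifts at the points of `U` -/
def ExistAt : Prop :=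
  ∀ (z : U) (C : ValuationSubring (U.residueField z)) (φ : Spec (CommRingCat.of C) ⟶ X),
    Spec.map (CommRingCat.ofHom C.subtype) ≫ φ = U.fromSpecResidueField z ≫ h ≫ f →
    ∃ l : Spec (CommRingCat.of C) ⟶ Y, Spec.map (CommRingCat.ofHom C.subtype) ≫ l = U.fromSpecResidueField z ≫ h ∧ l ≫ f = φ

/-- the data attached to a valuative square and a dense qc `h` -/
theorem setup [QuasiCompact h] (hd : DenseRange h.base) (S : ValuativeCommSq f) :
    ∃ (z : U) (C : ValuationSubring (U.residueField z)) (φ : Spec (CommRingCat.of C) ⟶ X),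
      Spec.map (CommRingCat.ofHom C.subtype) ≫ φ = U.fromSpecResidueField z ≫ h ≫ f ∧
      φ (closedPoint C) = S.i₂ (closedPoint S.R) ∧
      (∀ l : Spec (CommRingCat.of S.R) ⟶ Y, Spec.map (CommRingCat.ofHom (algebraMap S.R S.K)) ≫ l = S.i₁ →
        l ≫ f = S.i₂ → ∃ lC : Spec (CommRingCat.of C) ⟶ Y,
          Spec.map (CommRingCat.ofHom C.subtype) ≫ lC = U.fromSpecResidueField z ≫ h ∧
          lC (closedPoint C) = l (closedPoint S.R) ∧ lC ≫ f = φ) ∧
      (UniqAt h f → ∀ lC : Spec (CommRingCat.of C) ⟶ Y,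
        Spec.map (CommRingCat.ofHom C.subtype) ≫ lC = U.fromSpecResidueField z ≫ h → lC ≫ f = φ →
        S.commSq.HasLift) := by
  let y := S.i₁ (closedPoint S.K)
  let x₀ := S.i₂ (closedPoint S.R)
  let gK : Y.presheaf.stalk y ⟶ CommRingCat.of S.K := Scheme.stalkClosedPointTo S.i₁
  let b : X.presheaf.stalk x₀ ⟶ CommRingCat.of S.R := Scheme.stalkClosedPointTo S.i₂
  let j : CommRingCat.of S.R ⟶ CommRingCat.of S.K := CommRingCat.ofHom (algebraMap S.R S.K)
  haveI : Mono j := mono_ofHom _ (IsFractionRing.injective S.R S.K)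
  have hgK : Spec.map gK ≫ Y.fromSpecStalk y = S.i₁ := Scheme.Spec_stalkClosedPointTo_fromSpecStalk _
  have hb : Spec.map b ≫ X.fromSpecStalk x₀ = S.i₂ := Scheme.Spec_stalkClosedPointTo_fromSpecStalk _
  have hfy : f y ⤳ x₀ := by
    have e : f y = S.i₂ (Spec.map j (closedPoint S.K)) := by
      rw [← Scheme.Hom.comp_apply, ← Scheme.Hom.comp_apply, S.commSq.w]
    rw [e]
    exact (specializes_closedPoint (R := S.R) _).map S.i₂.continuous
  have hbj : b ≫ j = X.presheaf.stalkSpecializes hfy ≫ f.stalkMap y ≫ gK := by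
    apply compat hfy
    rw [Spec.map_comp, Category.assoc, Scheme.SpecMap_stalkMap_fromSpecStalk, reassoc_of% hgK, S.commSq.w,
      Spec.map_comp, Category.assoc, hb]
  haveI : IsLocalHom gK.hom := inferInstanceAs (IsLocalHom (Scheme.stalkClosedPointTo S.i₁).hom)
  haveI : IsLocalHom b.hom := inferInstanceAs (IsLocalHom (Scheme.stalkClosedPointTo S.i₂).hom)
  let g : Y.residueField y ⟶ CommRingCat.of S.K := Scheme.descResidueField gK
  let RK : ValuationSubring S.K :=
    { toSubring := (algebraMap S.R S.K).range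
      mem_or_inv_mem' := fun x => ValuationRing.isInteger_or_isInteger S.R x }
  let R' : ValuationSubring (Y.residueField y) := RK.comap g.hom
  obtain ⟨z, hz⟩ := exists_dense_specializes h hd y
  let a₁ : Y.presheaf.stalk y ⟶ U.residueField z := Y.presheaf.stalkSpecializes hz ≫ h.stalkMap z ≫ U.residue z
  obtain ⟨B, hB, hBloc⟩ := IsLocalRing.exists_factor_valuationRing a₁.hom
  let bB : Y.presheaf.stalk y →+* B := a₁.hom.codRestrict B.toSubring hB
  haveI : IsLocalHom bB := hBloc
  haveI : IsLocalHom ((IsLocalRing.residue B).comp bB) := RingHom.isLocalHom_comp _ _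
  let res : Y.residueField y →+* ResidueField B := IsLocalRing.ResidueField.lift ((IsLocalRing.residue B).comp bB)
  obtain ⟨R₂, hR₂, hR₂loc⟩ := IsLocalRing.exists_factor_valuationRing (res.comp R'.subtype)
  haveI := hR₂loc
  have hdom : ∀ x : Y.residueField y, res x ∈ R₂ → g.hom x ∈ RK := by
    intro x hx
    by_contra hnot
    have hx' : x⁻¹ ∈ R' := (R'.mem_or_inv_mem x).resolve_left hnot
    have hx0 : x ≠ 0 := fun h0 => hnot (by rw [h0, map_zero]; exact RK.zero_mem)
    have hnu : ¬ IsUnit (⟨x⁻¹, hx'⟩ : R') := fun hu => by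
      obtain ⟨w, hw⟩ := hu.exists_right_inv
      have : (w : Y.residueField y) = x := by
        have := congrArg (fun t : R' => (t : Y.residueField y)) hw
        simpa [inv_mul_eq_one₀ hx0] using (show x⁻¹ * (w : Y.residueField y) = 1 from this) |> fun e =>
          ((inv_mul_eq_one₀ hx0).1 e).symm
      exact hnot (this ▸ w.2)
    apply hnu
    apply isUnit_of_map_unit ((res.comp R'.subtype).codRestrict R₂.toSubring hR₂)
    refine IsUnit.of_mul_eq_one (⟨res x, hx⟩ : R₂) (Subtype.ext ?_)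
    show res x⁻¹ * res x = 1
    rw [← map_mul, inv_mul_cancel₀ hx0, map_one]
  let C := composite B R₂
  -- maps into `C` from stalks below `y`
  have mkC : ∀ (p : Y) (hp : y ⤳ p) (d : Y.presheaf.stalk p ⟶ CommRingCat.of S.R) [IsLocalHom d.hom],
      d ≫ j = Y.presheaf.stalkSpecializes hp ≫ gK → ∃ lC : Spec (CommRingCat.of C) ⟶ Y,
        Spec.map (CommRingCat.ofHom C.subtype) ≫ lC = U.fromSpecResidueField z ≫ h ∧ lC (closedPoint C) = p := by
    intro p hp d _ hd'
    have hg : ∀ c, g.hom (Y.residue y (Y.presheaf.stalkSpecializes hp c)) = algebraMap S.R S.K (d c) := fun c =>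
      (congrArg (fun t => (CommRingCat.Hom.hom t) c) hd').symm
    have hR' : ∀ c, Y.residue y (Y.presheaf.stalkSpecializes hp c) ∈ R' := fun c => ⟨d c, (hg c).symm⟩
    have hmem : ∀ c, (Y.presheaf.stalkSpecializes hp ≫ a₁).hom c ∈ C := fun c =>
      mem_composite.2 ⟨hB _, hR₂ ⟨_, hR' c⟩⟩
    let e : Y.presheaf.stalk p ⟶ CommRingCat.of C := CommRingCat.ofHom ((Y.presheaf.stalkSpecializes hp ≫ a₁).hom.codRestrict C.toSubring hmem)
    haveI : IsLocalHom e.hom := ⟨fun c hc => by
      have h1 : IsUnit (compRes B R₂ (e c)) := hc.map (compRes B R₂)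
      have h2 : IsUnit (⟨_, hR' c⟩ : R') := isUnit_of_map_unit ((res.comp R'.subtype).codRestrict R₂.toSubring hR₂) _ h1
      apply isUnit_of_map_unit d.hom
      obtain ⟨⟨w, hw⟩, hw'⟩ := h2.exists_right_inv
      obtain ⟨w', hw''⟩ := hw
      refine IsUnit.of_mul_eq_one w' (IsFractionRing.injective S.R S.K ?_)
      rw [map_mul, map_one, ← hg c, hw'', ← map_mul]
      exact (congrArg g.hom (congrArg (fun t : R' => (t : Y.residueField y)) hw')).trans (map_one _)⟩
    refine ⟨Spec.map e ≫ Y.fromSpecStalk p, ?_, map_closed e⟩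
    rw [← Spec.map_comp_assoc, show e ≫ CommRingCat.ofHom C.subtype = Y.presheaf.stalkSpecializes hp ≫ a₁ from rfl]
    simp only [a₁, Spec.map_comp, Category.assoc, Scheme.SpecMap_stalkSpecializes_fromSpecStalk,
      Scheme.SpecMap_stalkMap_fromSpecStalk, Scheme.fromSpecResidueField]
  -- the map to `X`
  have hgX : ∀ c, g.hom (Y.residue y (f.stalkMap y (X.presheaf.stalkSpecializes hfy c))) = algebraMap S.R S.K (b c) := fun c =>
    (congrArg (fun t => (CommRingCat.Hom.hom t) c) hbj).symm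
  have hR'X : ∀ c, Y.residue y (f.stalkMap y (X.presheaf.stalkSpecializes hfy c)) ∈ R' := fun c => ⟨b c, (hgX c).symm⟩
  have hmemX : ∀ c, (X.presheaf.stalkSpecializes hfy ≫ f.stalkMap y ≫ a₁).hom c ∈ C := fun c =>
    mem_composite.2 ⟨hB _, hR₂ ⟨_, hR'X c⟩⟩
  let eX : X.presheaf.stalk x₀ ⟶ CommRingCat.of C := CommRingCat.ofHom ((X.presheaf.stalkSpecializes hfy ≫ f.stalkMap y ≫ a₁).hom.codRestrict C.toSubring hmemX)
  haveI : IsLocalHom eX.hom := ⟨fun c hc => by
    have h1 : IsUnit (compRes B R₂ (eX c)) := hc.map (compRes B R₂)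
    have h2 : IsUnit (⟨_, hR'X c⟩ : R') := isUnit_of_map_unit ((res.comp R'.subtype).codRestrict R₂.toSubring hR₂) _ h1
    apply isUnit_of_map_unit b.hom
    obtain ⟨⟨w, hw⟩, hw'⟩ := h2.exists_right_inv
    obtain ⟨w', hw''⟩ := hw
    refine IsUnit.of_mul_eq_one w' (IsFractionRing.injective S.R S.K ?_)
    rw [map_mul, map_one, ← hgX c, hw'', ← map_mul]
    exact (congrArg g.hom (congrArg (fun t : R' => (t : Y.residueField y)) hw')).trans (map_one _)⟩
  haveI : Mono (CommRingCat.ofHom C.subtype) := mono_ofHom _ Subtype.val_injective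
  have hφ : Spec.map (CommRingCat.ofHom C.subtype) ≫ Spec.map eX ≫ X.fromSpecStalk x₀ = U.fromSpecResidueField z ≫ h ≫ f := by
    rw [← Spec.map_comp_assoc, show eX ≫ CommRingCat.ofHom C.subtype = X.presheaf.stalkSpecializes hfy ≫ f.stalkMap y ≫ a₁ from rfl]
    simp only [a₁, Spec.map_comp, Category.assoc, Scheme.SpecMap_stalkSpecializes_fromSpecStalk,
      Scheme.SpecMap_stalkMap_fromSpecStalk, Scheme.SpecMap_stalkMap_fromSpecStalk_assoc,
      Scheme.SpecMap_stalkSpecializes_fromSpecStalk_assoc, Scheme.fromSpecResidueField]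
  refine ⟨z, C, Spec.map eX ≫ X.fromSpecStalk x₀, hφ, map_closed eX, ?_, ?_⟩
  · intro l hl1 hl2
    let p := l (closedPoint S.R)
    let d : Y.presheaf.stalk p ⟶ CommRingCat.of S.R := Scheme.stalkClosedPointTo l
    haveI : IsLocalHom d.hom := inferInstanceAs (IsLocalHom (Scheme.stalkClosedPointTo l).hom)
    have hp : y ⤳ p := by
      have e : y = l (Spec.map j (closedPoint S.K)) := by rw [← Scheme.Hom.comp_apply, hl1]
      rw [e]
      exact (specializes_closedPoint (R := S.R) _).map l.continuous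
    obtain ⟨lC, hC1, hC2⟩ := mkC p hp d (compat hp _ _ (by
      rw [hgK, Spec.map_comp, Category.assoc, Scheme.Spec_stalkClosedPointTo_fromSpecStalk]
      exact hl1.symm))
    refine ⟨lC, hC1, hC2, eq_of_closed (CommRingCat.ofHom C.subtype) _ _ ?_ ?_⟩
    · rw [Scheme.Hom.comp_apply, hC2, map_closed eX, ← Scheme.Hom.comp_apply, hl2]
    · rw [reassoc_of% hC1, hφ]
  · intro huniq lC hC1 hC2
    haveI : Mono (CommRingCat.ofHom B.subtype) := mono_ofHom _ Subtype.val_injective
    let bBc : Y.presheaf.stalk y ⟶ CommRingCat.of B := CommRingCat.ofHom bB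
    let inc : CommRingCat.of C ⟶ CommRingCat.of B := CommRingCat.ofHom (compIncl B R₂)
    have hinc : inc ≫ CommRingCat.ofHom B.subtype = CommRingCat.ofHom C.subtype := rfl
    haveI : IsLocalHom bBc.hom := hBloc
    have hB1 : Spec.map (CommRingCat.ofHom B.subtype) ≫ Spec.map bBc ≫ Y.fromSpecStalk y = U.fromSpecResidueField z ≫ h := by
      rw [← Spec.map_comp_assoc, show bBc ≫ CommRingCat.ofHom B.subtype = a₁ from rfl]
      simp only [a₁, Spec.map_comp, Category.assoc, Scheme.SpecMap_stalkSpecializes_fromSpecStalk,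
        Scheme.SpecMap_stalkMap_fromSpecStalk, Scheme.fromSpecResidueField]
    have hBl : Spec.map inc ≫ lC = Spec.map bBc ≫ Y.fromSpecStalk y := by
      refine huniq z B _ _ ?_ hB1 ?_
      · rw [← Spec.map_comp_assoc, hinc, hC1]
      · rw [Category.assoc, hC2, Category.assoc, ← Scheme.SpecMap_stalkMap_fromSpecStalk, ← Spec.map_comp_assoc,
          ← Spec.map_comp_assoc, show eX ≫ inc = X.presheaf.stalkSpecializes hfy ≫ f.stalkMap y ≫ bBc from
            (cancel_mono (CommRingCat.ofHom B.subtype)).1 rfl, Spec.map_comp, Category.assoc,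
          Scheme.SpecMap_stalkSpecializes_fromSpecStalk]
    let p := lC (closedPoint C)
    let dC : Y.presheaf.stalk p ⟶ CommRingCat.of C := Scheme.stalkClosedPointTo lC
    have hdC : Spec.map dC ≫ Y.fromSpecStalk p = lC := Scheme.Spec_stalkClosedPointTo_fromSpecStalk _
    have hp : y ⤳ p := by
      have e : lC (Spec.map inc (closedPoint B)) = y := by
        rw [← Scheme.Hom.comp_apply, hBl]
        exact map_closed bBc
      rw [← e]
      exact (specializes_closedPoint (R := C) _).map lC.continuous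
    have hdB : dC ≫ inc = Y.presheaf.stalkSpecializes hp ≫ bBc := compat hp _ _ (by
      rw [Spec.map_comp, Category.assoc, hdC, hBl])
    have hR : ∀ c, (Y.presheaf.stalkSpecializes hp ≫ gK).hom c ∈ RK := fun c => by
      refine hdom (Y.residue y (Y.presheaf.stalkSpecializes hp c)) ?_
      have h2 := (compRes B R₂ (dC c)).2
      have h3 : compIncl B R₂ (dC c) = bB (Y.presheaf.stalkSpecializes hp c) :=
        congrArg (fun t => (CommRingCat.Hom.hom t) c) hdB
      change IsLocalRing.residue B (compIncl B R₂ (dC c)) ∈ R₂ at h2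
      rw [h3] at h2
      exact h2
    choose d hd' using hR
    let dR : Y.presheaf.stalk p ⟶ CommRingCat.of S.R := CommRingCat.ofHom
      { toFun := d
        map_one' := IsFractionRing.injective S.R S.K (by rw [hd', map_one, map_one])
        map_mul' := fun a c => IsFractionRing.injective S.R S.K (by rw [map_mul, hd', hd', hd', map_mul])
        map_zero' := IsFractionRing.injective S.R S.K (by rw [hd', map_zero, map_zero])
        map_add' := fun a c => IsFractionRing.injective S.R S.K (by rw [map_add, hd', hd', hd', map_add]) }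
    have hdR : dR ≫ j = Y.presheaf.stalkSpecializes hp ≫ gK := by ext c; exact hd' c
    have hl1 : Spec.map j ≫ Spec.map dR ≫ Y.fromSpecStalk p = S.i₁ := by
      rw [← Spec.map_comp_assoc, hdR, Spec.map_comp, Category.assoc, Scheme.SpecMap_stalkSpecializes_fromSpecStalk, hgK]
    have hfp : f p = x₀ := by
      rw [← Scheme.Hom.comp_apply, hC2, map_closed eX]
    haveI : IsLocalHom dR.hom := ⟨fun c hc => by
      by_contra hnu
      have hc0 : c ∈ maximalIdeal (Y.presheaf.stalk p) := hnu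
      haveI : IsLocalHom dC.hom := inferInstanceAs (IsLocalHom (Scheme.stalkClosedPointTo lC).hom)
      have h1 : ¬ IsUnit (dC c) := fun hu => hnu (isUnit_of_map_unit dC.hom c hu)
      have h3 : compIncl B R₂ (dC c) = bB (Y.presheaf.stalkSpecializes hp c) :=
        congrArg (fun t => (CommRingCat.Hom.hom t) c) hdB
      have hgc : g.hom (Y.residue y (Y.presheaf.stalkSpecializes hp c)) = algebraMap S.R S.K (d c) := (hd' c).symm
      obtain ⟨v, hv⟩ := hc.exists_right_inv
      have hR'c : Y.residue y (Y.presheaf.stalkSpecializes hp c) ∈ R' := ⟨d c, hgc.symm⟩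
      have hne : g.hom (Y.residue y (Y.presheaf.stalkSpecializes hp c)) ≠ 0 := by
        rw [hgc]
        exact (map_ne_zero_iff _ (IsFractionRing.injective S.R S.K)).2 hc.ne_zero
      have hne' : Y.residue y (Y.presheaf.stalkSpecializes hp c) ≠ 0 := fun h0 => hne (by rw [h0, map_zero])
      have hinv : (Y.residue y (Y.presheaf.stalkSpecializes hp c))⁻¹ ∈ R' := by
        refine ⟨v, ?_⟩
        show algebraMap S.R S.K v = g.hom _
        rw [map_inv₀, hgc]
        refine (eq_inv_of_mul_eq_one_right ?_)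
        rw [← map_mul]
        exact (congrArg _ hv).trans (map_one _)
      have hu2 : IsUnit (compRes B R₂ (dC c)) := by
        have hu' : IsUnit (⟨_, hR'c⟩ : R') := IsUnit.of_mul_eq_one ⟨_, hinv⟩ (Subtype.ext (mul_inv_cancel₀ hne'))
        have := hu'.map ((res.comp R'.subtype).codRestrict R₂.toSubring hR₂)
        refine (congrArg IsUnit (Subtype.ext ?_ : (compRes B R₂ (dC c)) = _)).mpr this
        exact congrArg (IsLocalRing.residue B) h3
      apply h1
      obtain ⟨⟨w, hw⟩, hw'⟩ := hu2.exists_right_inv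
      obtain ⟨w₀, rfl⟩ := IsLocalRing.residue_surjective w
      have hw₀ : (w₀ : U.residueField z) ∈ C := mem_composite.2 ⟨w₀.2, hw⟩
      have hBu : IsUnit (compIncl B R₂ (dC c) * w₀) := by
        apply (residue_ne_zero_iff_isUnit _).1
        rw [map_mul]
        exact (congrArg (fun t : R₂ => (t : ResidueField B)) hw').trans_ne one_ne_zero
      obtain ⟨ε, hε⟩ := hBu.exists_right_inv
      have hεC : (ε : U.residueField z) ∈ C := mem_composite.2 ⟨ε.2, by
        have e1 := congrArg (IsLocalRing.residue B) hε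
        rw [map_mul, map_mul, map_one] at e1
        have e2 : IsLocalRing.residue B (compIncl B R₂ (dC c)) * IsLocalRing.residue B w₀ = 1 :=
          congrArg (fun t : R₂ => (t : ResidueField B)) hw'
        rw [e2, one_mul] at e1
        rw [show (⟨(ε : U.residueField z), ε.2⟩ : B) = ε from rfl, e1]
        exact R₂.one_mem⟩
      refine IsUnit.of_mul_eq_one (⟨(w₀ : U.residueField z), hw₀⟩ * ⟨(ε : U.residueField z), hεC⟩) (Subtype.ext ?_)
      have e3 := congrArg (fun t : B => (t : U.residueField z)) hε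
      exact (mul_assoc _ _ _).symm.trans e3⟩
    refine CommSq.HasLift.mk' ⟨Spec.map dR ≫ Y.fromSpecStalk p, hl1, eq_of_closed j _ _ ?_ ?_⟩
    · rw [Scheme.Hom.comp_apply, map_closed dR, hfp]
    · rw [← Category.assoc, hl1]
      exact S.commSq.w

theorem existence [QuasiCompact h] (hd : DenseRange h.base) (he : ExistAt h f) (hu : UniqAt h f) :
    ValuativeCriterion.Existence f := by
  intro S
  obtain ⟨z, C, φ, hφ, -, -, hlift⟩ := setup h f hd S
  obtain ⟨l, hl1, hl2⟩ := he z C φ hφ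
  exact hlift hu l hl1 hl2

theorem uniqueness [QuasiCompact h] (hd : DenseRange h.base) (hu : UniqAt h f) :
    ValuativeCriterion.Uniqueness f := by
  intro S
  obtain ⟨z, C, φ, -, -, hmk, -⟩ := setup h f hd S
  refine ⟨fun ⟨l₁, a₁, b₁⟩ ⟨l₂, a₂, b₂⟩ => ?_⟩
  obtain ⟨c₁, c₁g, c₁c, c₁f⟩ := hmk l₁ a₁ b₁
  obtain ⟨c₂, c₂g, c₂c, c₂f⟩ := hmk l₂ a₂ b₂
  have e : c₁ = c₂ := hu z C c₁ c₂ c₁g c₂g (c₁f.trans c₂f.symm)
  haveI : Mono (CommRingCat.ofHom (algebraMap S.R S.K)) := mono_ofHom _ (IsFractionRing.injective S.R S.K)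
  exact CommSq.LiftStruct.ext (eq_of_closed (CommRingCat.ofHom (algebraMap S.R S.K)) _ _
    (by rw [← c₁c, ← c₂c, e]) (a₁.trans a₂.symm))

end Groth.Agent.Misc9.ValRefine
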