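import Groth.Agent.Cons.Basic
import Groth.Agent.Misc9.ValRefine
import Groth.Agent.Misc9.SubtrVal2
import Groth.Agent.Misc9.VSubmersive2

/-! Locally closed retrocompact sets and universally subtrusive morphisms. -/

set_option autoImplicit false
set_option backward.isDefEq.respectTransparency false
universe u
namespace Groth.Agent.Misc9.SubtrLC
open CategoryTheory CategoryTheory.Limits AlgebraicGeometry IsLocalRing TopologicalSpace Topology

theorem isProConstructible_of_isLocallyClosed {X : Scheme.{u}} {E : Set X} (hE : IsLocallyClosed E) (hr : IsRetrocompact E) :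
    ProCons.IsProConstructible E := by
  intro x
  obtain ⟨_, ⟨Q : X.Opens, hQ, rfl⟩, hxQ, -⟩ :=
    X.isBasis_affineOpens.exists_subset_of_mem_open (Set.mem_univ x) isOpen_univ
  refine ⟨Q, Q.2, hxQ, ?_⟩
  haveI : IsAffine Q := hQ
  obtain ⟨O, C, hO, hC, hEq⟩ := hE.preimage Q.ι.continuous
  have hK : IsCompact (Q.ι.base ⁻¹' E) := by
    rw [Q.ι.isOpenEmbedding.isInducing.isCompact_iff, Set.image_preimage_eq_inter_range, Scheme.Opens.range_ι]
    exact hr hQ.isCompact Q.2
  have hb := PrespectralSpace.isTopologicalBasis (X := (Q : Scheme.{u}))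
  obtain ⟨T, hTsub, hTfin, hcov⟩ := hK.elim_finite_subcover_image (b := {U : Set (Q : Scheme.{u}) | (IsOpen U ∧ IsCompact U) ∧ U ⊆ O})
    (c := fun U => U) (fun U hU => hU.1.1) (by
      intro z hz
      rw [hEq] at hz
      obtain ⟨U, hU, hzU, hUO⟩ := hb.exists_subset_of_mem_open hz.1 hO
      exact Set.mem_iUnion₂.2 ⟨U, ⟨hU, hUO⟩, hzU⟩)
  let O' : Set (Q : Scheme.{u}) := ⋃ U ∈ T, U
  have hO' : IsConstructible O' := IsConstructible.biUnion hTfin fun U hU => (hTsub hU).1.2.isConstructible (hTsub hU).1.1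
  refine ⟨insert O' {D | ∃ U : Set (Q : Scheme.{u}), IsOpen U ∧ IsCompact U ∧ Disjoint U C ∧ D = Uᶜ}, ?_, ?_⟩
  · rintro D (rfl | ⟨U, hU1, hU2, -, rfl⟩)
    · exact hO'.isLocallyConstructible
    · exact ((hU2.isConstructible hU1).compl).isLocallyConstructible
  · show Q.ι.base ⁻¹' E = _
    refine Set.Subset.antisymm (fun z hz => ?_) fun z hz => ?_
    · rintro D (rfl | ⟨U, -, -, hU, rfl⟩)
      · exact hcov hz
      · rw [hEq] at hz
        exact fun h => (Set.disjoint_left.1 hU h) hz.2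
    · rw [hEq]
      refine ⟨Set.iUnion₂_subset (fun U hU => (hTsub hU).2) (hz O' (Set.mem_insert _ _)), ?_⟩
      by_contra h
      obtain ⟨U, hU, hzU, hUC⟩ := hb.exists_subset_of_mem_open h hC.isOpen_compl
      exact hz Uᶜ (Set.mem_insert_of_mem _ ⟨U, hU.1, hU.2, Set.subset_compl_iff_disjoint_right.1 hUC, rfl⟩) hzU

theorem exists_valuation_chain {Y : Scheme.{u}} {e y y₂ : Y} (h : e ⤳ y) (h' : y ⤳ y₂) :
    ∃ (V : Type u) (_ : CommRing V) (_ : IsDomain V) (_ : ValuationRing V) (g : Spec (CommRingCat.of V) ⟶ Y)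
      (p₀ p₁ : Spec (CommRingCat.of V)), p₀ ⤳ p₁ ∧ g p₀ = e ∧ g p₁ = y ∧ g (closedPoint V) = y₂ := by
  obtain ⟨A, gA, hgt, hgs⟩ := ValLift.exists_valuationSubring e y h
  subst hgt
  let b₀ : Y.presheaf.stalk y₂ ⟶ CommRingCat.of A := Y.presheaf.stalkSpecializes h' ≫ Scheme.stalkClosedPointTo gA
  let a : Y.presheaf.stalk y₂ →+* ResidueField A := (IsLocalRing.residue A).comp b₀.hom
  obtain ⟨B, hB, hBloc⟩ := exists_factor_valuationRing a
  let c₀ : Y.presheaf.stalk y₂ →+* ValRefine.composite A B :=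
    (A.subtype.comp b₀.hom).codRestrict (ValRefine.composite A B).toSubring fun t => ValRefine.mem_composite.2 ⟨(b₀.hom t).2, hB t⟩
  let c : Y.presheaf.stalk y₂ ⟶ CommRingCat.of (ValRefine.composite A B) := CommRingCat.ofHom c₀
  haveI : IsLocalHom c.hom := by
    constructor
    intro t ht
    haveI := hBloc
    have := ht.map (ValRefine.compRes A B)
    exact IsUnit.of_map (a.codRestrict B.toSubring hB) t this
  have hc : c ≫ CommRingCat.ofHom (ValRefine.compIncl A B) = b₀ := by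
    ext t
    rfl
  let g := Spec.map c ≫ Y.fromSpecStalk y₂
  have hg : Spec.map (CommRingCat.ofHom (ValRefine.compIncl A B)) ≫ g = gA := by
    rw [← Spec.map_comp_assoc, hc, Spec.map_comp, Category.assoc, Scheme.SpecMap_stalkSpecializes_fromSpecStalk,
      Scheme.Spec_stalkClosedPointTo_fromSpecStalk]
  refine ⟨ValRefine.composite A B, inferInstance, inferInstance, inferInstance, g,
    Spec.map (CommRingCat.ofHom (ValRefine.compIncl A B)) (⟨⊥, Ideal.isPrime_bot⟩ : Spec (CommRingCat.of A)),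
    Spec.map (CommRingCat.ofHom (ValRefine.compIncl A B)) (closedPoint A), ?_, ?_, ?_, ValRefine.map_closed c⟩
  · exact ((PrimeSpectrum.le_iff_specializes (⟨⊥, Ideal.isPrime_bot⟩ : PrimeSpectrum A) (closedPoint A)).1
      (show (⊥ : Ideal A) ≤ _ from bot_le)).map (Spec.map (CommRingCat.ofHom (ValRefine.compIncl A B))).continuous
  · have e₁ : Spec.map (CommRingCat.ofHom A.subtype) (closedPoint (Y.residueField e)) = ⟨⊥, Ideal.isPrime_bot⟩ := by
      apply PrimeSpectrum.ext
      change Ideal.comap A.subtype (maximalIdeal (Y.residueField e)) = ⊥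
      rw [maximalIdeal_eq_bot (R := Y.residueField e)]
      exact Ideal.comap_bot_of_injective _ Subtype.val_injective
    rw [← Scheme.Hom.comp_apply, hg, ← e₁, ← Scheme.Hom.comp_apply, hgs]
    exact Scheme.fromSpecResidueField_apply e _
  · rw [← Scheme.Hom.comp_apply, hg]

theorem lift_le {A B : CommRingCat.{u}} [IsDomain B] [ValuationRing B] (b : Spec B ⟶ Spec A) {p₀ : Spec A} {q₁ : Spec B}
    (hs : Function.Surjective b) (h : p₀ ⤳ b q₁) : ∃ q₀ : Spec B, q₀ ⤳ q₁ ∧ b q₀ = p₀ := by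
  obtain ⟨q, rfl⟩ := hs p₀
  classical
  rcases le_total q.asIdeal q₁.asIdeal with hle | hle
  · exact ⟨q, (PrimeSpectrum.le_iff_specializes _ _).1 hle, rfl⟩
  · refine ⟨q₁, specializes_rfl, ?_⟩
    exact ((((PrimeSpectrum.le_iff_specializes q₁ q).1 hle).map b.continuous).antisymm h).eq

/-- three-term chains lift along universally subtrusive morphisms. -/
theorem exists_chain_lift {X Y : Scheme.{u}} (f : X ⟶ Y) (hf : Subtr.UnivSSubtrusive f) {e y y₂ : Y} (h : e ⤳ y) (h' : y ⤳ y₂) :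
    ∃ x₀ x₁ x₂ : X, x₀ ⤳ x₁ ∧ x₁ ⤳ x₂ ∧ f x₀ = e ∧ f x₁ = y ∧ f x₂ = y₂ := by
  obtain ⟨V, _, _, _, g, p₀, p₁, hp, rfl, rfl, rfl⟩ := exists_valuation_chain h h'
  obtain ⟨V', _, _, _, a, b, hb, hab⟩ := (SubtrVal2.univ_iff_lift f).1 hf V g
  haveI : IsDomain (CommRingCat.of V') := ‹IsDomain V'›
  haveI : ValuationRing (CommRingCat.of V') := ‹ValuationRing V'›
  obtain ⟨q₂, hq₂⟩ := hb.surj (closedPoint V)
  have hp₁ : p₁ ⤳ b q₂ := by rw [hq₂]; exact specializes_closedPoint _
  obtain ⟨q₁, h₁, rfl⟩ := lift_le b hb.surj hp₁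
  obtain ⟨q₀, h₀, rfl⟩ := lift_le b hb.surj hp
  refine ⟨a q₀, a q₁, a q₂, h₀.map a.continuous, h₁.map a.continuous, ?_, ?_, ?_⟩
  · rw [← Scheme.Hom.comp_apply, hab, Scheme.Hom.comp_apply]
  · rw [← Scheme.Hom.comp_apply, hab, Scheme.Hom.comp_apply]
  · rw [← Scheme.Hom.comp_apply, hab, Scheme.Hom.comp_apply, hq₂]

theorem iff_preimage {X Y : Scheme.{u}} (f : X ⟶ Y) [QuasiCompact f] (hf : Subtr.UnivSSubtrusive f) (E : Set Y) :
    (IsLocallyClosed E ∧ IsRetrocompact E) ↔ (IsLocallyClosed (f ⁻¹' E) ∧ IsRetrocompact (f ⁻¹' E)) := by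
  constructor
  · rintro ⟨h1, h2⟩
    refine ⟨h1.preimage f.continuous, fun U hUc hUo => ?_⟩
    let U' : X.Opens := ⟨U, hUo⟩
    haveI : CompactSpace U' := isCompact_iff_compactSpace.mp hUc
    obtain ⟨X', g, hX', hg⟩ := Cons.Basic.exists_range_eq
      (Cons.Basic.isProConstructible_preimage (U'.ι ≫ f) (isProConstructible_of_isLocallyClosed h1 h2))
    haveI := hX'
    have : IsCompact ((U'.ι ≫ f).base ⁻¹' E) := by
      rw [← hg]
      exact isCompact_range g.continuous
    have := this.image U'.ι.continuous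
    rwa [Scheme.Hom.comp_base, TopCat.coe_comp, Set.preimage_comp, Set.image_preimage_eq_inter_range, Scheme.Opens.range_ι] at this
  · rintro ⟨h1, h2⟩
    have hs : Subtr.IsSSubtrusive f := hf (𝟙 _) (𝟙 _) f IsPullback.of_id_snd
    have hsurj : Function.Surjective f := fun y => by
      obtain ⟨x, x', -, hx, -⟩ := hs (specializes_refl y)
      exact ⟨x, hx⟩
    have hpro := isProConstructible_of_isLocallyClosed h1 h2
    have hproE : ProCons.IsProConstructible E := by
      have := Cons.Basic.isProConstructible_image f hpro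
      rwa [Set.image_preimage_eq E hsurj] at this
    refine ⟨isLocallyClosed_iff_isOpen_coborder.2 ?_, fun U hUc hUo => ?_⟩
    · have hcl : IsClosed (closure (f ⁻¹' E) \ f ⁻¹' E) := by
        have := isLocallyClosed_iff_isOpen_coborder.1 h1
        rw [coborder] at this
        exact isOpen_compl_iff.1 this
      have he : f '' (closure (f ⁻¹' E) \ f ⁻¹' E) = closure E \ E := by
        refine Set.Subset.antisymm ?_ ?_
        · rintro _ ⟨x, ⟨hx, hx'⟩, rfl⟩
          exact ⟨closure_mono (Set.image_preimage_subset f E) (image_closure_subset_closure_image f.continuous ⟨x, hx, rfl⟩), hx'⟩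
        · rintro s ⟨hs1, hs2⟩
          obtain ⟨z, hz, hzs⟩ := Cons.Basic.exists_specializes_of_mem_closure hproE hs1
          obtain ⟨x, x', hxx, hx, hx'⟩ := hs hzs
          refine ⟨x, ⟨hxx.mem_closed isClosed_closure (subset_closure (by show f x' ∈ E; rw [hx']; exact hz)), ?_⟩, hx⟩
          show f x ∉ E
          rw [hx]
          exact hs2
      have : IsClosed (closure E \ E) := by
        rw [← he]
        refine VSubmersive2.isClosed_image f _ hcl ?_
        rw [he]
        rintro s t hst ⟨hs1, hs2⟩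
        refine ⟨hst.mem_closed isClosed_closure hs1, fun ht => ?_⟩
        obtain ⟨z, hz, hzs⟩ := Cons.Basic.exists_specializes_of_mem_closure hproE hs1
        obtain ⟨x₀, x₁, x₂, h01, h12, hx₀, hx₁, hx₂⟩ := exists_chain_lift f hf hzs hst
        have hx1c : x₁ ∈ closure (f ⁻¹' E) := h01.mem_closed isClosed_closure (subset_closure (by show f x₀ ∈ E; rw [hx₀]; exact hz))
        have := h12.mem_closed hcl ⟨hx1c, by show f x₁ ∉ E; rw [hx₁]; exact hs2⟩
        exact this.2 (by show f x₂ ∈ E; rw [hx₂]; exact ht)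
      rw [coborder]
      exact this.isOpen_compl
    · have := (h2 (f.isCompact_preimage hUc (U := ⟨U, hUo⟩)) (hUo.preimage f.continuous)).image f.continuous
      rwa [show f ⁻¹' E ∩ (f ⁻¹ᵁ (⟨U, hUo⟩ : Y.Opens) : Set X) = f ⁻¹' (E ∩ U) from rfl, Set.image_preimage_eq _ hsurj] at this

end Groth.Agent.Misc9.SubtrLC
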