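import Groth.Agent.Misc9.ValLift
import Groth.Prelude.Def_W4c2submetdescSubtr
import Mathlib.RingTheory.Flat.TorsionFree
import Mathlib.RingTheory.Flat.FaithfullyFlat.Algebra
import Mathlib.RingTheory.Ideal.MinimalPrime.Localization
import Mathlib.AlgebraicGeometry.IdealSheaf.Subscheme
import Mathlib.AlgebraicGeometry.FunctionField
import Groth.Agent.RatMap.Sub

/-! S-subtrusive morphisms over valuation rings. -/

set_option autoImplicit false
set_option backward.isDefEq.respectTransparency false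
universe w u
namespace Groth.Agent.Misc9.SubtrVal
open CategoryTheory CategoryTheory.Limits AlgebraicGeometry IsLocalRing
open Groth.Agent.Misc9

theorem flat_of_injective (V W : Type u) [CommRing V] [IsDomain V] [ValuationRing V] [CommRing W] [IsDomain W]
    (φ : V →+* W) (hφ : Function.Injective φ) : φ.Flat := by
  letI := φ.toAlgebra
  show Module.Flat V W
  haveI : Module.IsTorsionFree V W := Module.isTorsionFree_iff_smul_eq_zero.mpr fun r m h => by
    rw [Algebra.smul_def] at h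
    rcases mul_eq_zero.1 h with h | h
    · exact Or.inl ((map_eq_zero_iff _ hφ).1 h)
    · exact Or.inr h
  rw [Module.Flat.flat_iff_torsion_eq_bot_of_isBezout, ← Submodule.isTorsionFree_iff_torsion_eq_bot]
  infer_instance

theorem surjective_of_isExtVal (V W : CommRingCat.{u}) [IsDomain V] [ValuationRing V] [IsDomain W] [ValuationRing W]
    (φ : V ⟶ W) (h : HTop.IsExtVal V W φ) : Surjective (Spec.map φ) := by
  refine ⟨fun p => ?_⟩
  letI := φ.hom.toAlgebra
  haveI : Module.Flat V W := flat_of_injective V W φ.hom h.1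
  haveI : IsLocalHom (algebraMap V W) := h.2
  haveI : Module.FaithfullyFlat V W := Module.FaithfullyFlat.of_flat_of_isLocalHom
  obtain ⟨q, hq⟩ := PrimeSpectrum.comap_surjective_of_faithfullyFlat (B := W) p
  exact ⟨q, hq⟩

theorem flat_specMap_of_isExtVal (V W : CommRingCat.{u}) [IsDomain V] [ValuationRing V] [IsDomain W] [ValuationRing W]
    (φ : V ⟶ W) (h : HTop.IsExtVal V W φ) : Flat (Spec.map φ) :=
  (HasRingHomProperty.Spec_iff (P := @Flat)).2 (flat_of_injective V W φ.hom h.1)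

theorem flat_of_subsingleton {V B : Type u} [CommRing V] [CommRing B] [Subsingleton B] (ψ : V →+* B) : ψ.Flat := by
  letI := ψ.toAlgebra
  exact (inferInstance : Module.Flat V B)

variable {V : CommRingCat.{u}} [IsDomain V] [ValuationRing V]

/-- a pair over (generic ⤳ closed) gives every base change the lifting property -/
theorem univ_of_pair {X : Scheme.{u}} (f : X ⟶ Spec V) (q p : X) (hqp : q ⤳ p) (hp : f p = closedPoint V)
    (hq : (f q).asIdeal = ⊥) : Subtr.UnivSSubtrusive f := by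
  obtain ⟨W, h1, h2, φ, hφ, g, hg, -⟩ := ValLift.exists_extVal V f q p hqp hp hq
  haveI := surjective_of_isExtVal V W φ hφ
  haveI := flat_specMap_of_isExtVal V W φ hφ
  intro X' T a b f' hpb
  intro y y' hyy
  obtain ⟨x, hx⟩ := (pullback.fst b (Spec.map φ)).surjective y
  obtain ⟨x', hx'1, hx'2⟩ := Flat.generalizingMap (pullback.fst b (Spec.map φ)) (show y' ⤳ (pullback.fst b (Spec.map φ)) x by rw [hx]; exact hyy)
  let L : pullback b (Spec.map φ) ⟶ X' := hpb.lift (pullback.fst b (Spec.map φ)) (pullback.snd b (Spec.map φ) ≫ g)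
    (by rw [pullback.condition, Category.assoc, hg])
  have hL : L ≫ f' = pullback.fst b (Spec.map φ) := hpb.lift_fst _ _ _
  exact ⟨L x, L x', hx'1.map L.continuous, by rw [← Scheme.Hom.comp_apply, hL, hx],
    by rw [← Scheme.Hom.comp_apply, hL, hx'2]⟩

theorem bot_specializes (z : Spec V) : (⟨⊥, Ideal.isPrime_bot⟩ : Spec V) ⤳ z :=
  (PrimeSpectrum.le_iff_specializes _ _).1 (show (⊥ : Ideal V) ≤ _ from bot_le)

theorem pair_of_valuation {X : Scheme.{u}} (f : X ⟶ Spec V) {W : CommRingCat.{u}} [IsDomain W] [ValuationRing W]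
    (g : Spec W ⟶ X) (hs : Surjective (g ≫ f)) :
    ∃ q p : X, q ⤳ p ∧ f p = closedPoint V ∧ (f q).asIdeal = ⊥ := by
  refine ⟨g ⟨⊥, Ideal.isPrime_bot⟩, g (closedPoint W), (bot_specializes _).map g.continuous, ?_, ?_⟩
  · obtain ⟨z, hz⟩ := hs.surj (closedPoint V)
    have h1 : (g ≫ f) z ⤳ (g ≫ f) (closedPoint W) := (specializes_closedPoint z).map (g ≫ f).continuous
    rw [hz, Scheme.Hom.comp_apply] at h1
    exact ((specializes_closedPoint (f (g (closedPoint W)))).antisymm h1).eq
  · obtain ⟨z, hz⟩ := hs.surj ⟨⊥, Ideal.isPrime_bot⟩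
    have h1 : (g ≫ f) ⟨⊥, Ideal.isPrime_bot⟩ ⤳ (g ≫ f) z := (bot_specializes z).map (g ≫ f).continuous
    rw [hz, Scheme.Hom.comp_apply] at h1
    exact le_antisymm ((PrimeSpectrum.le_iff_specializes _ _).2 h1) bot_le

theorem exists_generic_spec {B : CommRingCat.{u}} (ψ : V ⟶ B) (p : Spec B)
    (hx : p ∈ closure (Spec.map ψ ⁻¹' {(⟨⊥, Ideal.isPrime_bot⟩ : Spec V)})) :
    ∃ q : Spec B, q ⤳ p ∧ (Spec.map ψ q).asIdeal = ⊥ := by
  let M := (nonZeroDivisors V).map ψ.hom
  let lam := algebraMap B (Localization M)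
  have hfib : Spec.map ψ ⁻¹' {(⟨⊥, Ideal.isPrime_bot⟩ : Spec V)} ⊆ Set.range (PrimeSpectrum.comap lam) := by
    intro q hq
    rw [PrimeSpectrum.localization_comap_range (Localization M) M]
    have hq' : (Spec.map ψ q).asIdeal = ⊥ := congrArg PrimeSpectrum.asIdeal hq
    show Disjoint (M : Set B) _
    rw [Set.disjoint_left]
    rintro _ ⟨v, hv, rfl⟩ hv'
    have : v ∈ (Spec.map ψ q).asIdeal := hv'
    rw [hq'] at this
    exact nonZeroDivisors.ne_zero hv this
  have hp : p ∈ closure (Set.range (PrimeSpectrum.comap lam)) := closure_mono hfib hx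
  rw [PrimeSpectrum.closure_range_comap] at hp
  have hle : RingHom.ker lam ≤ p.asIdeal := hp
  obtain ⟨q₀, hq₀, hle'⟩ := Ideal.exists_minimalPrimes_le hle
  obtain ⟨r, hr, -, he⟩ := Ideal.exists_comap_eq_of_mem_minimalPrimes lam (I := ⊥) q₀ hq₀
  refine ⟨⟨q₀, hq₀.1.1⟩, (PrimeSpectrum.le_iff_specializes _ _).1 hle', ?_⟩
  rw [eq_bot_iff]
  intro v hv
  by_contra hv0
  have h1 : lam (ψ.hom v) ∈ r := by
    have : ψ.hom v ∈ q₀ := hv
    rw [← he] at this
    exact this
  exact hr.ne_top (Ideal.eq_top_of_isUnit_mem _ h1 (IsLocalization.map_units (M := M) (Localization M)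
    (⟨ψ.hom v, Submonoid.mem_map.2 ⟨v, mem_nonZeroDivisors_of_ne_zero hv0, rfl⟩⟩ : M)))

theorem exists_generic_of_mem_closure {X : Scheme.{u}} (f : X ⟶ Spec V) (x : X)
    (hx : x ∈ closure (f ⁻¹' {(⟨⊥, Ideal.isPrime_bot⟩ : Spec V)})) :
    ∃ q : X, q ⤳ x ∧ (f q).asIdeal = ⊥ := by
  obtain ⟨i, p, rfl⟩ := X.affineCover.exists_eq x
  obtain ⟨ψ, hψ⟩ := Spec.homEquiv.symm.surjective (X.affineCover.f i ≫ f)
  rw [← Set.mem_preimage, (X.affineCover.f i).isOpenEmbedding.isOpenMap.preimage_closure_eq_closure_preimage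
    (X.affineCover.f i).continuous, ← Set.preimage_comp] at hx
  obtain ⟨q, hq, hq'⟩ := exists_generic_spec ψ p (by
    change p ∈ closure (⇑(Spec.homEquiv.symm ψ) ⁻¹' _)
    rw [hψ]
    exact hx)
  refine ⟨X.affineCover.f i q, hq.map (X.affineCover.f i).continuous, ?_⟩
  have e : f (X.affineCover.f i q) = Spec.map ψ q := by
    rw [← Scheme.Hom.comp_apply, ← hψ]
    rfl
  rw [e, hq']

theorem ker_eq_bot_of_generic {B : CommRingCat.{u}} [IsDomain B] (ψ : V ⟶ B)
    (h : (Spec.map ψ (genericPoint (Spec B))).asIdeal = ⊥) : Function.Injective ψ.hom := by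
  rw [genericPoint_eq_bot_of_affine] at h
  rw [RingHom.injective_iff_ker_eq_bot, RingHom.ker_eq_comap_bot]
  exact h

theorem exists_flat_closed {X : Scheme.{u}} (f : X ⟶ Spec V) (q p : X) (hqp : q ⤳ p) (hp : f p = closedPoint V)
    (hq : (f q).asIdeal = ⊥) : ∃ (Z : Scheme.{u}) (i : Z ⟶ X), IsClosedImmersion i ∧ Flat (i ≫ f) ∧ Surjective (i ≫ f) := by
  obtain ⟨W, h1, h2, φ, hφ, g, hg, -⟩ := ValLift.exists_extVal V f q p hqp hp hq
  haveI := surjective_of_isExtVal V W φ hφ
  let z₀ := g ⟨⊥, Ideal.isPrime_bot⟩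
  let C : TopologicalSpace.Closeds X := ⟨closure {z₀}, isClosed_closure⟩
  let I := Scheme.IdealSheafData.vanishingIdeal C
  let Z := I.subscheme
  let ι := I.subschemeι
  have hr : Set.range ι = closure {z₀} := by
    rw [Scheme.IdealSheafData.range_subschemeι, Scheme.IdealSheafData.coe_support_vanishingIdeal]
    rfl
  haveI : IsReduced Z := RatMap.Sub.isReduced_subscheme I fun U => by
    show (PrimeSpectrum.vanishingIdeal _).IsRadical
    exact PrimeSpectrum.isRadical_vanishingIdeal _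
  obtain ⟨ξ, hξ⟩ : z₀ ∈ Set.range ι := by rw [hr]; exact subset_closure rfl
  have hgen : IsGenericPoint ξ (Set.univ : Set Z) := by
    rw [isGenericPoint_iff_specializes]
    refine fun z => ⟨fun _ => trivial, fun _ => ?_⟩
    have : ι z ∈ closure {z₀} := by rw [← hr]; exact ⟨z, rfl⟩
    rw [← hξ] at this
    exact ι.isClosedEmbedding.isInducing.specializes_iff.1 (specializes_iff_mem_closure.2 this)
  haveI : IrreducibleSpace Z :=
    { toPreirreducibleSpace := ⟨hgen.isIrreducible.isPreirreducible⟩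
      toNonempty := ⟨ξ⟩ }
  haveI : IsIntegral Z := isIntegral_of_irreducibleSpace_of_isReduced Z
  have hξV : ((ι ≫ f) ξ).asIdeal = ⊥ := by
    rw [Scheme.Hom.comp_apply, hξ]
    have e : f z₀ = Spec.map φ ⟨⊥, Ideal.isPrime_bot⟩ := by rw [← hg]; rfl
    rw [e]
    exact Ideal.comap_bot_of_injective _ hφ.1
  refine ⟨Z, ι, inferInstance, ?_, ⟨fun y => ?_⟩⟩
  · rw [IsZariskiLocalAtSource.iff_of_openCover (P := @Flat) Z.affineCover]
    intro i
    obtain ⟨ψ, hψ⟩ := Spec.homEquiv.symm.surjective (Z.affineCover.f i ≫ ι ≫ f)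
    rw [← hψ]
    refine (HasRingHomProperty.Spec_iff (P := @Flat)).2 ?_
    haveI : Nonempty (Z.affineCover.X i) ∨ IsEmpty (Z.affineCover.X i) := (isEmpty_or_nonempty _).symm
    rcases isEmpty_or_nonempty (Z.affineCover.X i) with he | he
    · haveI : Subsingleton _ := PrimeSpectrum.isEmpty_iff_subsingleton.1 he
      exact flat_of_subsingleton ψ.hom
    · haveI : IsIntegral (Z.affineCover.X i) := isIntegral_of_isOpenImmersion (Z.affineCover.f i)
      haveI : IsDomain _ := (affine_isIntegral_iff _).1 (inferInstance : IsIntegral (Z.affineCover.X i))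
      refine flat_of_injective V _ ψ.hom (ker_eq_bot_of_generic ψ ?_)
      have e1 : Spec.map ψ (genericPoint (Z.affineCover.X i)) = (ι ≫ f) (Z.affineCover.f i (genericPoint (Z.affineCover.X i))) := by
        rw [← Scheme.Hom.comp_apply, ← hψ]
        rfl
      rw [genericPoint_eq_of_isOpenImmersion, (genericPoint_spec Z).eq hgen] at e1
      rw [← hξV, ← e1]
      rfl
  · obtain ⟨w, rfl⟩ := (Spec.map φ).surjective y
    have hw : g w ∈ Set.range ι := by
      rw [hr]
      exact ((bot_specializes w).map g.continuous).mem_closed isClosed_closure (subset_closure rfl)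
    obtain ⟨z, hz⟩ := hw
    refine ⟨z, ?_⟩
    rw [Scheme.Hom.comp_apply, hz, ← Scheme.Hom.comp_apply, hg]

end Groth.Agent.Misc9.SubtrVal
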