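import Groth.Agent.Misc9.Seminormal
import Mathlib.Algebra.Category.Ring.Under.Basic
import Mathlib.Algebra.MvPolynomial.Rename
import Mathlib.RingTheory.FinitePresentation
import Mathlib.CategoryTheory.Filtered.Basic

/-! Universal homeomorphisms are filtered colimits of finitely presented ones. -/

universe u

namespace Groth.Agent.Misc9.UHColim

open CategoryTheory CategoryTheory.Limits MvPolynomial
open Groth.Agent.Misc9.Seminormal

variable (A B : Type u) [CommRing A] [CommRing B] [Algebra A B]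

/-- evaluation -/
noncomputable abbrev ev (E : Finset B) : MvPolynomial E A →ₐ[A] B := aeval Subtype.val

variable {A B}

/-- inclusion of variables -/
noncomputable abbrev inc {E E' : Finset B} (h : E ⊆ E') : MvPolynomial E A →ₐ[A] MvPolynomial E' A :=
  rename fun e ↦ ⟨e.1, h e.2⟩

theorem ev_inc {E E' : Finset B} (h : E ⊆ E') (f : MvPolynomial E A) : ev A B E' (inc h f) = ev A B E f := by
  simp [ev, inc, aeval_rename, Function.comp_def]

theorem inc_inc {E E' E'' : Finset B} (h : E ⊆ E') (h' : E' ⊆ E'') (f : MvPolynomial E A) :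
    inc h' (inc h f) = inc (h.trans h') f := by
  simp [inc, rename_rename, Function.comp_def]

theorem inc_self {E : Finset B} (h : E ⊆ E) (f : MvPolynomial E A) : inc h f = f := by
  simp [inc]; exact rename_id_apply f

theorem inc_comp {E E' E'' : Finset B} (h : E ⊆ E') (h' : E' ⊆ E'') :
    (inc (A := A) h').comp (inc h) = inc (h.trans h') :=
  AlgHom.ext fun f ↦ inc_inc h h' f

theorem map_inc {E E' E'' : Finset B} (h : E ⊆ E') (h' : E' ⊆ E'') (J : Ideal (MvPolynomial E A)) :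
    (J.map (inc h)).map (inc h') = J.map (inc (h.trans h')) := by
  rw [← inc_comp h h']
  exact Ideal.map_map (inc h).toRingHom (inc h').toRingHom

variable (Q : ∀ E : Finset B, Ideal (MvPolynomial E A) → Prop)

/-- The index set. -/
structure Idx : Type u where
  E : Finset B
  J : Ideal (MvPolynomial E A)
  fg : J.FG
  le_ker : J ≤ RingHom.ker (ev A B E)
  hQ : Q E J

instance : Preorder (Idx Q) where
  le i j := ∃ h : i.E ⊆ j.E, i.J.map (inc h) ≤ j.J
  le_refl i := ⟨subset_rfl, Ideal.map_le_iff_le_comap.mpr fun f hf ↦ by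
    rw [Ideal.mem_comap, inc_self]; exact hf⟩
  le_trans i j k := fun ⟨h, hle⟩ ⟨h', hle'⟩ ↦ ⟨h.trans h', by
    rw [← map_inc h h']; exact (Ideal.map_mono hle).trans hle'⟩

variable {Q}

/-- transition map -/
noncomputable def qmap {i j : Idx Q} (h : i ≤ j) :
    (MvPolynomial i.E A ⧸ i.J) →ₐ[A] (MvPolynomial j.E A ⧸ j.J) :=
  Ideal.quotientMapₐ _ (inc h.choose) (Ideal.map_le_iff_le_comap.mp h.choose_spec)

theorem qmap_mk {i j : Idx Q} (h : i ≤ j) (h' : i.E ⊆ j.E) (p : MvPolynomial i.E A) :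
    qmap h (Ideal.Quotient.mk i.J p) = Ideal.Quotient.mk j.J (inc h' p) := rfl

/-- the map to `B` -/
noncomputable def toB (i : Idx Q) : (MvPolynomial i.E A ⧸ i.J) →ₐ[A] B :=
  Ideal.Quotient.liftₐ i.J (ev A B i.E) fun a ha ↦ i.le_ker ha

theorem toB_mk (i : Idx Q) (p : MvPolynomial i.E A) :
    toB i (Ideal.Quotient.mk i.J p) = ev A B i.E p := rfl

variable (Q)

/-- the diagram -/
noncomputable def diag : Idx Q ⥤ Under (CommRingCat.of A) where
  obj i := Under.mk (CommRingCat.ofHom (algebraMap A (MvPolynomial i.E A ⧸ i.J)))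
  map {i j} f := Under.homMk (CommRingCat.ofHom (qmap f.le).toRingHom) (by
    ext a; exact (qmap f.le).commutes a)
  map_id i := Under.UnderMorphism.ext (CommRingCat.hom_ext (RingHom.ext fun x ↦ by
    obtain ⟨p, rfl⟩ := Ideal.Quotient.mk_surjective x
    show qmap (le_refl i) (Ideal.Quotient.mk i.J p) = Ideal.Quotient.mk i.J p
    rw [qmap_mk (le_refl i) subset_rfl, inc_self]))
  map_comp {i j k} f g := Under.UnderMorphism.ext (CommRingCat.hom_ext (RingHom.ext fun x ↦ by
    obtain ⟨p, rfl⟩ := Ideal.Quotient.mk_surjective x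
    show qmap (f ≫ g).le (Ideal.Quotient.mk i.J p) = qmap g.le (qmap f.le (Ideal.Quotient.mk i.J p))
    rw [qmap_mk (f ≫ g).le (f.le.choose.trans g.le.choose), qmap_mk f.le f.le.choose,
      qmap_mk g.le g.le.choose, inc_inc]))

/-- the cocone -/
noncomputable def cc : Cocone (diag Q) where
  pt := Under.mk (CommRingCat.ofHom (algebraMap A B))
  ι :=
    { app := fun i ↦ Under.homMk (CommRingCat.ofHom (toB i).toRingHom) (by
        ext a
        exact (toB i).commutes a)
      naturality := fun i j f ↦ Under.UnderMorphism.ext (CommRingCat.hom_ext (RingHom.ext fun x ↦ by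
        obtain ⟨p, rfl⟩ := Ideal.Quotient.mk_surjective x
        exact ev_inc f.le.choose p)) }

variable (hne : ∀ (E : Finset B) (J : Ideal (MvPolynomial E A)), J.FG → J ≤ RingHom.ker (ev A B E) →
  ∃ (i : Idx Q) (h : E ⊆ i.E), J.map (inc h) ≤ i.J)

include hne in
theorem isFiltered : IsFiltered (Idx Q) := by
  classical
  have : Nonempty (Idx Q) := ⟨(hne ∅ ⊥ (Submodule.fg_bot) bot_le).choose⟩
  have : IsDirectedOrder (Idx Q) := ⟨fun i j ↦ by
    obtain ⟨k, h, hk⟩ := hne (i.E ∪ j.E)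
      (i.J.map (inc Finset.subset_union_left) ⊔ j.J.map (inc Finset.subset_union_right))
      (Submodule.FG.sup (Ideal.FG.map i.fg _) (Ideal.FG.map j.fg _))
      (sup_le (Ideal.map_le_iff_le_comap.mpr fun f hf ↦ (ev_inc _ f).trans (i.le_ker hf))
        (Ideal.map_le_iff_le_comap.mpr fun f hf ↦ (ev_inc _ f).trans (j.le_ker hf)))
    refine ⟨k, ⟨Finset.subset_union_left.trans h, ?_⟩, ⟨Finset.subset_union_right.trans h, ?_⟩⟩
    · rw [← map_inc Finset.subset_union_left h]
      exact (Ideal.map_mono le_sup_left).trans hk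
    · rw [← map_inc Finset.subset_union_right h]
      exact (Ideal.map_mono le_sup_right).trans hk⟩
  infer_instance

include hne in
theorem hdesc (s : Cocone (diag Q)) : ∃ g : B →+* s.pt.right,
    ∀ (i : Idx Q) (p : MvPolynomial i.E A),
      g (ev A B i.E p) = (s.ι.app i).right.hom (Ideal.Quotient.mk i.J p) := by
  classical
  have hX : ∀ b : B, ∃ i : Idx Q, b ∈ i.E := fun b ↦ by
    obtain ⟨i, h, -⟩ := hne {b} ⊥ Submodule.fg_bot bot_le
    exact ⟨i, h (by simp)⟩
  choose ib hib using hX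
  have := isFiltered Q hne
  let _ : Algebra A s.pt.right := s.pt.hom.hom.toAlgebra
  let σ : ∀ i : Idx Q, (MvPolynomial i.E A ⧸ i.J) →+* s.pt.right := fun i ↦ (s.ι.app i).right.hom
  have hw : ∀ {i j : Idx Q} (h : i ≤ j) (x : MvPolynomial i.E A ⧸ i.J),
      σ j (qmap h x) = σ i x := fun {i j} h x ↦
    DFunLike.congr_fun (congrArg (fun t : (diag Q).obj i ⟶ s.pt => CommRingCat.Hom.hom t.right)
      (s.w (homOfLE h))) x
  have hA : ∀ (i : Idx Q) (a : A), σ i (algebraMap A (MvPolynomial i.E A ⧸ i.J) a) =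
      algebraMap A s.pt.right a := fun i a ↦
    DFunLike.congr_fun (congrArg CommRingCat.Hom.hom (Under.w (s.ι.app i))) a
  let Φ : MvPolynomial B A →ₐ[A] s.pt.right := aeval fun b ↦
    σ (ib b) (Ideal.Quotient.mk (ib b).J (X ⟨b, hib b⟩))
  have key : ∀ (i : Idx Q) (p : MvPolynomial i.E A),
      Φ (rename Subtype.val p) = σ i (Ideal.Quotient.mk i.J p) := by
    intro i p
    induction p using MvPolynomial.induction_on with
    | C a =>
      rw [rename_C, show (C a : MvPolynomial B A) = algebraMap A _ a from rfl, Φ.commutes]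
      exact (hA i a).symm
    | add p q hp hq => simp only [map_add, hp, hq]
    | mul_X p e hp =>
      simp only [map_mul, hp, rename_X]
      congr 1
      obtain ⟨k, ⟨hk1⟩, ⟨hk2⟩⟩ : ∃ k : Idx Q, Nonempty (i ⟶ k) ∧ Nonempty (ib e.1 ⟶ k) :=
        ⟨IsFiltered.max i (ib e.1), ⟨IsFiltered.leftToMax _ _⟩, ⟨IsFiltered.rightToMax _ _⟩⟩
      simp only [Φ, aeval_X]
      rw [← hw hk2.le, ← hw hk1.le, qmap_mk hk2.le hk2.le.choose, qmap_mk hk1.le hk1.le.choose]
      simp [inc]
  have hker : RingHom.ker (aeval (id : B → B) : MvPolynomial B A →ₐ[A] B) ≤ RingHom.ker Φ := by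
    intro f hf
    obtain ⟨E, q, rfl⟩ := exists_finset_rename f
    obtain ⟨i, h, hi⟩ := hne E (Ideal.span {q}) (Submodule.fg_span_singleton q) (by
      rw [Ideal.span_singleton_le_iff_mem, RingHom.mem_ker]
      rw [RingHom.mem_ker, aeval_rename] at hf
      exact hf)
    have hq : inc h q ∈ i.J := hi (Ideal.mem_map_of_mem _ (Ideal.mem_span_singleton_self q))
    have h3 := key i (inc h q)
    rw [inc, rename_rename] at h3
    rw [RingHom.mem_ker]
    refine h3.trans ?_
    rw [Ideal.Quotient.eq_zero_iff_mem.mpr hq, map_zero]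
  have hsurj : Function.Surjective (aeval (id : B → B) : MvPolynomial B A →ₐ[A] B) :=
    fun b ↦ ⟨X b, by simp⟩
  refine ⟨RingHom.liftOfSurjective (aeval (id : B → B) : MvPolynomial B A →ₐ[A] B).toRingHom hsurj
    ⟨Φ.toRingHom, hker⟩, fun i p ↦ ?_⟩
  refine Eq.trans ?_ (key i p)
  rw [show ev A B i.E p =
    (aeval (id : B → B) : MvPolynomial B A →ₐ[A] B).toRingHom (rename Subtype.val p) by
      simp [aeval_rename]]
  exact RingHom.liftOfRightInverse_comp_apply _ _ _ _ _

include hne in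
theorem isColimit : Nonempty (IsColimit (cc Q)) := by
  classical
  choose g hg using hdesc Q hne
  have hX : ∀ b : B, ∃ i : Idx Q, b ∈ i.E := fun b ↦ by
    obtain ⟨i, h, -⟩ := hne {b} ⊥ Submodule.fg_bot bot_le
    exact ⟨i, h (by simp)⟩
  choose ib hib using hX
  refine ⟨
    { desc := fun s ↦ Under.homMk (CommRingCat.ofHom (g s)) (by
        ext a
        have h1 := hg s (ib 0) (algebraMap A _ a)
        rw [AlgHom.commutes] at h1
        refine h1.trans ?_
        exact DFunLike.congr_fun (congrArg CommRingCat.Hom.hom (Under.w (s.ι.app (ib 0)))) a)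
      fac := fun s i ↦ Under.UnderMorphism.ext (CommRingCat.hom_ext (RingHom.ext fun x ↦ by
        obtain ⟨p, rfl⟩ := Ideal.Quotient.mk_surjective x
        exact hg s i p))
      uniq := fun s m hm ↦ Under.UnderMorphism.ext (CommRingCat.hom_ext (RingHom.ext fun b ↦ by
        have h1 : m.right.hom (toB (ib b) (Ideal.Quotient.mk _ (X ⟨b, hib b⟩))) =
            (s.ι.app (ib b)).right.hom (Ideal.Quotient.mk _ (X ⟨b, hib b⟩)) :=
          DFunLike.congr_fun (congrArg (fun t => CommRingCat.Hom.hom (CommaMorphism.right t))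
            (hm (ib b))) (Ideal.Quotient.mk (ib b).J (X ⟨b, hib b⟩))
        have h2 : ev A B (ib b).E (X ⟨b, hib b⟩) = b := by simp [ev]
        have h3 := hg s (ib b) (X ⟨b, hib b⟩)
        rw [h2] at h3
        rw [toB_mk, h2] at h1
        exact h1.trans h3.symm)) }⟩

theorem colim (hcof : ∀ (E : Finset B) (J : Ideal (MvPolynomial E A)), J.FG → J ≤ RingHom.ker (ev A B E) →
      ∃ (E' : Finset B) (h : E ⊆ E') (J' : Ideal (MvPolynomial E' A)),
        J.map (inc h) ≤ J' ∧ J'.FG ∧ J' ≤ RingHom.ker (ev A B E') ∧ Q E' J') :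
    ∃ (K : Type u) (_ : SmallCategory K) (_ : IsFiltered K) (F : K ⥤ Under (CommRingCat.of A))
      (c : Cocone F) (_ : IsColimit c),
      (∀ k, ∃ (E : Finset B) (J : Ideal (MvPolynomial E A)), J.FG ∧ J ≤ RingHom.ker (ev A B E) ∧ Q E J ∧
        F.obj k = Under.mk (CommRingCat.ofHom (algebraMap A (MvPolynomial E A ⧸ J)))) ∧
      Nonempty (c.pt ≅ Under.mk (CommRingCat.ofHom (algebraMap A B))) := by
  have hne : ∀ (E : Finset B) (J : Ideal (MvPolynomial E A)), J.FG → J ≤ RingHom.ker (ev A B E) →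
      ∃ (i : Idx Q) (h : E ⊆ i.E), J.map (inc h) ≤ i.J := fun E J h1 h2 ↦ by
    obtain ⟨E', h, J', ha, hb, hc, hd⟩ := hcof E J h1 h2
    exact ⟨⟨E', J', hb, hc, hd⟩, h, ha⟩
  exact ⟨Idx Q, inferInstance, isFiltered Q hne, diag Q, cc Q, (isColimit Q hne).some,
    fun i ↦ ⟨i.E, i.J, i.fg, i.le_ker, i.hQ, rfl⟩, ⟨Iso.refl _⟩⟩

theorem mem_towerAlg {step : Subalgebra A B → B → Prop}
    (hmono : ∀ (S T : Subalgebra A B) (b : B), step S b → S ≤ T → step T b)
    (hfinitary : ∀ (S : Subalgebra A B) b, step S b → ∃ F : Finset B, (F : Set B) ⊆ S ∧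
      ∀ T : Subalgebra A B, (F : Set B) ⊆ T → step T b)
    {x : B} (hx : step (towerAlg hmono) x) : x ∈ towerAlg hmono := by
  classical
  obtain ⟨F, hFC, hF⟩ := hfinitary _ _ hx
  have hfin : ∀ (F : Finset B), (∀ y ∈ F, y ∈ towerAlg hmono) → ∃ l, Tower step l ∧
      (F : Set B) ⊆ Algebra.adjoin A {z : B | z ∈ l} := by
    intro F
    induction F using Finset.induction_on with
    | empty => exact fun _ ↦ ⟨[], fun i ↦ i.elim0, by simp⟩
    | insert a F _ ih =>
      intro hF
      obtain ⟨l, hl, hE⟩ := ih fun y hy ↦ hF y (Finset.mem_insert_of_mem hy)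
      obtain ⟨l', hl', ha⟩ := hF a (Finset.mem_insert_self a F)
      refine ⟨l ++ l', tower_append hmono hl hl', ?_⟩
      rw [Finset.coe_insert, Set.insert_subset_iff]
      exact ⟨Algebra.adjoin_mono (fun x hx ↦ List.mem_append_right _ hx) ha,
        fun x hx ↦ Algebra.adjoin_mono (fun x hx ↦ List.mem_append_left _ hx) (hE hx)⟩
  obtain ⟨l, hl, hlF⟩ := hfin F fun y hy ↦ hFC hy
  exact ⟨l ++ [x], tower_snoc hmono hl (hF _ hlF), Algebra.subset_adjoin (by simp)⟩

/-- A step kind, uniform in the algebra. -/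
theorem cofinal (st : ∀ (C : Type u) [CommRing C] [Algebra A C], Subalgebra A C → C → Prop)
    (hmono : ∀ (C : Type u) [CommRing C] [Algebra A C] (S T : Subalgebra A C) (b : C),
      st C S b → S ≤ T → st C T b)
    (hfin : ∀ (C : Type u) [CommRing C] [Algebra A C] (S : Subalgebra A C) b, st C S b →
      ∃ F : Finset C, (F : Set C) ⊆ S ∧ ∀ T : Subalgebra A C, (F : Set C) ⊆ T → st C T b)
    (hlift : ∀ (E : Finset B) (T : Subalgebra A (MvPolynomial E A)) (e : E),
      st B (T.map (ev A B E)) e.1 → ∃ G : Finset (MvPolynomial E A),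
        (∀ f ∈ G, f ∈ RingHom.ker (ev A B E)) ∧ ∀ J : Ideal (MvPolynomial E A), (G : Set (MvPolynomial E A)) ⊆ (J : Set (MvPolynomial E A)) →
          st (MvPolynomial E A ⧸ J) (T.map (Ideal.Quotient.mkₐ A J)) (Ideal.Quotient.mk J (X e)))
    (htop : towerAlg (step := st B) (hmono B) = ⊤)
    (E : Finset B) (J : Ideal (MvPolynomial E A)) (hJ : J.FG) (hJk : J ≤ RingHom.ker (ev A B E)) :
    ∃ (E' : Finset B) (h : E ⊆ E') (J' : Ideal (MvPolynomial E' A)),
      J.map (inc h) ≤ J' ∧ J'.FG ∧ J' ≤ RingHom.ker (ev A B E') ∧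
      towerAlg (step := st (MvPolynomial E' A ⧸ J')) (hmono _) = ⊤ := by
  classical
  obtain ⟨l, hl, hE⟩ := exists_tower_finset (hmono B) E htop
  let E' := E ∪ l.toFinset
  have hmem : ∀ i : Fin l.length, l.get i ∈ E' := fun i ↦
    Finset.mem_union_right _ (List.mem_toFinset.mpr (List.get_mem l i))
  let x : Fin l.length → E' := fun i ↦ ⟨l.get i, hmem i⟩
  have h1 : ∀ i : Fin l.length, ∃ G : Finset (MvPolynomial E' A),
      (∀ f ∈ G, f ∈ RingHom.ker (ev A B E')) ∧ ∀ J : Ideal (MvPolynomial E' A), (G : Set (MvPolynomial E' A)) ⊆ (J : Set (MvPolynomial E' A)) →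
        st (MvPolynomial E' A ⧸ J)
          ((Algebra.adjoin A ((fun j ↦ X (x j)) '' Set.Iio i)).map (Ideal.Quotient.mkₐ A J))
          (Ideal.Quotient.mk J (X (x i))) := by
    intro i
    refine hlift E' _ (x i) (hmono B _ _ _ (hl i) (Algebra.adjoin_le ?_))
    rintro b ⟨j, hj, rfl⟩
    exact ⟨X (x j), Algebra.subset_adjoin ⟨j, hj, rfl⟩, by simp [ev, x]⟩
  choose G hG hGs using h1
  have h2 : ∀ e : E', ∃ w ∈ Algebra.adjoin A (Set.range fun j ↦ (X (x j) : MvPolynomial E' A)),
      ev A B E' w = e.1 := by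
    intro e
    have he : e.1 ∈ Algebra.adjoin A {z : B | z ∈ l} := by
      rcases Finset.mem_union.mp e.2 with h | h
      · exact hE h
      · exact Algebra.subset_adjoin (List.mem_toFinset.mp h)
    have hset : (ev A B E') '' (Set.range fun j ↦ (X (x j) : MvPolynomial E' A)) = {z : B | z ∈ l} := by
      ext z
      simp only [Set.mem_image, Set.mem_range, Set.mem_ofPred_eq]
      constructor
      · rintro ⟨_, ⟨j, rfl⟩, rfl⟩; simp [ev, x]
      · intro hz
        obtain ⟨j, rfl⟩ := List.mem_iff_get.mp hz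
        exact ⟨_, ⟨j, rfl⟩, by simp [ev, x]⟩
    rw [← hset, ← AlgHom.map_adjoin] at he
    exact he
  choose w hw hwe using h2
  let h : E ⊆ E' := Finset.subset_union_left
  let G0 : Finset (MvPolynomial E' A) :=
    (Finset.univ.biUnion G) ∪ Finset.univ.image (fun e : E' ↦ X e - w e)
  refine ⟨E', h, J.map (inc h) ⊔ Ideal.span (G0 : Set (MvPolynomial E' A)), le_sup_left,
    Submodule.FG.sup (Ideal.FG.map hJ _) ⟨G0, rfl⟩, sup_le
      (Ideal.map_le_iff_le_comap.mpr fun f hf ↦ (ev_inc _ f).trans (hJk hf))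
      (Ideal.span_le.mpr fun f hf ↦ ?_), ?_⟩
  · rcases Finset.mem_union.mp hf with hf | hf
    · obtain ⟨i, -, hi⟩ := Finset.mem_biUnion.mp hf
      exact hG i f hi
    · obtain ⟨e, -, rfl⟩ := Finset.mem_image.mp hf
      rw [SetLike.mem_coe, RingHom.mem_ker, map_sub, hwe, sub_eq_zero]
      simp [ev]
  set J' := J.map (inc h) ⊔ Ideal.span (G0 : Set (MvPolynomial E' A))
  set T := towerAlg (step := st (MvPolynomial E' A ⧸ J')) (hmono _)
  have hGJ : ∀ f ∈ G0, f ∈ J' := fun f hf ↦ Ideal.mem_sup_right (Ideal.subset_span hf)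
  have hx : ∀ (n : ℕ) (i : Fin l.length), (i : ℕ) = n → Ideal.Quotient.mk J' (X (x i)) ∈ T := by
    intro n
    induction n using Nat.strong_induction_on with
    | _ n ih =>
      intro i hi
      refine mem_towerAlg (hmono _) (hfin _) (hmono _ _ _ _ (hGs i J' fun f hf ↦ hGJ f
        (Finset.mem_union_left _ (Finset.mem_biUnion.mpr ⟨i, Finset.mem_univ _, hf⟩))) ?_)
      rw [AlgHom.map_adjoin, Algebra.adjoin_le_iff]
      rintro _ ⟨_, ⟨j, hj, rfl⟩, rfl⟩
      exact ih j (hi ▸ hj) j rfl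
  rw [eq_top_iff]
  intro z _
  obtain ⟨p, rfl⟩ := Ideal.Quotient.mk_surjective z
  induction p using MvPolynomial.induction_on with
  | C a => exact Subalgebra.algebraMap_mem T a
  | add p q hp hq => rw [map_add]; exact add_mem (hp trivial) (hq trivial)
  | mul_X p e hp =>
    rw [map_mul]
    refine mul_mem (hp trivial) ?_
    have he : Ideal.Quotient.mk J' (X e) = Ideal.Quotient.mk J' (w e) :=
      Ideal.Quotient.eq.mpr (hGJ _ (Finset.mem_union_right _
        (Finset.mem_image.mpr ⟨e, Finset.mem_univ _, rfl⟩)))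
    rw [he]
    have hle : (Algebra.adjoin A (Set.range fun j ↦ (X (x j) : MvPolynomial E' A))).map
        (Ideal.Quotient.mkₐ A J') ≤ T := by
      rw [AlgHom.map_adjoin, Algebra.adjoin_le_iff]
      rintro _ ⟨_, ⟨j, rfl⟩, rfl⟩
      exact hx j j rfl
    exact hle ⟨w e, hw e, rfl⟩

theorem lift_SC (E : Finset B) (T : Subalgebra A (MvPolynomial E A)) (e : E)
    (h : StepSC (T.map (ev A B E)) e.1) : ∃ G : Finset (MvPolynomial E A),
      (∀ f ∈ G, f ∈ RingHom.ker (ev A B E)) ∧ ∀ J : Ideal (MvPolynomial E A), (G : Set (MvPolynomial E A)) ⊆ (J : Set (MvPolynomial E A)) →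
        StepSC (T.map (Ideal.Quotient.mkₐ A J)) (Ideal.Quotient.mk J (X e)) := by
  classical
  obtain ⟨⟨u, hu, hue⟩, ⟨v, hv, hve⟩⟩ := h
  refine ⟨{X e ^ 2 - u, X e ^ 3 - v}, ?_, fun J hJ ↦ ⟨⟨u, hu, ?_⟩, ⟨v, hv, ?_⟩⟩⟩
  · intro f hf
    rcases Finset.mem_insert.mp hf with rfl | hf
    · rw [RingHom.mem_ker, map_sub, map_pow, sub_eq_zero]; simpa [ev] using hue.symm
    · rw [Finset.mem_singleton] at hf; subst hf
      rw [RingHom.mem_ker, map_sub, map_pow, sub_eq_zero]; simpa [ev] using hve.symm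
  · show Ideal.Quotient.mk J u = _
    rw [← map_pow]; exact (Ideal.Quotient.eq.mpr (hJ (by simp))).symm
  · show Ideal.Quotient.mk J v = _
    rw [← map_pow]; exact (Ideal.Quotient.eq.mpr (hJ (by simp))).symm

theorem lift_SCP (E : Finset B) (T : Subalgebra A (MvPolynomial E A)) (e : E)
    (h : StepSCP (T.map (ev A B E)) e.1) : ∃ G : Finset (MvPolynomial E A),
      (∀ f ∈ G, f ∈ RingHom.ker (ev A B E)) ∧ ∀ J : Ideal (MvPolynomial E A), (G : Set (MvPolynomial E A)) ⊆ (J : Set (MvPolynomial E A)) →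
        StepSCP (T.map (Ideal.Quotient.mkₐ A J)) (Ideal.Quotient.mk J (X e)) := by
  classical
  rcases h with h | ⟨p, hp, ⟨u, hu, hue⟩, ⟨v, hv, hve⟩⟩
  · obtain ⟨G, hG, hGJ⟩ := lift_SC E T e h
    exact ⟨G, hG, fun J hJ ↦ Or.inl (hGJ J hJ)⟩
  refine ⟨{(p : MvPolynomial E A) * X e - u, X e ^ p - v}, ?_,
    fun J hJ ↦ Or.inr ⟨p, hp, ⟨u, hu, ?_⟩, ⟨v, hv, ?_⟩⟩⟩
  · intro f hf
    rcases Finset.mem_insert.mp hf with rfl | hf
    · rw [RingHom.mem_ker, map_sub, map_mul, sub_eq_zero]; simpa [ev] using hue.symm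
    · rw [Finset.mem_singleton] at hf; subst hf
      rw [RingHom.mem_ker, map_sub, map_pow, sub_eq_zero]; simpa [ev] using hve.symm
  · show Ideal.Quotient.mk J u = _
    rw [← map_natCast (Ideal.Quotient.mk J), ← map_mul]
    exact (Ideal.Quotient.eq.mpr (hJ (by simp))).symm
  · show Ideal.Quotient.mk J v = _
    rw [← map_pow]; exact (Ideal.Quotient.eq.mpr (hJ (by simp))).symm

theorem comap_surjective (hs : Function.Surjective (PrimeSpectrum.comap (algebraMap A B)))
    {E : Finset B} {J : Ideal (MvPolynomial E A)} (hJ : J ≤ RingHom.ker (ev A B E)) :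
    Function.Surjective (PrimeSpectrum.comap (algebraMap A (MvPolynomial E A ⧸ J))) := by
  intro p
  obtain ⟨q, rfl⟩ := hs p
  let f := Ideal.Quotient.liftₐ J (ev A B E) (fun a ha ↦ hJ ha)
  refine ⟨PrimeSpectrum.comap f.toRingHom q, ?_⟩
  rw [← PrimeSpectrum.comap_comp_apply]
  exact congrFun (congrArg PrimeSpectrum.comap f.comp_algebraMap) q

end Groth.Agent.Misc9.UHColim
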