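import Mathlib.AlgebraicGeometry.Morphisms.UniversallyClosed
import Mathlib.AlgebraicGeometry.PullbackCarrier

/-! Universal closedness along a finite jointly surjective family. -/

set_option autoImplicit false
set_option backward.isDefEq.respectTransparency false
universe w u
namespace Groth.Agent.Misc9.UnivClosedCover
open CategoryTheory CategoryTheory.Limits AlgebraicGeometry

theorem of_finite_family {X Y : Scheme.{u}} (f : X ⟶ Y) {ι : Type w} [Finite ι] (Xi : ι → Scheme.{u}) (j : ∀ i, Xi i ⟶ X)
    (hf : ∀ i, UniversallyClosed (j i ≫ f)) (hcov : ∀ x : X, ∃ i, x ∈ Set.range (j i)) : UniversallyClosed f := by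
  constructor
  intro X' T a g f' hpb
  intro Z hZ
  have e : f' '' Z = ⋃ i, (pullback.fst g (j i ≫ f)) ''
      ((hpb.lift (pullback.fst g (j i ≫ f)) (pullback.snd g (j i ≫ f) ≫ j i)
        (by rw [pullback.condition, Category.assoc])) ⁻¹' Z) := by
    ext t
    simp only [Set.mem_iUnion, Set.mem_image, Set.mem_preimage]
    constructor
    · rintro ⟨z, hz, rfl⟩
      obtain ⟨i, w, hw⟩ := hcov (a z)
      -- the pullback of `j i` along `a`
      obtain ⟨v, hv1, hv2⟩ := Scheme.Pullback.exists_preimage_pullback (f := a) (g := j i) z w hw.symm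
      have hc : (pullback.fst a (j i) ≫ f') ≫ g = pullback.snd a (j i) ≫ j i ≫ f := by
        rw [Category.assoc, hpb.w, pullback.condition_assoc]
      refine ⟨i, pullback.lift (pullback.fst a (j i) ≫ f') (pullback.snd a (j i)) hc v, ?_, ?_⟩
      · have e2 : pullback.lift (pullback.fst a (j i) ≫ f') (pullback.snd a (j i)) hc ≫
            hpb.lift (pullback.fst g (j i ≫ f)) (pullback.snd g (j i ≫ f) ≫ j i)
              (by rw [pullback.condition, Category.assoc]) = pullback.fst a (j i) := by
          apply hpb.hom_ext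
          · rw [Category.assoc, hpb.lift_fst, pullback.lift_fst]
          · rw [Category.assoc, hpb.lift_snd, pullback.lift_snd_assoc, pullback.condition]
        rw [← Scheme.Hom.comp_apply, e2, hv1]
        exact hz
      · rw [← Scheme.Hom.comp_apply, pullback.lift_fst, Scheme.Hom.comp_apply, hv1]
    · rintro ⟨i, p, hp, rfl⟩
      exact ⟨_, hp, by rw [← Scheme.Hom.comp_apply, hpb.lift_fst]⟩
  rw [e]
  refine isClosed_iUnion_of_finite fun i => ?_
  exact (hf i).out _ _ _ (IsPullback.of_hasPullback g (j i ≫ f)) _ (hZ.preimage (Scheme.Hom.continuous _))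

end Groth.Agent.Misc9.UnivClosedCover
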