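import Mathlib.AlgebraicGeometry.Morphisms.FormallyUnramified

/-!
Uniqueness of lifts along formally unramified morphisms for an affine scheme over a square-zero extension.
-/

universe u

open CategoryTheory CategoryTheory.Limits AlgebraicGeometry

namespace Groth.Agent.Misc9.UnrLift

lemma isNilpotent_ker {R : CommRingCat.{u}} (J : Ideal R) (hJ : J ^ 2 = ⊥) :
    IsNilpotent (Spec.map (CommRingCat.ofHom (Ideal.Quotient.mk J))).ker := by
  refine ⟨2, Scheme.IdealSheafData.ext_of_isAffine ?_⟩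
  show ((Spec.map (CommRingCat.ofHom (Ideal.Quotient.mk J))).ker ^ 2).ideal _ = (⊥ : (Spec R).IdealSheafData).ideal _
  rw [Scheme.IdealSheafData.ideal_pow, Pi.pow_apply, Scheme.Hom.ker_apply, Scheme.IdealSheafData.ideal_bot,
    Pi.bot_apply, pow_two, eq_bot_iff, Ideal.mul_le]
  intro x hx y hy
  have h := Scheme.ΓSpecIso_naturality (CommRingCat.ofHom (Ideal.Quotient.mk J))
  have hmem : ∀ z : Γ(Spec R, ⊤), z ∈ RingHom.ker ((Spec.map (CommRingCat.ofHom (Ideal.Quotient.mk J))).app ⊤).hom →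
      (Scheme.ΓSpecIso R).hom.hom z ∈ J := by
    intro z hz
    rw [← Ideal.Quotient.eq_zero_iff_mem]
    have h2 := ConcreteCategory.congr_hom h z
    refine h2.symm.trans ?_
    show (Scheme.ΓSpecIso _).hom.hom ((Spec.map (CommRingCat.ofHom (Ideal.Quotient.mk J))).app ⊤ z) = 0
    rw [RingHom.mem_ker] at hz
    exact (congrArg _ hz).trans (map_zero _)
  rw [Ideal.mem_bot]
  apply (ConcreteCategory.bijective_of_isIso (Scheme.ΓSpecIso R).hom).1
  have h3 : (Scheme.ΓSpecIso R).hom.hom x * (Scheme.ΓSpecIso R).hom.hom y ∈ J ^ 2 := by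
    rw [pow_two]; exact Ideal.mul_mem_mul (hmem x hx) (hmem y hy)
  rw [hJ, Ideal.mem_bot, ← map_mul] at h3
  exact h3.trans (map_zero _).symm

/-- two morphisms out of an affine scheme over `Spec A` which agree over `Spec (A/I)`, `I² = 0`, and after
composition with a formally unramified morphism are equal -/
theorem ext_of_sq_zero {A : Type u} [CommRing A] (I : Ideal A) (hI : I ^ 2 = ⊥) {W X Y : Scheme.{u}} [IsAffine W]
    (p : W ⟶ Spec (CommRingCat.of A)) (f : X ⟶ Y) [FormallyUnramified f] {l₁ l₂ : W ⟶ X}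
    (h : ∀ (V : Scheme.{u}) (v : V ⟶ W) (t : V ⟶ Spec (CommRingCat.of (A ⧸ I))),
      v ≫ p = t ≫ Spec.map (CommRingCat.ofHom (Ideal.Quotient.mk I)) → v ≫ l₁ = v ≫ l₂)
    (hf : l₁ ≫ f = l₂ ≫ f) : l₁ = l₂ := by
  obtain ⟨ψ, hψ⟩ : ∃ ψ, Spec.map ψ = W.isoSpec.inv ≫ p := ⟨_, Spec.map_preimage _⟩
  let J : Ideal Γ(W, ⊤) := I.map ψ.hom
  have hJ : J ^ 2 = ⊥ := by rw [← Ideal.map_pow, hI, Ideal.map_bot]
  haveI : IsClosedImmersion (Spec.map (CommRingCat.ofHom (Ideal.Quotient.mk J))) :=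
    IsClosedImmersion.spec_of_surjective _ Ideal.Quotient.mk_surjective
  rw [← cancel_epi W.isoSpec.inv]
  refine FormallyUnramified.hom_ext (Spec.map (CommRingCat.ofHom (Ideal.Quotient.mk J))) (isNilpotent_ker J hJ) f
    ?_ (by simp only [Category.assoc, hf])
  simp only [← Category.assoc]
  refine h _ _ (Spec.map (CommRingCat.ofHom (Ideal.quotientMap J ψ.hom Ideal.le_comap_map))) ?_
  rw [Category.assoc, ← hψ, ← Spec.map_comp, ← Spec.map_comp]
  congr 1

end Groth.Agent.Misc9.UnrLift
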