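import Groth.Agent.Misc9.ValLift
import Groth.Agent.S7472
import Mathlib.AlgebraicGeometry.Sites.Fpqc

/-! Examples of V / h coverings. -/

set_option autoImplicit false
set_option backward.isDefEq.respectTransparency false
universe w u
namespace Groth.Agent.Misc9.VCoverExamples
open CategoryTheory CategoryTheory.Limits AlgebraicGeometry
open Groth.Agent.Misc9

variable {T : Scheme.{u}}

theorem isVCover_of_qc_flat (E : PreZeroHypercover.{w} T) [QuasiCompactCover E] (hflat : ∀ i, Flat (E.f i)) :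
    HTop.IsVCover E := by
  rintro ⟨U, hU⟩
  obtain ⟨n, i, V, hV, h⟩ := QuasiCompactCover.exists_isAffineOpen_of_isCompact E hU.isCompact
  have hle : ∀ k, V k ≤ E.f (i k) ⁻¹ᵁ U := fun k x hx => by
    show E.f (i k) x ∈ (U : Set T)
    rw [← h]
    exact Set.mem_iUnion.2 ⟨k, x, hx, rfl⟩
  haveI := hflat
  refine ⟨{ I₀ := Fin n, X := fun k => (V k).toScheme, f := fun k => (E.f (i k)).resLE U (V k) (hle k) },
    ⟨hU, inferInstanceAs (Finite (Fin n)), fun k => hV k, ValLift.hasValLift_of_flat _ (fun k => ?_) fun t => ?_⟩,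
    fun k => ⟨i k, (V k).ι, (Scheme.Hom.resLE_comp_ι _ _).symm⟩⟩
  · show Flat ((E.f (i k)).resLE U (V k) (hle k))
    exact MorphismProperty.of_postcomp @Flat _ U.ι (inferInstance : IsOpenImmersion U.ι)
      (by rw [Scheme.Hom.resLE_comp_ι]; infer_instance)
  · obtain ⟨k, x, hx, e⟩ : ∃ k, ∃ x ∈ V k, E.f (i k) x = t.1 := by
      have := h.symm.subset t.2
      simpa using this
    refine ⟨k, ⟨x, hx⟩, ?_⟩
    apply Subtype.ext
    show (((E.f (i k)).resLE U (V k) (hle k)) ≫ U.ι) ⟨x, hx⟩ = t.1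
    rw [Scheme.Hom.resLE_comp_ι]
    exact e

theorem isVCover_of_fpqc (𝒰 : Scheme.Cover Scheme.fpqcPrecoverage T) : HTop.IsVCover 𝒰.toPreZeroHypercover := by
  have h := 𝒰.mem₀
  have h1 : QuasiCompactCover 𝒰.toPreZeroHypercover := Scheme.presieve₀_mem_qcPrecoverage_iff.1 h.1
  exact isVCover_of_qc_flat _ (((Scheme.presieve₀_mem_precoverage_iff _).1 h.2).2)

theorem isVCover_of_openImmersion (E : PreZeroHypercover.{w} T) (ho : ∀ i, IsOpenImmersion (E.f i))
    (hcov : ∀ t : T, ∃ i x, E.f i x = t) : HTop.IsVCover E := by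
  have h : E.presieve₀ ∈ Scheme.precoverage @IsOpenImmersion T :=
    (Scheme.presieve₀_mem_precoverage_iff _).2 ⟨hcov, ho⟩
  haveI : QuasiCompactCover E :=
    Scheme.presieve₀_mem_qcPrecoverage_iff.1 (Scheme.zariskiPrecoverage_le_qcPrecoverage _ h)
  exact isVCover_of_qc_flat E fun i => by haveI := ho i; infer_instance

theorem isHCover_singleton_of_proper {X Y : Scheme.{u}} (f : Y ⟶ X) [IsProper f] [Surjective f]
    [LocallyOfFinitePresentation f] : HTop.IsHCover (PreZeroHypercover.singleton.{w} f) := by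
  refine ⟨fun _ => ‹_›, ?_⟩
  rintro ⟨U, hU⟩
  haveI : IsAffine (U : Scheme.{u}) := hU
  haveI : CompactSpace (f ⁻¹ᵁ U).toScheme := isCompact_iff_compactSpace.mp (f.isCompact_preimage hU.isCompact)
  let 𝒲 := (f ⁻¹ᵁ U).toScheme.affineCover.finiteSubcover
  obtain ⟨n, ⟨e⟩⟩ := Finite.exists_equiv_fin 𝒲.I₀
  refine ⟨{ I₀ := Fin n, X := fun k => 𝒲.X (e.symm k), f := fun k => 𝒲.f (e.symm k) ≫ (f ∣_ U) },
    ValLift.standardV_of_standardPh _ ⟨hU, inferInstanceAs (Finite (Fin n)),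
      fun k => inferInstanceAs (IsAffine (𝒲.X _)), (f ⁻¹ᵁ U).toScheme, f ∣_ U, fun k => 𝒲.f (e.symm k),
      inferInstance, IsZariskiLocalAtTarget.restrict (P := @Surjective) ‹Surjective f› U, fun k => 𝒲.map_prop _, fun k => rfl, fun x => ?_⟩,
    fun k => ⟨PUnit.unit, 𝒲.f (e.symm k) ≫ (f ⁻¹ᵁ U).ι, ?_⟩⟩
  · obtain ⟨i, y, hy⟩ := 𝒲.exists_eq x
    obtain ⟨k, rfl⟩ := e.symm.surjective i
    exact ⟨k, y, hy⟩
  · show (𝒲.f (e.symm k) ≫ (f ⁻¹ᵁ U).ι) ≫ f = (𝒲.f (e.symm k) ≫ (f ∣_ U)) ≫ U.ι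
    rw [Category.assoc, Category.assoc, morphismRestrict_ι]

theorem isHCover_sigma_iff (E : PreZeroHypercover.{u} T) (hE : ∀ i, LocallyOfFinitePresentation (E.f i)) :
    HTop.IsHCover E ↔ HTop.IsHCover (PreZeroHypercover.singleton.{0} (Sigma.desc E.f)) := by
  constructor
  · intro h
    refine ⟨fun _ => IsZariskiLocalAtSource.sigmaDesc hE, fun U => ?_⟩
    obtain ⟨F, hF, hr⟩ := h.2 U
    refine ⟨F, hF, fun j => ?_⟩
    obtain ⟨i, k, hk⟩ := hr j
    refine ⟨PUnit.unit, k ≫ Sigma.ι E.X i, ?_⟩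
    show (k ≫ Sigma.ι E.X i) ≫ Sigma.desc E.f = _
    rw [Category.assoc, Sigma.ι_desc, hk]
  · intro h
    refine ⟨hE, fun U => ?_⟩


    have hV : HTop.IsVCover (PreZeroHypercover.singleton.{u} (Sigma.desc E.f)) := by
      intro U'
      obtain ⟨F, hF, hr⟩ := h.2 U'
      refine ⟨F, hF, fun j => ?_⟩
      obtain ⟨i, k, hk⟩ := hr j
      exact ⟨PUnit.unit, k, hk⟩
    have hb := S7472.result (PreZeroHypercover.singleton.{u} (Sigma.desc E.f)) hV
      (fun _ => { I₀ := E.I₀, X := E.X, f := Sigma.ι E.X })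
      (fun _ => isVCover_of_openImmersion _ (fun i => inferInstanceAs (IsOpenImmersion (Sigma.ι E.X i)))
        fun t => (sigmaOpenCover E.X).exists_eq t)
    obtain ⟨F, hF, hr⟩ := hb U
    refine ⟨F, hF, fun j => ?_⟩
    obtain ⟨⟨_, i⟩, k, hk⟩ := hr j
    refine ⟨i, k, ?_⟩
    rw [← hk]
    show k ≫ E.f i = k ≫ Sigma.ι E.X i ≫ Sigma.desc E.f
    rw [Sigma.ι_desc]

end Groth.Agent.Misc9.VCoverExamples
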