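import Groth.Prelude.Def_HTop
import Groth.Agent.Misc9.ValLift
import Mathlib.AlgebraicGeometry.AffineTransitionLimit
import Mathlib.CategoryTheory.Comma.Over.Pullback
import Mathlib.CategoryTheory.Limits.Constructions.Over.Connected

/-! Standard V coverings pass to cofiltered limits of affines. -/

set_option autoImplicit false
set_option backward.isDefEq.respectTransparency false
universe w u
namespace Groth.Agent.Misc9.VLimit
open CategoryTheory CategoryTheory.Limits AlgebraicGeometry IsLocalRing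

theorem exists_mul_of_mem_map {V C : Type u} [CommRing V] [IsDomain V] [ValuationRing V] [CommRing C] (ψ : V →+* C)
    (I : Ideal V) {x : C} (hx : x ∈ I.map ψ) : ∃ v ∈ I, ∃ b : C, x = ψ v * b := by
  refine Submodule.span_induction ?_ ?_ ?_ ?_ hx
  · rintro _ ⟨v, hv, rfl⟩
    exact ⟨v, hv, 1, (mul_one _).symm⟩
  · exact ⟨0, I.zero_mem, 0, by simp⟩
  · rintro _ _ - - ⟨v, hv, b, rfl⟩ ⟨w, hw, c, rfl⟩
    rcases ValuationRing.dvd_total v w with ⟨r, rfl⟩ | ⟨r, rfl⟩
    · exact ⟨v, hv, b + ψ r * c, by simp [mul_add, mul_assoc]⟩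
    · exact ⟨w, hw, ψ r * b + c, by simp [mul_add, mul_assoc]⟩
  · rintro r _ - ⟨v, hv, b, rfl⟩
    exact ⟨v, hv, r * b, by simp [mul_left_comm]⟩

theorem exists_primes {V C : Type u} [CommRing V] [IsDomain V] [ValuationRing V] [CommRing C] (ψ : V →+* C)
    (h : ∀ v ∈ maximalIdeal V, ∀ a : V, a ≠ 0 → ∀ b : C, ψ a * (1 - ψ v * b) ≠ 0) :
    ∃ q p : PrimeSpectrum C, q ≤ p ∧ p.asIdeal.comap ψ = maximalIdeal V ∧ q.asIdeal.comap ψ = ⊥ := by
  let T : Ideal C :=
    { carrier := {t | ∃ a : V, a ≠ 0 ∧ ψ a * t = 0}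
      zero_mem' := ⟨1, one_ne_zero, by simp⟩
      add_mem' := by
        rintro s t ⟨a, ha, has⟩ ⟨b, hb, hbt⟩
        refine ⟨a * b, mul_ne_zero ha hb, ?_⟩
        calc ψ (a * b) * (s + t) = ψ b * (ψ a * s) + ψ a * (ψ b * t) := by rw [map_mul]; ring
          _ = 0 := by rw [has, hbt]; simp
      smul_mem' := by
        rintro r t ⟨a, ha, hat⟩
        exact ⟨a, ha, by rw [smul_eq_mul, mul_left_comm, hat, mul_zero]⟩ }
  have hJ : (maximalIdeal V).map ψ ⊔ T ≠ ⊤ := by
    intro e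
    obtain ⟨x, hx, t, ⟨a, ha, hat⟩, hxt⟩ := Submodule.mem_sup.1 (e ▸ Submodule.mem_top : (1 : C) ∈ (maximalIdeal V).map ψ ⊔ T)
    obtain ⟨v, hv, b, rfl⟩ := exists_mul_of_mem_map ψ _ hx
    refine h v hv a ha b ?_
    rw [← hat, ← hxt]
    ring
  obtain ⟨p, hp, hJp⟩ := Ideal.exists_le_maximal _ hJ
  let S : Submonoid C :=
    { carrier := {x | ∃ a : V, a ≠ 0 ∧ ∃ s : C, s ∉ p ∧ x = ψ a * s}
      one_mem' := ⟨1, one_ne_zero, 1, fun hh => hp.ne_top ((Ideal.eq_top_iff_one p).2 hh), by simp⟩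
      mul_mem' := by
        rintro _ _ ⟨a, ha, s, hs, rfl⟩ ⟨b, hb, t, ht, rfl⟩
        exact ⟨a * b, mul_ne_zero ha hb, s * t, fun hh => (hp.isPrime.mem_or_mem hh).elim hs ht, by rw [map_mul]; ring⟩ }
  have hd : Disjoint ((⊥ : Ideal C) : Set C) S := by
    rw [Set.disjoint_left]
    rintro x (hx : x = 0) ⟨a, ha, s, hs, rfl⟩
    exact hs (hJp (Ideal.mem_sup_right ⟨a, ha, hx⟩))
  obtain ⟨q, hq, -, hqS⟩ := Ideal.exists_le_prime_disjoint ⊥ S hd
  refine ⟨⟨q, hq⟩, ⟨p, hp.isPrime⟩, fun x hx => ?_, ?_, ?_⟩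
  · by_contra hxp
    exact Set.disjoint_left.1 hqS hx ⟨1, one_ne_zero, x, hxp, by simp⟩
  · refine le_antisymm (IsLocalRing.le_maximalIdeal (Ideal.comap_ne_top _ hp.ne_top)) ?_
    exact Ideal.map_le_iff_le_comap.1 (le_sup_left.trans hJp)
  · refine eq_bot_iff.2 fun a ha => ?_
    by_contra hne
    exact Set.disjoint_left.1 hqS ha ⟨a, hne, 1, fun hh => hp.ne_top ((Ideal.eq_top_iff_one p).2 hh), by simp⟩

variable {Y : Scheme.{u}} [IsAffine Y] {I : Type u} [SmallCategory I] [IsCofiltered I]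

theorem hasValLift_of_limit (D : I ⥤ Over Y) [∀ i, IsAffine (D.obj i).left] (c : Cone D) (hc : IsLimit ((Over.forget Y).mapCone c))
    (h : ∀ i, HTop.HasValLift (PreZeroHypercover.singleton.{w} (D.obj i).hom)) :
    HTop.HasValLift (PreZeroHypercover.singleton.{w} c.pt.hom) := by
  intro V _ _ g
  haveI : IsConnected I := IsCofiltered.isConnected I
  have hc₀ : IsLimit c := isLimitOfReflects (Over.forget Y) hc
  let D' : I ⥤ Scheme.{u} := (D ⋙ Over.pullback g) ⋙ Over.forget (Spec V)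
  let c' : Cone D' := (Over.forget (Spec V)).mapCone ((Over.pullback g).mapCone c)
  have hc' : IsLimit c' := isLimitOfPreserves (Over.forget (Spec V)) (isLimitOfPreserves (Over.pullback g) hc₀)
  haveI : ∀ i, IsAffine (D'.obj i) := fun i => inferInstanceAs (IsAffine (pullback (D.obj i).hom g))
  haveI : ∀ {i j : I} (f : i ⟶ j), IsAffineHom (D'.map f) := fun f => isAffineHom_of_isAffine _
  haveI : IsAffine c'.pt := Scheme.isAffine_of_isLimit c' hc'
  let hP : c'.pt ⟶ Spec V := pullback.snd c.pt.hom g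
  let C := Γ(c'.pt, ⊤)
  let ψ : V ⟶ C := Spec.preimage (c'.pt.isoSpec.inv ≫ hP)
  have hψ : Spec.map ψ = c'.pt.isoSpec.inv ≫ hP := Spec.map_preimage _
  obtain ⟨q, p, hqp, hp, hq⟩ := exists_primes ψ.hom (by
    intro v hv a ha b hab
    obtain ⟨i, b', hb'⟩ := exists_appTop_π_eq_of_isLimit D' c' hc' b
    rw [hb'] at hab
    let πc (j : I) : c'.pt ⟶ D'.obj j := c'.π.app j
    let hPi (j : I) : D'.obj j ⟶ Spec V := pullback.snd (D.obj j).hom g
    let ψi (j : I) : V ⟶ Γ(D'.obj j, ⊤) := Spec.preimage ((D'.obj j).isoSpec.inv ≫ hPi j)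
    have hcomp : ∀ j, ψi j ≫ (πc j).appTop = ψ := by
      intro j
      apply Spec.map_injective
      rw [Spec.map_comp, Spec.map_preimage, hψ, Scheme.isoSpec_inv_naturality_assoc]
      congr 1
      exact pullback.lift_snd _ _ _
    have htr : ∀ {j k : I} (f : j ⟶ k), ψi k ≫ (D'.map f).appTop = ψi j := by
      intro j k f
      apply Spec.map_injective
      rw [Spec.map_comp, Spec.map_preimage, Spec.map_preimage, Scheme.isoSpec_inv_naturality_assoc]
      congr 1
      exact pullback.lift_snd _ _ _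
    let z : Γ(D'.obj i, ⊤) := ψi i a * (1 - ψi i v * b')
    have hz : (πc i).appTop z = (πc i).appTop 0 := by
      simp only [z, map_mul, map_sub, map_one, map_zero, ← ConcreteCategory.comp_apply, hcomp]
      exact hab
    obtain ⟨j, f, hf⟩ := exists_app_map_eq_map_of_isLimit D' c' hc' (i := i) (U := ⊤) isCompact_univ z 0 hz
    let bj : Γ(D'.obj j, ⊤) := (D'.map f).appTop b'
    have hj : ψi j a * (1 - ψi j v * bj) = 0 := by
      have : (D'.map f).appTop z = (D'.map f).appTop 0 := hf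
      simpa only [z, map_mul, map_sub, map_one, map_zero, ← ConcreteCategory.comp_apply, htr f] using this
    obtain ⟨W, _, _, φ, hφ, _, g', hg'⟩ := h j V g
    let l : Spec W ⟶ D'.obj j := pullback.lift g' (Spec.map φ) hg'
    let θ : Γ(D'.obj j, ⊤) ⟶ W := Spec.preimage (l ≫ (D'.obj j).isoSpec.hom)
    have hθ : ψi j ≫ θ = φ := by
      apply Spec.map_injective
      rw [Spec.map_comp, Spec.map_preimage, Spec.map_preimage, Category.assoc, Iso.hom_inv_id_assoc]
      exact pullback.lift_snd _ _ _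
    have h0 : φ a * (1 - φ v * θ bj) = 0 := by
      have := congrArg θ hj
      simpa only [map_mul, map_sub, map_one, map_zero, ← ConcreteCategory.comp_apply, hθ] using this
    have h1 : φ v * θ bj = 1 := by
      rcases mul_eq_zero.1 h0 with h' | h'
      · exact absurd (hφ.1 (h'.trans (map_zero φ.hom).symm)) ha
      · exact (sub_eq_zero.1 h').symm
    haveI := hφ.2
    exact (mem_maximalIdeal v).1 hv (IsUnit.of_map φ.hom v (IsUnit.of_mul_eq_one _ h1)))
  obtain ⟨W, h1, h2, φ, hφ, gW, hgW, -⟩ := ValLift.exists_extVal V (P := Spec C) (Spec.map ψ) q p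
    ((PrimeSpectrum.le_iff_specializes q p).1 hqp) (PrimeSpectrum.ext hp) hq
  refine ⟨W, h1, h2, φ, hφ, PUnit.unit, gW ≫ c'.pt.isoSpec.inv ≫ pullback.fst c.pt.hom g, ?_⟩
  show (gW ≫ c'.pt.isoSpec.inv ≫ pullback.fst c.pt.hom g) ≫ c.pt.hom = _
  rw [Category.assoc, Category.assoc, pullback.condition, ← hgW, hψ]
  simp only [Category.assoc]
  rfl

theorem singleton_iff (D : I ⥤ Over Y) [∀ i, IsAffine (D.obj i).left] (c : Cone D) (hc : IsLimit ((Over.forget Y).mapCone c)) :
    HTop.IsStandardV (PreZeroHypercover.singleton.{w} c.pt.hom) ↔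
      ∀ i, HTop.IsStandardV (PreZeroHypercover.singleton.{w} (D.obj i).hom) := by
  constructor
  · intro h i
    refine ⟨h.isAffine, inferInstanceAs (Finite PUnit), fun _ => inferInstanceAs (IsAffine (D.obj i).left), fun V _ _ g => ?_⟩
    obtain ⟨W, a, b, φ, hφ, _, g', hg'⟩ := h.lift V g
    refine ⟨W, a, b, φ, hφ, PUnit.unit, g' ≫ (c.π.app i).left, ?_⟩
    show (g' ≫ (c.π.app i).left) ≫ (D.obj i).hom = _
    rw [Category.assoc, Over.w]
    exact hg'
  · intro h
    haveI : ∀ i, IsAffine ((D ⋙ Over.forget Y).obj i) := fun i => inferInstanceAs (IsAffine (D.obj i).left)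
    haveI : ∀ {i j : I} (f : i ⟶ j), IsAffineHom ((D ⋙ Over.forget Y).map f) := fun f => isAffineHom_of_isAffine _
    haveI : IsAffine c.pt.left := Scheme.isAffine_of_isLimit ((Over.forget Y).mapCone c) hc
    exact ⟨inferInstance, inferInstanceAs (Finite PUnit), fun _ => inferInstanceAs (IsAffine c.pt.left),
      hasValLift_of_limit D c hc fun i => (h i).lift⟩

end Groth.Agent.Misc9.VLimit
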