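import Groth.Agent.Misc9.ValLift
import Groth.Agent.S7471
import Groth.Prelude.Def_SGA1
import Mathlib.AlgebraicGeometry.Limits
import Mathlib.AlgebraicGeometry.Morphisms.QuasiCompact

/-! V coverings are universally submersive; V coverings of quasi-compact morphisms. -/

set_option autoImplicit false
set_option backward.isDefEq.respectTransparency false
universe w w' u
namespace Groth.Agent.Misc9.VSubmersive
open CategoryTheory CategoryTheory.Limits AlgebraicGeometry IsLocalRing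
open Groth.Agent.Misc9

variable {T : Scheme.{u}}

/-- over a standard V covering specializations lift -/
theorem lift_specializes (F : PreZeroHypercover.{w} T) (hF : HTop.HasValLift F) {s t : T} (h : s ⤳ t) :
    ∃ (j : F.I₀) (a b : F.X j), a ⤳ b ∧ F.f j a = s ∧ F.f j b = t := by
  obtain ⟨A, g, hgt, hgs⟩ := ValLift.exists_valuationSubring s t h
  haveI : IsDomain (CommRingCat.of A) := inferInstanceAs (IsDomain A)
  haveI : ValuationRing (CommRingCat.of A) := inferInstanceAs (ValuationRing A)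
  obtain ⟨W, h1, h2, φ, hφ, j, g', hg'⟩ := hF (CommRingCat.of A) g
  have hgen : g ⟨⊥, Ideal.isPrime_bot⟩ = s := by
    have e : Spec.map (CommRingCat.ofHom A.subtype) (closedPoint (T.residueField s)) = ⟨⊥, Ideal.isPrime_bot⟩ := by
      apply PrimeSpectrum.ext
      change Ideal.comap A.subtype (maximalIdeal (T.residueField s)) = ⊥
      rw [maximalIdeal_eq_bot (R := T.residueField s)]
      exact Ideal.comap_bot_of_injective _ Subtype.val_injective
    rw [← e, ← Scheme.Hom.comp_apply, hgs]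
    exact Scheme.fromSpecResidueField_apply s _
  refine ⟨j, g' ⟨⊥, Ideal.isPrime_bot⟩, g' (closedPoint W), ?_, ?_, ?_⟩
  · exact ((PrimeSpectrum.le_iff_specializes _ _).1 (show (⊥ : Ideal W) ≤ _ from bot_le)).map g'.continuous
  · rw [← Scheme.Hom.comp_apply, hg', Scheme.Hom.comp_apply]
    have e : Spec.map φ ⟨⊥, Ideal.isPrime_bot⟩ = ⟨⊥, Ideal.isPrime_bot⟩ := by
      apply PrimeSpectrum.ext
      exact Ideal.comap_bot_of_injective _ hφ.1
    rw [e, hgen]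
  · rw [← Scheme.Hom.comp_apply, hg', Scheme.Hom.comp_apply]
    have e : Spec.map φ (closedPoint W) = closedPoint (CommRingCat.of A) := by
      haveI := hφ.2
      exact comap_closedPoint φ.hom
    rw [e, ← hgt]

theorem isQuotientMap_of_isVCover {X : Scheme.{u}} (f : X ⟶ T) (h : HTop.IsVCover (PreZeroHypercover.singleton.{w} f)) :
    Topology.IsQuotientMap f := by
  have key : ∀ (U : T.affineOpens) (S : Set T), IsClosed (f ⁻¹' S) →
      IsClosed ((U.1.ι) ⁻¹' S) ∧ ∀ t : U.1.toScheme, ∃ x, f x = t.1 := by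
    intro U S hS
    obtain ⟨F, hF, hr⟩ := h U
    haveI := hF.finite_index
    haveI := hF.isAffine_obj
    haveI := hF.isAffine
    choose i k hk using hr
    have hlift : ∀ {s t : U.1.toScheme}, s ⤳ t → _ := fun hst => lift_specializes F hF.lift hst
    refine ⟨?_, fun t => ?_⟩
    swap
    · obtain ⟨j, a, b, -, -, hb⟩ := hlift (specializes_refl t)
      refine ⟨k j b, ?_⟩
      show (k j ≫ f) b = _
      erw [hk j]
      rw [Scheme.Hom.comp_apply, hb]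
      rfl
    let d : ∐ F.X ⟶ U.1.toScheme := Sigma.desc F.f
    let ψ : (Spec Γ(∐ F.X, ⊤)) ⟶ Spec Γ(U.1.toScheme, ⊤) := (∐ F.X).isoSpec.inv ≫ d ≫ U.1.toScheme.isoSpec.hom
    let Z : Set ↑(Spec Γ(∐ F.X, ⊤)) := ((∐ F.X).isoSpec.inv ≫ d) ⁻¹' (U.1.ι ⁻¹' S)
    have hZc : IsClosed (d ⁻¹' (U.1.ι ⁻¹' S)) := by
      have hsum : ∀ x : ↑(∐ F.X), ∃ j y, Sigma.ι F.X j y = x := fun x => (sigmaOpenCover F.X).exists_eq x
      refine ⟨isOpen_iff_forall_mem_open.2 fun x hx => ?_⟩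
      obtain ⟨j, y, rfl⟩ := hsum x
      have ej : ∀ z, U.1.ι (d (Sigma.ι F.X j z)) = f (k j z) := fun z => by
        show ((Sigma.ι F.X j ≫ d) ≫ U.1.ι) z = (k j ≫ f) z
        rw [Sigma.ι_desc]
        erw [hk j]
      refine ⟨Sigma.ι F.X j '' (k j ⁻¹' (f ⁻¹' S))ᶜ, ?_, ?_, y, ?_, rfl⟩
      · rintro _ ⟨z, hz, rfl⟩ hz'
        apply hz
        show f (k j z) ∈ S
        rw [← ej]
        exact hz'
      · exact (Sigma.ι F.X j).isOpenEmbedding.isOpenMap _ ((hS.preimage (k j).continuous).isOpen_compl)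
      · intro hy
        apply hx
        show U.1.ι (d (Sigma.ι F.X j y)) ∈ S
        rw [ej]
        exact hy
    have himg : (d '' (d ⁻¹' (U.1.ι ⁻¹' S))) = U.1.ι ⁻¹' S := by
      refine Set.image_preimage_eq _ fun t => ?_
      obtain ⟨j, a, b, -, -, hb⟩ := hlift (specializes_refl t)
      refine ⟨Sigma.ι F.X j b, ?_⟩
      rw [← Scheme.Hom.comp_apply, Sigma.ι_desc, hb]
    have hst : StableUnderSpecialization (U.1.ι ⁻¹' S) := by
      intro s t hst hs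
      obtain ⟨j, a, b, hab, ha, hb⟩ := hlift hst
      have h1 : Sigma.ι F.X j a ∈ d ⁻¹' (U.1.ι ⁻¹' S) := by
        show d (Sigma.ι F.X j a) ∈ U.1.ι ⁻¹' S
        rw [← Scheme.Hom.comp_apply, Sigma.ι_desc, ha]
        exact hs
      have h2 := (hab.map (Sigma.ι F.X j).continuous).mem_closed hZc h1
      have h3 : d (Sigma.ι F.X j b) = t := by rw [← Scheme.Hom.comp_apply, Sigma.ι_desc, hb]
      rw [← h3]
      exact h2
    have e : ψ '' (((∐ F.X).isoSpec.inv) ⁻¹' (d ⁻¹' (U.1.ι ⁻¹' S))) = U.1.toScheme.isoSpec.hom '' (U.1.ι ⁻¹' S) := by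
      conv_rhs => rw [← himg]
      ext z
      constructor
      · rintro ⟨y, hy, rfl⟩
        exact ⟨d ((∐ F.X).isoSpec.inv y), ⟨_, hy, rfl⟩, rfl⟩
      · rintro ⟨_, ⟨y, hy, rfl⟩, rfl⟩
        refine ⟨(∐ F.X).isoSpec.hom y, ?_, ?_⟩
        · show (∐ F.X).isoSpec.inv ((∐ F.X).isoSpec.hom y) ∈ d ⁻¹' (U.1.ι ⁻¹' S)
          rw [← Scheme.Hom.comp_apply, Iso.hom_inv_id]
          exact hy
        · show ((∐ F.X).isoSpec.hom ≫ ψ) y = _
          simp [ψ]
    obtain ⟨φ, hφ⟩ := Spec.homEquiv.symm.surjective ψ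
    have hcl : IsClosed (ψ '' (((∐ F.X).isoSpec.inv) ⁻¹' (d ⁻¹' (U.1.ι ⁻¹' S)))) := by
      have hst' : StableUnderSpecialization (U.1.toScheme.isoSpec.hom '' (U.1.ι ⁻¹' S)) :=
        hst.image U.1.toScheme.isoSpec.hom.homeomorph.isClosedMap.specializingMap
      rw [← e] at hst'
      rw [← hφ] at hst' ⊢
      exact PrimeSpectrum.isClosed_image_of_stableUnderSpecialization φ.hom _
        (hZc.preimage ((∐ F.X).isoSpec.inv).continuous) hst'
    rw [e] at hcl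
    have := hcl.preimage U.1.toScheme.isoSpec.hom.continuous
    rwa [Set.preimage_image_eq _ U.1.toScheme.isoSpec.hom.isOpenEmbedding.injective] at this
  have hsurj : Function.Surjective f := fun t => by
    obtain ⟨U, hU, htU, -⟩ := exists_isAffineOpen_mem_and_subset (U := (⊤ : T.Opens)) (x := t) trivial
    exact (key ⟨U, hU⟩ Set.univ isClosed_univ).2 ⟨t, htU⟩
  rw [Topology.isQuotientMap_iff_isClosed]
  refine ⟨hsurj, fun S => ⟨fun hS => hS.preimage f.continuous, fun hS => ?_⟩⟩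
  refine ⟨isOpen_iff_forall_mem_open.2 fun t ht => ?_⟩
  obtain ⟨U, hU, htU, -⟩ := exists_isAffineOpen_mem_and_subset (U := (⊤ : T.Opens)) (x := t) trivial
  refine ⟨U.ι '' (U.ι ⁻¹' S)ᶜ, ?_, U.ι.isOpenEmbedding.isOpenMap _ (key ⟨U, hU⟩ S hS).1.isOpen_compl, ⟨t, htU⟩, ht, rfl⟩
  rintro _ ⟨y, hy, rfl⟩
  exact hy

theorem univSubmersive_of_isVCover {X : Scheme.{u}} (f : X ⟶ T) (h : HTop.IsVCover (PreZeroHypercover.singleton.{w} f)) :
    SGA1.UnivSubmersive f := by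
  intro X' T' a g f' hpb
  refine isQuotientMap_of_isVCover.{w} f' fun U => ?_
  obtain ⟨F, hF, hr⟩ := S7471.result g _ h U
  refine ⟨F, hF, fun j => ?_⟩
  obtain ⟨i, k, hk⟩ := hr j
  refine ⟨PUnit.unit, k ≫ hpb.isoPullback.inv, ?_⟩
  show (k ≫ hpb.isoPullback.inv) ≫ f' = _
  rw [Category.assoc, IsPullback.isoPullback_inv_fst]
  exact hk

theorem univSubmersive_sigmaDesc {X : Scheme.{u}} (E : PreZeroHypercover.{u} X) (hE : HTop.IsVCover E) :
    SGA1.UnivSubmersive (Sigma.desc E.f) := by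
  refine univSubmersive_of_isVCover.{0} _ fun U => ?_
  obtain ⟨F, hF, hr⟩ := hE U
  refine ⟨F, hF, fun j => ?_⟩
  obtain ⟨i, k, hk⟩ := hr j
  refine ⟨PUnit.unit, k ≫ Sigma.ι E.X i, ?_⟩
  show (k ≫ Sigma.ι E.X i) ≫ Sigma.desc E.f = _
  rw [Category.assoc, Sigma.ι_desc, hk]

theorem hasValLift_of_isVCover (E : PreZeroHypercover.{w} T) (h : HTop.IsVCover E) : HTop.HasValLift E := by
  intro V _ _ g
  obtain ⟨U, hU, htU, -⟩ := exists_isAffineOpen_mem_and_subset (U := (⊤ : T.Opens)) (x := g (closedPoint V)) trivial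
  obtain ⟨F, hF, hr⟩ := h ⟨U, hU⟩
  have htop : g ⁻¹ᵁ U = ⊤ := (closedPoint_mem_iff _).mp htU
  have hrg : Set.range g ⊆ Set.range U.ι := by
    rw [Scheme.Opens.range_ι]
    rintro _ ⟨p, rfl⟩
    exact htop.ge (Set.mem_univ p)
  obtain ⟨W, h1, h2, φ, hφ, j, g', hg'⟩ := hF.lift V (IsOpenImmersion.lift U.ι g hrg)
  obtain ⟨i, k, hk⟩ := hr j
  refine ⟨W, h1, h2, φ, hφ, i, g' ≫ k, ?_⟩
  rw [Category.assoc, hk, reassoc_of% hg', IsOpenImmersion.lift_fac]

theorem vcover_tfae {X Y : Scheme.{u}} (f : X ⟶ Y) [QuasiCompact f] :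
    (HTop.IsVCover (PreZeroHypercover.singleton.{w} f) ↔ HTop.HasValLift (PreZeroHypercover.singleton.{w} f)) ∧
    (HTop.HasValLift (PreZeroHypercover.singleton.{w} f) ↔ ∀ (Z : Scheme.{u}) (g : Z ⟶ Y) (z' z : Z), z' ⤳ z →
      ∃ w' w : ↑(pullback g f), w' ⤳ w ∧ pullback.fst g f w' = z' ∧ pullback.fst g f w = z) := by
  refine ⟨⟨hasValLift_of_isVCover _, fun h => ?_⟩, ⟨fun h Z g z' z hz => ?_, fun h => ?_⟩⟩
  · rintro ⟨U, hU⟩
    haveI : IsAffine (U : Scheme.{u}) := hU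
    haveI : CompactSpace (f ⁻¹ᵁ U).toScheme := isCompact_iff_compactSpace.mp (f.isCompact_preimage hU.isCompact)
    let 𝒲 := (f ⁻¹ᵁ U).toScheme.affineCover.finiteSubcover
    obtain ⟨n, ⟨e⟩⟩ := Finite.exists_equiv_fin 𝒲.I₀
    refine ⟨{ I₀ := Fin n, X := fun k => 𝒲.X (e.symm k), f := fun k => 𝒲.f (e.symm k) ≫ (f ∣_ U) },
      ⟨hU, inferInstanceAs (Finite (Fin n)), fun k => inferInstanceAs (IsAffine (𝒲.X _)), fun V _ _ g₀ => ?_⟩,
      fun k => ⟨PUnit.unit, 𝒲.f (e.symm k) ≫ (f ⁻¹ᵁ U).ι, ?_⟩⟩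
    · obtain ⟨W, h1, h2, φ, hφ, j₀, g', hg'⟩ := h V (g₀ ≫ U.ι)
      obtain ⟨g', hg'⟩ : ∃ g' : Spec W ⟶ X, g' ≫ f = Spec.map φ ≫ g₀ ≫ U.ι := ⟨_, hg'⟩
      have hr : Set.range g' ⊆ Set.range (f ⁻¹ᵁ U).ι := by
        rw [Scheme.Opens.range_ι]
        rintro _ ⟨p, rfl⟩
        show f (g' p) ∈ U
        rw [← Scheme.Hom.comp_apply, hg', Scheme.Hom.comp_apply, Scheme.Hom.comp_apply]
        exact (g₀ (Spec.map φ p)).2
      let g₁ := IsOpenImmersion.lift (f ⁻¹ᵁ U).ι g' hr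
      obtain ⟨i, y, hy⟩ := 𝒲.exists_eq (g₁ (closedPoint W))
      obtain ⟨k, rfl⟩ := e.symm.surjective i
      haveI : IsOpenImmersion (𝒲.f (e.symm k)) := 𝒲.map_prop _
      have htop : g₁ ⁻¹ᵁ (𝒲.f (e.symm k)).opensRange = ⊤ := (closedPoint_mem_iff _).mp ⟨y, hy⟩
      refine ⟨W, h1, h2, φ, hφ, k, IsOpenImmersion.lift (𝒲.f (e.symm k)) g₁ ?_, ?_⟩
      · rintro _ ⟨p, rfl⟩
        exact htop.ge (Set.mem_univ p)
      · show IsOpenImmersion.lift _ g₁ _ ≫ 𝒲.f (e.symm k) ≫ (f ∣_ U) = _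
        rw [IsOpenImmersion.lift_fac_assoc, ← cancel_mono U.ι, Category.assoc, morphismRestrict_ι,
          IsOpenImmersion.lift_fac_assoc, hg', Category.assoc]
    · show (𝒲.f (e.symm k) ≫ (f ⁻¹ᵁ U).ι) ≫ f = (𝒲.f (e.symm k) ≫ (f ∣_ U)) ≫ U.ι
      rw [Category.assoc, Category.assoc, morphismRestrict_ι]
  · have hp : HTop.HasValLift (PreZeroHypercover.singleton.{w} (pullback.fst g f)) := by
      intro V _ _ g₀
      obtain ⟨W, h1, h2, φ, hφ, j₀, g', hg'⟩ := h V (g₀ ≫ g)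
      obtain ⟨g', hg'⟩ : ∃ g' : Spec W ⟶ X, g' ≫ f = Spec.map φ ≫ g₀ ≫ g := ⟨_, hg'⟩
      exact ⟨W, h1, h2, φ, hφ, PUnit.unit, pullback.lift (Spec.map φ ≫ g₀) g' (by rw [hg', Category.assoc]),
        pullback.lift_fst _ _ _⟩
    obtain ⟨j, a, b, hab, ha, hb⟩ := lift_specializes _ hp hz
    exact ⟨a, b, hab, ha, hb⟩
  · intro V _ _ g
    obtain ⟨q, p, hqp, hq, hp⟩ := h (Spec V) g ⟨⊥, Ideal.isPrime_bot⟩ (closedPoint V)
      ((PrimeSpectrum.le_iff_specializes _ _).1 (show (⊥ : Ideal V) ≤ _ from bot_le))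
    obtain ⟨W, h1, h2, φ, hφ, g', hg', -⟩ := ValLift.exists_extVal V (pullback.fst g f) q p hqp hp (by rw [hq])
    refine ⟨W, h1, h2, φ, hφ, PUnit.unit, g' ≫ pullback.snd g f, ?_⟩
    show (g' ≫ pullback.snd g f) ≫ f = _
    rw [Category.assoc, ← pullback.condition, reassoc_of% hg']

end Groth.Agent.Misc9.VSubmersive
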