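import Mathlib.AlgebraicGeometry.ValuativeCriterion
import Mathlib.AlgebraicGeometry.Morphisms.ClosedImmersion

/-! Valuative criterion along thickenings; open sets descend along submersions. -/

set_option autoImplicit false
set_option backward.isDefEq.respectTransparency false
universe u
namespace Groth.Agent.Misc9.ValMisc
open CategoryTheory CategoryTheory.Limits AlgebraicGeometry

theorem exists_lift_thickening {X X₀ T : Scheme.{u}} (i : X₀ ⟶ X) [IsClosedImmersion i] [Surjective i] [IsReduced T]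
    (g : T ⟶ X) : ∃ g₀ : T ⟶ X₀, g₀ ≫ i = g := by
  haveI : IsClosedImmersion (pullback.fst g i) := MorphismProperty.pullback_fst _ _ ‹_›
  haveI : Surjective (pullback.fst g i) := MorphismProperty.pullback_fst _ _ ‹_›
  haveI := isIso_of_isClosedImmersion_of_surjective (pullback.fst g i)
  exact ⟨inv (pullback.fst g i) ≫ pullback.snd g i, by rw [Category.assoc, ← pullback.condition, IsIso.inv_hom_id_assoc]⟩

theorem valuative_iff {X X₀ Y : Scheme.{u}} (i : X₀ ⟶ X) [IsClosedImmersion i] [Surjective i] (f : Y ⟶ X) :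
    ValuativeCriterion f ↔ ValuativeCriterion (pullback.snd f i) := by
  constructor
  · intro h S
    obtain ⟨⟨⟨⟨l, l1, l2⟩⟩, huniq⟩⟩ := h { R := S.R, K := S.K, i₁ := S.i₁ ≫ pullback.fst f i, i₂ := S.i₂ ≫ i, commSq := ⟨by rw [Category.assoc, pullback.condition, reassoc_of% S.commSq.w]⟩ }
    dsimp only at l l1 l2
    have e1 : Spec.map (CommRingCat.ofHom (algebraMap S.R S.K)) ≫ pullback.lift l S.i₂ l2 = S.i₁ := by
      apply pullback.hom_ext
      · rw [Category.assoc, pullback.lift_fst]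
        exact l1
      · rw [Category.assoc, pullback.lift_snd]
        exact S.commSq.w.symm
    refine ⟨⟨⟨⟨pullback.lift l S.i₂ l2, e1, pullback.lift_snd _ _ _⟩⟩, fun m => ?_⟩⟩
    obtain ⟨m, m1, m2⟩ := m
    have h1 : Spec.map (CommRingCat.ofHom (algebraMap S.R S.K)) ≫ m ≫ pullback.fst f i = S.i₁ ≫ pullback.fst f i := by
      rw [reassoc_of% m1]
    have h2 : (m ≫ pullback.fst f i) ≫ f = S.i₂ ≫ i := by
      rw [Category.assoc, pullback.condition, reassoc_of% m2]
    have h3 : m ≫ pullback.fst f i = l := congrArg CommSq.LiftStruct.l (huniq ⟨_, h1, h2⟩)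
    apply CommSq.LiftStruct.ext
    show m = pullback.lift l S.i₂ l2
    apply pullback.hom_ext
    · rw [pullback.lift_fst]; exact h3
    · rw [pullback.lift_snd]; exact m2
  · intro h S
    obtain ⟨g₀, hg₀⟩ := exists_lift_thickening i S.i₂
    obtain ⟨⟨⟨⟨l, l1, l2⟩⟩, huniq⟩⟩ := h { R := S.R, K := S.K, i₁ := pullback.lift S.i₁ (Spec.map (CommRingCat.ofHom (algebraMap S.R S.K)) ≫ g₀) (by rw [Category.assoc, hg₀]; exact S.commSq.w), i₂ := g₀, commSq := ⟨pullback.lift_snd _ _ _⟩ }
    dsimp only at l l1 l2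
    have e1 : Spec.map (CommRingCat.ofHom (algebraMap S.R S.K)) ≫ l ≫ pullback.fst f i = S.i₁ := by
      rw [reassoc_of% l1, pullback.lift_fst]
    have e2 : (l ≫ pullback.fst f i) ≫ f = S.i₂ := by
      refine (Category.assoc _ _ _).trans ((congrArg (l ≫ ·) pullback.condition).trans ((Category.assoc _ _ _).symm.trans ?_))
      exact (congrArg (· ≫ i) l2).trans hg₀
    refine ⟨⟨⟨⟨l ≫ pullback.fst f i, e1, e2⟩⟩, fun m => ?_⟩⟩
    obtain ⟨m, m1, m2⟩ := m
    have h1 : Spec.map (CommRingCat.ofHom (algebraMap S.R S.K)) ≫ pullback.lift m g₀ (by rw [m2, hg₀]) =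
        pullback.lift S.i₁ (Spec.map (CommRingCat.ofHom (algebraMap S.R S.K)) ≫ g₀)
          (by rw [Category.assoc, hg₀]; exact S.commSq.w) := by
      apply pullback.hom_ext
      · rw [Category.assoc, pullback.lift_fst, pullback.lift_fst]; exact m1
      · rw [Category.assoc, pullback.lift_snd, pullback.lift_snd]
    have h3 : pullback.lift m g₀ (by rw [m2, hg₀]) = l := congrArg CommSq.LiftStruct.l (huniq ⟨_, h1, pullback.lift_snd _ _ _⟩)
    apply CommSq.LiftStruct.ext
    show m = l ≫ pullback.fst f i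
    rw [← h3, pullback.lift_fst]

theorem opens_descend {S' S : Scheme.{u}} (g : S' ⟶ S) (hg : Topology.IsQuotientMap g.base) (U' : S'.Opens)
    (h : (pullback.fst g g) ⁻¹ᵁ U' = (pullback.snd g g) ⁻¹ᵁ U') : ∃! U : S.Opens, g ⁻¹ᵁ U = U' := by
  have hsat : g.base ⁻¹' (g.base '' (U' : Set S')) = U' := by
    refine subset_antisymm ?_ (Set.subset_preimage_image _ _)
    rintro a ⟨b, hb, hab⟩
    obtain ⟨z, hz1, hz2⟩ := Scheme.Pullback.exists_preimage_pullback (f := g) (g := g) b a hab
    have : z ∈ pullback.fst g g ⁻¹ᵁ U' := by show pullback.fst g g z ∈ U'; rw [hz1]; exact hb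
    rw [h] at this
    exact hz2 ▸ (this : pullback.snd g g z ∈ U')
  refine ⟨⟨g.base '' (U' : Set S'), hg.isOpen_preimage.mp (hsat.symm ▸ U'.2)⟩, TopologicalSpace.Opens.ext hsat, ?_⟩
  rintro U rfl
  exact TopologicalSpace.Opens.ext (Set.image_preimage_eq _ hg.surjective).symm

end Groth.Agent.Misc9.ValMisc
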