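import Groth.Agent.Misc9.ValRefine
import Mathlib.AlgebraicGeometry.FunctionField
import Mathlib.AlgebraicGeometry.Morphisms.Separated
import Mathlib.AlgebraicGeometry.Morphisms.QuasiSeparated

/-! Consequences of the refined valuative criteria. -/

set_option autoImplicit false
set_option backward.isDefEq.respectTransparency false
universe u
namespace Groth.Agent.Misc9.ValRefine2
open CategoryTheory CategoryTheory.Limits AlgebraicGeometry IsLocalRing
open Groth.Agent.Misc9.ValRefine

variable {U X Y : Scheme.{u}} (h : U ⟶ Y) (f : Y ⟶ X)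

theorem dominant_generic {A : CommRingCat.{u}} [IsDomain A] {B : CommRingCat.{u}} (j : A ⟶ B) (hj : Function.Injective j.hom) :
    IsDominant (Spec.map j) := by
  refine ⟨?_⟩
  show DenseRange (PrimeSpectrum.comap j.hom)
  rw [PrimeSpectrum.denseRange_comap_iff_ker_le_nilRadical, (RingHom.injective_iff_ker_eq_bot _).1 hj]
  exact bot_le

theorem uniqAt_of_isSeparated [IsSeparated f] : UniqAt h f := by
  intro z C φ₁ φ₂ h1 h2 h3
  haveI : IsDomain (CommRingCat.of C) := inferInstanceAs (IsDomain C)
  haveI := dominant_generic (CommRingCat.ofHom C.subtype) Subtype.val_injective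
  exact ext_of_isDominant_of_isSeparated f h3 (Spec.map (CommRingCat.ofHom C.subtype)) (h1.trans h2.symm)

theorem existAt_of_univClosed [UniversallyClosed f] : ExistAt h f := by
  intro z C φ hφ
  have hex : ValuativeCriterion.Existence f := by
    have h := ‹UniversallyClosed f›
    rw [UniversallyClosed.eq_valuativeCriterion] at h
    exact h.1
  obtain ⟨⟨l, l1, l2⟩⟩ := (hex { R := C, K := U.residueField z, i₁ := U.fromSpecResidueField z ≫ h, i₂ := φ, commSq := ⟨by rw [Category.assoc]; exact hφ.symm⟩ }).exists_lift
  exact ⟨l, l1, l2⟩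

theorem separated_iff [CompactSpace Y] [QuasiSeparatedSpace Y] [QuasiCompact h] [QuasiSeparatedSpace X] (hd : DenseRange h.base) :
    IsSeparated f ↔ UniqAt h f := by
  refine ⟨fun _ => uniqAt_of_isSeparated h f, fun hu => ?_⟩
  haveI : QuasiSeparated f := inferInstance
  exact IsSeparated.of_valuativeCriterion f (uniqueness h f hd hu)

theorem criterion_S9700 [QuasiCompact f] [QuasiCompact h] (hd : DenseRange h.base)
    (H : ∀ sq : ValuativeCommSq f, (∃ i : Spec (.of sq.K) ⟶ U, i ≫ h = sq.i₁) →
      Nonempty (Unique sq.commSq.LiftStruct)) :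
    UniversallyClosed f ∧ (QuasiSeparated f → IsSeparated f) := by
  have hu : UniqAt h f := by
    intro z C φ₁ φ₂ h1 h2 h3
    obtain ⟨hu⟩ := H { R := C, K := U.residueField z, i₁ := U.fromSpecResidueField z ≫ h, i₂ := φ₁ ≫ f, commSq := ⟨by rw [← h1, Category.assoc]; rfl⟩ } ⟨U.fromSpecResidueField z, rfl⟩
    exact congrArg CommSq.LiftStruct.l ((hu.uniq ⟨φ₁, h1, rfl⟩).trans (hu.uniq ⟨φ₂, h2, h3.symm⟩).symm)
  have he : ExistAt h f := by
    intro z C φ hφ
    obtain ⟨⟨⟨⟨l, l1, l2⟩⟩, -⟩⟩ := H { R := C, K := U.residueField z, i₁ := U.fromSpecResidueField z ≫ h, i₂ := φ, commSq := ⟨by rw [Category.assoc]; exact hφ.symm⟩ } ⟨U.fromSpecResidueField z, rfl⟩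
    exact ⟨l, l1, l2⟩
  exact ⟨UniversallyClosed.of_valuativeCriterion f (existence h f hd he hu),
    fun hq => haveI := hq; IsSeparated.of_valuativeCriterion f (uniqueness h f hd hu)⟩

theorem proper_iff [CompactSpace Y] [QuasiSeparatedSpace Y] [QuasiCompact h] [QuasiSeparatedSpace X]
    [LocallyOfFiniteType f] (hd : DenseRange h.base) :
    IsProper f ↔ (ExistAt h f ∧ UniqAt h f) := by
  refine ⟨fun _ => ⟨existAt_of_univClosed h f, uniqAt_of_isSeparated h f⟩, fun ⟨he, hu⟩ => ?_⟩
  haveI : QuasiSeparated f := inferInstance
  haveI : QuasiCompact f := inferInstance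
  haveI := IsSeparated.of_valuativeCriterion f (uniqueness h f hd hu)
  haveI := UniversallyClosed.of_valuativeCriterion f (existence h f hd he hu)
  exact { }

theorem proper_of_functionField {X Y : Scheme.{u}} [IsIntegral X] [IsIntegral Y] [X.IsSeparated] [Y.IsSeparated]
    (f : X ⟶ Y) [LocallyOfFiniteType f] [QuasiCompact f]
    (h : ∀ (R : ValuationSubring X.functionField), R ≠ ⊤ →
      ∀ (y : Y) (hy : f.base (genericPoint X) ⤳ y),
        ((∀ a : Y.presheaf.stalk y, (Y.presheaf.stalkSpecializes hy ≫ f.stalkMap (genericPoint X)).hom a ∈ R) ∧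
          ∀ a ∈ IsLocalRing.maximalIdeal (Y.presheaf.stalk y),
            R.valuation ((Y.presheaf.stalkSpecializes hy ≫ f.stalkMap (genericPoint X)).hom a) < 1) →
        ∃ x : X, (∀ a : X.presheaf.stalk x, algebraMap (X.presheaf.stalk x) X.functionField a ∈ R) ∧
          ∀ a ∈ IsLocalRing.maximalIdeal (X.presheaf.stalk x), R.valuation (algebraMap (X.presheaf.stalk x) X.functionField a) < 1) :
    IsProper f := by
  let U : Scheme.{u} := Spec X.functionField
  let g : U ⟶ X := X.fromSpecStalk (genericPoint X)
  haveI : QuasiCompact g := inferInstance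
  have hd : DenseRange g.base := by
    have hgp : genericPoint X ∈ Set.range g.base := ⟨_, Scheme.fromSpecStalk_closedPoint⟩
    intro x
    have hx : x ∈ closure ({genericPoint X} : Set X) := specializes_iff_mem_closure.1 (genericPoint_specializes x)
    exact closure_mono (Set.singleton_subset_iff.2 hgp) hx
  haveI : IsSeparated f := inferInstance
  have hu : UniqAt g f := uniqAt_of_isSeparated g f
  have he : ExistAt g f := by
    intro z C φ hφ
    haveI hsub : Subsingleton U := inferInstanceAs (Subsingleton (PrimeSpectrum X.functionField))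
    obtain rfl : z = closedPoint X.functionField := Subsingleton.elim _ _
    let K := U.residueField (closedPoint X.functionField)
    let j : X.functionField ⟶ K := Spec.preimage (U.fromSpecResidueField (closedPoint X.functionField))
    have hj : Spec.map j = U.fromSpecResidueField (closedPoint X.functionField) := Spec.map_preimage _
    haveI : Surjective (U.fromSpecResidueField (closedPoint X.functionField)) :=
      ⟨fun x => ⟨closedPoint K, Subsingleton.elim _ _⟩⟩
    haveI : IsClosedImmersion (Spec.map j) := by
      rw [hj]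
      exact IsClosedImmersion.of_isPreimmersion _ (by rw [Set.range_eq_univ.2 (Surjective.surj)]; exact isClosed_univ)
    haveI : IsIso (Spec.map j) := by
      rw [hj] at *
      exact isIso_of_isClosedImmersion_of_surjective _
    haveI : IsIso j := by
      refine ⟨⟨Spec.preimage (inv (Spec.map j)), Spec.map_injective ?_, Spec.map_injective ?_⟩⟩
      · simp [Spec.map_comp]
      · simp [Spec.map_comp]
    let R : ValuationSubring X.functionField := C.comap j.hom
    let t : CommRingCat.of R ⟶ CommRingCat.of C := CommRingCat.ofHom ((j.hom.comp R.subtype).codRestrict C.toSubring fun x => x.2)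
    let t' : CommRingCat.of C ⟶ CommRingCat.of R := CommRingCat.ofHom (((inv j).hom.comp C.subtype).codRestrict R.toSubring fun x => by
      show j.hom ((inv j).hom x) ∈ C
      rw [← RingHom.comp_apply, ← CommRingCat.hom_comp, IsIso.inv_hom_id]
      exact x.2)
    have ht' : t' ≫ CommRingCat.ofHom R.subtype = CommRingCat.ofHom C.subtype ≫ inv j := rfl
    let φR : Spec (CommRingCat.of R) ⟶ Y := Spec.map t' ≫ φ
    have hφR : Spec.map (CommRingCat.ofHom R.subtype) ≫ φR = g ≫ f := by
      rw [← Spec.map_comp_assoc, ht', Spec.map_comp_assoc, hφ, ← hj, ← Spec.map_comp_assoc, IsIso.hom_inv_id, Spec.map_id]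
      exact Category.id_comp _
    haveI : Mono (CommRingCat.ofHom R.subtype) := mono_ofHom _ Subtype.val_injective
    -- a lift for `R`
    obtain ⟨l, hl1, hl2⟩ : ∃ l : Spec (CommRingCat.of R) ⟶ X, Spec.map (CommRingCat.ofHom R.subtype) ≫ l = g ∧ l ≫ f = φR := by
      let y := φR (closedPoint R)
      have hy : f.base (genericPoint X) ⤳ y := by
        have e : f.base (genericPoint X) = φR (Spec.map (CommRingCat.ofHom R.subtype) (closedPoint X.functionField)) := by
          rw [← Scheme.Hom.comp_apply, hφR, Scheme.Hom.comp_apply]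
          exact congrArg _ (Scheme.fromSpecStalk_closedPoint (X := X) (x := genericPoint X)).symm
        rw [e]
        exact (specializes_closedPoint (R := R) _).map φR.continuous
      let b : Y.presheaf.stalk y ⟶ CommRingCat.of R := Scheme.stalkClosedPointTo φR
      have hbg : b ≫ CommRingCat.ofHom R.subtype = Y.presheaf.stalkSpecializes hy ≫ f.stalkMap (genericPoint X) := by
        apply compat hy
        rw [Scheme.SpecMap_stalkMap_fromSpecStalk, Spec.map_comp, Category.assoc, Scheme.Spec_stalkClosedPointTo_fromSpecStalk]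
        exact hφR.symm
      have hmk : ∀ (x : X), (∀ a : X.presheaf.stalk x, algebraMap (X.presheaf.stalk x) X.functionField a ∈ R) →
          (∀ a ∈ maximalIdeal (X.presheaf.stalk x), R.valuation (algebraMap (X.presheaf.stalk x) X.functionField a) < 1) →
          ∃ l : Spec (CommRingCat.of R) ⟶ X, Spec.map (CommRingCat.ofHom R.subtype) ≫ l = g := by
        intro x hx _
        refine ⟨Spec.map (CommRingCat.ofHom ((algebraMap (X.presheaf.stalk x) X.functionField).codRestrict R.toSubring hx)) ≫ X.fromSpecStalk x, ?_⟩
        rw [← Spec.map_comp_assoc]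
        show Spec.map (X.presheaf.stalkSpecializes (genericPoint_specializes x)) ≫ X.fromSpecStalk x = g
        exact Scheme.SpecMap_stalkSpecializes_fromSpecStalk _
      have hdom : (∀ a : Y.presheaf.stalk y, (Y.presheaf.stalkSpecializes hy ≫ f.stalkMap (genericPoint X)).hom a ∈ R) ∧
          ∀ a ∈ maximalIdeal (Y.presheaf.stalk y),
            R.valuation ((Y.presheaf.stalkSpecializes hy ≫ f.stalkMap (genericPoint X)).hom a) < 1 := by
        rw [← hbg]
        refine ⟨fun a => (b a).2, fun a ha => (ValuationSubring.valuation_lt_one_iff R (b a)).1 ?_⟩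
        haveI : IsLocalHom b.hom := inferInstanceAs (IsLocalHom (Scheme.stalkClosedPointTo φR).hom)
        intro hu
        exact ha (isUnit_of_map_unit b.hom a hu)
      obtain ⟨l, hl⟩ : ∃ l : Spec (CommRingCat.of R) ⟶ X, Spec.map (CommRingCat.ofHom R.subtype) ≫ l = g := by
        by_cases hR : R = ⊤
        · refine hmk (genericPoint X) (fun a => by rw [hR]; trivial) fun a ha => ?_
          haveI : IsLocalRing X.functionField := inferInstance
          have : a = 0 := by
            have h0 : maximalIdeal (X.presheaf.stalk (genericPoint X)) = ⊥ := maximalIdeal_eq_bot (R := X.functionField)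
            rw [h0] at ha
            exact ha
          rw [this, map_zero, map_zero]
          exact zero_lt_one
        · obtain ⟨x, hx1, hx2⟩ := h R hR y hy hdom
          exact hmk x hx1 hx2
      refine ⟨l, hl, ?_⟩
      haveI : IsDomain (CommRingCat.of R) := inferInstanceAs (IsDomain R)
      haveI := dominant_generic (CommRingCat.ofHom R.subtype) Subtype.val_injective
      exact ext_of_isDominant (Spec.map (CommRingCat.ofHom R.subtype)) (by rw [reassoc_of% hl]; exact hφR.symm)
    refine ⟨Spec.map t ≫ l, ?_, ?_⟩
    · rw [← Spec.map_comp_assoc, show t ≫ CommRingCat.ofHom C.subtype = CommRingCat.ofHom R.subtype ≫ j from rfl,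
        Spec.map_comp_assoc, hl1, hj]
    · rw [Category.assoc, hl2, ← Spec.map_comp_assoc]
      have e : t' ≫ t = 𝟙 _ := by
        ext c
        show j.hom ((inv j).hom c.1) = c.1
        rw [← RingHom.comp_apply, ← CommRingCat.hom_comp, IsIso.inv_hom_id]
        rfl
      rw [e, Spec.map_id, Category.id_comp]
  haveI := UniversallyClosed.of_valuativeCriterion f (existence g f hd he hu)
  exact { }

end Groth.Agent.Misc9.ValRefine2
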