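import Groth.Agent.Misc9.ValLift
import Mathlib.AlgebraicGeometry.Morphisms.ClosedImmersion
import Mathlib.AlgebraicGeometry.Morphisms.Separated
import Mathlib.AlgebraicGeometry.FunctionField

/-! Sections over valuation rings. -/

set_option autoImplicit false
set_option backward.isDefEq.respectTransparency false
universe w u
namespace Groth.Agent.Misc9.ValSection
open CategoryTheory CategoryTheory.Limits AlgebraicGeometry IsLocalRing

theorem range_spec_field {K : Type u} [Field K] {X : Scheme.{u}} (x : Spec (CommRingCat.of K) ⟶ X) (z : Spec (CommRingCat.of K)) :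
    x z = x (closedPoint K) := by
  rw [Subsingleton.elim z (closedPoint K)]

theorem exists_section (R : Type u) [CommRing R] [IsDomain R] [ValuationRing R] (K : Type u) [Field K] [Algebra R K]
    [IsFractionRing R K] {X : Scheme.{u}} (f : X ⟶ Spec (CommRingCat.of R)) (hf : IsClosedMap f)
    (lft : Spec (CommRingCat.of K) ⟶ X) (w : lft ≫ f = Spec.map (CommRingCat.ofHom (algebraMap R K))) :
    ∃ s : Spec (CommRingCat.of R) ⟶ X, s ≫ f = 𝟙 _ ∧ Spec.map (CommRingCat.ofHom (algebraMap R K)) ≫ s = lft := by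
  haveI : IsDomain (CommRingCat.of R) := ‹_›
  haveI : ValuationRing (CommRingCat.of R) := ‹_›
  let : Field (CommRingCat.of K) := ‹_›
  obtain ⟨x, h₁, h₂⟩ := hf.specializingMap (show f (lft (closedPoint K)) ⤳ closedPoint R from specializes_closedPoint _)
  let e : CommRingCat.of R ≅ (Spec <| .of R).presheaf.stalk (f x) :=
    (stalkClosedPointIso (.of R)).symm ≪≫
      (Spec <| .of R).presheaf.stalkCongr (.of_eq h₂.symm)
  let α := e.hom ≫ f.stalkMap x
  have : IsLocalHom e.hom.hom := isLocalHom_of_isIso e.hom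
  have : IsLocalHom α.hom := inferInstanceAs
    (IsLocalHom ((f.stalkMap x).hom.comp e.hom.hom))
  let β := X.presheaf.stalkSpecializes h₁ ≫ Scheme.stalkClosedPointTo lft
  have hαβ : α ≫ β = CommRingCat.ofHom (algebraMap R K) := by
    simp only [CommRingCat.coe_of, Iso.trans_hom, Iso.symm_hom, TopCat.Presheaf.stalkCongr_hom,
      Category.assoc, α, e, β, stalkClosedPointIso_inv, StructureSheaf.toStalk]
    change (Scheme.ΓSpecIso (.of R)).inv ≫ (Spec <| .of R).presheaf.germ _ _ _ ≫ _ = _
    simp only [TopCat.Presheaf.germ_stalkSpecializes_assoc, Scheme.Hom.germ_stalkMap_assoc]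
    simp only [TopologicalSpace.Opens.map_top]
    rw [Scheme.germ_stalkClosedPointTo lft ⊤ trivial]
    erw [← Scheme.Hom.comp_app_assoc lft f]
    rw [w]
    simp
  have hbij := (bijective_rangeRestrict_comp_of_valuationRing (R := R) (K := K) α.hom β.hom
    (CommRingCat.hom_ext_iff.mp hαβ))
  let φ : X.presheaf.stalk x ⟶ CommRingCat.of R := CommRingCat.ofHom <|
    (RingEquiv.ofBijective _ hbij).symm.toRingHom.comp β.hom.rangeRestrict
  have hαφ : α ≫ φ = 𝟙 _ := by ext x; exact (RingEquiv.ofBijective _ hbij).symm_apply_apply x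
  have hαφ' : f.stalkMap x ≫ φ = e.inv := by
    rw [← cancel_epi e.hom, ← Category.assoc, hαφ, e.hom_inv_id]
  have hφβ : φ ≫ CommRingCat.ofHom (algebraMap R K) = β :=
    hαβ ▸ CommRingCat.hom_ext (RingHom.ext fun x ↦ congr_arg Subtype.val
      ((RingEquiv.ofBijective _ hbij).apply_symm_apply (β.hom.rangeRestrict x)))
  refine ⟨Spec.map φ ≫ X.fromSpecStalk x, ?_, ?_⟩
  · rw [Category.assoc, ← Scheme.SpecMap_stalkMap_fromSpecStalk, ← Spec.map_comp_assoc, hαφ']
    simp only [Iso.trans_inv, TopCat.Presheaf.stalkCongr_inv, Iso.symm_inv, Spec.map_comp,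
      Category.assoc, Scheme.SpecMap_stalkSpecializes_fromSpecStalk, e]
    rw [← Spec_stalkClosedPointIso, ← Spec.map_comp,
      Iso.inv_hom_id, Spec.map_id]
  · rw [← Spec.map_comp_assoc, hφβ]
    simp only [Spec.map_comp, Category.assoc, Scheme.SpecMap_stalkSpecializes_fromSpecStalk, β]
    exact Scheme.Spec_stalkClosedPointTo_fromSpecStalk lft

theorem isDominant_generic (A : Type u) [CommRing A] [IsDomain A] (K : Type u) [Field K] [Algebra A K] [IsFractionRing A K] :
    IsDominant (Spec.map (CommRingCat.ofHom (algebraMap A K))) := by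
  refine ⟨?_⟩
  show DenseRange (PrimeSpectrum.comap (algebraMap A K))
  rw [PrimeSpectrum.denseRange_comap_iff_ker_le_nilRadical]
  rw [(RingHom.injective_iff_ker_eq_bot _).1 (IsFractionRing.injective A K)]
  exact bot_le

theorem existsUnique_section (A : Type u) [CommRing A] [IsDomain A]
    [ValuationRing A] (K : Type u) [Field K] [Algebra A K] [IsFractionRing A K] (X : Scheme.{u})
    (f : X ⟶ Spec (CommRingCat.of A)) [IsSeparated f] (hf : IsClosedMap f.base)
    (x : Spec (CommRingCat.of K) ⟶ X) (hx : x ≫ f = Spec.map (CommRingCat.ofHom (algebraMap A K))) :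
    ∃! s : Spec (CommRingCat.of A) ⟶ X, s ≫ f = 𝟙 _ ∧ Spec.map (CommRingCat.ofHom (algebraMap A K)) ≫ s = x := by
  obtain ⟨s, h1, h2⟩ := exists_section A K f hf x hx
  haveI : IsDomain (CommRingCat.of A) := ‹_›
  refine ⟨s, ⟨h1, h2⟩, fun t ⟨ht1, ht2⟩ => ?_⟩
  haveI := isDominant_generic A K
  exact ext_of_isDominant_of_isSeparated f (ht1.trans h1.symm) (Spec.map (CommRingCat.ofHom (algebraMap A K))) (ht2.trans h2.symm)

theorem isIso_of_closed (A : Type u) [CommRing A] [IsDomain A] [ValuationRing A]
    (X : Scheme.{u}) [IsIntegral X] [X.IsSeparated] (f : X ⟶ Spec (CommRingCat.of A)) (hf : IsClosedMap f.base)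
    (x : X) (hx : f.base ⁻¹' {genericPoint (Spec (CommRingCat.of A))} = {x})
    (hres : Function.Bijective (f.residueFieldMap x).hom) : IsIso f := by
  haveI : IsDomain (CommRingCat.of A) := ‹_›
  let K := FractionRing A
  haveI : IsSeparated f := inferInstance
  have hfx : f x = genericPoint (Spec (CommRingCat.of A)) := by
    have : x ∈ f.base ⁻¹' {genericPoint (Spec (CommRingCat.of A))} := by rw [hx]; rfl
    exact this
  haveI : IsIso (f.residueFieldMap x) := (ConcreteCategory.isIso_iff_bijective _).mpr hres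
  haveI := isDominant_generic A K
  let j := Spec.map (CommRingCat.ofHom (algebraMap A K))
  have hj : j (closedPoint K) = f x := by
    rw [hfx, genericPoint_eq_bot_of_affine]
    apply PrimeSpectrum.ext
    change Ideal.comap (algebraMap A K) (maximalIdeal K) = ⊥
    rw [maximalIdeal_eq_bot (R := K)]
    exact Ideal.comap_bot_of_injective _ (IsFractionRing.injective A K)
  obtain ⟨g, hg⟩ : ∃ g : (Spec (CommRingCat.of A)).residueField (f x) ⟶ CommRingCat.of K,
      Spec.map g ≫ (Spec (CommRingCat.of A)).fromSpecResidueField (f x) = j := by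
    refine ⟨((Spec (CommRingCat.of A)).residueFieldCongr hj.symm).hom ≫ Scheme.descResidueField (Scheme.stalkClosedPointTo j), ?_⟩
    simp [Scheme.descResidueField_stalkClosedPointTo_fromSpecResidueField]
  let lft : Spec (CommRingCat.of K) ⟶ X := Spec.map (inv (f.residueFieldMap x) ≫ g) ≫ X.fromSpecResidueField x
  have hl : lft ≫ f = j := by
    simp only [lft, Category.assoc, ← Scheme.Hom.SpecMap_residueFieldMap_fromSpecResidueField, ← Spec.map_comp_assoc,
      IsIso.hom_inv_id_assoc, hg]
  obtain ⟨s, hs1, hs2⟩ := exists_section A K f hf lft hl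
  haveI : IsClosedImmersion s := by
    haveI : IsClosedImmersion (s ≫ f) := by rw [hs1]; infer_instance
    exact IsClosedImmersion.of_comp s f
  have hgen : x = genericPoint X := by
    have h1 : f (genericPoint X) ⤳ f x := (genericPoint_specializes x).map f.continuous
    rw [hfx] at h1
    have h2 : f (genericPoint X) = genericPoint (Spec (CommRingCat.of A)) :=
      (h1.antisymm (genericPoint_specializes _)).eq
    have : genericPoint X ∈ f.base ⁻¹' {genericPoint (Spec (CommRingCat.of A))} := h2
    rw [hx] at this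
    exact this.symm
  haveI : Surjective s := ⟨fun y => by
    have h1 : genericPoint X ∈ Set.range s := by
      refine ⟨j (closedPoint K), ?_⟩
      rw [← Scheme.Hom.comp_apply, hs2, ← hgen]
      simp only [lft, Scheme.Hom.comp_apply]
      exact Scheme.fromSpecResidueField_apply x _
    exact (genericPoint_specializes y).mem_closed s.isClosedEmbedding.isClosed_range h1⟩
  haveI : IsIso s := isIso_of_isClosedImmersion_of_surjective s
  exact @IsIso.of_isIso_comp_left _ _ _ _ _ s f inferInstance (by rw [hs1]; infer_instance)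

theorem eq_of_points {X Y : Scheme.{u}} (A : Type u) [CommRing A] [IsDomain A] [ValuationRing A] (K : Type u) [Field K]
    [Algebra A K] [IsFractionRing A K] (ξ η : Spec (CommRingCat.of A) ⟶ Y)
    (hK : Spec.map (CommRingCat.ofHom (algebraMap A K)) ≫ ξ = Spec.map (CommRingCat.ofHom (algebraMap A K)) ≫ η)
    (hk : Spec.map (CommRingCat.ofHom (IsLocalRing.residue A)) ≫ ξ =
      Spec.map (CommRingCat.ofHom (IsLocalRing.residue A)) ≫ η) : ξ = η := by
  have hc : Spec.map (CommRingCat.ofHom (IsLocalRing.residue A)) (closedPoint (ResidueField A)) = closedPoint A :=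
    comap_closedPoint (IsLocalRing.residue A)
  have hpt : ξ (closedPoint A) = η (closedPoint A) := by
    rw [← hc, ← Scheme.Hom.comp_apply, hk]
    rfl
  obtain ⟨U, hU, hyU, -⟩ := exists_isAffineOpen_mem_and_subset (U := (⊤ : Y.Opens)) (x := ξ (closedPoint A)) trivial
  have hr : ∀ ζ : Spec (CommRingCat.of A) ⟶ Y, ζ (closedPoint A) ∈ U → Set.range ζ ⊆ Set.range hU.fromSpec := by
    rintro ζ h _ ⟨p, rfl⟩
    rw [hU.range_fromSpec]
    exact ((specializes_closedPoint p).map ζ.continuous).mem_open U.2 h
  obtain ⟨a, rfl⟩ : ∃ a, a ≫ hU.fromSpec = ξ := ⟨_, IsOpenImmersion.lift_fac _ ξ (hr ξ hyU)⟩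
  obtain ⟨b, rfl⟩ : ∃ b, b ≫ hU.fromSpec = η := ⟨_, IsOpenImmersion.lift_fac _ η (hr η (hpt ▸ hyU))⟩
  congr 1
  obtain ⟨α, rfl⟩ := Spec.map_surjective a
  obtain ⟨β, rfl⟩ := Spec.map_surjective b
  congr 1
  rw [← Category.assoc, ← Category.assoc, cancel_mono, ← Spec.map_comp, ← Spec.map_comp] at hK
  have := Spec.map_injective hK
  ext c
  exact IsFractionRing.injective A K (congrArg (fun t => (CommRingCat.Hom.hom t) c) this)

end Groth.Agent.Misc9.ValSection
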