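import Groth.Agent.Misc9.W2Lift
import Mathlib

namespace Groth.Agent.Misc9.W2Ker

universe v

variable (p : ℕ) [hp : Fact p.Prime]

/-- In characteristic `p` the kernel of `W₂(R) → R` has square zero. -/
theorem mul_eq_zero {R : Type v} [CommRing R] (hR : (p : R) = 0) {x y : FrobAlg.W2 p R}
    (hx : FrobAlg.res p R x = 0) (hy : FrobAlg.res p R y = 0) : x * y = 0 := by
  obtain ⟨X, rfl⟩ := WittVector.truncate_surjective p 2 R x
  obtain ⟨Y, rfl⟩ := WittVector.truncate_surjective p 2 R y
  rw [FrobAlg.res_apply, WittVector.coeff_truncate] at hx hy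
  rcases subsingleton_or_nontrivial R with h | h
  · exact W2Lift.W2_ext p (Subsingleton.elim _ _) (Subsingleton.elim _ _)
  have : CharP R p := (CharP.charP_iff_prime_eq_zero hp.out).2 hR
  rw [← map_mul]
  have hX : X = WittVector.verschiebung (WittVector.shift X 1) :=
    (WittVector.eq_iterate_verschiebung (n := 1) (x := X) fun i hi => by
      obtain rfl : i = 0 := by omega
      exact hx)
  have hY : Y = WittVector.verschiebung (WittVector.shift Y 1) :=
    (WittVector.eq_iterate_verschiebung (n := 1) (x := Y) fun i hi => by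
      obtain rfl : i = 0 := by omega
      exact hy)
  rw [hX, hY, ← WittVector.verschiebung_mul_frobenius, WittVector.frobenius_verschiebung]
  refine W2Lift.W2_ext p ?_ ?_ <;> rw [WittVector.coeff_truncate]
  · simp [WittVector.verschiebung_coeff_zero]
  · rw [Fin.val_one, WittVector.verschiebung_coeff_succ, ← mul_assoc, (W2Lift.mul_p_coeff p hR _).1]
    simp

end Groth.Agent.Misc9.W2Ker
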