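import Groth.Prelude.Def_W4c1liftfrobW2
import Mathlib.RingTheory.Flat.Basic
import Mathlib.FieldTheory.Perfect
import Mathlib.RingTheory.WittVector.Identities
import Mathlib.RingTheory.WittVector.InitTail
import Mathlib.RingTheory.WittVector.Teichmuller
import Mathlib.Algebra.CharP.Lemmas
import Mathlib.LinearAlgebra.Dimension.Free
import Mathlib.LinearAlgebra.Basis.VectorSpace
import Mathlib.RingTheory.Flat.Tensor
import Groth.Agent.Flat.SqZero

/-!
Flat liftings over `W₂(k)` of a perfect field: elementwise criterion, descent along a linear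
retraction, and Frobenius lifts as maps to `W₂`.
-/

open scoped TensorProduct

namespace Groth.Agent.Misc9.W2Lift

universe u v

variable (p : ℕ) [hp : Fact p.Prime]

theorem mul_p_coeff {R : Type*} [CommRing R] (hR : (p : R) = 0) (X : WittVector p R) :
    (X * (p : WittVector p R)).coeff 0 = 0 ∧
      ∀ i, (X * (p : WittVector p R)).coeff (i + 1) = X.coeff i ^ p := by
  rcases subsingleton_or_nontrivial R with h | h
  · exact ⟨Subsingleton.elim _ _, fun i => Subsingleton.elim _ _⟩
  · have : CharP R p := (CharP.charP_iff_prime_eq_zero hp.out).2 hR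
    exact ⟨WittVector.mul_charP_coeff_zero _, fun i => WittVector.mul_charP_coeff_succ _ _⟩

theorem W2_mul_p {R : Type*} [CommRing R] (hR : (p : R) = 0) (x : FrobAlg.W2 p R) :
    ((p : FrobAlg.W2 p R) * x).coeff 0 = 0 ∧
      ((p : FrobAlg.W2 p R) * x).coeff 1 = x.coeff 0 ^ p := by
  obtain ⟨X, rfl⟩ := WittVector.truncate_surjective p 2 R x
  rw [← map_natCast (WittVector.truncate (p := p) (R := R) 2), ← map_mul, mul_comm]
  simp only [WittVector.coeff_truncate]
  exact ⟨(mul_p_coeff p hR X).1, (mul_p_coeff p hR X).2 0⟩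

theorem pow_p_eq_zero {R : Type*} [CommRing R] (hpp : (p : R) * p = 0) (y : R) :
    ((p : R) * y) ^ p = 0 :=
  pow_eq_zero_of_le hp.out.two_le (by
    rw [pow_two, show (p : R) * y * ((p : R) * y) = p * p * (y * y) by ring, hpp, zero_mul])

theorem W2_ext {R : Type*} [CommRing R] {x y : FrobAlg.W2 p R} (h0 : x.coeff 0 = y.coeff 0)
    (h1 : x.coeff 1 = y.coeff 1) : x = y :=
  TruncatedWittVector.ext fun i => by fin_cases i <;> assumption

section field

variable (k : Type u) [Field k] [CharP k p] [PerfectRing k p]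

theorem ker_res : RingHom.ker (FrobAlg.res p k) = Ideal.span {(p : FrobAlg.W2 p k)} := by
  apply le_antisymm
  · intro x hx
    rw [RingHom.mem_ker, FrobAlg.res_apply] at hx
    obtain ⟨r, hr⟩ := (frobeniusEquiv k p).surjective (x.coeff 1)
    rw [Ideal.mem_span_singleton]
    refine ⟨WittVector.truncate 2 (WittVector.teichmuller p r), W2_ext p ?_ ?_⟩
    · rw [hx, (W2_mul_p p (CharP.cast_eq_zero k p) _).1]
    · rw [(W2_mul_p p (CharP.cast_eq_zero k p) _).2, WittVector.coeff_truncate]
      simpa [frobenius_def] using hr.symm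
  · rw [Ideal.span_le, Set.singleton_subset_iff]
    show FrobAlg.res p k (p : FrobAlg.W2 p k) = 0
    rw [map_natCast, CharP.cast_eq_zero]

theorem p_mul_p : (p : FrobAlg.W2 p k) * (p : FrobAlg.W2 p k) = 0 := by
  have h0 : (p : FrobAlg.W2 p k).coeff 0 = 0 := by
    rw [← FrobAlg.res_apply, map_natCast, CharP.cast_eq_zero]
  refine W2_ext p ?_ ?_
  · rw [(W2_mul_p p (CharP.cast_eq_zero k p) _).1]; exact (FrobAlg.res p k).map_zero ▸ (FrobAlg.res_apply p k 0)
  · rw [(W2_mul_p p (CharP.cast_eq_zero k p) _).2, h0, zero_pow hp.out.ne_zero]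
    simp

theorem mem_of_p_mul {x : FrobAlg.W2 p k} (hx : (p : FrobAlg.W2 p k) * x = 0) :
    x ∈ Ideal.span {(p : FrobAlg.W2 p k)} := by
  rw [← ker_res, RingHom.mem_ker, FrobAlg.res_apply]
  have h := (W2_mul_p p (CharP.cast_eq_zero k p) x).2
  rw [hx] at h
  exact eq_zero_of_pow_eq_zero (n := p) (by rw [← h]; simp)

/-- Every element is a Teichmüller representative plus a multiple of `p`. -/
theorem exists_decomp (w : FrobAlg.W2 p k) : ∃ s, w =
    WittVector.truncate 2 (WittVector.teichmuller p (w.coeff 0)) + (p : FrobAlg.W2 p k) * s ∧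
      s.coeff 0 ^ p = w.coeff 1 := by
  obtain ⟨r, hr⟩ := (frobeniusEquiv k p).surjective (w.coeff 1)
  have hr' : r ^ p = w.coeff 1 := hr
  refine ⟨WittVector.truncate 2 (WittVector.teichmuller p r), ?_, by
    rw [WittVector.coeff_truncate]; simpa using hr'⟩
  have h := mul_p_coeff p (CharP.cast_eq_zero k p) (WittVector.teichmuller p r)
  have hd : ∀ n, (WittVector.teichmuller p (w.coeff 0)).coeff n = 0 ∨
      (WittVector.teichmuller p r * (p : WittVector p k)).coeff n = 0 := fun n => by
    rcases n with _ | n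
    · exact Or.inr h.1
    · exact Or.inl (by simp)
  rw [← map_natCast (WittVector.truncate (p := p) (R := k) 2), ← map_mul, ← map_add, mul_comm]
  refine W2_ext p ?_ ?_
  · rw [WittVector.coeff_truncate, Fin.val_zero, WittVector.coeff_add_of_disjoint 0 _ _ hd]
    simp [h.1]
  · rw [WittVector.coeff_truncate, Fin.val_one, WittVector.coeff_add_of_disjoint 1 _ _ hd]
    simp [h.2 0, hr']

theorem exists_sigma_eq (w : FrobAlg.W2 p k) :
    ∃ t, FrobAlg.sigma p k w = w ^ p + (p : FrobAlg.W2 p k) * t ∧ t.coeff 0 = w.coeff 1 := by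
  obtain ⟨s, hw, hs⟩ := exists_decomp p k w
  set a := WittVector.truncate 2 (WittVector.teichmuller p (w.coeff 0)) with ha
  refine ⟨FrobAlg.sigma p k s, ?_, by rw [WittGrp.coeff_frob]; exact hs⟩
  have h1 : FrobAlg.sigma p k a = a ^ p := by
    have e : a ^ p = WittVector.truncate 2 (WittVector.teichmuller p (w.coeff 0 ^ p)) := by
      rw [ha, map_pow, map_pow]
    rw [e, ha]
    refine W2_ext p ?_ ?_
    · rw [WittGrp.coeff_frob, WittVector.coeff_truncate, WittVector.coeff_truncate, Fin.val_zero,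
        WittVector.teichmuller_coeff_zero, WittVector.teichmuller_coeff_zero]
    · rw [WittGrp.coeff_frob, WittVector.coeff_truncate, WittVector.coeff_truncate, Fin.val_one,
        WittVector.teichmuller_coeff_pos p _ 1 one_pos, WittVector.teichmuller_coeff_pos p _ 1 one_pos,
        zero_pow hp.out.ne_zero]
  obtain ⟨r, hr⟩ := exists_add_pow_prime_eq hp.out a ((p : FrobAlg.W2 p k) * s)
  have h2 : ((p : FrobAlg.W2 p k) * s) ^ p = 0 := pow_p_eq_zero p (p_mul_p p k) s
  have h3 : w ^ p = a ^ p := by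
    rw [hw, hr, h2, show (p : FrobAlg.W2 p k) * a * ((p : FrobAlg.W2 p k) * s) * r = p * p * (a * s * r) by ring,
      p_mul_p, zero_mul, add_zero, add_zero]
  conv_lhs => rw [hw, map_add, map_mul, map_natCast, h1]
  rw [h3]

variable {k} {A : Type v} [CommRing A] [Algebra k A] {B : Type v} [CommRing B]
  {ι : FrobAlg.W2 p k →+* B} {π : B →+* A}

theorem cast_p_eq_zero (A : Type v) [CommRing A] [Algebra k A] : (p : A) = 0 := by
  rw [← map_natCast (algebraMap k A), CharP.cast_eq_zero, map_zero]

theorem isLift_of (hs : Function.Surjective π)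
    (hc : π.comp ι = (algebraMap k A).comp (FrobAlg.res p k))
    (hker : RingHom.ker π = Ideal.span {(p : B)})
    (htor : ∀ x : B, (p : B) * x = 0 → x ∈ Ideal.span {(p : B)}) :
    FrobAlg.IsLift p k A B ι π where
  surj := hs
  comm := hc
  ker_eq := by rw [hker, ker_res, Ideal.map_span, Set.image_singleton, map_natCast]
  flat := by
    show @Module.Flat _ B _ _ ι.toAlgebra.toModule
    algebraize [ι]
    let J := RingHom.ker (FrobAlg.res p k)
    have hJ : J = Ideal.span {(p : FrobAlg.W2 p k)} := ker_res p k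
    have : J.IsMaximal := RingHom.ker_isMaximal_of_surjective _ fun a =>
      ⟨WittVector.truncate 2 (WittVector.teichmuller p a), by simp [WittVector.coeff_truncate]⟩
    let _ : Field (FrobAlg.W2 p k ⧸ J) := Ideal.Quotient.field J
    have : Module.Free (FrobAlg.W2 p k ⧸ J) ((FrobAlg.W2 p k ⧸ J) ⊗[FrobAlg.W2 p k] B) :=
      Module.Free.of_divisionRing _ _
    refine Flat.SqZero.flat_of_sq_zero J ?_ B ?_
    · rw [hJ, Ideal.span_singleton_pow, pow_two, p_mul_p, Ideal.span_singleton_eq_bot]
    · have hpJ : (p : FrobAlg.W2 p k) ∈ J := hJ ▸ Ideal.mem_span_singleton_self _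
      have hone : ∀ z : ↥J ⊗[FrobAlg.W2 p k] B, ∃ x : B, z = (⟨_, hpJ⟩ : J) ⊗ₜ x := by
        intro z
        induction z using TensorProduct.induction_on with
        | zero => exact ⟨0, by simp⟩
        | tmul j x =>
          have hj : (j : FrobAlg.W2 p k) ∈ Ideal.span {(p : FrobAlg.W2 p k)} := hJ.le j.2
          obtain ⟨c, hc⟩ := Ideal.mem_span_singleton'.1 hj
          refine ⟨c • x, ?_⟩
          rw [← TensorProduct.smul_tmul]
          congr 1
          exact Subtype.ext hc.symm
        | add a b ha hb =>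
          obtain ⟨x, rfl⟩ := ha
          obtain ⟨y, rfl⟩ := hb
          exact ⟨x + y, by rw [TensorProduct.tmul_add]⟩
      rw [injective_iff_map_eq_zero]
      intro z hz
      obtain ⟨x, rfl⟩ := hone z
      have h := congrArg (TensorProduct.lid (FrobAlg.W2 p k) B) hz
      rw [LinearMap.rTensor_tmul, TensorProduct.lid_tmul, map_zero, Submodule.coe_subtype,
        Algebra.smul_def, map_natCast] at h
      obtain ⟨y, rfl⟩ := Ideal.mem_span_singleton.1 (htor x h)
      rw [← map_natCast (algebraMap (FrobAlg.W2 p k) B), ← Algebra.smul_def, ← TensorProduct.smul_tmul]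
      rw [show (p : FrobAlg.W2 p k) • (⟨_, hpJ⟩ : J) = 0 from Subtype.ext (p_mul_p p k),
        TensorProduct.zero_tmul]

theorem isLift_ker (h : FrobAlg.IsLift p k A B ι π) : RingHom.ker π = Ideal.span {(p : B)} := by
  rw [h.ker_eq, ker_res, Ideal.map_span, Set.image_singleton, map_natCast]

theorem isLift_p_mul_p (ι : FrobAlg.W2 p k →+* B) : (p : B) * (p : B) = 0 := by
  rw [← map_natCast ι, ← map_mul, p_mul_p, map_zero]

theorem isLift_torsion (h : FrobAlg.IsLift p k A B ι π) {x : B} (hx : (p : B) * x = 0) :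
    π x = 0 := by
  have hfl : @Module.Flat _ B _ _ ι.toAlgebra.toModule := h.flat
  algebraize [ι]
  let m : FrobAlg.W2 p k →ₗ[FrobAlg.W2 p k] FrobAlg.W2 p k :=
    LinearMap.mulLeft (FrobAlg.W2 p k) (p : FrobAlg.W2 p k)
  have hex : Function.Exact m m := fun w => by
    constructor
    · intro hw
      obtain ⟨c, hc⟩ := Ideal.mem_span_singleton'.1 (mem_of_p_mul p k hw)
      exact ⟨c, by rw [← hc]; exact mul_comm _ _⟩
    · rintro ⟨c, rfl⟩
      show (p : FrobAlg.W2 p k) * (p * c) = 0
      rw [← mul_assoc, p_mul_p, zero_mul]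
  have hex' := Module.Flat.lTensor_exact B hex
  have h0 : m.lTensor B (x ⊗ₜ 1) = 0 := by
    apply (TensorProduct.rid (FrobAlg.W2 p k) B).injective
    simp [m, Algebra.smul_def, hx]
  obtain ⟨z, hz⟩ := (hex' _).1 h0
  have key : ∀ z, π (TensorProduct.rid (FrobAlg.W2 p k) B (m.lTensor B z)) = 0 := by
    intro z
    induction z using TensorProduct.induction_on with
    | zero => simp
    | tmul b c =>
      simp [m, Algebra.smul_def, cast_p_eq_zero (k := k) p A]
    | add u v hu hv => simp only [map_add, hu, hv, add_zero]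
  have := key z
  rw [hz] at this
  simpa using this

/-- A lift of Frobenius is the same as a map to `W₂` over `A`. -/
theorem exists_theta (h : FrobAlg.IsLift p k A B ι π) (Φ : B →+* B)
    (hsemi : Φ.comp ι = ι.comp (FrobAlg.sigma p k)) (hred : ∀ b, π (Φ b) = π b ^ p) :
    ∃ θ : B →+* FrobAlg.W2 p A, (FrobAlg.res p A).comp θ = π ∧
      θ.comp ι = WittGrp.truncMap p 2 (algebraMap k A) := by
  have g0 : ∀ X : WittVector p B, WittVector.ghostComponent 0 X = X.coeff 0 := fun X => by
    simp [WittVector.ghostComponent_apply, aeval_wittPolynomial]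
  have g1 : ∀ X : WittVector p B, WittVector.ghostComponent 1 X = X.coeff 0 ^ p + (p : B) * X.coeff 1 :=
    fun X => by simp [WittVector.ghostComponent_apply, aeval_wittPolynomial, Finset.sum_range_succ]; ring
  let S : Subring (WittVector p B) := RingHom.eqLocus (WittVector.ghostComponent 1)
    (Φ.comp (WittVector.ghostComponent 0))
  let e : S →+* B := (WittVector.ghostComponent 0).comp S.subtype
  let q : S →+* FrobAlg.W2 p A :=
    (WittVector.truncate 2).comp ((WittVector.map π).comp S.subtype)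
  have hmk : ∀ b b1 : B, Φ b = b ^ p + (p : B) * b1 →
      ∃ X : S, e X = b ∧ (q X).coeff 0 = π b ∧ (q X).coeff 1 = π b1 := by
    intro b b1 hb
    refine ⟨⟨WittVector.mk p fun n => if n = 0 then b else b1, ?_⟩, ?_, ?_, ?_⟩
    · show WittVector.ghostComponent 1 _ = Φ (WittVector.ghostComponent 0 _)
      rw [g1, g0]
      simp [hb]
    · show WittVector.ghostComponent 0 _ = b
      rw [g0]; simp
    · simp [q, WittVector.coeff_truncate, WittVector.map_coeff]
    · simp [q, WittVector.coeff_truncate, WittVector.map_coeff]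
  have hsurj : Function.Surjective e := fun b => by
    have : Φ b - b ^ p ∈ RingHom.ker π := by simp [RingHom.mem_ker, hred]
    rw [isLift_ker p h] at this
    obtain ⟨b1, hb1⟩ := Ideal.mem_span_singleton.1 this
    obtain ⟨X, hX, -⟩ := hmk b b1 (by rw [← hb1]; ring)
    exact ⟨X, hX⟩
  have hker : RingHom.ker e ≤ RingHom.ker q := by
    rintro ⟨X, hX⟩ h0
    have h0' : X.coeff 0 = 0 := by rw [← g0]; exact h0
    have h1 : (p : B) * X.coeff 1 = 0 := by
      have := hX
      change WittVector.ghostComponent 1 X = Φ (WittVector.ghostComponent 0 X) at this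
      rw [g1, g0, h0', map_zero, zero_pow hp.out.ne_zero, zero_add] at this
      exact this
    refine W2_ext p ?_ ?_
    · simp [q, WittVector.coeff_truncate, WittVector.map_coeff, h0']
    · simp [q, WittVector.coeff_truncate, WittVector.map_coeff, isLift_torsion p h h1]
  let θ : B →+* FrobAlg.W2 p A := e.liftOfSurjective hsurj ⟨q, hker⟩
  have hθ : ∀ X, θ (e X) = q X := fun X => RingHom.liftOfRightInverse_comp_apply _ _ _ _ X
  refine ⟨θ, ?_, ?_⟩
  · ext b
    obtain ⟨X, rfl⟩ := hsurj b
    rw [RingHom.comp_apply, hθ, FrobAlg.res_apply]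
    simp [q, e, g0, WittVector.coeff_truncate, WittVector.map_coeff]
  · ext1 w
    obtain ⟨t, ht, ht0⟩ := exists_sigma_eq p k w
    have hΦ : Φ (ι w) = ι w ^ p + (p : B) * ι t := by
      rw [← RingHom.comp_apply, hsemi, RingHom.comp_apply, ht, map_add, map_mul, map_pow, map_natCast]
    obtain ⟨X, hX, h0, h1⟩ := hmk _ _ hΦ
    have hc := fun w => RingHom.congr_fun h.comm w
    simp only [RingHom.comp_apply, FrobAlg.res_apply] at hc
    rw [RingHom.comp_apply, ← hX, hθ]
    refine W2_ext p ?_ ?_
    · rw [h0, hc, WittGrp.coeff_truncMap]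
    · rw [h1, hc, WittGrp.coeff_truncMap, ht0]

theorem exists_frobLift (h : FrobAlg.IsLift p k A B ι π) (θ : B →+* FrobAlg.W2 p A)
    (hθ : (FrobAlg.res p A).comp θ = π) (hθι : θ.comp ι = WittGrp.truncMap p 2 (algebraMap k A)) :
    ∃ Φ : B →+* B, FrobAlg.IsFrobLift p k A B ι π Φ := by
  have g1 : ∀ X : WittVector p B, WittVector.ghostComponent 1 X = X.coeff 0 ^ p + (p : B) * X.coeff 1 :=
    fun X => by simp [WittVector.ghostComponent_apply, aeval_wittPolynomial, Finset.sum_range_succ]; ring
  let e : WittVector p B →+* FrobAlg.W2 p A := (WittVector.truncate 2).comp (WittVector.map π)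
  have hsurj : Function.Surjective e :=
    (WittVector.truncate_surjective p 2 A).comp (WittVector.map_surjective π h.surj)
  have hker : RingHom.ker e ≤ RingHom.ker (WittVector.ghostComponent 1 : WittVector p B →+* B) := by
    intro X hX
    have h0 : π (X.coeff 0) = 0 := by
      have := congrArg (fun x : FrobAlg.W2 p A => x.coeff 0) (hX : e X = 0)
      simpa [e, WittVector.coeff_truncate, WittVector.map_coeff] using this
    have h1 : π (X.coeff 1) = 0 := by
      have := congrArg (fun x : FrobAlg.W2 p A => x.coeff 1) (hX : e X = 0)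
      simpa [e, WittVector.coeff_truncate, WittVector.map_coeff] using this
    rw [← RingHom.mem_ker, isLift_ker p h, Ideal.mem_span_singleton] at h0 h1
    obtain ⟨y, hy⟩ := h0
    obtain ⟨z, hz⟩ := h1
    have hpp := isLift_p_mul_p p ι
    rw [RingHom.mem_ker, g1, hz, hy, ← mul_assoc, hpp, zero_mul, add_zero]
    exact pow_p_eq_zero p hpp y
  let γ : FrobAlg.W2 p A →+* B := e.liftOfSurjective hsurj ⟨_, hker⟩
  have hγ : ∀ X, γ (e X) = WittVector.ghostComponent 1 X :=
    fun X => RingHom.liftOfRightInverse_comp_apply _ _ _ _ X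
  refine ⟨γ.comp θ, h, ?_, fun b => ?_⟩
  · ext1 w
    obtain ⟨t, ht, ht0⟩ := exists_sigma_eq p k w
    let X : WittVector p B := WittVector.mk p fun n => if n = 0 then ι w else ι t
    have hc := fun w => RingHom.congr_fun h.comm w
    simp only [RingHom.comp_apply, FrobAlg.res_apply] at hc
    have he : e X = θ (ι w) := by
      rw [← RingHom.comp_apply, hθι]
      refine W2_ext p ?_ ?_ <;>
        simp [e, X, WittVector.coeff_truncate, WittVector.map_coeff, hc, ht0]
    rw [RingHom.comp_apply, RingHom.comp_apply, ← he, hγ, g1, RingHom.comp_apply, ht, map_add,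
      map_mul, map_pow, map_natCast]
    simp [X]
  · obtain ⟨X, hX⟩ := hsurj (θ b)
    have h0 : π (X.coeff 0) = π b := by
      have h2 := congrArg (fun x : FrobAlg.W2 p A => x.coeff 0) hX
      have hb : FrobAlg.res p A (θ b) = π b := RingHom.congr_fun hθ _
      rw [FrobAlg.res_apply] at hb
      simp [e, WittVector.coeff_truncate, WittVector.map_coeff] at h2
      rw [h2, hb]
    rw [RingHom.comp_apply, ← hX, hγ, g1, map_add, map_mul, map_natCast,
      cast_p_eq_zero (k := k) p A, zero_mul, add_zero, map_pow, h0]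

end field

section descent

variable {k : Type u} [Field k] [CharP k p] [PerfectRing k p]
  {A : Type v} [CommRing A] [Algebra k A] {B : Type v} [CommRing B] [Algebra k B] [Algebra A B]
  [IsScalarTower k A B] (r : B →ₗ[A] A) (hr : ∀ a : A, r (algebraMap A B a) = a)
  {B' : Type v} [CommRing B'] {ιB : FrobAlg.W2 p k →+* B'} {πB : B' →+* B}
  (hB : FrobAlg.IsLift p k B B' ιB πB)

/-- The pull-back of a lift of `B` along `A → B`. -/
def pullback (A : Type v) [CommRing A] [Algebra A B] (πB : B' →+* B) : Subring (B' × A) :=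
  RingHom.eqLocus (πB.comp (RingHom.fst B' A)) ((algebraMap A B).comp (RingHom.snd B' A))

theorem mem_pullback {z : B' × A} : z ∈ pullback A πB ↔ πB z.1 = algebraMap A B z.2 := Iff.rfl

/-- The kernel of the push-out along the retraction. -/
def nIdeal (πB : B' →+* B) : Ideal (pullback A πB) where
  carrier := {z | z.1.2 = 0 ∧ ∃ y, z.1.1 = (p : B') * y ∧ r (πB y) = 0}
  add_mem' := by
    rintro z w ⟨hz, y, hy, hy'⟩ ⟨hw, y', hw', hw''⟩
    exact ⟨by simp [hz, hw], y + y', by simp [hy, hw', mul_add], by simp [hy', hw'']⟩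
  zero_mem' := ⟨rfl, 0, by simp, by simp⟩
  smul_mem' := by
    rintro c z ⟨hz, y, hy, hy'⟩
    refine ⟨by simp [hz], c.1.1 * y, by simp [hy]; ring, ?_⟩
    rw [map_mul, (mem_pullback.1 c.2 : πB c.1.1 = _), ← Algebra.smul_def, map_smul, hy', smul_zero]

/-- The projection of the pull-back. -/
noncomputable def projA (πB : B' →+* B) : pullback A πB ⧸ nIdeal p r πB →+* A :=
  Ideal.Quotient.lift (nIdeal p r πB) ((RingHom.snd B' A).comp (pullback A πB).subtype) fun _ hz => hz.1

include hr hB

theorem snd_eq_zero {z : pullback A πB} (hz : z.1.2 = 0) :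
    ∃ e : pullback A πB, Ideal.Quotient.mk (nIdeal p r πB) z =
      (p : pullback A πB ⧸ nIdeal p r πB) * Ideal.Quotient.mk (nIdeal p r πB) e := by
  have h : z.1.1 ∈ RingHom.ker πB := by
    rw [RingHom.mem_ker, (mem_pullback.1 z.2 : πB z.1.1 = _), hz, map_zero]
  rw [isLift_ker p hB, Ideal.mem_span_singleton] at h
  obtain ⟨y, hy⟩ := h
  obtain ⟨b, hb⟩ := hB.surj (algebraMap A B (r (πB y)))
  let e : pullback A πB := ⟨(b, r (πB y)), hb⟩
  refine ⟨e, ?_⟩
  rw [← map_natCast (Ideal.Quotient.mk (nIdeal p r πB)), ← map_mul, Ideal.Quotient.eq]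
  refine ⟨?_, y - b, ?_, ?_⟩
  · simp [hz, cast_p_eq_zero (k := k) p A]
  · simp [hy, e, mul_sub]
  · rw [map_sub, map_sub, hb, hr, sub_self]

theorem p_mul_eq_zero {e : pullback A πB}
    (he : (p : pullback A πB) * e ∈ nIdeal p r πB) : e.1.2 = 0 := by
  obtain ⟨-, y, hy, hy'⟩ := he
  have h : πB (e.1.1 - y) = 0 := isLift_torsion p hB (by
    simp at hy
    rw [mul_sub, hy, sub_self])
  rw [map_sub, sub_eq_zero, (mem_pullback.1 e.2 : πB e.1.1 = _)] at h
  rw [← hr e.1.2, h, hy']

theorem isLift_descent (ιE : FrobAlg.W2 p k →+* pullback A πB)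
    (hι : ∀ w, (ιE w).1.2 = algebraMap k A (w.coeff 0)) :
    FrobAlg.IsLift p k A (pullback A πB ⧸ nIdeal p r πB) ((Ideal.Quotient.mk _).comp ιE)
      (projA p r πB) := by
  refine isLift_of p (fun a => ?_) ?_ ?_ ?_
  · obtain ⟨b, hb⟩ := hB.surj (algebraMap A B a)
    exact ⟨Ideal.Quotient.mk _ ⟨(b, a), hb⟩, rfl⟩
  · ext1 w
    show (ιE w).1.2 = algebraMap k A (FrobAlg.res p k w)
    rw [hι, FrobAlg.res_apply]
  · apply le_antisymm
    · intro x hx
      obtain ⟨z, rfl⟩ := Ideal.Quotient.mk_surjective x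
      obtain ⟨e, he⟩ := snd_eq_zero p r hr hB (hx : z.1.2 = 0)
      rw [he]
      exact Ideal.mul_mem_right _ _ (Ideal.mem_span_singleton_self _)
    · rw [Ideal.span_le, Set.singleton_subset_iff, SetLike.mem_coe, RingHom.mem_ker, map_natCast,
        cast_p_eq_zero (k := k) p A]
  · intro x hx
    obtain ⟨z, rfl⟩ := Ideal.Quotient.mk_surjective x
    rw [← map_natCast (Ideal.Quotient.mk (nIdeal p r πB)), ← map_mul,
      Ideal.Quotient.eq_zero_iff_mem] at hx
    obtain ⟨e, he⟩ := snd_eq_zero p r hr hB (p_mul_eq_zero p r hr hB hx)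
    rw [he]
    exact Ideal.mul_mem_right _ _ (Ideal.mem_span_singleton_self _)

theorem isW2Liftable : FrobAlg.IsW2Liftable p k A := by
  let ιE : FrobAlg.W2 p k →+* pullback A πB :=
    (ιB.prod ((algebraMap k A).comp (FrobAlg.res p k))).codRestrict _ fun w => by
      rw [mem_pullback]
      have := RingHom.congr_fun hB.comm w
      simp at this ⊢
      rw [this]
      exact IsScalarTower.algebraMap_apply k A B _
  have h := isLift_descent p r hr hB ιE (fun w => by simp [ιE])
  exact ⟨_, inferInstance, _, _, h⟩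

variable {A' : Type v} [CommRing A'] {ιA : FrobAlg.W2 p k →+* A'} {πA : A' →+* A}
  (hA : FrobAlg.IsLift p k A A' ιA πA) (φ' : A' →+* B') (hφι : φ'.comp ιA = ιB)
  (hφπ : πB.comp φ' = (algebraMap A B).comp πA) {ΦB : B' →+* B'}
  (hsemi : ΦB.comp ιB = ιB.comp (FrobAlg.sigma p k)) (hred : ∀ b, πB (ΦB b) = πB b ^ p)

include hA hφι hφπ hsemi hred

set_option maxHeartbeats 800000 in
theorem exists_frobLift_descent : ∃ ΦA : A' →+* A', FrobAlg.IsFrobLift p k A A' ιA πA ΦA := by
  have hφ : ∀ x, πB (φ' x) = algebraMap A B (πA x) := fun x => RingHom.congr_fun hφπ x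
  let g : A' →+* pullback A πB := (φ'.prod πA).codRestrict _ fun x => by
    rw [mem_pullback]
    exact hφ x
  have hpA : (p : A) = 0 := cast_p_eq_zero (k := k) p A
  let F : A →+* A :=
    { toFun := fun a => a ^ p
      map_one' := one_pow _
      map_mul' := fun a b => mul_pow a b p
      map_zero' := zero_pow hp.out.ne_zero
      map_add' := fun a b => by
        obtain ⟨c, hc⟩ := exists_add_pow_prime_eq hp.out a b
        rw [hc, hpA]; simp }
  let h : A' →+* pullback A πB := ((ΦB.comp φ').prod (F.comp πA)).codRestrict _ fun x => by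
    rw [mem_pullback]
    show πB (ΦB (φ' x)) = algebraMap A B (πA x ^ p)
    rw [hred, hφ, map_pow]
  let G := (Ideal.Quotient.mk (nIdeal p r πB)).comp g
  have hG : Function.Bijective G := by
    constructor
    · rw [injective_iff_map_eq_zero]
      intro x hx
      obtain ⟨h0, y, hy, hy'⟩ := Ideal.Quotient.eq_zero_iff_mem.1 hx
      have h0' : x ∈ RingHom.ker πA := h0
      rw [isLift_ker p hA, Ideal.mem_span_singleton] at h0'
      obtain ⟨z, rfl⟩ := h0'
      have h1 : πB (φ' z - y) = 0 := isLift_torsion p hB (by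
        simp [g] at hy
        rw [mul_sub, hy, sub_self])
      rw [map_sub, sub_eq_zero, hφ] at h1
      have h2 : z ∈ RingHom.ker πA := by rw [RingHom.mem_ker, ← hr (πA z), h1, hy']
      rw [isLift_ker p hA, Ideal.mem_span_singleton] at h2
      obtain ⟨w, rfl⟩ := h2
      rw [← mul_assoc, isLift_p_mul_p p ιA, zero_mul]
    · intro x
      obtain ⟨z, rfl⟩ := Ideal.Quotient.mk_surjective x
      obtain ⟨a, ha⟩ := hA.surj z.1.2
      obtain ⟨e, he⟩ := snd_eq_zero p r hr hB (z := z - g a) (by simp [g, ha])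
      obtain ⟨c, hc⟩ := hA.surj e.1.2
      obtain ⟨e', he'⟩ := snd_eq_zero p r hr hB (z := e - g c) (by simp [g, hc])
      refine ⟨a + p * c, ?_⟩
      rw [map_sub, sub_eq_iff_eq_add] at he he'
      rw [map_add, map_mul, map_natCast, he, he', RingHom.comp_apply, RingHom.comp_apply]
      have hpp : (p : pullback A πB ⧸ nIdeal p r πB) * p = 0 := by
        have h' := isLift_p_mul_p p ιB
        rw [← Nat.cast_mul] at h'
        rw [← Nat.cast_mul, ← map_natCast (Ideal.Quotient.mk (nIdeal p r πB)),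
          show ((p * p : ℕ) : pullback A πB) = 0 from Subtype.ext (Prod.ext (by simpa using h') (by simp [hpA])),
          map_zero]
      linear_combination -hpp * Ideal.Quotient.mk (nIdeal p r πB) e'
  let E := RingEquiv.ofBijective G hG
  refine ⟨E.symm.toRingHom.comp ((Ideal.Quotient.mk (nIdeal p r πB)).comp h), hA, ?_, fun x => ?_⟩
  · ext1 w
    apply E.injective
    show E (E.symm _) = G _
    rw [E.apply_symm_apply]
    show Ideal.Quotient.mk _ (h (ιA w)) = Ideal.Quotient.mk _ (g (ιA (FrobAlg.sigma p k w)))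
    congr 1
    have e1 := RingHom.congr_fun hφι
    have e2 := RingHom.congr_fun hsemi w
    have e3 := RingHom.congr_fun hA.comm
    simp only [RingHom.comp_apply, FrobAlg.res_apply] at e1 e2 e3
    refine Subtype.ext (Prod.ext ?_ ?_)
    · show ΦB (φ' (ιA w)) = φ' (ιA _)
      rw [e1, e1, e2]
    · show πA (ιA w) ^ p = πA (ιA _)
      rw [e3, e3, WittGrp.coeff_frob, map_pow]
  · obtain ⟨y, hy⟩ : ∃ y, y = E.symm.toRingHom ((Ideal.Quotient.mk (nIdeal p r πB)) (h x)) := ⟨_, rfl⟩
    show πA (E.symm.toRingHom ((Ideal.Quotient.mk (nIdeal p r πB)) (h x))) = _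
    rw [← hy]
    have h1 : G y = Ideal.Quotient.mk (nIdeal p r πB) (h x) := by rw [hy]; exact E.apply_symm_apply _
    exact congrArg (projA p r πB) h1

end descent

end Groth.Agent.Misc9.W2Lift
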