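import Groth.Agent.Misc9.SNAux

/-! Relative weak normalisation. -/

universe u

namespace Groth.Agent.Misc9.WeakNorm

open AlgebraicGeometry CategoryTheory
open Groth.Agent.Misc9.Seminormal

variable {A B : Type u} [CommRing A] [CommRing B] [Algebra A B]

/-- the weak normalisation -/
theorem relative_weakNormalization (hker : RingHom.ker (algebraMap A B) ≤ nilradical A) :
    let B' := towerAlg (step := StepSCP (A := A) (B := B)) (fun _ _ _ h hle ↦ h.mono hle)
    FlatMor.IsUnivHomeo (Spec.map (CommRingCat.ofHom (algebraMap A B'))) ∧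
    ∀ (C : Type u) [CommRing C] [Algebra A C] (g : C →ₐ[A] B),
      FlatMor.IsUnivHomeo (Spec.map (CommRingCat.ofHom (algebraMap A C))) →
      g.range ≤ B' := by
  intro B'
  classical
  have hB : ∀ b : B', ∃ l : List B', Tower (StepSCP (A := A)) l ∧ b ∈ Algebra.adjoin A {x | x ∈ l} := by
    intro b
    obtain ⟨l, hl, hb⟩ := b.2
    have hlB : ∀ x ∈ l, x ∈ B' := fun x hx ↦ ⟨l, hl, Algebra.subset_adjoin hx⟩
    let l' : List B' := l.attach.map fun x ↦ ⟨x.1, hlB x.1 x.2⟩
    have hl' : l'.map Subtype.val = l := by simp [l', List.map_map, Function.comp_def]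
    have key : ∀ (S : Set B') (x : B'), (x : B) ∈ Algebra.adjoin A (B'.val '' S) → x ∈ Algebra.adjoin A S := by
      intro S x hx
      rw [← AlgHom.map_adjoin] at hx
      obtain ⟨y, hy, hyx⟩ := hx
      rwa [← Subtype.ext hyx]
    refine ⟨l', fun i ↦ ?_, key _ b ?_⟩
    · have hlen : l'.length = l.length := by simp [l']
      have hget : ∀ j : Fin l'.length, ((l'.get j : B') : B) = l.get (Fin.cast hlen j) := fun j ↦ by
        simp [l']
      have hset : B'.val '' {x | ∃ j : Fin l'.length, j < i ∧ x = l'.get j} =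
          {x | ∃ j : Fin l.length, j < Fin.cast hlen i ∧ x = l.get j} := by
        ext x
        constructor
        · rintro ⟨_, ⟨j, hj, rfl⟩, rfl⟩
          exact ⟨Fin.cast hlen j, hj, hget j⟩
        · rintro ⟨j, hj, rfl⟩
          exact ⟨_, ⟨Fin.cast hlen.symm j, hj, rfl⟩, hget _⟩
      have h := hl (Fin.cast hlen i)
      rw [← hget i, ← hset] at h
      rcases h with ⟨h2, h3⟩ | ⟨p, hp, h1, h2⟩
      · exact Or.inl ⟨key _ _ h2, key _ _ h3⟩
      · exact Or.inr ⟨p, hp, key _ _ h1, key _ _ h2⟩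
    · convert hb using 2
      congr 1
      ext x
      simp only [Set.mem_image, Set.mem_ofPred_eq]
      constructor
      · rintro ⟨y, hy, rfl⟩
        rw [← hl']
        exact List.mem_map.mpr ⟨y, hy, rfl⟩
      · intro hx
        rw [← hl'] at hx
        obtain ⟨y, hy, rfl⟩ := List.mem_map.mp hx
        exact ⟨y, hy, rfl⟩
  have hint : (algebraMap A B').IsIntegral := fun b ↦ by
    obtain ⟨l, hl, hb⟩ := hB b
    exact tower_le (step := fun S x ↦ StepSCP S x ∧ S ≤ S) (fun i ↦ ⟨hl i, le_rfl⟩) (integralClosure A B')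
      (fun x hx ↦ stepSCP_integral hx.1 le_rfl) (fun S T x hx hle ↦ ⟨hx.1.mono hle, le_rfl⟩) hb
  have : Algebra.IsIntegral A B' := ⟨hint⟩
  have hsurj : Function.Surjective (PrimeSpectrum.comap (algebraMap A B')) := by
    intro p
    obtain ⟨Q, -, hQ, hQp⟩ := Ideal.exists_ideal_over_prime_of_isIntegral p.asIdeal (⊥ : Ideal B') (by
      intro a ha
      refine nilradical_le_prime p.asIdeal (hker ?_)
      rw [RingHom.mem_ker, IsScalarTower.algebraMap_apply A B' B, (show algebraMap A B' a = 0 from ha), map_zero])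
    exact ⟨⟨Q, hQ⟩, PrimeSpectrum.ext hQp⟩
  refine ⟨univHomeo_of_towers' hsurj hB, ?_⟩
  rintro C _ _ g hU _ ⟨c, rfl⟩
  obtain ⟨l, hl, hc⟩ : c ∈ towerAlg (step := StepSCP (A := A) (B := C)) (fun _ _ _ h hle ↦ h.mono hle) :=
    towers_of_univHomeo hU ▸ Algebra.mem_top
  refine ⟨l.map g, fun i ↦ ?_, ?_⟩
  · have hlen : (l.map g).length = l.length := by simp
    have hget : ∀ j : Fin (l.map g).length, (l.map g).get j = g (l.get (Fin.cast hlen j)) := fun j ↦ by simp
    have hset : g '' {x | ∃ j : Fin l.length, j < Fin.cast hlen i ∧ x = l.get j} =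
        {x | ∃ j : Fin (l.map g).length, j < i ∧ x = (l.map g).get j} := by
      ext x
      constructor
      · rintro ⟨_, ⟨j, hj, rfl⟩, rfl⟩
        exact ⟨Fin.cast hlen.symm j, hj, by simp⟩
      · rintro ⟨j, hj, rfl⟩
        exact ⟨_, ⟨Fin.cast hlen j, hj, rfl⟩, (hget j).symm⟩
    rw [hget i, ← hset, ← AlgHom.map_adjoin]
    rcases hl (Fin.cast hlen i) with ⟨h2, h3⟩ | ⟨p, hp, h1, h2⟩
    · exact Or.inl ⟨⟨_, h2, map_pow g _ _⟩, ⟨_, h3, map_pow g _ _⟩⟩
    · exact Or.inr ⟨p, hp, ⟨_, h1, by simp⟩, ⟨_, h2, map_pow g _ _⟩⟩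
  · have : {x | x ∈ l.map g} = g '' {x | x ∈ l} := by ext; simp
    rw [this, ← AlgHom.map_adjoin]
    exact ⟨c, hc, rfl⟩

end Groth.Agent.Misc9.WeakNorm
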