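import Groth.Prelude.Def_W4c2invhilbsl2
import Mathlib.LinearAlgebra.Dimension.StrongRankCondition
import Mathlib.LinearAlgebra.Dimension.FreeAndStrongRankCondition
import Mathlib.RingTheory.Int.Basic
import Mathlib.LinearAlgebra.Basis.VectorSpace
import Mathlib.Tactic.LinearCombination
import Mathlib.Tactic.Linarith
import Mathlib.Tactic.Ring

set_option autoImplicit false
universe u
open MvPolynomial

namespace Groth.Agent.Misc9.WeightPiece

lemma weight5 (p q m : ℕ) (d : Fin 5 →₀ ℕ) :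
    Finsupp.weight (W4c2invhilbsl2.wt5 p q m) d =
      ((d 0 : ℤ) - p * (d 1 + d 2 : ℕ) + q * (d 3 + d 4 : ℕ),
        ((((d 3 + d 4 : ℕ) : ℤ) - (d 1 + d 2 : ℕ) : ℤ) : ZMod m)) := by
  rw [Finsupp.weight_apply, Finsupp.sum_fintype _ _ (by simp), Fin.sum_univ_five]
  ext <;> simp [W4c2invhilbsl2.wt5] <;> push_cast <;> ring

lemma mk_monomial5 {k : Type u} [Field k] (I : Ideal (MvPolynomial (Fin 5) k)) (d : Fin 5 →₀ ℕ) (c : k) :
    Ideal.Quotient.mk I (monomial d c) = c • (Ideal.Quotient.mk I (X 0) ^ d 0 * Ideal.Quotient.mk I (X 1) ^ d 1 *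
      Ideal.Quotient.mk I (X 2) ^ d 2 * Ideal.Quotient.mk I (X 3) ^ d 3 * Ideal.Quotient.mk I (X 4) ^ d 4) := by
  have e : monomial d c = c • (monomial d (1 : k)) := by simp [smul_monomial]
  have e' : (monomial d (1 : k) : MvPolynomial (Fin 5) k) = X 0 ^ d 0 * X 1 ^ d 1 * X 2 ^ d 2 * X 3 ^ d 3 * X 4 ^ d 4 := by
    rw [monomial_eq, Finsupp.prod_fintype _ _ (fun i => pow_zero _), Fin.prod_univ_five, C_1, one_mul]
  rw [e, e']
  show (Ideal.Quotient.mkₐ k I) (c • _) = _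
  rw [map_smul]
  simp

theorem rank_piece_le_one {k : Type u} [Field k] {M : Type*} [AddCommMonoid M] (w : Fin 5 → M)
    (I : Ideal (MvPolynomial (Fin 5) k)) (ν : M) (v₀ : MvPolynomial (Fin 5) k ⧸ I)
    (h : ∀ d : Fin 5 →₀ ℕ, Finsupp.weight w d = ν →
      Ideal.Quotient.mk I (X 0) ^ d 0 * Ideal.Quotient.mk I (X 1) ^ d 1 * Ideal.Quotient.mk I (X 2) ^ d 2 *
        Ideal.Quotient.mk I (X 3) ^ d 3 * Ideal.Quotient.mk I (X 4) ^ d 4 ∈ Submodule.span k {v₀}) :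
    Module.rank k (W4c2invhilbsl2.piece k w I ν) ≤ 1 := by
  refine (rank_submodule_le_one_iff' _).2 ⟨v₀, ?_⟩
  rintro _ ⟨f, hf, rfl⟩
  show Ideal.Quotient.mkₐ k I f ∈ _
  rw [f.as_sum, map_sum]
  refine Submodule.sum_mem _ fun d hd => ?_
  rw [Ideal.Quotient.mkₐ_eq_mk, mk_monomial5]
  exact Submodule.smul_mem _ _ (h d (hf (mem_support_iff.1 hd)))

lemma same_mon {R : Type*} [CommRing R] {x y z : R} {r : ℕ} (hr : x ^ r = y * z) {d0 d1 d2 e0 e1 e2 : ℕ}
    (p : ℤ) (hn : (d0 : ℤ) - p * d1 + (p + r) * d2 = e0 - p * e1 + (p + r) * e2)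
    (hc : (d1 : ℤ) - d2 = e1 - e2) : x ^ d0 * y ^ d1 * z ^ d2 = x ^ e0 * y ^ e1 * z ^ e2 := by
  have key : ∀ {d0 d1 d2 e0 e1 e2 : ℕ}, d2 ≤ e2 → (d0 : ℤ) - p * d1 + (p + r) * d2 = e0 - p * e1 + (p + r) * e2 →
      (d1 : ℤ) - d2 = e1 - e2 → x ^ d0 * y ^ d1 * z ^ d2 = x ^ e0 * y ^ e1 * z ^ e2 := by
    intro d0 d1 d2 e0 e1 e2 h hn hc
    obtain ⟨t, rfl⟩ := Nat.le.dest h
    have h1 : e1 = d1 + t := by push_cast at hc; omega
    subst h1
    have h0 : (d0 : ℤ) = e0 + r * t := by push_cast at hn hc ⊢; linear_combination hn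
    have h0' : d0 = e0 + r * t := by exact_mod_cast h0
    subst h0'
    rw [pow_add, pow_add, pow_add, pow_mul, hr, mul_pow]
    ring
  rcases le_total d2 e2 with h | h
  · exact key h hn hc
  · exact (key h hn.symm hc.symm).symm

theorem idealI_rank (k : Type u) [Field k] (p q m : ℕ) (hp : 0 < p) (hpq : p < q) (hm : 0 < m) (s : k) (ν : ℤ × ZMod m) :
    Module.rank k (W4c2invhilbsl2.piece k (W4c2invhilbsl2.wt5 p q m) (W4c2invhilbsl2.idealI k p q m s) ν) ≤ 1 := by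
  classical
  set I := W4c2invhilbsl2.idealI k p q m s with hI
  set π := Ideal.Quotient.mk I with hπ
  have h2 : π (X 2) = 0 := Ideal.Quotient.eq_zero_iff_mem.2 (Ideal.subset_span (by simp))
  have h3 : π (X 3) = 0 := Ideal.Quotient.eq_zero_iff_mem.2 (Ideal.subset_span (by simp))
  have hr : π (X 0) ^ (q - p) = π (X 1) * π (X 4) := by
    rw [← map_pow, ← map_mul]; exact Ideal.Quotient.eq.2 (Ideal.subset_span (by simp))
  have hs : π (X 0) ^ (m * p) * π (X 1) ^ m = algebraMap k _ s := by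
    rw [← map_pow, ← map_pow, ← map_mul]
    exact (Ideal.Quotient.eq.2 (Ideal.subset_span (by simp) : C s - X 0 ^ (m * p) * X 1 ^ m ∈ I)).symm
  let P : ℕ → Prop := fun N => ∃ d : Fin 5 →₀ ℕ, Finsupp.weight (W4c2invhilbsl2.wt5 p q m) d = ν ∧ d 2 = 0 ∧ d 3 = 0 ∧
    ((N : ℤ) = ν.1 + p * ((d 1 : ℤ) - d 4))
  by_cases hP : ∃ N, P N
  · obtain ⟨e, he, he2, he3, heN⟩ := Nat.find_spec hP
    refine rank_piece_le_one _ I ν (π (X 0) ^ e 0 * π (X 1) ^ e 1 * π (X 4) ^ e 4) fun d hd => ?_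
    rcases Nat.eq_zero_or_pos (d 2) with d2 | d2
    swap
    · rw [h2, zero_pow d2.ne']; simp
    rcases Nat.eq_zero_or_pos (d 3) with d3 | d3
    swap
    · rw [h3, zero_pow d3.ne']; simp
    rw [d2, d3, pow_zero, pow_zero, mul_one, mul_one]
    rw [weight5, d2, d3] at hd
    rw [weight5, he2, he3] at he
    have en : ν.1 = (e 0 : ℤ) - p * e 1 + q * e 4 := by rw [← he]; simp
    have dn : ν.1 = (d 0 : ℤ) - p * d 1 + q * d 4 := by rw [← hd]; simp
    have hcc : (((d 4 : ℤ) - d 1 : ℤ) : ZMod m) = (((e 4 : ℤ) - e 1 : ℤ) : ZMod m) := by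
      have := congrArg Prod.snd (hd.trans he.symm)
      simpa using this
    obtain ⟨j, hj⟩ := (ZMod.intCast_eq_intCast_iff_dvd_sub _ _ m).1 hcc
    have hj0 : 0 ≤ j := by
      by_contra hne
      push_neg at hne
      have hN : (0 : ℤ) ≤ ν.1 + p * ((d 1 : ℤ) - d 4) := by
        have : (0 : ℤ) ≤ (d 0 : ℤ) + ((q : ℤ) - p) * d 4 := add_nonneg (by positivity) (mul_nonneg (by omega) (by positivity))
        rw [dn]; linarith
      have := Nat.find_min' hP (m := (ν.1 + p * ((d 1 : ℤ) - d 4)).toNat)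
        ⟨d, by rw [weight5, d2, d3]; exact hd, d2, d3, Int.toNat_of_nonneg hN⟩
      have h1 : (Nat.find hP : ℤ) ≤ ν.1 + p * ((d 1 : ℤ) - d 4) := by omega
      rw [heN] at h1
      have h2 : (p : ℤ) * ((e 1 : ℤ) - e 4) ≤ p * ((d 1 : ℤ) - d 4) := by linarith
      have h3 := le_of_mul_le_mul_left h2 (by omega)
      have hm' : (m : ℤ) * j < 0 := mul_neg_of_pos_of_neg (by omega) hne
      omega
    obtain ⟨j, rfl⟩ := Int.eq_ofNat_of_zero_le hj0
    refine Submodule.mem_span_singleton.2 ⟨s ^ j, ?_⟩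
    rw [show ∀ (c : k) (v : MvPolynomial (Fin 5) k ⧸ I), c • v = algebraMap k _ c * v from fun c v => Algebra.smul_def c v, map_pow, ← hs, mul_pow, ← pow_mul, ← pow_mul]
    rw [show π (X 0) ^ (m * p * j) * π (X 1) ^ (m * j) * (π (X 0) ^ e 0 * π (X 1) ^ e 1 * π (X 4) ^ e 4) =
      π (X 0) ^ (e 0 + m * p * j) * π (X 1) ^ (e 1 + m * j) * π (X 4) ^ e 4 by ring]
    refine same_mon hr (p : ℤ) ?_ ?_
    · push_cast [Nat.cast_sub hpq.le] at *
      linear_combination dn - en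
    · push_cast at *; linarith
  · refine rank_piece_le_one _ I ν 0 fun d hd => ?_
    rcases Nat.eq_zero_or_pos (d 2) with d2 | d2
    swap
    · rw [h2, zero_pow d2.ne']; simp
    rcases Nat.eq_zero_or_pos (d 3) with d3 | d3
    swap
    · rw [h3, zero_pow d3.ne']; simp
    exfalso
    have hd' := hd
    rw [weight5, d2, d3] at hd'
    have dn : ν.1 = (d 0 : ℤ) - p * d 1 + q * d 4 := by rw [← hd']; simp
    have hN : (0 : ℤ) ≤ ν.1 + p * ((d 1 : ℤ) - d 4) := by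
      have : (0 : ℤ) ≤ (d 0 : ℤ) + ((q : ℤ) - p) * d 4 := add_nonneg (by positivity) (mul_nonneg (by omega) (by positivity))
      rw [dn]; linarith
    exact hP ⟨_, d, hd, d2, d3, Int.toNat_of_nonneg hN⟩

theorem idealJ_rank (k : Type u) [Field k] (p q m : ℕ) (hp : 0 < p) (hpq : p < q) (hcop : Nat.Coprime p q) (hm : 0 < m)
    (s : k) (ν : ℤ × ZMod m) :
    Module.rank k (W4c2invhilbsl2.piece k (W4c2invhilbsl2.wt5 p q m) (W4c2invhilbsl2.idealJ k p q m s) ν) ≤ 1 := by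
  classical
  set I := W4c2invhilbsl2.idealJ k p q m s with hI
  set π := Ideal.Quotient.mk I with hπ
  set g := Nat.gcd m (q - p) with hg
  have h2 : π (X 2) = 0 := Ideal.Quotient.eq_zero_iff_mem.2 (Ideal.subset_span (by simp))
  have h4 : π (X 4) = 0 := Ideal.Quotient.eq_zero_iff_mem.2 (Ideal.subset_span (by simp))
  have h0 : π (X 0) ^ g = 0 := by
    rw [← map_pow]; exact Ideal.Quotient.eq_zero_iff_mem.2 (Ideal.subset_span (by simp [hg]))
  have hs : π (X 1) ^ (m / g * q) * π (X 3) ^ (m / g * p) = algebraMap k _ s := by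
    rw [← map_pow, ← map_pow, ← map_mul]
    exact (Ideal.Quotient.eq.2 (Ideal.subset_span (by simp [hg]) : C s - X 1 ^ (m / g * q) * X 3 ^ (m / g * p) ∈ I)).symm
  let Good : (Fin 5 →₀ ℕ) → Prop := fun d =>
    Finsupp.weight (W4c2invhilbsl2.wt5 p q m) d = ν ∧ d 2 = 0 ∧ d 4 = 0 ∧ d 0 < g
  have hbad : ∀ d : Fin 5 →₀ ℕ, Finsupp.weight (W4c2invhilbsl2.wt5 p q m) d = ν → ¬ Good d →
      π (X 0) ^ d 0 * π (X 1) ^ d 1 * π (X 2) ^ d 2 * π (X 3) ^ d 3 * π (X 4) ^ d 4 = 0 := by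
    intro d hd hb
    rcases Nat.eq_zero_or_pos (d 2) with d2 | d2
    swap
    · rw [h2, zero_pow d2.ne']; simp
    rcases Nat.eq_zero_or_pos (d 4) with d4 | d4
    swap
    · rw [h4, zero_pow d4.ne']; simp
    obtain ⟨t, ht⟩ := Nat.le.dest (Nat.le_of_not_lt fun h => hb ⟨hd, d2, d4, h⟩)
    rw [← ht, pow_add, h0]; simp
  by_cases hP : ∃ N, ∃ d, Good d ∧ d 1 = N
  · obtain ⟨e, ⟨he, he2, he4, he0⟩, heN⟩ := Nat.find_spec hP
    refine rank_piece_le_one _ I ν (π (X 0) ^ e 0 * π (X 1) ^ e 1 * π (X 3) ^ e 3) fun d hd => ?_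
    by_cases hgd : Good d
    swap
    · rw [hbad d hd hgd]; exact Submodule.zero_mem _
    obtain ⟨-, d2, d4, d0⟩ := hgd
    have hmin : e 1 ≤ d 1 := heN ▸ Nat.find_min' hP ⟨d, ⟨hd, d2, d4, d0⟩, rfl⟩
    rw [d2, d4, pow_zero, pow_zero, mul_one, mul_one]
    rw [weight5, d2, d4] at hd
    rw [weight5, he2, he4] at he
    have en : ν.1 = (e 0 : ℤ) - p * e 1 + q * e 3 := by rw [← he]; simp
    have dn : ν.1 = (d 0 : ℤ) - p * d 1 + q * d 3 := by rw [← hd]; simp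
    have hcc : (((e 3 : ℤ) - e 1 : ℤ) : ZMod m) = (((d 3 : ℤ) - d 1 : ℤ) : ZMod m) := by
      have := congrArg Prod.snd (hd.trans he.symm)
      simpa using this.symm
    have hj := (ZMod.intCast_eq_intCast_iff_dvd_sub _ _ m).1 hcc
    have hgm : g ∣ m := Nat.gcd_dvd_left _ _
    have hgr : g ∣ q - p := Nat.gcd_dvd_right _ _
    have hgr' : (g : ℤ) ∣ (q : ℤ) - p := by rw [← Nat.cast_sub hpq.le]; exact_mod_cast hgr
    have e0 : d 0 = e 0 := by
      have h1 : (g : ℤ) ∣ (d 0 : ℤ) - e 0 := by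
        have : (d 0 : ℤ) - e 0 = -(p : ℤ) * (((d 3 : ℤ) - d 1) - ((e 3 : ℤ) - e 1)) - ((q : ℤ) - p) * ((d 3 : ℤ) - e 3) := by
          linear_combination en - dn
        rw [this]
        exact dvd_sub (Dvd.dvd.mul_left (dvd_trans (by exact_mod_cast hgm) hj) _) (Dvd.dvd.mul_right hgr' _)
      have h2' := Int.eq_zero_of_abs_lt_dvd h1 (abs_lt.2 ⟨by omega, by omega⟩)
      omega
    have hpz : (p : ℤ) * ((d 1 : ℤ) - e 1) = q * ((d 3 : ℤ) - e 3) := by
      rw [e0] at dn; linear_combination dn - en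
    obtain ⟨t, ht⟩ : (q : ℤ) ∣ (d 1 : ℤ) - e 1 :=
      IsCoprime.dvd_of_dvd_mul_left ((Nat.isCoprime_iff_coprime.2 hcop).symm) ⟨_, hpz⟩
    have ht3 : (d 3 : ℤ) - e 3 = p * t := by
      have hq0 : (q : ℤ) ≠ 0 := by omega
      refine mul_left_cancel₀ hq0 ?_
      rw [← hpz, ht]; ring
    have hmt : (m : ℤ) ∣ ((q - p : ℕ) : ℤ) * t := by
      have : ((q - p : ℕ) : ℤ) * t = -(((d 3 : ℤ) - d 1) - ((e 3 : ℤ) - e 1)) := by
        push_cast [Nat.cast_sub hpq.le]; linear_combination ht3 - ht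
      rw [this]; exact hj.neg_right
    have hgpos : 0 < g := Nat.gcd_pos_of_pos_left _ hm
    have hat : ((m / g : ℕ) : ℤ) ∣ t := by
      obtain ⟨a, ha⟩ := hgm
      obtain ⟨b, hb⟩ := hgr
      have hab : Nat.Coprime a b := by
        have hc := Nat.coprime_div_gcd_div_gcd (m := m) (n := q - p) hgpos
        rwa [← hg, ha, hb, Nat.mul_div_cancel_left _ hgpos, Nat.mul_div_cancel_left _ hgpos] at hc
      rw [ha, Nat.mul_div_cancel_left _ hgpos]
      rw [ha, hb] at hmt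
      push_cast at hmt
      rw [mul_assoc] at hmt
      exact IsCoprime.dvd_of_dvd_mul_left (Nat.isCoprime_iff_coprime.2 hab)
        (Int.dvd_of_mul_dvd_mul_left (by omega) hmt)
    obtain ⟨j, rfl⟩ := hat
    have hj0 : 0 ≤ j := by
      by_contra hneg
      push_neg at hneg
      have h1 : (0 : ℤ) < ((m / g : ℕ) : ℤ) := by
        exact_mod_cast Nat.div_pos (Nat.le_of_dvd hm hgm) hgpos
      have : (q : ℤ) * (((m / g : ℕ) : ℤ) * j) < 0 :=
        mul_neg_of_pos_of_neg (by omega) (mul_neg_of_pos_of_neg h1 hneg)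
      omega
    obtain ⟨j, rfl⟩ := Int.eq_ofNat_of_zero_le hj0
    refine Submodule.mem_span_singleton.2 ⟨s ^ j, ?_⟩
    have e1' : d 1 = e 1 + m / g * q * j := by
      generalize m / g = a at ht ⊢; zify; linear_combination ht
    have e3' : d 3 = e 3 + m / g * p * j := by
      generalize m / g = a at ht3 ⊢; zify; linear_combination ht3
    rw [show ∀ (c : k) (v : MvPolynomial (Fin 5) k ⧸ I), c • v = algebraMap k _ c * v from fun c v => Algebra.smul_def c v, map_pow, ← hs, mul_pow, ← pow_mul, ← pow_mul, e0, e1', e3']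
    ring
  · exact rank_piece_le_one _ I ν 0 fun d hd => by
      rw [hbad d hd fun h => hP ⟨_, d, h, rfl⟩]; exact Submodule.zero_mem _

end Groth.Agent.Misc9.WeightPiece
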